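import Groth.Agent.Lib.Helper56.SepCrit
import Groth.Agent.Lib.Ample.Affine
import Groth.Agent.Lib.Ample.Helper50_MulSec
import Groth.Agent.Lib.QCoh.TensorPow2

/-!
# A scheme covered by affine `X_s` (sections of powers of an invertible module) is separated

ns `Groth.Agent.Lib.Helper56.Sep`.

* `exists_mul_pow_eq_res` : `U` affine, `W = D(a)`: every `g ∈ Γ(W)` satisfies `g * a^n = c|_W`.
* `exists_eq_res_mul_res_pow` : `σ τ : O ⟶ Q`, `U = X_τ` affine, `V = X_σ`:
  every `g ∈ Γ(U ⊓ V)` is `c|·(b|)^N` with `c ∈ Γ(U)`, `b ∈ Γ(V)`.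
* `exists_affine_pair` : the input of `isSeparated_of_forall_exists_affine` for sections of
  (different) positive powers of an invertible `L`.
* `isSeparated_of_forall_exists_genLocus` : the theorem.
-/

set_option maxHeartbeats 400000

universe u

open CategoryTheory CategoryTheory.Limits AlgebraicGeometry TopologicalSpace Opposite

namespace Groth.Agent.Lib.Helper56.Sep

open Groth.Agent.Lib.Ample Groth.Agent.Lib.QCoh CohB1

variable {X : Scheme.{u}}

theorem exists_mul_pow_eq_res {U W : X.Opens} (hU : IsAffineOpen U) (a : Γ(X, U))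
    (hW : W = X.basicOpen a) (hWU : W ≤ U) (g : Γ(X, W)) :
    ∃ (n : ℕ) (c : Γ(X, U)), g * (resFn hWU a) ^ n = resFn hWU c := by
  letI : Algebra Γ(X, U) Γ(X, W) := (X.presheaf.map (homOfLE hWU).op).hom.toAlgebra
  haveI : IsLocalization.Away a Γ(X, W) := hU.isLocalization_of_eq_basicOpen a (homOfLE hWU) hW
  obtain ⟨n, c, hc⟩ := IsLocalization.Away.surj a g
  exact ⟨n, c, hc⟩

theorem exists_eq_res_mul_res_pow {Q : X.Modules} (σ τ : Coh.structureModule X ⟶ Q)
    {U V : X.Opens} (hτ : genLocus Q τ = U) (hσ : genLocus Q σ = V)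
    (hU : IsAffineOpen U) (g : Γ(X, U ⊓ V)) :
    ∃ (c : Γ(X, U)) (b : Γ(X, V)) (N : ℕ),
      g = (X.presheaf.map (homOfLE (inf_le_left : U ⊓ V ≤ U)).op).hom c *
        ((X.presheaf.map (homOfLE (inf_le_right : U ⊓ V ≤ V)).op).hom b) ^ N := by
  have he : IsGenerator Q U (secOn τ U) := isGenerator_secOn_of_le_genLocus τ hτ.ge
  have he' : IsGenerator Q V (secOn σ V) := isGenerator_secOn_of_le_genLocus σ hσ.ge
  obtain ⟨a, ha⟩ := exists_eq_smul_of_isGenerator he (secOn σ U)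
  obtain ⟨b, hb⟩ := exists_eq_smul_of_isGenerator he' (secOn τ V)
  have hVU : genLocus Q σ ⊓ U = X.basicOpen a :=
    genLocus_inf_eq_basicOpen σ U (secOn τ U) he a ha
  have hW : U ⊓ V = X.basicOpen a := by rw [inf_comm, ← hσ]; exact hVU
  -- restrictions to `U ⊓ V`
  have h1 : resSec Q (inf_le_left : U ⊓ V ≤ U) (secOn σ U) = secOn σ (U ⊓ V) :=
    secOn_res σ (homOfLE inf_le_left)
  have h2 : resSec Q (inf_le_left : U ⊓ V ≤ U) (secOn τ U) = secOn τ (U ⊓ V) :=
    secOn_res τ (homOfLE inf_le_left)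
  have h3 : resSec Q (inf_le_right : U ⊓ V ≤ V) (secOn σ V) = secOn σ (U ⊓ V) :=
    secOn_res σ (homOfLE inf_le_right)
  have h4 : resSec Q (inf_le_right : U ⊓ V ≤ V) (secOn τ V) = secOn τ (U ⊓ V) :=
    secOn_res τ (homOfLE inf_le_right)
  have hσW : secOn σ (U ⊓ V) =
      resFn (inf_le_left : U ⊓ V ≤ U) a • secOn τ (U ⊓ V) := by
    rw [← h1, ha, resSec_smul, h2]
  have hτW : secOn τ (U ⊓ V) =
      resFn (inf_le_right : U ⊓ V ≤ V) b • secOn σ (U ⊓ V) := by
    rw [← h4, hb, resSec_smul, h3]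
  have hmul : resFn (inf_le_left : U ⊓ V ≤ U) a * resFn (inf_le_right : U ⊓ V ≤ V) b = 1 := by
    have hinj := (he (U ⊓ V) inf_le_left).1
    apply hinj
    change (resFn (inf_le_left : U ⊓ V ≤ U) a * resFn (inf_le_right : U ⊓ V ≤ V) b) •
        resSec Q (inf_le_left : U ⊓ V ≤ U) (secOn τ U) =
      (1 : Γ(X, U ⊓ V)) • resSec Q (inf_le_left : U ⊓ V ≤ U) (secOn τ U)
    rw [h2, one_smul, mul_comm, mul_smul, ← hσW, ← hτW]
  obtain ⟨n, c, hc⟩ := exists_mul_pow_eq_res hU a hW inf_le_left g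
  refine ⟨c, b, n, ?_⟩
  change g = resFn (inf_le_left : U ⊓ V ≤ U) c * (resFn (inf_le_right : U ⊓ V ≤ V) b) ^ n
  rw [← hc, mul_assoc, ← mul_pow, hmul, one_pow, mul_one]

theorem exists_affine_pair {L : X.Modules} (hL : PicF.IsInvertible L) {m n : ℕ}
    (s : Coh.structureModule X ⟶ tensorPow L (m + 1))
    (t : Coh.structureModule X ⟶ tensorPow L (n + 1))
    {x y : X} (hx : x ∈ genLocus _ s) (hy : y ∈ genLocus _ t)
    (hs : IsAffineOpen (genLocus _ s)) (ht : IsAffineOpen (genLocus _ t)) :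
    ∃ U V : X.Opens, x ∈ U ∧ y ∈ V ∧ IsAffineOpen U ∧ IsAffineOpen V ∧ IsAffineOpen (U ⊓ V) ∧
      ∀ g : Γ(X, U ⊓ V), ∃ (c : Γ(X, U)) (b : Γ(X, V)) (N : ℕ),
        g = (X.presheaf.map (homOfLE (inf_le_left : U ⊓ V ≤ U)).op).hom c *
          ((X.presheaf.map (homOfLE (inf_le_right : U ⊓ V ≤ V)).op).hom b) ^ N := by
  let Q : X.Modules := tensorPow (tensorPow L (n + 1)) (m + 1)
  let σ : Coh.structureModule X ⟶ Q := secPow t (m + 1)
  let ι : tensorPow (tensorPow L (m + 1)) (n + 1) ≅ Q :=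
    tensorPowMulIso L (m + 1) (n + 1) ≪≫ tensorPowEqIso L (Nat.mul_comm _ _) ≪≫
      (tensorPowMulIso L (n + 1) (m + 1)).symm
  let τ : Coh.structureModule X ⟶ Q := secPow s (n + 1) ≫ ι.hom
  have hσ : genLocus Q σ = genLocus _ t :=
    genLocus_secPow t (isInvertible_tensorPow hL (n + 1)) m
  have hτ : genLocus Q τ = genLocus _ s :=
    (genLocus_comp_iso (secPow s (n + 1)) ι).trans
      (genLocus_secPow s (isInvertible_tensorPow hL (m + 1)) n)
  have hQ : PicF.IsInvertible Q := isInvertible_tensorPow (isInvertible_tensorPow hL _) _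
  refine ⟨genLocus _ s, genLocus _ t, hx, hy, hs, ht, ?_,
    fun g => exists_eq_res_mul_res_pow σ τ hτ hσ hs g⟩
  have := isAffineOpen_genLocus_inf_of_isInvertible hQ σ hs
  rwa [hσ, inf_comm] at this

/-- **Stacks 01PQ-style**: a scheme covered by affine opens `X_s`, `s` sections of positive powers of
an invertible module, is separated. -/
theorem isSeparated_of_forall_exists_genLocus {L : X.Modules} (hL : PicF.IsInvertible L)
    (h : ∀ x : X, ∃ (n : ℕ) (s : Coh.structureModule X ⟶ CohB1.tensorPow L (n + 1)),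
      x ∈ CohB1.genLocus _ s ∧ IsAffineOpen (CohB1.genLocus _ s)) :
    X.IsSeparated := by
  choose n s hx haff using h
  apply isSeparated_of_forall_exists_affine
  intro x y
  exact exists_affine_pair hL (s x) (s y) (hx x) (hx y) (haff x) (haff y)

end Groth.Agent.Lib.Helper56.Sep
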