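import Mathlib.AlgebraicGeometry.Morphisms.Separated
import Mathlib.AlgebraicGeometry.Morphisms.ClosedImmersion
import Mathlib.AlgebraicGeometry.Morphisms.Affine
import Mathlib.AlgebraicGeometry.PullbackCarrier

/-!
# A criterion for separatedness (Stacks 01KP style)

ns `Groth.Agent.Lib.Helper56.Sep`.

* `isAffineOpen_fst_preimage_inf_snd_preimage` : `pr₁⁻¹ U ∩ pr₂⁻¹ V` is affine in `X ×_S Y` for
  affine `U`, `V`, `S`
* `isSeparated_of_forall_exists_affine` : if any two points `x, y` have affine open neighbourhoods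
  `U ∋ x`, `V ∋ y` with `U ∩ V` affine and every function on `U ∩ V` of the form `c|·(b|)^N`, `X` is
  separated.
-/

set_option maxHeartbeats 400000

universe u

open CategoryTheory CategoryTheory.Limits AlgebraicGeometry TopologicalSpace Opposite

namespace Groth.Agent.Lib.Helper56.Sep

theorem isAffineOpen_fst_preimage_inf_snd_preimage {X Y S : Scheme.{u}} [IsAffine S] (f : X ⟶ S)
    (g : Y ⟶ S) {U : X.Opens} {V : Y.Opens} (hU : IsAffineOpen U) (hV : IsAffineOpen V) :
    IsAffineOpen (pullback.fst f g ⁻¹ᵁ U ⊓ pullback.snd f g ⁻¹ᵁ V) := by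
  have : IsAffine (U : Scheme.{u}) := hU
  have : IsAffine (V : Scheme.{u}) := hV
  let p : pullback (U.ι ≫ f) (V.ι ≫ g) ⟶ pullback f g :=
    pullback.map _ _ _ _ U.ι V.ι (𝟙 S) (by simp) (by simp)
  have hp : p.opensRange = pullback.fst f g ⁻¹ᵁ U ⊓ pullback.snd f g ⁻¹ᵁ V := by
    apply Opens.ext
    simp [p, Scheme.Pullback.range_map]
  rw [← hp]
  exact isAffineOpen_opensRange p

theorem appLE_eq_map_of_eq_id {X : Scheme.{u}} (q : X ⟶ X) (hq : q = 𝟙 X) (U W : X.Opens)
    (e : W ≤ q ⁻¹ᵁ U) (e' : W ≤ U) :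
    q.appLE U W e = X.presheaf.map (homOfLE e').op := by
  subst hq
  exact Category.id_comp _

theorem diag_app_appLE {X P : Scheme.{u}} (Δ : X ⟶ P) (p : P ⟶ X) (hp : Δ ≫ p = 𝟙 X)
    (U' : X.Opens) (O : P.Opens) (hO : O ≤ p ⁻¹ᵁ U') (hW : Δ ⁻¹ᵁ O ≤ U') :
    p.appLE U' O hO ≫ Δ.app O = X.presheaf.map (homOfLE hW).op := by
  rw [Scheme.Hom.app_eq_appLE, Scheme.Hom.appLE_comp_appLE]
  exact appLE_eq_map_of_eq_id _ hp _ _ _ _

theorem res_res_hom {X : Scheme.{u}} {A B C : X.Opens} (h1 : B ≤ A) (h2 : C ≤ B) (s : Γ(X, A)) :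
    (X.presheaf.map (homOfLE h2).op).hom ((X.presheaf.map (homOfLE h1).op).hom s) =
      (X.presheaf.map (homOfLE (h2.trans h1)).op).hom s := by
  rw [← CommRingCat.comp_apply, ← Functor.map_comp]
  rfl

theorem res_self_hom {X : Scheme.{u}} {A : X.Opens} (h : A ≤ A) (s : Γ(X, A)) :
    (X.presheaf.map (homOfLE h).op).hom s = s := by
  have : (homOfLE h).op = 𝟙 (op A) := rfl
  rw [this, X.presheaf.map_id]
  rfl

set_option backward.isDefEq.respectTransparency.types false in
/-- **Separatedness criterion.** -/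
theorem isSeparated_of_forall_exists_affine {X : Scheme.{u}}
    (h : ∀ x y : X, ∃ U V : X.Opens, x ∈ U ∧ y ∈ V ∧ IsAffineOpen U ∧ IsAffineOpen V ∧
      IsAffineOpen (U ⊓ V) ∧ ∀ g : Γ(X, U ⊓ V), ∃ (c : Γ(X, U)) (b : Γ(X, V)) (N : ℕ),
        g = (X.presheaf.map (homOfLE (inf_le_left : U ⊓ V ≤ U)).op).hom c *
          ((X.presheaf.map (homOfLE (inf_le_right : U ⊓ V ≤ V)).op).hom b) ^ N) :
    X.IsSeparated := by
  choose U V hxU hyV hU hV hUV hgen using h
  have hΔ₁ : pullback.diagonal (terminal.from X) ≫ pullback.fst _ _ = 𝟙 X :=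
    pullback.diagonal_fst _
  have hΔ₂ : pullback.diagonal (terminal.from X) ≫ pullback.snd _ _ = 𝟙 X :=
    pullback.diagonal_snd _
  have h1 : ∀ x : X, (pullback.fst (terminal.from X) (terminal.from X))
      ((pullback.diagonal (terminal.from X)) x) = x := fun x => by
    rw [← Scheme.Hom.comp_apply, hΔ₁]; rfl
  have h2 : ∀ x : X, (pullback.snd (terminal.from X) (terminal.from X))
      ((pullback.diagonal (terminal.from X)) x) = x := fun x => by
    rw [← Scheme.Hom.comp_apply, hΔ₂]; rfl
  let O : ↥(pullback (terminal.from X) (terminal.from X) : Scheme.{u}) →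
      (pullback (terminal.from X) (terminal.from X) : Scheme.{u}).Opens := fun z =>
    pullback.fst (terminal.from X) (terminal.from X) ⁻¹ᵁ
        U (pullback.fst (terminal.from X) (terminal.from X) z)
          (pullback.snd (terminal.from X) (terminal.from X) z) ⊓
      pullback.snd (terminal.from X) (terminal.from X) ⁻¹ᵁ
        V (pullback.fst (terminal.from X) (terminal.from X) z)
          (pullback.snd (terminal.from X) (terminal.from X) z)
  have hOaff : ∀ z, IsAffineOpen (O z) := fun z =>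
    isAffineOpen_fst_preimage_inf_snd_preimage _ _ (hU _ _) (hV _ _)
  have hcov : ⨆ z, O z = ⊤ :=
    top_le_iff.1 fun z _ => Opens.mem_iSup.2 ⟨z, hxU _ _, hyV _ _⟩
  refine ⟨⟨?_⟩⟩
  rw [HasAffineProperty.iff_of_iSup_eq_top (P := @IsClosedImmersion)
    (fun z => ⟨O z, hOaff z⟩) hcov]
  intro z
  -- abbreviations
  obtain ⟨U', hU'⟩ : ∃ U' : X.Opens, U' = U (pullback.fst (terminal.from X) (terminal.from X) z)
      (pullback.snd (terminal.from X) (terminal.from X) z) := ⟨_, rfl⟩
  obtain ⟨V', hV'⟩ : ∃ V' : X.Opens, V' = V (pullback.fst (terminal.from X) (terminal.from X) z)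
      (pullback.snd (terminal.from X) (terminal.from X) z) := ⟨_, rfl⟩
  have hOz : O z = pullback.fst (terminal.from X) (terminal.from X) ⁻¹ᵁ U' ⊓
      pullback.snd (terminal.from X) (terminal.from X) ⁻¹ᵁ V' := by rw [hU', hV']
  have hUV' : IsAffineOpen (U' ⊓ V') := by rw [hU', hV']; exact hUV _ _
  have hgen' : ∀ g : Γ(X, U' ⊓ V'), ∃ (c : Γ(X, U')) (b : Γ(X, V')) (N : ℕ),
      g = (X.presheaf.map (homOfLE (inf_le_left : U' ⊓ V' ≤ U')).op).hom c *
        ((X.presheaf.map (homOfLE (inf_le_right : U' ⊓ V' ≤ V')).op).hom b) ^ N := by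
    subst hU' hV'; exact hgen _ _
  have hW : pullback.diagonal (terminal.from X) ⁻¹ᵁ O z = U' ⊓ V' := by
    rw [hOz]
    apply Opens.ext
    ext x
    change ((pullback.fst (terminal.from X) (terminal.from X))
        ((pullback.diagonal (terminal.from X)) x) ∈ U' ∧
      (pullback.snd (terminal.from X) (terminal.from X))
        ((pullback.diagonal (terminal.from X)) x) ∈ V') ↔ (x ∈ U' ∧ x ∈ V')
    rw [h1 x, h2 x]
  have hO1 : O z ≤ pullback.fst (terminal.from X) (terminal.from X) ⁻¹ᵁ U' := by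
    rw [hOz]; exact inf_le_left
  have hO2 : O z ≤ pullback.snd (terminal.from X) (terminal.from X) ⁻¹ᵁ V' := by
    rw [hOz]; exact inf_le_right
  refine ⟨?_, ?_⟩
  · change IsAffineOpen (pullback.diagonal (terminal.from X) ⁻¹ᵁ O z)
    rw [hW]; exact hUV'
  · -- surjectivity on global sections
    have key : Function.Surjective
        ((pullback.diagonal (terminal.from X)).app (O z)).hom := by
      intro g'
      obtain ⟨c, b, N, hg⟩ := hgen' ((X.presheaf.map (homOfLE hW.ge).op).hom g')
      refine ⟨((pullback.fst (terminal.from X) (terminal.from X)).appLE U' (O z) hO1).hom c *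
        (((pullback.snd (terminal.from X) (terminal.from X)).appLE V' (O z) hO2).hom b) ^ N, ?_⟩
      have e1 := congrArg (fun k => k.hom c)
        (diag_app_appLE (pullback.diagonal (terminal.from X)) _ hΔ₁ U' (O z) hO1
          (hW.le.trans inf_le_left))
      have e2 := congrArg (fun k => k.hom b)
        (diag_app_appLE (pullback.diagonal (terminal.from X)) _ hΔ₂ V' (O z) hO2
          (hW.le.trans inf_le_right))
      simp only [CommRingCat.hom_comp, RingHom.comp_apply] at e1 e2
      rw [map_mul, map_pow, e1, e2]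
      have hg' := congrArg (X.presheaf.map (homOfLE hW.le).op).hom hg
      rw [res_res_hom, res_self_hom, map_mul, map_pow, res_res_hom, res_res_hom] at hg'
      exact hg'.symm
    rw [morphismRestrict_appTop]
    have hO' : ∀ O' : (pullback (terminal.from X) (terminal.from X)).Opens, O' = O z →
        Function.Surjective ((pullback.diagonal (terminal.from X)).app O').hom := by
      rintro _ rfl; exact key
    have hB := (ConcreteCategory.bijective_of_isIso (X.presheaf.map (eqToHom
      (image_morphismRestrict_preimage (pullback.diagonal (terminal.from X)) (O z) ⊤)).op)).2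
    exact hB.comp (hO' _ (O z).ι_image_top)

end Groth.Agent.Lib.Helper56.Sep
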