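import Groth.Agent.Lib.Helper56.RelAmpleA
import Groth.Agent.Lib.Helper56.SepCrit

/-!
# Ampleness is local on an affine base (Stacks 01VK / EGA II 4.6.4, direct proof)

ns `Groth.Agent.Lib.Helper56.RelAmple`.

* `genLocus_comp_of_bijective` : precomposing with an automorphism of `O_X` does not change `genLocus`.
* `exists_genLocus_eq_image` : `X` qcqs, `N` quasi-coherent, `W = X_r`, `τ'` a section of `N|_W`:
  some global section `s` of `N` has `X_s = W_{τ'}` (as opens of `X`).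
* `isAmple_of_forall_exists_basicOpen` : `X` quasi-compact, covered by `X_r` with `M|_{X_r}` ample ⇒ `M` ample.
* `isAmple_restrict_of_forall_exists_basicOpen` : the same for `L|_W`, `W` a quasi-compact open, `r ∈ Γ(X, W)`.
-/

set_option maxHeartbeats 400000

universe u

open CategoryTheory CategoryTheory.Limits AlgebraicGeometry TopologicalSpace Opposite

namespace Groth.Agent.Lib.Helper56.RelAmple

open Groth.Agent.Lib.Ample Groth.Agent.Lib.QCoh CohB1 Scheme.Modules
open Groth.Agent.Lib.Helper56.Sep (res_res_hom res_self_hom)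

variable {X : Scheme.{u}}

lemma resSec_self (M : X.Modules) {U : X.Opens} (h : U ≤ U) (t : Γ(M, U)) : resSec M h t = t := by
  change (M.presheaf.map (𝟙 _)).hom t = t
  rw [M.presheaf.map_id]
  rfl

theorem genLocus_comp_of_bijective {L : X.Modules}
    (a : Coh.structureModule X ⟶ Coh.structureModule X)
    (ha : ∀ V : X.Opens, Function.Bijective (a.app V)) (τ : Coh.structureModule X ⟶ L) :
    genLocus L (a ≫ τ) = genLocus L τ := by
  have key : ∀ V : X.Opens, Function.Bijective ((a ≫ τ).app V) ↔ Function.Bijective (τ.app V) := by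
    intro V
    change Function.Bijective ((τ.app V).hom ∘ (a.app V).hom) ↔ _
    exact Function.Bijective.of_comp_iff _ (ha V)
  apply le_antisymm
  · rw [le_genLocus_iff']
    intro V hV
    exact (key V).1 ((le_genLocus_iff' L (a ≫ τ) _).1 le_rfl V hV)
  · rw [le_genLocus_iff']
    intro V hV
    exact (key V).2 ((le_genLocus_iff' L τ _).1 le_rfl V hV)

/-- the scalar action on sections of a restricted module is the action on the original module -/
lemma restrict_smul_eq (N : X.Modules) (W : X.Opens) (V : (↑W : Scheme.{u}).Opens)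
    (c : Γ((↑W : Scheme.{u}), V)) (m : Γ(N.restrict W.ι, V)) :
    c • m = (show Γ(N, W.ι ''ᵁ V) from
      ((show Γ(X, W.ι ''ᵁ V) from c) • (show Γ(N, W.ι ''ᵁ V) from m))) := by
  have e : c • m = (show Γ(N, W.ι ''ᵁ V) from
      (((W.ι.appIso V).inv c) • (show Γ(N, W.ι ''ᵁ V) from m))) := rfl
  rw [e, Scheme.Opens.ι_appIso]
  rfl

theorem exists_genLocus_eq_image [CompactSpace X] [QuasiSeparatedSpace X] (N : X.Modules)
    [N.IsQuasicoherent] (r : Γ(X, ⊤)) (W : X.Opens) (hW : W = X.basicOpen r)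
    (τ' : Coh.structureModule (↑W : Scheme.{u}) ⟶ N.restrict W.ι) :
    ∃ s : Coh.structureModule X ⟶ N, genLocus N s = W.ι ''ᵁ genLocus (N.restrict W.ι) τ' := by
  have hW1 : X.basicOpen r ≤ W.ι ''ᵁ ⊤ := le_of_eq (hW.symm.trans W.ι_image_top.symm)
  have hW2 : W.ι ''ᵁ ⊤ ≤ X.basicOpen r := le_of_eq (W.ι_image_top.trans hW)
  obtain ⟨t, ht⟩ : ∃ t : Γ(N, W.ι ''ᵁ ⊤), t = secOf τ' := ⟨_, rfl⟩
  obtain ⟨n, s₀, hs₀⟩ := Helper22.exists_pow_smul_eq_map_of_isCompact_of_isQuasiSeparated N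
    (U := ⊤) isCompact_univ isQuasiSeparated_univ r (resSec N hW1 t)
  have hs₀' : resSec N (X.basicOpen_le r) s₀ =
      (resFn (X.basicOpen_le r) r) ^ n • resSec N hW1 t := hs₀
  -- restriction of `s₀` to `W.ι ''ᵁ ⊤`
  have hs₁ : resSec N (le_top : W.ι ''ᵁ ⊤ ≤ ⊤) s₀ =
      (resFn (le_top : W.ι ''ᵁ ⊤ ≤ ⊤) r) ^ n • t := by
    have e1 := resSec_resSec N (X.basicOpen_le r) hW2 s₀
    have e4 : resFn hW2 (resFn (X.basicOpen_le r) r ^ n) =
        (resFn hW2 (resFn (X.basicOpen_le r) r)) ^ n := map_pow _ _ _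
    rw [hs₀', resSec_smul, e4, resSec_resSec] at e1
    have e2 : resSec N (hW2.trans hW1) t = t := resSec_self N _ t
    have e3 : resFn hW2 (resFn (X.basicOpen_le r) r) = resFn (le_top : W.ι ''ᵁ ⊤ ≤ ⊤) r :=
      res_res_hom _ _ _
    rw [e2, e3] at e1
    exact e1.symm
  obtain ⟨s, hsdef⟩ : ∃ s : Coh.structureModule X ⟶ N, s = homOfSec N (r • s₀) := ⟨_, rfl⟩
  have hle : genLocus N s ≤ W := by
    rw [hsdef]; exact (genLocus_smul_le N r s₀).trans (le_of_eq hW.symm)
  obtain ⟨u, hu⟩ : ∃ u : Γ(X, W.ι ''ᵁ ⊤), u = (resFn (le_top : W.ι ''ᵁ ⊤ ≤ ⊤) r) ^ (n + 1) :=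
    ⟨_, rfl⟩
  have huu : IsUnit u := by
    rw [hu]
    refine IsUnit.pow _ ?_
    have h1 : IsUnit (resFn (X.basicOpen_le r) r) :=
      RingedSpace.isUnit_res_basicOpen X.toRingedSpace r
    have h2 := h1.map (X.presheaf.map (homOfLE hW2).op).hom
    have e3 : (X.presheaf.map (homOfLE hW2).op).hom (resFn (X.basicOpen_le r) r) =
        resFn (le_top : W.ι ''ᵁ ⊤ ≤ ⊤) r := res_res_hom _ _ _
    rw [← e3]; exact h2
  obtain ⟨u', hu'⟩ : ∃ u' : Γ((↑W : Scheme.{u}), ⊤), u' = u := ⟨u, rfl⟩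
  have huu' : IsUnit u' := by rw [hu']; exact huu
  obtain ⟨a, hadef⟩ : ∃ a : Coh.structureModule (↑W : Scheme.{u}) ⟶
      Coh.structureModule (↑W : Scheme.{u}),
      a = homOfSec (Coh.structureModule (↑W : Scheme.{u}))
        (show Γ(Coh.structureModule (↑W : Scheme.{u}), ⊤) from u') := ⟨_, rfl⟩
  have hfn : fnOf a = u' := by rw [hadef]; exact secOf_homOfSec _ _
  have ha : ∀ V : (↑W : Scheme.{u}).Opens, Function.Bijective (a.app V) := by
    intro V
    rw [bijective_app_unit_iff, hfn]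
    exact huu'.map _
  have heq : restrictSec s W = a ≫ τ' := by
    apply QCoh.Lift74.unitHom_ext
    have h1 : (restrictSec s W).app ⊤ (1 : Γ((↑W : Scheme.{u}), ⊤)) =
        (s.app (W.ι ''ᵁ ⊤)).hom (oneSec (W.ι ''ᵁ ⊤)) := by
      change (((restrictFunctor W.ι).map s).app ⊤).hom
        (((restrictUnitIso W.ι).inv.app ⊤).hom (1 : Γ((↑W : Scheme.{u}), ⊤))) = _
      have := QCoh.Lift74.restrictUnitIso_inv_app_one W.ι ⊤
      erw [this]
      rfl
    have h2 : (a ≫ τ').app ⊤ (1 : Γ((↑W : Scheme.{u}), ⊤)) =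
        (show Γ(N, W.ι ''ᵁ ⊤) from (u • t)) := by
      change (τ'.app ⊤).hom ((a.app ⊤).hom (oneSec ⊤)) = _
      have e1 : (a.app ⊤).hom (oneSec ⊤) =
          (show Γ(Coh.structureModule (↑W : Scheme.{u}), ⊤) from u') := hfn
      rw [e1]
      have e2 := app_apply τ' ⊤ u'
      refine e2.trans ?_
      have e3 : ((N.restrict W.ι).presheaf.map
          (homOfLE (le_top : (⊤ : (↑W : Scheme.{u}).Opens) ≤ ⊤)).op).hom (secOf τ') = secOf τ' :=
        resSec_self (N.restrict W.ι) le_top (secOf τ')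
      rw [e3]
      refine (restrict_smul_eq N W ⊤ u' (secOf τ')).trans ?_
      rw [hu', ht]
    refine h1.trans (Eq.trans ?_ h2.symm)
    rw [app_oneSec, hsdef, secOf_homOfSec]
    change resSec N (le_top : W.ι ''ᵁ ⊤ ≤ ⊤) (r • s₀) = _
    rw [resSec_smul, hs₁, ← mul_smul, ← pow_succ', hu]
  refine ⟨s, ?_⟩
  have h1 := genLocus_restrictSec s W
  rw [heq, genLocus_comp_of_bijective a ha τ'] at h1
  rw [h1, Scheme.Hom.image_preimage_eq_opensRange_inf, Scheme.Opens.opensRange_ι]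
  exact (inf_eq_right.mpr hle).symm

/-- **ampleness is local on the base (absolute form)**: a quasi-compact scheme covered by opens `X_r`
(`r` global functions) over which `M` is ample carries the ample module `M`. -/
theorem isAmple_of_forall_exists_basicOpen [CompactSpace X] {M : X.Modules}
    (h : ∀ x : X, ∃ r : Γ(X, ⊤), x ∈ X.basicOpen r ∧ IsAmple (M.restrict (X.basicOpen r).ι)) :
    IsAmple M := by
  choose r hxr hr using h
  have hinv : PicF.IsInvertible M := fun x =>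
    exists_iso_unit_of_isInvertible_restrict (X.basicOpen (r x)) (hr x).1 x (hxr x)
  have hqs : QuasiSeparatedSpace X := by
    refine .of_isOpenCover (U := fun x => X.basicOpen (r x))
      (eq_top_iff.mpr fun x _ => Opens.mem_iSup.mpr ⟨x, hxr x⟩)
      (fun _ => isRetrocompact_basicOpen _) (fun x => ?_)
    have := Basis.quasiSeparatedSpace_of_isAmple (hr x)
    exact (isQuasiSeparated_iff_quasiSeparatedSpace _ (X.basicOpen (r x)).isOpen).2 this
  refine ⟨hinv, inferInstance, fun x => ?_⟩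
  obtain ⟨n, σ', hxσ, haff⟩ := (hr x).2.2 ⟨x, hxr x⟩
  have hτ := genLocus_comp_iso σ' (restrictTensorPowIso (X.basicOpen (r x)).ι M (n + 1)).symm
  have : (tensorPow M (n + 1)).IsQuasicoherent :=
    isQuasicoherent_of_isInvertible (isInvertible_tensorPow hinv _)
  obtain ⟨s, hs⟩ := exists_genLocus_eq_image (tensorPow M (n + 1)) (r x) (X.basicOpen (r x)) rfl
    (σ' ≫ (restrictTensorPowIso (X.basicOpen (r x)).ι M (n + 1)).symm.hom)
  refine ⟨n, s, ?_, ?_⟩
  · rw [hs, hτ]; exact ⟨⟨x, hxr x⟩, hxσ, rfl⟩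
  · rw [hs, hτ]; exact haff.image_of_isOpenImmersion _

/-- **ampleness is local on the base**: `W` a quasi-compact open of `X`, covered by opens `X_r`, `r ∈ Γ(X, W)`,
with `L|_{X_r}` ample ⇒ `L|_W` ample. -/
theorem isAmple_restrict_of_forall_exists_basicOpen {L : X.Modules} (W : X.Opens)
    (hW : IsCompact (W : Set X))
    (h : ∀ x ∈ W, ∃ r : Γ(X, W), x ∈ X.basicOpen r ∧ IsAmple (L.restrict (X.basicOpen r).ι)) :
    IsAmple (L.restrict W.ι) := by
  have : CompactSpace (↑W : Scheme.{u}) := isCompact_iff_compactSpace.mp hW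
  apply isAmple_of_forall_exists_basicOpen
  intro x
  obtain ⟨r, hxr, hr⟩ := h x.1 x.2
  have himg := Scheme.Opens.ι_image_basicOpen_topIso_inv W r
  refine ⟨W.topIso.inv r, ?_, ?_⟩
  · have hx' : W.ι x ∈ W.ι ''ᵁ ((↑W : Scheme.{u}).basicOpen (W.topIso.inv r)) := by
      rw [himg]; exact hxr
    obtain ⟨y, hy, hyx⟩ := hx'
    have : y = x := W.ι.isOpenEmbedding.injective hyx
    exact this ▸ hy
  · rw [isAmple_restrict_restrict_iff]
    exact isAmple_restrict_congr himg.symm hr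

end Groth.Agent.Lib.Helper56.RelAmple
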