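import Groth.Agent.Lib.Helper56.PullTensorA

/-!
# Pullback commutes with tensor products of invertible modules (helper56), part B

ns `Groth.Agent.Lib.Helper56.PullTensor`.
* `bijective_smul_res_pullSecOn` : `N` qcoh on `Y`, `V ⊆ Y` affine, `e` a free basis of `Γ(N, V)`,
  `W ⊆ f⁻¹V` affine: `η(e)|_W` is a free basis of `Γ(f^*N, W)` (from helper50's
  `exists_iso_extendScalars_pullbackSections`).
* `isGenerator_res_pullSecOn` : the same with `IsGenerator`.
* `isIso_comparison` : the comparison map `f^*(L ⊗ M) ⟶ f^*L ⊗ f^*M` is an isomorphism for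
  invertible `L`, `M`.
* `pullbackTensorIso`, `pullbackTensorPowIso : f^*(L^{⊗n}) ≅ (f^*L)^{⊗n}`.
* `pullPowSec`, `genLocus_pullPowSec`.
-/

universe u

open CategoryTheory MonoidalCategory Opposite TensorProduct AlgebraicGeometry TopologicalSpace

namespace Groth.Agent.Lib.Helper56.PullTensor

open Groth.Agent.Lib.QCoh Groth.Agent.Lib.Ample CohB1 Scheme.Modules Groth.Agent.Lib.Proj.PullSec

section Alg

open ModuleCat ChangeOfRings

set_option backward.isDefEq.respectTransparency false in
lemma bijective_smul_one_tmul {R S : Type u} [CommRing R] [CommRing S] (φ : R →+* S)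
    (N : ModuleCat.{u} R) (e : N) (he : Function.Bijective (fun a : R => a • e)) :
    Function.Bijective
      (fun s : S => s • ((1 : S) ⊗ₜ[R, φ] e : (ModuleCat.extendScalars φ).obj N)) := by
  let _ : Module R S := Module.compHom S φ
  have h1 : Function.Bijective (fun s : S => (s ⊗ₜ[R] e : S ⊗[R] N)) :=
    bijective_tmul_of_bijective_smul (R := R) (M := S) (N := N) e he
  have h2 : ∀ s : S, s • ((1 : S) ⊗ₜ[R, φ] e : (ModuleCat.extendScalars φ).obj N) =
      (s ⊗ₜ[R, φ] e : (ModuleCat.extendScalars φ).obj N) := fun s => by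
    rw [ModuleCat.ExtendScalars.smul_tmul, mul_one]
  have h3 : (fun s : S => s • ((1 : S) ⊗ₜ[R, φ] e : (ModuleCat.extendScalars φ).obj N)) =
      (fun s : S => (s ⊗ₜ[R, φ] e : (ModuleCat.extendScalars φ).obj N)) := funext h2
  rw [h3]
  exact h1

end Alg

section Gen

variable {X : Scheme.{u}}

lemma map_refl_apply (P : X.Modules) (W : X.Opens) (p : Γ(P, W)) :
    P.presheaf.map (homOfLE (le_refl W)).op p = p := by
  have h2 : (homOfLE (le_refl W)) = 𝟙 W := rfl
  rw [h2, op_id, P.presheaf.map_id]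
  rfl

lemma isGenerator_bijective_self {P : X.Modules} {W : X.Opens} {p : Γ(P, W)}
    (hp : IsGenerator P W p) : Function.Bijective (fun a : Γ(X, W) => a • p) := by
  have h := hp.bijective (le_refl W)
  have e : (fun a : Γ(X, W) => a • P.presheaf.map (homOfLE (le_refl W)).op p) =
      fun a : Γ(X, W) => a • p := by
    funext a
    rw [map_refl_apply]
  rw [e] at h
  exact h

lemma isGenerator_smul_isUnit {P : X.Modules} {W : X.Opens} {p : Γ(P, W)}
    (hp : IsGenerator P W p) {u : Γ(X, W)} (hu : IsUnit u) : IsGenerator P W (u • p) := by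
  intro V hV
  have h1 : Function.Bijective (fun r : Γ(X, V) => r • resSec P hV p) := hp V hV
  have hu' : IsUnit (resFn hV u) := hu.map (X.presheaf.map (homOfLE hV).op).hom
  have h2 : Function.Bijective (fun a : Γ(X, V) => a * resFn hV u) := IsUnit.isUnit_iff_mulRight_bijective.1 hu'
  have e : (fun r : Γ(X, V) => r • resSec P hV (u • p)) =
      (fun r : Γ(X, V) => r • resSec P hV p) ∘ (fun a : Γ(X, V) => a * resFn hV u) := by
    funext a
    simp only [Function.comp]
    rw [resSec_smul, mul_smul]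
  rw [e]
  exact h1.comp h2

lemma isGenerator_of_bijective_smul {P : X.Modules} {W : X.Opens} {p a : Γ(P, W)}
    (hp : IsGenerator P W p) (ha : Function.Bijective (fun r : Γ(X, W) => r • a)) :
    IsGenerator P W a := by
  obtain ⟨u, hu⟩ := (isGenerator_bijective_self hp).2 a
  obtain ⟨v, hv⟩ := ha.2 p
  have hu1 : u • p = a := hu
  have hv1 : v • a = p := hv
  have h1 : (fun r : Γ(X, W) => r • p) (v * u) = (fun r : Γ(X, W) => r • p) 1 := by
    change (v * u) • p = (1 : Γ(X, W)) • p
    rw [mul_smul, hu1, hv1, one_smul]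
  have h2 : v * u = 1 := (isGenerator_bijective_self hp).1 h1
  have hu' : IsUnit u := IsUnit.of_mul_eq_one v (by rw [mul_comm]; exact h2)
  rw [← hu1]
  exact isGenerator_smul_isUnit hp hu'

/-- a map of modules is bijective over `W` if it sends a free basis of the sections over `W`
to a free basis -/
lemma bijective_app_of_bases {A B : X.Modules} (φ : A ⟶ B) {W : X.Opens} {a : Γ(A, W)}
    (ha : Function.Bijective (fun r : Γ(X, W) => r • a))
    (hb : Function.Bijective (fun r : Γ(X, W) => r • (φ.app W).hom a)) :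
    Function.Bijective (φ.app W) := by
  have e : (fun r : Γ(X, W) => r • (φ.app W).hom a) =
      (fun z => (φ.app W).hom z) ∘ (fun r : Γ(X, W) => r • a) := by
    funext r
    exact (Hom.app_smul φ r a).symm
  rw [e] at hb
  exact (Function.Bijective.of_comp_iff _ ha).1 hb

end Gen

section Pull

variable {X Y : Scheme.{u}} (f : X ⟶ Y)

open ModuleCat ChangeOfRings in
set_option backward.isDefEq.respectTransparency false in
/-- sections of `f^*N` over an affine `W ⊆ f⁻¹V` are free on `η(e)|_W` if `Γ(N, V)` is free on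
`e` (`V` affine, `N` quasi-coherent) -/
theorem bijective_smul_res_pullSecOn (N : Y.Modules) [N.IsQuasicoherent] {V : Y.Opens}
    (hV : IsAffineOpen V) (e : Γ(N, V)) (he : Function.Bijective (fun a : Γ(Y, V) => a • e))
    {W : X.Opens} (hW : IsAffineOpen W) (hWV : W ≤ f ⁻¹ᵁ V) :
    Function.Bijective (fun r : Γ(X, W) =>
      r • resSec ((Scheme.Modules.pullback f).obj N) hWV (pullSecOn f N V e)) := by
  obtain ⟨κ, hκ⟩ := exists_iso_extendScalars_pullbackSections f hV hW hWV N
  have h0 : pullbackSectionsMap f hWV N e =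
      resSec ((Scheme.Modules.pullback f).obj N) hWV (pullSecOn f N V e) := rfl
  have h1 := bijective_smul_one_tmul (f.appLE V W hWV).hom (ModuleCat.of Γ(Y, V) Γ(N, V)) e he
  have h2 : Function.Bijective κ.hom := ConcreteCategory.bijective_of_isIso κ.hom
  have e3 : (fun r : Γ(X, W) =>
      r • resSec ((Scheme.Modules.pullback f).obj N) hWV (pullSecOn f N V e)) =
      (fun z => κ.hom z) ∘ (fun r : Γ(X, W) =>
        r • ((1 : Γ(X, W)) ⊗ₜ[Γ(Y, V), (f.appLE V W hWV).hom] e :
          (ModuleCat.extendScalars (f.appLE V W hWV).hom).obj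
            (ModuleCat.of Γ(Y, V) Γ(N, V)))) := by
    funext r
    simp only [Function.comp]
    rw [← h0, ← hκ e]
    exact (κ.hom.hom.map_smul r _).symm
  rw [e3]
  exact h2.comp h1

/-- the pullback of a local generator is a local generator -/
theorem isGenerator_res_pullSecOn {N : Y.Modules} (hN : PicF.IsInvertible N) {V : Y.Opens}
    (hV : IsAffineOpen V) {e : Γ(N, V)} (he : IsGenerator N V e) {W : X.Opens}
    (hW : IsAffineOpen W) (hWV : W ≤ f ⁻¹ᵁ V)
    {p : Γ((Scheme.Modules.pullback f).obj N, W)}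
    (hp : IsGenerator ((Scheme.Modules.pullback f).obj N) W p) :
    IsGenerator ((Scheme.Modules.pullback f).obj N) W
      (resSec ((Scheme.Modules.pullback f).obj N) hWV (pullSecOn f N V e)) := by
  have hq : N.IsQuasicoherent := isQuasicoherent_of_isInvertible hN
  exact isGenerator_of_bijective_smul hp
    (bijective_smul_res_pullSecOn f N hV e (isGenerator_bijective_self he) hW hWV)

end Pull

section Main

variable {X Y : Scheme.{u}} (f : X ⟶ Y) {L M : Y.Modules}

set_option maxHeartbeats 400000 in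
/-- **the comparison map `f^*(L ⊗ M) ⟶ f^*L ⊗ f^*M` is an isomorphism** for invertible `L`, `M` -/
theorem isIso_comparison (hL : PicF.IsInvertible L) (hM : PicF.IsInvertible M) :
    IsIso (comparison f L M) := by
  have hLM : PicF.IsInvertible (tensorMod L M) := isInvertible_tensorMod hL hM
  have hA : PicF.IsInvertible ((Scheme.Modules.pullback f).obj (tensorMod L M)) :=
    isInvertible_pullback f hLM
  have hB₁ : PicF.IsInvertible ((Scheme.Modules.pullback f).obj L) := isInvertible_pullback f hL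
  have hB₂ : PicF.IsInvertible ((Scheme.Modules.pullback f).obj M) := isInvertible_pullback f hM
  refine isIso_of_bijective_app_of_isBasis _
    (fun i : {W : X.Opens // Function.Bijective ((comparison f L M).app W)} => i.1) ?_
    (fun i => i.2)
  rw [Opens.isBasis_iff_nbhd]
  intro W₀ x hx
  obtain ⟨V₁, -, hyV₁, -, l₁, hl₁⟩ :=
    exists_isAffineOpen_isGenerator_of_isInvertible hL (f.base x) ⊤ trivial
  obtain ⟨V, hVaff, hyV, hVV₁, m, hm⟩ :=
    exists_isAffineOpen_isGenerator_of_isInvertible hM (f.base x) V₁ hyV₁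
  have hl : IsGenerator L V (L.presheaf.map (homOfLE hVV₁).op l₁) := hl₁.res hVV₁
  obtain ⟨l, hl_def⟩ : ∃ l : Γ(L, V), l = L.presheaf.map (homOfLE hVV₁).op l₁ := ⟨_, rfl⟩
  rw [← hl_def] at hl
  have hlm : IsGenerator (tensorMod L M) V (tmulSect L M l m) := hl.tmul hm
  obtain ⟨W₁, hxW₁, p₁, hp₁⟩ := exists_isGenerator_of_isInvertible hB₁ x
  obtain ⟨W₂, hxW₂, p₂, hp₂⟩ := exists_isGenerator_of_isInvertible hB₂ x
  obtain ⟨W₃, hxW₃, p₃, hp₃⟩ := exists_isGenerator_of_isInvertible hA x
  obtain ⟨W, hWaff, hxW, hWle⟩ := Opens.isBasis_iff_nbhd.1 X.isBasis_affineOpens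
    (U := W₀ ⊓ f ⁻¹ᵁ V ⊓ W₁ ⊓ W₂ ⊓ W₃) ⟨⟨⟨⟨hx, hyV⟩, hxW₁⟩, hxW₂⟩, hxW₃⟩
  have hW₀ : W ≤ W₀ :=
    hWle.trans (inf_le_left.trans (inf_le_left.trans (inf_le_left.trans inf_le_left)))
  have hWV : W ≤ f ⁻¹ᵁ V :=
    hWle.trans (inf_le_left.trans (inf_le_left.trans (inf_le_left.trans inf_le_right)))
  have hWW₁ : W ≤ W₁ := hWle.trans (inf_le_left.trans (inf_le_left.trans inf_le_right))
  have hWW₂ : W ≤ W₂ := hWle.trans (inf_le_left.trans inf_le_right)
  have hWW₃ : W ≤ W₃ := hWle.trans inf_le_right
  have g₁ := isGenerator_res_pullSecOn f hL hVaff hl hWaff hWV (hp₁.res hWW₁)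
  have g₂ := isGenerator_res_pullSecOn f hM hVaff hm hWaff hWV (hp₂.res hWW₂)
  have g₃ := isGenerator_res_pullSecOn f hLM hVaff hlm hWaff hWV (hp₃.res hWW₃)
  have g₄ := g₁.tmul g₂
  have key : ((comparison f L M).app W).hom
      (resSec _ hWV (pullSecOn f (tensorMod L M) V (tmulSect L M l m))) =
      tmulSect _ _ (resSec _ hWV (pullSecOn f L V l)) (resSec _ hWV (pullSecOn f M V m)) := by
    have h1 := comparison_pullSecOn_tmulSect f L M V l m
    have h2 := app_naturality_apply (comparison f L M) (homOfLE hWV)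
      (pullSecOn f (tensorMod L M) V (tmulSect L M l m))
    refine h2.trans ?_
    refine (congrArg _ h1).trans ?_
    exact tmulSect_res (homOfLE hWV) _ _
  refine ⟨W, ⟨⟨W, ?_⟩, rfl⟩, hxW, hW₀⟩
  refine bijective_app_of_bases (comparison f L M) (isGenerator_bijective_self g₃) ?_
  rw [key]
  exact isGenerator_bijective_self g₄

/-- **`f^*(L ⊗ M) ≅ f^*L ⊗ f^*M`** for invertible `L`, `M` -/
noncomputable def pullbackTensorIso (hL : PicF.IsInvertible L) (hM : PicF.IsInvertible M) :
    (Scheme.Modules.pullback f).obj (tensorMod L M) ≅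
      tensorMod ((Scheme.Modules.pullback f).obj L) ((Scheme.Modules.pullback f).obj M) :=
  have := isIso_comparison f hL hM
  asIso (comparison f L M)

/-- **`f^*(L^{⊗n}) ≅ (f^*L)^{⊗n}`** for invertible `L` -/
noncomputable def pullbackTensorPowIso (hL : PicF.IsInvertible L) : ∀ n : ℕ,
    (Scheme.Modules.pullback f).obj (tensorPow L n) ≅
      tensorPow ((Scheme.Modules.pullback f).obj L) n
  | 0 => pullbackUnitIso f
  | n + 1 => pullbackTensorIso f (isInvertible_tensorPow hL n) hL ≪≫
      tensorModCongr (pullbackTensorPowIso hL n) (Iso.refl _)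

/-- the pullback of a section of `L^{⊗n}`, as a section of `(f^*L)^{⊗n}` -/
noncomputable def pullPowSec (hL : PicF.IsInvertible L) (n : ℕ)
    (s : Coh.structureModule Y ⟶ tensorPow L n) :
    Coh.structureModule X ⟶ tensorPow ((Scheme.Modules.pullback f).obj L) n :=
  pullHom f s ≫ (pullbackTensorPowIso f hL n).hom

theorem genLocus_pullPowSec (hL : PicF.IsInvertible L) (n : ℕ)
    (s : Coh.structureModule Y ⟶ tensorPow L n) :
    genLocus (tensorPow ((Scheme.Modules.pullback f).obj L) n) (pullPowSec f hL n s) =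
      f ⁻¹ᵁ genLocus (tensorPow L n) s :=
  (genLocus_comp_iso (pullHom f s) (pullbackTensorPowIso f hL n)).trans
    (genLocus_pullHom f (isInvertible_tensorPow hL n) s)

end Main

end Groth.Agent.Lib.Helper56.PullTensor
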