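import Groth.Agent.Lib.Helper56.Hashimoto
import Mathlib.Algebra.Homology.ShortComplex.ShortExact
import Mathlib.CategoryTheory.Subobject.Limits
import Mathlib.CategoryTheory.Abelian.Basic

/-!
# Noetherian objects in abelian categories, and Hashimoto's lemma (noetherian version)

* `isNoetherianObject_of_epi` : quotients of noetherian objects are noetherian;
* `isNoetherianObject_of_shortExact` : extensions of noetherian objects are noetherian;
* `isNoetherianObject_biprod`, `isNoetherianObject_Xι`;
* `isNoetherianObject_map` : in the situation of Hashimoto's lemma (faithful exact left adjoint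
  `F : A ⥤ B` with right adjoint preserving filtered colimits, `B` having a separating family of
  noetherian objects), `F` preserves noetherian objects.
-/

set_option autoImplicit false
set_option maxHeartbeats 400000

universe w u₁ u₂ v u

open CategoryTheory Limits ZeroObject

namespace Groth.Agent.Lib.Helper56.Hashimoto

section noeth

variable {C : Type u} [Category.{v} C] [Abelian C]

theorem factors_iff_comp_cokernel {X b : C} (Q : Subobject b) (f : X ⟶ b) :
    Q.Factors f ↔ f ≫ cokernel.π Q.arrow = 0 := by
  constructor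
  · intro h
    rw [← Q.factorThru_arrow f h, Category.assoc, cokernel.condition, comp_zero]
  · intro h
    have := Abelian.monoLift_comp Q.arrow f h
    exact (Subobject.factors_iff _ _).2 ⟨Abelian.monoLift Q.arrow f h, this⟩

/-- if `e` is epi and `e ≫ f` factors through `Q` then so does `f`. -/
theorem factors_of_epi_comp {X Y b : C} (e : X ⟶ Y) [Epi e] (f : Y ⟶ b) (Q : Subobject b)
    (h : Q.Factors (e ≫ f)) : Q.Factors f := by
  rw [factors_iff_comp_cokernel] at h ⊢
  rw [← cancel_epi e, comp_zero, ← Category.assoc]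
  exact h

theorem le_of_pullback_le {X Y : C} (e : X ⟶ Y) [Epi e] (Q Q' : Subobject Y)
    (h : (Subobject.pullback e).obj Q ≤ (Subobject.pullback e).obj Q') : Q ≤ Q' := by
  have hpb := Subobject.isPullback e Q
  haveI : Epi (Subobject.pullbackπ e Q) := Abelian.epi_fst_of_isLimit _ _ hpb.isLimit
  apply Subobject.le_of_factors
  apply factors_of_epi_comp (Subobject.pullbackπ e Q)
  rw [hpb.w, ← Limits.pullback_factors_iff]
  exact Subobject.factors_of_le _ h (Subobject.factors_self _)

/-- quotients of noetherian objects are noetherian. -/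
theorem isNoetherianObject_of_epi {X Y : C} (e : X ⟶ Y) [Epi e] [IsNoetherianObject X] :
    IsNoetherianObject Y := by
  rw [isNoetherianObject_iff_monotone_chain_condition]
  intro f
  obtain ⟨n, hn⟩ := monotone_chain_condition_of_isNoetherianObject
    ⟨_, (Subobject.pullback e).monotone.comp f.2⟩
  refine ⟨n, fun m hm => le_antisymm (f.2 hm) ?_⟩
  apply le_of_pullback_le e
  exact (hn m hm).ge

theorem le_of_shortExact {S : ShortComplex C} (hS : S.ShortExact) (P P' : Subobject S.X₂)
    (hle : P ≤ P')
    (h₁ : (Subobject.pullback S.f).obj P' ≤ (Subobject.pullback S.f).obj P)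
    (h₃ : imageSubobject (P'.arrow ≫ S.g) ≤ imageSubobject (P.arrow ≫ S.g)) : P' ≤ P := by
  haveI := hS.mono_f
  have hf' : (imageSubobject (P.arrow ≫ S.g)).Factors (P'.arrow ≫ S.g) := by
    rw [← imageSubobject_le_iff]; exact h₃
  haveI : Epi (pullback.fst (P'.arrow ≫ S.g) (P.arrow ≫ S.g)) :=
    Abelian.epi_fst_of_factor_thru_epi_mono_factorization (P'.arrow ≫ S.g) (P.arrow ≫ S.g)
      (factorThruImageSubobject (P.arrow ≫ S.g)) (imageSubobject (P.arrow ≫ S.g)).arrow
      (imageSubobject_arrow_comp (P.arrow ≫ S.g))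
      ((imageSubobject (P.arrow ≫ S.g)).factorThru (P'.arrow ≫ S.g) hf')
      (Subobject.factorThru_arrow _ _ hf')
      (pullback.cone (P'.arrow ≫ S.g) (P.arrow ≫ S.g))
      (pullback.isLimit (P'.arrow ≫ S.g) (P.arrow ≫ S.g))
  let t₁ := pullback.fst (P'.arrow ≫ S.g) (P.arrow ≫ S.g)
  let t₂ := pullback.snd (P'.arrow ≫ S.g) (P.arrow ≫ S.g)
  let d := t₁ ≫ P'.arrow - t₂ ≫ P.arrow
  have hd : d ≫ S.g = 0 := by
    have := pullback.condition (f := P'.arrow ≫ S.g) (g := P.arrow ≫ S.g)
    simp only [d, Preadditive.sub_comp, Category.assoc]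
    exact sub_eq_zero.2 this
  have hδ : hS.exact.lift d hd ≫ S.f = d := hS.exact.lift_f d hd
  have hd' : d = (t₁ - t₂ ≫ Subobject.ofLE P P' hle) ≫ P'.arrow := by
    simp only [d, Preadditive.sub_comp, Category.assoc, Subobject.ofLE_arrow]
  have hdP' : P'.Factors d := by rw [hd']; exact Subobject.factors_comp_arrow _
  have h1 : ((Subobject.pullback S.f).obj P').Factors (hS.exact.lift d hd) := by
    rw [Limits.pullback_factors_iff, hδ]; exact hdP'
  have h2 : ((Subobject.pullback S.f).obj P).Factors (hS.exact.lift d hd) :=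
    Subobject.factors_of_le _ h₁ h1
  have h3 : P.Factors d := by
    rw [Limits.pullback_factors_iff, hδ] at h2; exact h2
  have h4 : P.Factors (t₁ ≫ P'.arrow) := by
    have : t₁ ≫ P'.arrow = d + t₂ ≫ P.arrow := by simp [d]
    rw [this]
    exact Subobject.factors_add _ _ h3 (Subobject.factors_comp_arrow _)
  exact Subobject.le_of_factors (factors_of_epi_comp t₁ _ _ h4)

/-- extensions of noetherian objects are noetherian. -/
theorem isNoetherianObject_of_shortExact {S : ShortComplex C} (hS : S.ShortExact)
    (hX₁ : IsNoetherianObject S.X₁) (hX₃ : IsNoetherianObject S.X₃) :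
    IsNoetherianObject S.X₂ := by
  rw [isNoetherianObject_iff_monotone_chain_condition]
  intro f
  have mono3 : Monotone (fun P : Subobject S.X₂ => imageSubobject (P.arrow ≫ S.g)) := by
    intro P P' h
    change imageSubobject (P.arrow ≫ S.g) ≤ imageSubobject (P'.arrow ≫ S.g)
    rw [imageSubobject_le_iff]
    have : P.arrow ≫ S.g = Subobject.ofLE P P' h ≫ (P'.arrow ≫ S.g) := by
      rw [← Category.assoc, Subobject.ofLE_arrow]
    rw [this]
    exact Subobject.factors_of_factors_right _
      ((Subobject.factors_iff _ _).2 ⟨factorThruImageSubobject _, imageSubobject_arrow_comp _⟩)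
  obtain ⟨n₁, hn₁⟩ := monotone_chain_condition_of_isNoetherianObject
    ⟨_, (Subobject.pullback S.f).monotone.comp f.2⟩
  obtain ⟨n₃, hn₃⟩ := monotone_chain_condition_of_isNoetherianObject
    ⟨_, mono3.comp f.2⟩
  refine ⟨max n₁ n₃, fun m hm => le_antisymm (f.2 hm) ?_⟩
  apply le_of_shortExact hS _ _ (f.2 hm)
  · have e1 := hn₁ m (le_trans (le_max_left _ _) hm)
    have e2 := hn₁ (max n₁ n₃) (le_max_left _ _)
    exact (e1.symm.trans e2).le
  · have e1 := hn₃ m (le_trans (le_max_right _ _) hm)
    have e2 := hn₃ (max n₁ n₃) (le_max_right _ _)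
    exact (e1.symm.trans e2).le

theorem isNoetherianObject_biprod (X Y : C) [IsNoetherianObject X] [IsNoetherianObject Y] :
    IsNoetherianObject (X ⊞ Y) :=
  isNoetherianObject_of_shortExact
    (ShortComplex.Splitting.ofHasBinaryBiproduct X Y).shortExact ‹_› ‹_›

end noeth

section gen

variable {B : Type u₂} [Category.{w} B] [Abelian B] {ι : Type w} (s : ι → B)

theorem isNoetherianObject_Xι (hsN : ∀ i, IsNoetherianObject (s i)) (l : List ι) :
    IsNoetherianObject (Xι s l) := by
  induction l with
  | nil => exact isNoetherianObject_of_isZero (isZero_zero B)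
  | cons i l ih =>
    haveI := hsN i
    haveI := ih
    exact isNoetherianObject_biprod (s i) (Xι s l)

end gen

section main

variable {A : Type u₁} [Category.{w} A] [Abelian A] [HasColimitsOfSize.{w, w} A]
  {B : Type u₂} [Category.{w} B] [Abelian B] [IsGrothendieckAbelian.{w} B]
  {F : A ⥤ B} {G : B ⥤ A} (adj : F ⊣ G) [F.Additive] [F.Faithful]
  [PreservesFiniteLimits F] [PreservesFiniteColimits F] [PreservesFilteredColimitsOfSize.{w, w} G]
  {ι : Type w} {s : ι → B}
  (hsep : ∀ ⦃X Y : B⦄ (f g : X ⟶ Y), (∀ (i : ι) (h : s i ⟶ X), h ≫ f = h ≫ g) → f = g)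

/-- the pullback of the unit along `G` of the `j`-th finitely generated subobject of `F a`. -/
noncomputable abbrev pb (a : A) (j : Idx s (F.obj a)) : A :=
  pullback (adj.unit.app a) (G.map j.sub.arrow)

/-- first projection -/
noncomputable abbrev pfst (a : A) (j : Idx s (F.obj a)) : pb adj a j ⟶ a :=
  pullback.fst (adj.unit.app a) (G.map j.sub.arrow)

/-- second projection -/
noncomputable abbrev psnd (a : A) (j : Idx s (F.obj a)) : pb adj a j ⟶ G.obj (j.sub : B) :=
  pullback.snd (adj.unit.app a) (G.map j.sub.arrow)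

/-- the comparison map `F (a_j) ⟶ b_j`. -/
noncomputable def theta (a : A) (j : Idx s (F.obj a)) : F.obj (pb adj a j) ⟶ (j.sub : B) :=
  F.map (psnd adj a j) ≫ adj.counit.app _

theorem theta_arrow (a : A) (j : Idx s (F.obj a)) :
    theta adj a j ≫ j.sub.arrow = F.map (pfst adj a j) := by
  have h := pullback.condition (f := adj.unit.app a) (g := G.map j.sub.arrow)
  have h2 := congrArg (fun t => F.map t ≫ adj.counit.app _) h
  simp at h2
  simp [theta, h2]

instance mono_pfst (a : A) (j : Idx s (F.obj a)) : Mono (pfst adj a j) := by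
  haveI : G.PreservesMonomorphisms := Functor.preservesMonomorphisms_of_adjunction adj
  exact pullback.fst_of_mono

instance mono_theta (a : A) (j : Idx s (F.obj a)) : Mono (theta adj a j) := by
  haveI : Mono (theta adj a j ≫ j.sub.arrow) := by rw [theta_arrow]; infer_instance
  exact mono_of_mono (theta adj a j) j.sub.arrow

include hsep in
/-- the subobjects `a_j` of `a` jointly cover `a`. -/
theorem eq_of_forall_fst (a y : A) (u v : a ⟶ y)
    (H : ∀ j : Idx s (F.obj a), pfst adj a j ≫ u = pfst adj a j ≫ v) : u = v := by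
  haveI : PreservesColimitsOfSize.{w, w} F := adj.leftAdjoint_preservesColimits
  haveI : G.PreservesMonomorphisms := Functor.preservesMonomorphisms_of_adjunction adj
  let b := F.obj a
  let c₀ := (Over.forget b).mapCocone (cocone s b)
  have hc₀ : IsColimit c₀ := isColimitCocone hsep b
  let c₁ := (G ⋙ F).mapCocone c₀
  have hc₁ : IsColimit c₁ := isColimitOfPreserves (G ⋙ F) hc₀
  let z : F.obj a ⟶ c₁.pt := F.map (adj.unit.app a)
  haveI := IsGrothendieckAbelian.IsPresentable.surjectivity.epi_f hc₁ z
  apply F.map_injective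
  rw [← cancel_epi (IsGrothendieckAbelian.IsPresentable.surjectivity.f z)]
  apply colimit.hom_ext
  intro j
  rw [← Category.assoc, ← Category.assoc,
    IsGrothendieckAbelian.IsPresentable.surjectivity.hf z j]
  let m : (j.sub : B) ⟶ F.obj a := j.sub.arrow
  have hm : c₀.ι.app j = m := by
    simp only [c₀, cocone, Functor.mapCocone_ι_app, Over.forget_map, Over.mkIdTerminal_from_left]
    rfl
  let fst := pullback.fst (adj.unit.app a) (G.map m)
  let snd := pullback.snd (adj.unit.app a) (G.map m)
  have Hj : fst ≫ u = fst ≫ v := H j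
  let p₁ := (pullback.fst c₁.ι ((Functor.const (Idx s b)).map z)).app j
  let p₂ := (pullback.snd c₁.ι ((Functor.const (Idx s b)).map z)).app j
  have cond : p₁ ≫ F.map (G.map m) = p₂ ≫ F.map (adj.unit.app a) := by
    have := congrArg (fun t => t.app j)
      (pullback.condition (f := c₁.ι) (g := (Functor.const (Idx s b)).map z))
    simp only [NatTrans.comp_app, Functor.const_map_app] at this
    have hc₁ι : c₁.ι.app j = F.map (G.map m) := by rw [← hm]; rfl
    rw [hc₁ι] at this
    exact this
  have hPB : IsPullback (F.map fst) (F.map snd) (F.map (adj.unit.app a)) (F.map (G.map m)) :=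
    (IsPullback.of_hasPullback _ _).map F
  let lift := hPB.lift p₂ p₁ cond.symm
  have hlift : lift ≫ F.map fst = p₂ := hPB.lift_fst _ _ _
  change p₂ ≫ F.map u = p₂ ≫ F.map v
  rw [← hlift, Category.assoc, Category.assoc, ← F.map_comp, ← F.map_comp, Hj]

include adj hsep in
/-- In the situation of Hashimoto's lemma, with noetherian generators, `F` preserves noetherian
objects. -/
theorem isNoetherianObject_map (hsN : ∀ i, IsNoetherianObject (s i)) (a : A)
    [IsNoetherianObject a] : IsNoetherianObject (F.obj a) := by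
  let T : Idx s (F.obj a) → Subobject a := fun j => Subobject.mk (pfst adj a j)
  have Tmono : ∀ j j', j ≤ j' → T j ≤ T j' := by
    intro j j' h
    have h' : j.sub ≤ j'.sub := h
    refine Subobject.mk_le_mk_of_comm
      (pullback.lift (pfst adj a j) (psnd adj a j ≫ G.map (Subobject.ofLE _ _ h')) ?_)
      (pullback.lift_fst _ _ _)
    rw [Category.assoc, ← G.map_comp, Subobject.ofLE_arrow]
    exact pullback.condition
  obtain ⟨_, ⟨j₀, rfl⟩, hmax⟩ := wellFounded_gt.has_min (Set.range T) (Set.range_nonempty T)
  have hle : ∀ j, T j ≤ T j₀ := by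
    intro j
    obtain ⟨j', hj, hj₀⟩ := exists_ge_ge j j₀
    have h1 : T j₀ ≤ T j' := Tmono _ _ hj₀
    have h2 : ¬ T j₀ < T j' := fun hlt => hmax (T j') ⟨j', rfl⟩ hlt
    have h3 : T j' = T j₀ := (eq_of_le_of_not_lt h1 h2).symm
    exact (Tmono _ _ hj).trans h3.le
  haveI : Epi (pfst adj a j₀) := by
    constructor
    intro y u v huv
    apply eq_of_forall_fst adj hsep a y u v
    intro j
    have := Subobject.ofMkLEMk_comp (hle j)
    rw [← this, Category.assoc, Category.assoc, huv]
  haveI : IsIso (pfst adj a j₀) := isIso_of_mono_of_epi _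
  haveI : IsNoetherianObject (Xι s (j₀.l.map Sigma.fst)) := isNoetherianObject_Xι s hsN _
  haveI : IsNoetherianObject (j₀.sub : B) :=
    isNoetherianObject_of_epi (factorThruImageSubobject (dl (F.obj a) j₀.l))
  exact isNoetherianObject_of_mono (inv (F.map (pfst adj a j₀)) ≫ theta adj a j₀)

end main

end Groth.Agent.Lib.Helper56.Hashimoto
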