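import Groth.Prelude.Def_ParaF
import Groth.Agent.Lib.QCoh.Invertible
import Groth.Agent.Lib.QCoh.Helper50_BaseChange

/-!
# The unit `L ⟶ j_* j^* L` is an isomorphism for invertible `L` when functions extend uniquely

ns `Groth.Agent.Lib.Helper56.ParaF`.

* `isIso_map_of_le_of_le` : restriction maps between equal opens are isomorphisms
* `bijective_map_iff_of_trivialization` : on a trivialising open, restriction maps of `M` are
  bijective iff those of `O_X` are
* `isIso_unit_of_bijective f h L hL` : `f : Y ⟶ X` open immersion such that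
  `O(V) → O(f(f⁻¹ V))` is bijective for all opens `V` of `X`, `L` invertible ⇒ the unit
  `L ⟶ f_* (L|_Y)` of `restrictAdjunction f` is an isomorphism
* `bijective_restrict_map_of_isIso_unit` : unit iso at `L'` ⇒ `Hom(L, L') → Hom(L|_Y, L'|_Y)`
  bijective
* `bijective_restrict_map f h L L' hL'` : combination
-/

set_option maxHeartbeats 400000

universe u

open CategoryTheory AlgebraicGeometry TopologicalSpace Opposite
open AlgebraicGeometry.Scheme.Modules

namespace Groth.Agent.Lib.Helper56.ParaF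

open Groth.Agent.Lib.QCoh

/-- Restriction maps between equal opens are isomorphisms. -/
theorem isIso_map_of_le_of_le {C : Type*} [Category C] {Z : Type*} [TopologicalSpace Z]
    (F : (Opens Z)ᵒᵖ ⥤ C) {A B : Opens Z} (h₁ : A ≤ B) (h₂ : B ≤ A) :
    IsIso (F.map (homOfLE h₁).op) := by
  have : IsIso (homOfLE h₁).op :=
    ⟨⟨(homOfLE h₂).op, Quiver.Hom.unop_inj (Subsingleton.elim _ _),
      Quiver.Hom.unop_inj (Subsingleton.elim _ _)⟩⟩
  infer_instance

theorem map_homOfLE_trans {C : Type*} [Category C] {Z : Type*} [TopologicalSpace Z]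
    (F : (Opens Z)ᵒᵖ ⥤ C) {A B D : Opens Z} (h₁ : A ≤ B) (h₂ : B ≤ D) :
    F.map (homOfLE (h₁.trans h₂)).op = F.map (homOfLE h₂).op ≫ F.map (homOfLE h₁).op := by
  rw [← F.map_comp]
  rfl

variable {X Y : Scheme.{u}}

/-- On a trivialising open `T` of `M`, a restriction map of `M` (between opens inside `T`) is
bijective iff the corresponding restriction map of `O_X` is. -/
theorem bijective_map_iff_of_trivialization (M : X.Modules) (T : X.Opens)
    (i : M.restrict T.ι ≅ Coh.structureModule (↑T)) {W' W : (T : Scheme.{u}).Opens}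
    (hle : W' ≤ W) :
    Function.Bijective (M.presheaf.map (homOfLE (T.ι.image_mono hle)).op) ↔
      Function.Bijective (X.presheaf.map (homOfLE (T.ι.image_mono hle)).op) := by
  have b1 : Function.Bijective (i.hom.app W) :=
    (ConcreteCategory.isIso_iff_bijective _).1 inferInstance
  have b2 : Function.Bijective (i.hom.app W') :=
    (ConcreteCategory.isIso_iff_bijective _).1 inferInstance
  have nat := i.hom.mapPresheaf.naturality (homOfLE hle).op
  let fM : Γ(M, T.ι ''ᵁ W) → Γ(M, T.ι ''ᵁ W') :=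
    fun x => (M.presheaf.map (homOfLE (T.ι.image_mono hle)).op).hom x
  let fO : Γ(X, T.ι ''ᵁ W) → Γ(X, T.ι ''ᵁ W') :=
    fun x => (X.presheaf.map (homOfLE (T.ι.image_mono hle)).op).hom x
  let e : Γ(M, T.ι ''ᵁ W) → Γ(X, T.ι ''ᵁ W) := fun x => (i.hom.app W).hom x
  let e' : Γ(M, T.ι ''ᵁ W') → Γ(X, T.ι ''ᵁ W') := fun x => (i.hom.app W').hom x
  have sq : e' ∘ fM = fO ∘ e := by
    funext x
    exact congrArg (fun k => k.hom x) nat
  have be : Function.Bijective e := b1
  have be' : Function.Bijective e' := b2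
  change Function.Bijective fM ↔ Function.Bijective fO
  rw [← Function.Bijective.of_comp_iff' be' fM, sq, Function.Bijective.of_comp_iff fO be]

/-- **The unit `L ⟶ f_* (L|_Y)` is an isomorphism** for an invertible module `L` when the
restriction of functions `O(V) → O(f(f⁻¹ V))` is bijective for every open `V`. -/
theorem isIso_unit_of_bijective (f : Y ⟶ X) [IsOpenImmersion f]
    (h : ∀ V : X.Opens,
      Function.Bijective (X.presheaf.map (homOfLE (f.image_preimage_le V)).op))
    (L : X.Modules) (hL : PicF.IsInvertible L) :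
    IsIso ((restrictAdjunction f).unit.app L) := by
  let ι := Σ T : {T : X.Opens // Nonempty (L.restrict T.ι ≅ Coh.structureModule (↑T))},
    (T.1 : Scheme.{u}).Opens
  refine isIso_of_bijective_app_of_isBasis _ (fun p : ι => p.1.1.ι ''ᵁ p.2) ?_ ?_
  · rw [Opens.isBasis_iff_nbhd]
    intro V x hx
    obtain ⟨T, hxT, hT⟩ := hL x
    refine ⟨T.ι ''ᵁ (T.ι ⁻¹ᵁ V), ⟨⟨⟨T, hT⟩, T.ι ⁻¹ᵁ V⟩, rfl⟩, ?_, ?_⟩
    · rw [Scheme.Hom.image_preimage_eq_opensRange_inf, Scheme.Opens.opensRange_ι]
      exact ⟨hxT, hx⟩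
    · exact T.ι.image_preimage_le V
  · rintro ⟨⟨T, ⟨i⟩⟩, W⟩
    change Function.Bijective
      (L.presheaf.map (homOfLE (f.image_preimage_le (T.ι ''ᵁ W))).op)
    -- notation
    have hAT : T.ι ''ᵁ W ≤ T := by
      have := T.ι.image_le_opensRange W
      rwa [Scheme.Opens.opensRange_ι] at this
    have hA'A : f ''ᵁ f ⁻¹ᵁ (T.ι ''ᵁ W) ≤ T.ι ''ᵁ W := f.image_preimage_le _
    have hW' : T.ι ''ᵁ (T.ι ⁻¹ᵁ (f ''ᵁ f ⁻¹ᵁ (T.ι ''ᵁ W))) =
        T ⊓ f ''ᵁ f ⁻¹ᵁ (T.ι ''ᵁ W) := by
      rw [Scheme.Hom.image_preimage_eq_opensRange_inf, Scheme.Opens.opensRange_ι]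
    have e1 : T.ι ''ᵁ (T.ι ⁻¹ᵁ (f ''ᵁ f ⁻¹ᵁ (T.ι ''ᵁ W))) ≤ f ''ᵁ f ⁻¹ᵁ (T.ι ''ᵁ W) := by
      rw [hW']; exact inf_le_right
    have e2 : f ''ᵁ f ⁻¹ᵁ (T.ι ''ᵁ W) ≤ T.ι ''ᵁ (T.ι ⁻¹ᵁ (f ''ᵁ f ⁻¹ᵁ (T.ι ''ᵁ W))) := by
      rw [hW']; exact le_inf (hA'A.trans hAT) le_rfl
    have hle : T.ι ⁻¹ᵁ (f ''ᵁ f ⁻¹ᵁ (T.ι ''ᵁ W)) ≤ W :=
      (Scheme.Hom.image_le_image_iff T.ι _ _).1 (e1.trans hA'A)
    -- the middle map is bijective
    have hmidO : Function.Bijective (X.presheaf.map (homOfLE (T.ι.image_mono hle)).op) := by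
      rw [← ConcreteCategory.isIso_iff_bijective]
      have e : X.presheaf.map (homOfLE (T.ι.image_mono hle)).op =
          X.presheaf.map (homOfLE hA'A).op ≫ X.presheaf.map (homOfLE e1).op :=
        map_homOfLE_trans X.presheaf e1 hA'A
      rw [e]
      have i1 : IsIso (X.presheaf.map (homOfLE hA'A).op) :=
        (ConcreteCategory.isIso_iff_bijective _).2 (h _)
      have i2 : IsIso (X.presheaf.map (homOfLE e1).op) := isIso_map_of_le_of_le _ e1 e2
      infer_instance
    have hmid : Function.Bijective (L.presheaf.map (homOfLE (T.ι.image_mono hle)).op) :=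
      (bijective_map_iff_of_trivialization L T i hle).2 hmidO
    rw [← ConcreteCategory.isIso_iff_bijective]
    have e : L.presheaf.map (homOfLE hA'A).op =
        L.presheaf.map (homOfLE (T.ι.image_mono hle)).op ≫ L.presheaf.map (homOfLE e2).op :=
      map_homOfLE_trans L.presheaf e2 (T.ι.image_mono hle)
    rw [e]
    have i1 : IsIso (L.presheaf.map (homOfLE (T.ι.image_mono hle)).op) :=
      (ConcreteCategory.isIso_iff_bijective _).2 hmid
    have i2 : IsIso (L.presheaf.map (homOfLE e2).op) := isIso_map_of_le_of_le _ e2 e1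
    infer_instance

/-- If the unit at `L'` is an isomorphism, restriction is bijective on `Hom(L, L')`. -/
theorem bijective_restrict_map_of_isIso_unit (f : Y ⟶ X) [IsOpenImmersion f] (L L' : X.Modules)
    [IsIso ((restrictAdjunction f).unit.app L')] :
    Function.Bijective (fun φ : L ⟶ L' => (restrictFunctor f).map φ) := by
  have key : (fun φ : L ⟶ L' => (restrictFunctor f).map φ) =
      ((restrictAdjunction f).homEquiv L ((restrictFunctor f).obj L')).symm ∘
        (fun φ : L ⟶ L' => φ ≫ (restrictAdjunction f).unit.app L') := by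
    funext φ
    change _ = ((restrictAdjunction f).homEquiv L ((restrictFunctor f).obj L')).symm _
    rw [Equiv.eq_symm_apply, Adjunction.homEquiv_unit]
    exact ((restrictAdjunction f).unit.naturality φ).symm
  rw [key]
  refine (Equiv.bijective _).comp ⟨fun a b hab => (cancel_mono _).1 hab, fun ψ => ?_⟩
  exact ⟨ψ ≫ inv ((restrictAdjunction f).unit.app L'), by simp⟩

/-- Restriction along an open immersion `f` with `O(V) ≃ O(f(f⁻¹ V))` for all `V` is fully
faithful on morphisms into an invertible module. -/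
theorem bijective_restrict_map (f : Y ⟶ X) [IsOpenImmersion f]
    (h : ∀ V : X.Opens,
      Function.Bijective (X.presheaf.map (homOfLE (f.image_preimage_le V)).op))
    (L L' : X.Modules) (hL' : PicF.IsInvertible L') :
    Function.Bijective (fun φ : L ⟶ L' => (restrictFunctor f).map φ) :=
  have := isIso_unit_of_bijective f h L' hL'
  bijective_restrict_map_of_isIso_unit f L L'

end Groth.Agent.Lib.Helper56.ParaF
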