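import Groth.Prelude.Def_ParaF
import Groth.Agent.Lib.QCoh.Invertible

/-!
# Formal properties of `ParaF.InvRestrictEquiv`

`InvRestrictEquiv` is stable under composition, satisfies 2-out-of-3 (cancel the first factor),
holds for isomorphisms, and only depends on the morphism.
-/

set_option maxHeartbeats 400000

universe u

open CategoryTheory AlgebraicGeometry TopologicalSpace
open AlgebraicGeometry.Scheme.Modules

namespace Groth.Agent.Lib.Helper56.ParaF

open Groth.Agent.Lib.QCoh

/-- Bijectivity of the action on morphisms transfers along a natural isomorphism. -/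
theorem bijective_map_of_natIso {C D : Type*} [Category C] [Category D] {F G : C ⥤ D} (η : F ≅ G)
    (L L' : C) (h : Function.Bijective (fun φ : L ⟶ L' => F.map φ)) :
    Function.Bijective (fun φ : L ⟶ L' => G.map φ) := by
  have hfun : (fun φ : L ⟶ L' => G.map φ) =
      (fun ψ : F.obj L ⟶ F.obj L' => η.inv.app L ≫ ψ ≫ η.hom.app L') ∘
        (fun φ : L ⟶ L' => F.map φ) := by
    funext φ
    exact (NatIso.naturality_1 η φ).symm
  rw [hfun]
  refine Function.Bijective.comp ⟨?_, ?_⟩ h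
  · intro ψ ψ' hh
    exact (cancel_mono (η.hom.app L')).mp ((cancel_epi (η.inv.app L)).mp hh)
  · intro θ
    refine ⟨η.hom.app L ≫ θ ≫ η.inv.app L', ?_⟩
    simp

variable {U W V : Scheme.{u}}

/-- `InvRestrictEquiv` only depends on the morphism. -/
theorem invRestrictEquiv_congr {j j' : U ⟶ V} [IsOpenImmersion j] [IsOpenImmersion j']
    (h : j = j') (hj : ParaF.InvRestrictEquiv j) : ParaF.InvRestrictEquiv j' := by
  subst h
  exact hj

/-- `InvRestrictEquiv` is stable under composition. -/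
theorem invRestrictEquiv_comp (a : U ⟶ W) (b : W ⟶ V) [IsOpenImmersion a] [IsOpenImmersion b]
    (ha : ParaF.InvRestrictEquiv a) (hb : ParaF.InvRestrictEquiv b) :
    ParaF.InvRestrictEquiv (a ≫ b) := by
  refine ⟨fun L L' hL hL' => ?_, fun L₀ hL₀ => ?_⟩
  · have h1 : Function.Bijective
        (fun φ : L ⟶ L' => (restrictFunctor b ⋙ restrictFunctor a).map φ) :=
      (ha.1 _ _ (isInvertible_restrict b hL) (isInvertible_restrict b hL')).comp
        (hb.1 L L' hL hL')
    exact bijective_map_of_natIso (restrictFunctorComp a b).symm L L' h1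
  · obtain ⟨M, hM, ⟨e⟩⟩ := ha.2 L₀ hL₀
    obtain ⟨L, hL, ⟨e'⟩⟩ := hb.2 M hM
    exact ⟨L, hL, ⟨(restrictFunctorComp a b).app L ≪≫ (restrictFunctor a).mapIso e' ≪≫ e⟩⟩

/-- 2-out-of-3: if `a ≫ b` and `a` satisfy `InvRestrictEquiv`, so does `b`. -/
theorem invRestrictEquiv_of_comp (a : U ⟶ W) (b : W ⟶ V) [IsOpenImmersion a] [IsOpenImmersion b]
    (hab : ParaF.InvRestrictEquiv (a ≫ b)) (ha : ParaF.InvRestrictEquiv a) :
    ParaF.InvRestrictEquiv b := by
  refine ⟨fun L L' hL hL' => ?_, fun M₀ hM₀ => ?_⟩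
  · have h1 : Function.Bijective
        (fun φ : L ⟶ L' => (restrictFunctor b ⋙ restrictFunctor a).map φ) :=
      bijective_map_of_natIso (restrictFunctorComp a b) L L' (hab.1 L L' hL hL')
    have h2 := ha.1 _ _ (isInvertible_restrict b hL) (isInvertible_restrict b hL')
    exact (Function.Bijective.of_comp_iff' h2 _).mp h1
  · obtain ⟨L, hL, ⟨e⟩⟩ := hab.2 (M₀.restrict a) (isInvertible_restrict a hM₀)
    let θ : (L.restrict b).restrict a ≅ M₀.restrict a :=
      ((restrictFunctorComp a b).app L).symm ≪≫ e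
    have hMb : PicF.IsInvertible (L.restrict b) := isInvertible_restrict b hL
    obtain ⟨f, hf⟩ := (ha.1 _ _ hMb hM₀).2 θ.hom
    obtain ⟨g, hg⟩ := (ha.1 _ _ hM₀ hMb).2 θ.inv
    have hf' : (restrictFunctor a).map f = θ.hom := hf
    have hg' : (restrictFunctor a).map g = θ.inv := hg
    refine ⟨L, hL, ⟨⟨f, g, ?_, ?_⟩⟩⟩
    · apply (ha.1 _ _ hMb hMb).1
      change (restrictFunctor a).map (f ≫ g) = (restrictFunctor a).map (𝟙 _)
      rw [Functor.map_comp, CategoryTheory.Functor.map_id, hf', hg', Iso.hom_inv_id]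
    · apply (ha.1 _ _ hM₀ hM₀).1
      change (restrictFunctor a).map (g ≫ f) = (restrictFunctor a).map (𝟙 _)
      rw [Functor.map_comp, CategoryTheory.Functor.map_id, hf', hg', Iso.inv_hom_id]

/-- Isomorphisms satisfy `InvRestrictEquiv`. -/
theorem invRestrictEquiv_of_isIso (e : U ⟶ V) [IsIso e] : ParaF.InvRestrictEquiv e := by
  let η : restrictFunctor e ⋙ restrictFunctor (inv e) ≅ 𝟭 (V.Modules) :=
    (restrictFunctorComp (inv e) e).symm ≪≫ restrictFunctorCongr (IsIso.inv_hom_id e) ≪≫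
      restrictFunctorId
  let ε : restrictFunctor (inv e) ⋙ restrictFunctor e ≅ 𝟭 (U.Modules) :=
    (restrictFunctorComp e (inv e)).symm ≪≫ restrictFunctorCongr (IsIso.hom_inv_id e) ≪≫
      restrictFunctorId
  let E : V.Modules ≌ U.Modules :=
    CategoryTheory.Equivalence.mk (restrictFunctor e) (restrictFunctor (inv e)) η.symm ε
  refine ⟨fun L L' _ _ => ?_, fun L₀ hL₀ => ?_⟩
  · exact E.fullyFaithfulFunctor.map_bijective L L'
  · exact ⟨(restrictFunctor (inv e)).obj L₀, isInvertible_restrict (inv e) hL₀, ⟨ε.app L₀⟩⟩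

/-- Precomposition with an isomorphism. -/
theorem invRestrictEquiv_iso_comp (e : U ⟶ W) [IsIso e] (b : W ⟶ V) [IsOpenImmersion b]
    (hb : ParaF.InvRestrictEquiv b) : ParaF.InvRestrictEquiv (e ≫ b) :=
  invRestrictEquiv_comp e b (invRestrictEquiv_of_isIso e) hb

/-- Postcomposition with an isomorphism. -/
theorem invRestrictEquiv_comp_iso (a : U ⟶ W) [IsOpenImmersion a] (e : W ⟶ V) [IsIso e]
    (ha : ParaF.InvRestrictEquiv a) : ParaF.InvRestrictEquiv (a ≫ e) :=
  invRestrictEquiv_comp a e ha (invRestrictEquiv_of_isIso e)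

/-- Cancel an isomorphism on the left. -/
theorem invRestrictEquiv_of_iso_comp (e : U ⟶ W) [IsIso e] (b : W ⟶ V) [IsOpenImmersion b]
    (h : ParaF.InvRestrictEquiv (e ≫ b)) : ParaF.InvRestrictEquiv b :=
  invRestrictEquiv_of_comp e b h (invRestrictEquiv_of_isIso e)

end Groth.Agent.Lib.Helper56.ParaF
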