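import Mathlib
import Groth.Prelude.Def_Curves

/-!
# Absolutely integrally closed rings (helper56)

ns `Groth.Agent.Lib.Helper56.AICLocal`.

* `surjective_of_isAIC` : an integral ring map from an absolutely integrally closed ring to a
  domain is surjective.
-/

set_option autoImplicit false
universe u
open Polynomial

namespace Groth.Agent.Lib.Helper56.AICLocal

theorem mem_range_of_monic_eval₂ {A B : Type*} [CommRing A] [CommRing B] [IsDomain B]
    (φ : A →+* B) (hA : Curves.IsAIC A) :
    ∀ n : ℕ, ∀ f : A[X], f.Monic → f.natDegree = n → ∀ c : B, f.eval₂ φ c = 0 →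
      c ∈ Set.range φ := by
  have : Nontrivial A := φ.domain_nontrivial
  intro n
  induction n with
  | zero =>
    intro f hf hn c hc
    rw [eq_one_of_monic_natDegree_zero hf hn, eval₂_one] at hc
    exact absurd hc one_ne_zero
  | succ n ih =>
    intro f hf hn c hc
    obtain ⟨r, hr⟩ := hA f hf (by omega)
    have hfac : (X - C r) * (f /ₘ (X - C r)) = f := mul_divByMonic_eq_iff_isRoot.mpr hr
    have hq : (f /ₘ (X - C r)).Monic :=
      (monic_X_sub_C r).of_mul_monic_left (by rw [hfac]; exact hf)
    have hqn : (f /ₘ (X - C r)).natDegree = n := by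
      rw [natDegree_divByMonic f (monic_X_sub_C r), natDegree_X_sub_C, hn]
      omega
    rw [← hfac, eval₂_mul, eval₂_sub, eval₂_X, eval₂_C, mul_eq_zero] at hc
    rcases hc with hc | hc
    · exact ⟨r, (sub_eq_zero.mp hc).symm⟩
    · exact ih _ hq hqn c hc

theorem surjective_of_isAIC {A B : Type*} [CommRing A] [CommRing B] [IsDomain B]
    (φ : A →+* B) (hA : Curves.IsAIC A) (hint : φ.IsIntegral) : Function.Surjective φ := by
  intro c
  obtain ⟨f, hf, hc⟩ := hint c
  exact mem_range_of_monic_eval₂ φ hA _ f hf rfl c hc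

end Groth.Agent.Lib.Helper56.AICLocal
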