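import Mathlib.CategoryTheory.Abelian.Basic
import Mathlib.CategoryTheory.Adjunction.Limits
import Mathlib.CategoryTheory.Limits.Preserves.Shapes.Kernels
import Mathlib.CategoryTheory.Adjunction.FullyFaithful

/-!
# Comparing two quotients through an adjunction (helper56)

`adj : F ⊣ Γ`, `L` with invertible counit, `πL : L ⟶ GL` an epimorphism, `σ : Γ L ⟶ Q` an
epimorphism.  If the kernel of `πL` dies in `F Q` and the kernel of `σ` dies in `Γ GL`, then
`GL ≅ F Q`.
-/

set_option autoImplicit false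
universe v₁ v₂ u₁ u₂

open CategoryTheory CategoryTheory.Limits

namespace Groth.Agent.Lib.Helper56.AdjQuot

variable {C : Type u₁} [Category.{v₁} C] [Abelian C] {D : Type u₂} [Category.{v₂} D] [Abelian D]
  {F : C ⥤ D} {Γ : D ⥤ C} (adj : F ⊣ Γ)

include adj in
theorem nonempty_iso {L GL : D} [IsIso (adj.counit.app L)] (πL : L ⟶ GL) [Epi πL] {Q : C}
    (σ : Γ.obj L ⟶ Q) [Epi σ]
    (h1 : kernel.ι πL ≫ inv (adj.counit.app L) ≫ F.map σ = 0)
    (h2 : kernel.ι σ ≫ Γ.map πL = 0) : Nonempty (GL ≅ F.obj Q) := by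
  have : F.IsLeftAdjoint := adj.isLeftAdjoint
  have hFσ : Epi (F.map σ) := inferInstance
  -- `r : GL ⟶ F Q`
  let hπ : IsColimit (CokernelCofork.ofπ πL (kernel.condition πL)) :=
    Abelian.epiIsCokernelOfKernel (KernelFork.ofι (kernel.ι πL) (kernel.condition πL))
      (kernelIsKernel πL)
  let r : GL ⟶ F.obj Q := hπ.desc (CokernelCofork.ofπ (inv (adj.counit.app L) ≫ F.map σ) h1)
  have hr : πL ≫ r = inv (adj.counit.app L) ≫ F.map σ :=
    hπ.fac (CokernelCofork.ofπ (inv (adj.counit.app L) ≫ F.map σ) h1) WalkingParallelPair.one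
  -- `s : F Q ⟶ GL`
  let hσ : IsColimit (CokernelCofork.ofπ σ (kernel.condition σ)) :=
    Abelian.epiIsCokernelOfKernel (KernelFork.ofι (kernel.ι σ) (kernel.condition σ))
      (kernelIsKernel σ)
  have hσF := CokernelCofork.mapIsColimit _ hσ F
  have h2' : F.map (kernel.ι σ) ≫ adj.counit.app L ≫ πL = 0 := by
    have h3 : F.map (Γ.map πL) ≫ adj.counit.app GL = adj.counit.app L ≫ πL :=
      adj.counit.naturality πL
    have : F.PreservesZeroMorphisms := Functor.preservesZeroMorphisms_of_isLeftAdjoint F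
    rw [← h3, ← Category.assoc, ← F.map_comp, h2, F.map_zero, zero_comp]
  let s : F.obj Q ⟶ GL := hσF.desc (CokernelCofork.ofπ (adj.counit.app L ≫ πL) h2')
  have hs : F.map σ ≫ s = adj.counit.app L ≫ πL :=
    hσF.fac (CokernelCofork.ofπ (adj.counit.app L ≫ πL) h2') WalkingParallelPair.one
  refine ⟨⟨r, s, ?_, ?_⟩⟩
  · rw [← cancel_epi πL, ← Category.assoc, hr, Category.assoc, hs, IsIso.inv_hom_id_assoc,
      Category.comp_id]
  · rw [← cancel_epi (F.map σ), ← Category.assoc, hs, Category.assoc, hr,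
      IsIso.hom_inv_id_assoc, Category.comp_id]

end Groth.Agent.Lib.Helper56.AdjQuot
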