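import Groth.Prelude.Def_BlowUp2
import Groth.Prelude.Def_FlatMod2
import Groth.Agent.Lib.QCoh.Helper18_PullbackStalk

/-!
# The pullback of a module flat along the centre is its own strict transform (helper56)

* `map_germ_ideal_eq` : the extension of `I.ideal U` to the stalk at `x` does not depend on the
  affine open `U ∋ x`.
* `germ_eq_zero_of_killed` : a section of a module killed by a power of an effective Cartier
  ideal has zero germ at every point where the stalk is flat (or off the support of the ideal).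
* `isStrictTransform_id` : S1696.
-/

set_option autoImplicit false
set_option linter.style.haveILetI false
universe u
open CategoryTheory CategoryTheory.Limits AlgebraicGeometry TopologicalSpace TensorProduct

namespace Groth.Agent.Lib.Helper56.StrictTransFlat

open Groth.Agent.Lib.QCoh

lemma map_germ_ideal_eq {X : Scheme.{u}} (I : X.IdealSheafData) (U V : X.affineOpens) (x : X)
    (hxU : x ∈ U.1) (hxV : x ∈ V.1) :
    (I.ideal U).map (X.presheaf.germ U.1 x hxU).hom =
      (I.ideal V).map (X.presheaf.germ V.1 x hxV).hom := by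
  obtain ⟨W, hW, hxW, hWUV⟩ := Opens.isBasis_iff_nbhd.1 X.isBasis_affineOpens
    (show x ∈ U.1 ⊓ V.1 from ⟨hxU, hxV⟩)
  have key : ∀ (U' : X.affineOpens) (hx' : x ∈ U'.1) (hle : W ≤ U'.1),
      (I.ideal U').map (X.presheaf.germ U'.1 x hx').hom =
        (I.ideal ⟨W, hW⟩).map (X.presheaf.germ W x hxW).hom := by
    intro U' hx' hle
    have h1 : (I.ideal U').map (X.presheaf.map (homOfLE hle).op).hom = I.ideal ⟨W, hW⟩ :=
      I.map_ideal (U := ⟨W, hW⟩) (V := U') hle
    have h2 : X.presheaf.map (homOfLE hle).op ≫ X.presheaf.germ W x hxW =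
        X.presheaf.germ U'.1 x hx' := X.presheaf.germ_res (homOfLE hle) x hxW
    rw [← h1, Ideal.map_map, ← CommRingCat.hom_comp, h2]
  rw [key U hxU (hWUV.trans inf_le_left), key V hxV (hWUV.trans inf_le_right)]

theorem germ_eq_zero_of_killed {X : Scheme.{u}} (E : X.IdealSheafData)
    (hE : BlowUp.IsEffCartierIdeal E) (M : X.Modules) (V : X.affineOpens)
    (m : M.presheaf.obj (Opposite.op V.1)) (n : ℕ)
    (hn : ∀ a : Γ(X, V.1), a ∈ (E ^ n).ideal V → a • m = 0) (x : X) (hx : x ∈ V.1)
    (hflat : x ∈ E.support → Module.Flat (X.presheaf.stalk x) (M.presheaf.stalk x)) :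
    M.presheaf.germ V.1 x hx m = 0 := by
  by_cases hxs : x ∈ E.support
  · obtain ⟨U, hxU, f, hf, hEU⟩ := hE x
    have hJ : ∀ r ∈ ((E.ideal V) ^ n).map (X.presheaf.germ V.1 x hx).hom,
        r • M.presheaf.germ V.1 x hx m = 0 := by
      have : ((E.ideal V) ^ n).map (X.presheaf.germ V.1 x hx).hom ≤
          LinearMap.ker (LinearMap.toSpanSingleton (X.presheaf.stalk x) (M.presheaf.stalk x)
            (M.presheaf.germ V.1 x hx m)) := by
        rw [Ideal.map_le_iff_le_comap]
        intro a ha
        rw [Ideal.mem_comap, LinearMap.mem_ker, LinearMap.toSpanSingleton_apply]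
        have h1 := germ_smul M x V.1 hx a m
        rw [hn a (by simpa using ha), map_zero] at h1
        exact h1.symm
      intro r hr
      have := this hr
      rwa [LinearMap.mem_ker, LinearMap.toSpanSingleton_apply] at this
    have hmem : (X.presheaf.germ U.1 x hxU f) ^ n ∈
        ((E.ideal V) ^ n).map (X.presheaf.germ V.1 x hx).hom := by
      rw [Ideal.map_pow, ← map_germ_ideal_eq E U V x hxU hx, hEU, Ideal.map_span,
        Set.image_singleton, Ideal.span_singleton_pow]
      exact Ideal.mem_span_singleton_self _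
    have hnzd : X.presheaf.germ U.1 x hxU f ∈ nonZeroDivisors (X.presheaf.stalk x) := by
      letI alg : Algebra Γ(X, U.1) (X.presheaf.stalk x) :=
        TopCat.Presheaf.algebra_section_stalk X.presheaf ⟨x, hxU⟩
      haveI := U.2.isLocalization_stalk ⟨x, hxU⟩
      exact IsLocalization.map_nonZeroDivisors_le (U.2.primeIdealOf ⟨x, hxU⟩).asIdeal.primeCompl
        (X.presheaf.stalk x) (Submonoid.mem_map_of_mem _ hf)
    haveI := hflat hxs
    have hreg : IsSMulRegular (M.presheaf.stalk x) ((X.presheaf.germ U.1 x hxU f) ^ n) :=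
      (Module.Flat.isSMulRegular_of_nonZeroDivisors hnzd).pow n
    exact hreg.right_eq_zero_of_smul (hJ _ hmem)
  · rw [Scheme.IdealSheafData.mem_support_iff_of_mem hx, Scheme.mem_zeroLocus_iff] at hxs
    push Not at hxs
    obtain ⟨f, hf, hxf⟩ := hxs
    have hu : IsUnit (X.presheaf.germ V.1 x hx (f ^ n)) := by
      rw [map_pow]
      exact ((Scheme.mem_basicOpen _ _ x hx).1 hxf).pow n
    have h1 := germ_smul M x V.1 hx (f ^ n) m
    rw [hn (f ^ n) (by
      rw [Scheme.IdealSheafData.ideal_pow]
      exact Ideal.pow_mem_pow hf n), map_zero] at h1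
    exact (hu.smul_eq_zero).1 h1.symm

theorem isStrictTransform_id {S S' : Scheme.{u}} (𝓘 : S.IdealSheafData) (b : S' ⟶ S)
    (hb : BlowUp.IsBlowUp b 𝓘)
    (F : S.Modules) (hF : Coh.IsQCoh F)
    (hflat : ∀ s : ↥S, s ∈ 𝓘.support → FlatMod.IsFlatAt F s) :
    BlowUp.IsStrictTransform b 𝓘 F ((Scheme.Modules.pullback b).obj F) (𝟙 _) := by
  haveI : F.IsQuasicoherent := hF
  refine ⟨inferInstance, fun V m => ?_⟩
  have hid : (Scheme.Modules.Hom.app (𝟙 ((Scheme.Modules.pullback b).obj F)) V.1) m = m := rfl
  rw [hid]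
  constructor
  · rintro rfl
    exact ⟨0, fun a _ => smul_zero a⟩
  · rintro ⟨n, hn⟩
    apply section_eq_zero_of_germ_eq_zero
    intro x hx
    refine germ_eq_zero_of_killed (𝓘.comap b) hb.1 _ V m n hn x hx ?_
    intro hxs
    rw [Scheme.IdealSheafData.support_comap] at hxs
    have hfl : FlatMod.IsFlatAt F (b x) := hflat (b x) hxs
    unfold FlatMod.IsFlatAt at hfl
    letI : Algebra (S.presheaf.stalk (b x)) (S'.presheaf.stalk x) := (b.stalkMap x).hom.toAlgebra
    obtain ⟨e⟩ := nonempty_stalk_pullback_linearEquiv b F x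
    exact Module.Flat.of_linearEquiv e
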