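import Groth.Agent.Lib.QCoh.Helper50_FTIdeal
import Groth.Agent.Lib.BlowUp.Basic
import Groth.Agent.Lib.Helper56.StrictTransFlat

/-!
# Extending admissible blow-ups from a quasi-compact open (helper56)

* `ideal_le_of_local` : an inequality of ideals of ideal sheaves on an affine open can be checked
  on affine neighbourhoods of the points.
* `exists_fg_extension` : on a qcqs scheme, an ideal sheaf `I₁` whose ideals on the affine opens
  inside a quasi-compact open `V` are finitely generated contains an ideal sheaf of finite type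
  which agrees with `I₁` on `V` (via helper66's `master_qcqs`, following helper50's `FTIdeal`).
* `comap_map_ι` : `(𝓘.map V.ι).comap V.ι = 𝓘` for a quasi-compact open immersion `V.ι`.
* `exists_admissible_extension` : Stacks 080P, first half.
-/

set_option autoImplicit false
set_option linter.style.haveILetI false
universe u
open CategoryTheory CategoryTheory.Limits AlgebraicGeometry TopologicalSpace

namespace Groth.Agent.Lib.Helper56.AdmExtend

open Groth.Agent.Lib.QCoh.Glue74 Groth.Agent.Lib.QCoh Groth.Agent.Lib.QCoh.SubExt Scheme.Modules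
open Groth.Agent.Lib.QCoh.FTIdeal Groth.Agent.Lib.Helper56.StrictTransFlat

variable {X : Scheme.{u}}

lemma ideal_le_of_local (I J : X.IdealSheafData) (W : X.affineOpens)
    (h : ∀ x ∈ W.1, ∃ U : X.affineOpens, x ∈ U.1 ∧ I.ideal U ≤ J.ideal U) :
    I.ideal W ≤ J.ideal W := by
  rw [W.2.ideal_le_iff]
  intro x hx
  obtain ⟨U, hxU, hle⟩ := h x hx
  rw [map_germ_ideal_eq I W U x hx hxU, map_germ_ideal_eq J W U x hx hxU]
  exact Ideal.map_mono hle

theorem exists_fg_extension [CompactSpace X] [QuasiSeparatedSpace X] (V : X.Opens)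
    (hV : IsCompact (V : Set X)) (I₁ : X.IdealSheafData)
    (hfg : ∀ (W : X.Opens) (hW : IsAffineOpen W), W ≤ V → (I₁.ideal ⟨W, hW⟩).FG) :
    ∃ J₀ : X.IdealSheafData, (∀ W : X.affineOpens, (J₀.ideal W).FG) ∧ J₀ ≤ I₁ ∧
      ∀ (W : X.Opens) (hW : IsAffineOpen W), W ≤ V →
        J₀.ideal ⟨W, hW⟩ = I₁.ideal ⟨W, hW⟩ := by
  have hFT : ((ClSub.idealMod I₁).restrict V.ι).IsFiniteType := by
    rw [isFiniteType_iff_forall_finite]
    intro W'
    have hW : IsAffineOpen (V.ι ''ᵁ W'.1) := W'.2.image_of_isOpenImmersion V.ι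
    have hWV : V.ι ''ᵁ W'.1 ≤ V := by
      intro x hx
      obtain ⟨y, -, rfl⟩ := hx
      exact y.2
    have e := EffCartier74.idealModΓEquivIdeal I₁ ⟨_, hW⟩
    have h1 : Module.Finite Γ(X, V.ι ''ᵁ W'.1) (I₁.ideal ⟨_, hW⟩) :=
      Module.Finite.iff_fg.mpr (hfg _ hW hWV)
    have h2 : Module.Finite Γ(X, V.ι ''ᵁ W'.1) Γ(ClSub.idealMod I₁, V.ι ''ᵁ W'.1) :=
      Module.Finite.equiv e.symm
    exact finite_restrict_of_finite V _ W'.1 h2
  obtain ⟨G', i', e, hmono, hq, hft, hcompat⟩ := master_qcqs V hV (ClSub.idealMod I₁)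
    ((ClSub.idealMod I₁).restrict V.ι) (𝟙 _)
  have hiso : IsIso ((restrictFunctor V.ι).map i') := by
    rw [← hcompat]; infer_instance
  have hbij := (Groth.Agent.Lib.Ample.isIso_restrict_iff_bijective i' V).1 hiso
  have hle : ofHom (i' ≫ ClSub.idealModι I₁) ≤ I₁ := by
    intro W a ha
    obtain ⟨s, rfl⟩ := ha
    change (show Γ(X, W.1) from (ClSub.idealModι I₁).app W.1 (i'.app W.1 s)) ∈ I₁.ideal W
    rw [idealModι_app_eq I₁ W]
    exact Subtype.property _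
  refine ⟨ofHom (i' ≫ ClSub.idealModι I₁), fun W => fg_rangeIdeal _ W.2, hle, ?_⟩
  intro W hW hWV
  apply le_antisymm (hle ⟨W, hW⟩)
  intro a ha
  obtain ⟨b, hb⟩ := (hbij W hWV).2
    ((EffCartier74.idealModΓEquivIdeal I₁ ⟨W, hW⟩).symm ⟨a, ha⟩)
  refine ⟨b, ?_⟩
  change (show Γ(X, W) from (ClSub.idealModι I₁).app W (i'.app W b)) = a
  rw [hb]
  have := idealModι_app_eq I₁ ⟨W, hW⟩
    ((EffCartier74.idealModΓEquivIdeal I₁ ⟨W, hW⟩).symm ⟨a, ha⟩)
  rw [LinearEquiv.apply_symm_apply] at this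
  exact this

lemma quasiCompact_ι [QuasiSeparatedSpace X] (V : X.Opens) (hV : IsCompact (V : Set X)) :
    QuasiCompact V.ι := by
  constructor
  intro K hKo hK
  have h1 : IsCompact (K ∩ Set.range V.ι) := by
    rw [Scheme.Opens.range_ι]
    exact QuasiSeparatedSpace.inter_isCompact K V hKo hK V.2 hV
  have := V.ι.isOpenEmbedding.isInducing.isCompact_preimage_iff (K := K ∩ Set.range V.ι)
    Set.inter_subset_right
  rw [Set.preimage_inter_range] at this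
  exact this.mpr h1

lemma comap_eqToHom_ideal {Y : Scheme.{u}} (𝓘 : Y.IdealSheafData) (O O' : Y.affineOpens)
    (h : O'.1 = O.1) :
    (𝓘.ideal O').comap (Y.presheaf.map (eqToHom h).op).hom = 𝓘.ideal O := by
  obtain ⟨O', hO'⟩ := O'
  obtain ⟨O, hO⟩ := O
  change O' = O at h
  subst h
  simp

theorem comap_map_ι (V : X.Opens) [QuasiCompact V.ι] (𝓘 : (V : Scheme.{u}).IdealSheafData) :
    (𝓘.map V.ι).comap V.ι = 𝓘 := by
  ext O : 2
  have H : IsAffineOpen (V.ι ⁻¹ᵁ (V.ι ''ᵁ O.1)) := by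
    rw [V.ι.preimage_image_eq]; exact O.2
  rw [Scheme.IdealSheafData.ideal_comap_of_isOpenImmersion,
    Scheme.IdealSheafData.ideal_map 𝓘 V.ι ⟨V.ι ''ᵁ O.1, O.2.image_of_isOpenImmersion V.ι⟩ H,
    Ideal.comap_comap, ← CommRingCat.hom_comp, Scheme.Hom.appIso_inv_app]
  exact comap_eqToHom_ideal 𝓘 O ⟨_, H⟩ _

theorem exists_admissible_extension [CompactSpace X] [QuasiSeparatedSpace X]
    (U V : X.Opens) (hU : IsCompact (U : Set X)) (hV : IsCompact (V : Set X))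
    (𝓘 : (V : Scheme.{u}).IdealSheafData) (h𝓘 : BlowUp.IsAdmissibleFor (V.ι ⁻¹ᵁ U) 𝓘) :
    ∃ 𝓙 : X.IdealSheafData, BlowUp.IsAdmissibleFor U 𝓙 ∧ 𝓙.comap V.ι = 𝓘 := by
  haveI := quasiCompact_ι V hV
  obtain ⟨hft, hdisj⟩ := h𝓘
  have hcm := comap_map_ι V 𝓘
  have hfg : ∀ (W : X.Opens) (hW : IsAffineOpen W), W ≤ V →
      ((𝓘.map V.ι).ideal ⟨W, hW⟩).FG := by
    intro W hW hWV
    have hWr : W ≤ V.ι.opensRange := by rw [Scheme.Opens.opensRange_ι]; exact hWV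
    have H : IsAffineOpen (V.ι ⁻¹ᵁ W) := hW.preimage_of_isOpenImmersion V.ι hWr
    rw [Scheme.IdealSheafData.ideal_map 𝓘 V.ι ⟨W, hW⟩ H]
    haveI : IsIso (V.ι.app W) := V.ι.isIso_app W hWr
    have h1 : (𝓘.ideal ⟨_, H⟩).comap (V.ι.app W).hom =
        (𝓘.ideal ⟨_, H⟩).map
          ((asIso (V.ι.app W)).commRingCatIsoToRingEquiv.symm : _ →+* _) :=
      (Ideal.map_symm (asIso (V.ι.app W)).commRingCatIsoToRingEquiv).symm
    rw [h1]
    exact (hft ⟨_, H⟩).map _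
  generalize 𝓘.map V.ι = I₁ at hcm hfg
  have hsupp : ∀ x : X, x ∈ V → x ∈ I₁.support → x ∉ U := by
    intro x hxV hxs hxU
    have h1 : (⟨x, hxV⟩ : V) ∈ (I₁.comap V.ι).support := by
      rw [Scheme.IdealSheafData.support_comap]
      exact hxs
    rw [hcm] at h1
    exact (Set.disjoint_left.mp hdisj) h1 hxU
  obtain ⟨J₀, hJ₀fg, hJ₀le, hJ₀eq⟩ := exists_fg_extension V hV I₁ hfg
  obtain ⟨𝓚, hKfg, hKsupp, hKtop⟩ := exists_fg_ideal_support_eq_compl U hU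
  obtain ⟨s, hs, hcov⟩ := (isCompact_and_isOpen_iff_finite_and_eq_biUnion_affineOpens
    (U := (V : Set X))).mp ⟨hV, V.2⟩
  have hsV : ∀ W ∈ s, W.1 ≤ V := by
    intro W hW x hx
    show x ∈ (V : Set X)
    rw [hcov]
    exact Set.mem_biUnion hW hx
  have hpow : ∀ W : X.affineOpens, W.1 ≤ V → ∃ n : ℕ, (𝓚.ideal W) ^ n ≤ I₁.ideal W := by
    intro W hWV
    apply Ideal.exists_pow_le_of_le_radical_of_fg _ (hKfg W)
    rw [← PrimeSpectrum.zeroLocus_subset_zeroLocus_iff]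
    intro p hp
    have hxW : W.2.fromSpec p ∈ W.1 := fromSpec_mem W.2 p
    have h1 : W.2.fromSpec p ∈ I₁.support := by
      rw [Scheme.IdealSheafData.mem_support_iff_of_mem hxW]
      have : p ∈ W.2.fromSpec ⁻¹' X.zeroLocus (I₁.ideal W : Set Γ(X, W.1)) := by
        rw [W.2.fromSpec_preimage_zeroLocus]; exact hp
      exact this
    have h2 : W.2.fromSpec p ∉ U := hsupp _ (hWV hxW) h1
    have h3 : W.2.fromSpec p ∈ 𝓚.support := by
      show W.2.fromSpec p ∈ (𝓚.support : Set X)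
      rw [hKsupp]; exact h2
    rw [Scheme.IdealSheafData.mem_support_iff_of_mem hxW] at h3
    have : p ∈ W.2.fromSpec ⁻¹' X.zeroLocus (𝓚.ideal W : Set Γ(X, W.1)) := h3
    rwa [W.2.fromSpec_preimage_zeroLocus] at this
  choose! n hn using hpow
  have hN : ∀ W ∈ s, (𝓚.ideal W) ^ (hs.toFinset.sup n) ≤ I₁.ideal W := by
    intro W hW
    exact (Ideal.pow_le_pow_right
      (Finset.le_sup (f := n) (hs.mem_toFinset.mpr hW))).trans (hn W (hsV W hW))
  generalize hs.toFinset.sup n = N at hN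
  have hKN : ∀ (W : X.Opens) (hW : IsAffineOpen W), W ≤ V →
      ((𝓚 ^ N).ideal ⟨W, hW⟩) ≤ I₁.ideal ⟨W, hW⟩ := by
    intro W hW hWV
    apply ideal_le_of_local
    intro x hx
    have : x ∈ (V : Set X) := hWV hx
    rw [hcov] at this
    obtain ⟨W', hW's, hxW'⟩ := Set.mem_iUnion₂.mp this
    exact ⟨W', hxW', by rw [Scheme.IdealSheafData.ideal_pow]; exact hN W' hW's⟩
  have hJeq : ∀ (W : X.Opens) (hW : IsAffineOpen W), W ≤ V →
      (J₀ ⊔ 𝓚 ^ N).ideal ⟨W, hW⟩ = I₁.ideal ⟨W, hW⟩ := by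
    intro W hW hWV
    rw [Scheme.IdealSheafData.ideal_sup]
    show J₀.ideal ⟨W, hW⟩ ⊔ (𝓚 ^ N).ideal ⟨W, hW⟩ = _
    rw [hJ₀eq W hW hWV]
    exact sup_eq_left.mpr (hKN W hW hWV)
  refine ⟨J₀ ⊔ 𝓚 ^ N, ⟨?_, ?_⟩, ?_⟩
  · intro W
    rw [Scheme.IdealSheafData.ideal_sup]
    show (J₀.ideal W ⊔ (𝓚 ^ N).ideal W).FG
    rw [Scheme.IdealSheafData.ideal_pow]
    exact Submodule.FG.sup (hJ₀fg W) (Ideal.FG.pow (hKfg W))
  · rw [Set.disjoint_left]
    intro x hxs hxU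
    obtain ⟨W, hW, hxW, hWU⟩ := exists_isAffineOpen_mem_and_subset (x := x) (U := U) hxU
    have h1 := (Scheme.IdealSheafData.mem_support_iff_of_mem (I := J₀ ⊔ 𝓚 ^ N)
      (U := ⟨W, hW⟩) hxW).1 hxs
    have htop : (J₀ ⊔ 𝓚 ^ N).ideal ⟨W, hW⟩ = ⊤ := by
      rw [eq_top_iff]
      have : (𝓚 ^ N).ideal ⟨W, hW⟩ = ⊤ := by
        rw [Scheme.IdealSheafData.ideal_pow]
        show (𝓚.ideal ⟨W, hW⟩) ^ N = ⊤
        rw [hKtop W hW hWU]
        exact Ideal.top_pow _ N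
      rw [← this]
      exact (le_sup_right : 𝓚 ^ N ≤ J₀ ⊔ 𝓚 ^ N) ⟨W, hW⟩
    rw [htop] at h1
    simp at h1
    exact h1 hxW
  · rw [← hcm]
    ext O : 2
    rw [Scheme.IdealSheafData.ideal_comap_of_isOpenImmersion,
      Scheme.IdealSheafData.ideal_comap_of_isOpenImmersion]
    congr 1
    apply hJeq
    intro x hx
    obtain ⟨y, -, rfl⟩ := hx
    exact y.2

/-- Stacks 080P: extending an admissible blow-up from a quasi-compact open. -/
theorem exists_admissible_blowUp_extension (X : Scheme.{u}) [CompactSpace ↥X]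
    [QuasiSeparatedSpace ↥X]
    (U V : X.Opens) (hU : IsCompact (U : Set ↥X)) (hV : IsCompact (V : Set ↥X))
    (𝓘 : (V : Scheme.{u}).IdealSheafData) (h𝓘 : BlowUp.IsAdmissibleFor (V.ι ⁻¹ᵁ U) 𝓘) :
    ∃ 𝓙 : X.IdealSheafData, BlowUp.IsAdmissibleFor U 𝓙 ∧ 𝓙.comap V.ι = 𝓘 ∧
      ∀ (X' : Scheme.{u}) (c : X' ⟶ X), BlowUp.IsBlowUp c 𝓙 → BlowUp.IsBlowUp (c ∣_ V) 𝓘 := by
  obtain ⟨𝓙, h1, h2⟩ := exists_admissible_extension U V hU hV 𝓘 h𝓘
  refine ⟨𝓙, h1, h2, fun X' c hc => ?_⟩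
  rw [← h2]
  exact Groth.Agent.Lib.BlowUp.UP.isBlowUp_of_isPullback V.ι c (c ⁻¹ᵁ V).ι (c ∣_ V)
    (isPullback_morphismRestrict c V).flip 𝓙 hc

end Groth.Agent.Lib.Helper56.AdmExtend
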