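import Groth.Agent.Lib.Helper56.ModPairAmbProd

/-!
# Functoriality of ambient products of modulus pairs in the base (helper56)

ns `Groth.Agent.Lib.Helper56.ModPairAmbFun`.
-/

set_option autoImplicit false
universe u

open CategoryTheory CategoryTheory.Limits AlgebraicGeometry TopologicalSpace
open ModPair

namespace Groth.Agent.Lib.Helper56.ModPairAmbFun

open Groth.Agent.Lib.Helper56.ModPairSplit Groth.Agent.Lib.Helper56.ModPairBase
  Groth.Agent.Lib.Helper56.ModPairFrac Groth.Agent.Lib.Helper56.ModPairDense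
  Groth.Agent.Lib.Helper56.ModPairAmbProd

/-- A morphism which sends a scheme-theoretically dense open into `U` factors through the
scheme-theoretic closure of `U`. -/
theorem exists_factor_image {Y P : Scheme.{u}} (ψ : Y ⟶ P) (U : P.Opens) (W : Y.Opens)
    (hW : W.ι.ker = ⊥) (hWU : W ≤ ψ ⁻¹ᵁ U) :
    ∃ ψ' : Y ⟶ U.ι.image, ψ' ≫ U.ι.imageι = ψ := by
  have hrange : Set.range (W.ι ≫ ψ) ⊆ Set.range U.ι := by
    rintro _ ⟨w, rfl⟩
    rw [Scheme.Opens.range_ι]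
    exact hWU w.2
  let m := IsOpenImmersion.lift U.ι (W.ι ≫ ψ) hrange
  have hm : m ≫ U.ι = W.ι ≫ ψ := IsOpenImmersion.lift_fac _ _ _
  have hker : U.ι.ker ≤ ψ.ker := by
    have h1 : (W.ι ≫ ψ).ker = ψ.ker := by
      rw [Scheme.Hom.ker_comp, hW, Scheme.IdealSheafData.map_bot]
    rw [← h1, ← hm]
    exact Scheme.Hom.le_ker_comp _ _
  refine ⟨ψ.toImage ≫ Scheme.IdealSheafData.inclusion hker, ?_⟩
  rw [Category.assoc, Scheme.IdealSheafData.inclusion_subschemeι]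
  exact ψ.toImage_imageι

/-- cancellation of an effective Cartier ideal -/
theorem le_of_mul_le_mul_right {Y : Scheme.{u}} (A B E : Y.IdealSheafData)
    (hE : BlowUp.IsEffCartierIdeal E) (h : A * E ≤ B * E) : A ≤ B := by
  choose W hyW e he heq using hE
  refine Scheme.IdealSheafData.le_of_iSup_eq_top W ?_ (fun y => ?_)
  · rw [eq_top_iff]
    intro y _
    exact Opens.mem_iSup.mpr ⟨y, hyW y⟩
  · intro a ha
    have h1 : a * e y ∈ B.ideal (W y) * Ideal.span {e y} := by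
      have h2 : a * e y ∈ A.ideal (W y) * E.ideal (W y) :=
        Ideal.mul_mem_mul ha (by rw [heq y]; exact Ideal.mem_span_singleton_self _)
      have h3 : (A * E).ideal (W y) ≤ (B * E).ideal (W y) := h (W y)
      have h4 := h3 h2
      rw [Scheme.IdealSheafData.ideal_mul] at h4
      change a * e y ∈ B.ideal (W y) * E.ideal (W y) at h4
      rw [heq y] at h4
      exact h4
    obtain ⟨b, hb, hbe⟩ := Ideal.mem_mul_span_singleton.mp h1
    have h5 : (a - b) * e y = 0 := by rw [sub_mul, hbe, sub_self]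
    have h6 : a - b = 0 := (mem_nonZeroDivisors_iff_right.mp (he y)) _ h5
    rw [sub_eq_zero.mp h6]
    exact hb

theorem eq_of_mul_eq_mul_right {Y : Scheme.{u}} (A B E : Y.IdealSheafData)
    (hE : BlowUp.IsEffCartierIdeal E) (h : A * E = B * E) : A = B :=
  le_antisymm (le_of_mul_le_mul_right A B E hE (le_of_eq h))
    (le_of_mul_le_mul_right B A E hE (le_of_eq h.symm))

section

variable {S₀ S₁ T X Y₁ Y₀ : Scheme.{u}} (J : T.IdealSheafData) (I : X.IdealSheafData)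
  (hT : BlowUp.IsEffCartierIdeal J) (hX : BlowUp.IsEffCartierIdeal I)
  (f : X ⟶ S₁) (g : T ⟶ S₁) (σ : S₁ ⟶ S₀)
  (π₁ : Y₁ ⟶ mprod f g I J) (K₁ : Y₁.IdealSheafData) (hY₁ : IsAmbProd f g I J π₁ K₁)
  (π₀ : Y₀ ⟶ mprod (f ≫ σ) (g ≫ σ) I J) (K₀ : Y₀.IdealSheafData)
  (hY₀ : IsAmbProd (f ≫ σ) (g ≫ σ) I J π₀ K₀)

include hT hX hY₁ hY₀

theorem existsUnique_map :
    ∃! φ : Y₁ ⟶ Y₀, φ ≫ π₀ ≫ mprodι (f ≫ σ) (g ≫ σ) I J =
      π₁ ≫ mprodι f g I J ≫ pullback.mapDesc f g σ := by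
  obtain ⟨hsd, -⟩ := isSchemeTheoreticallyDominant_preimage_prodInterior J I hT hX f g π₁ K₁ hY₁
  have hfst : pullback.mapDesc f g σ ≫ pullback.fst (f ≫ σ) (g ≫ σ) = pullback.fst f g :=
    (pullback.lift_fst _ _ _).trans (Category.comp_id _)
  have hsnd : pullback.mapDesc f g σ ≫ pullback.snd (f ≫ σ) (g ≫ σ) = pullback.snd f g :=
    (pullback.lift_snd _ _ _).trans (Category.comp_id _)
  have hWU : (π₁ ≫ mprodι f g I J) ⁻¹ᵁ prodInterior f g I J ≤
      (π₁ ≫ mprodι f g I J ≫ pullback.mapDesc f g σ) ⁻¹ᵁ prodInterior (f ≫ σ) (g ≫ σ) I J := by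
    intro y hy
    refine ⟨?_, ?_⟩
    · change (pullback.fst (f ≫ σ) (g ≫ σ))
        ((π₁ ≫ mprodι f g I J ≫ pullback.mapDesc f g σ) y) ∈ interior I
      rw [← Scheme.Hom.comp_apply, Category.assoc, Category.assoc, hfst]
      exact hy.1
    · change (pullback.snd (f ≫ σ) (g ≫ σ))
        ((π₁ ≫ mprodι f g I J ≫ pullback.mapDesc f g σ) y) ∈ interior J
      rw [← Scheme.Hom.comp_apply, Category.assoc, Category.assoc, hsnd]
      exact hy.2
  obtain ⟨ψ', hψ'⟩ := exists_factor_image (π₁ ≫ mprodι f g I J ≫ pullback.mapDesc f g σ)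
    (prodInterior (f ≫ σ) (g ≫ σ) I J) _ hsd.ker_eq_bot hWU
  have hψ'' : ψ' ≫ mprodι (f ≫ σ) (g ≫ σ) I J =
      π₁ ≫ mprodι f g I J ≫ pullback.mapDesc f g σ := hψ'
  have hcart : BlowUp.IsEffCartierIdeal ((prodCentre (f ≫ σ) (g ≫ σ) I J).comap ψ') := by
    have h := isEffCartierIdeal_sup J I hT hX f g π₁ K₁ hY₁
    unfold prodCentre
    rw [Scheme.IdealSheafData.comap_sup, ← Scheme.IdealSheafData.comap_comp,
      ← Scheme.IdealSheafData.comap_comp, ← Category.assoc, ← Category.assoc, hψ'']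
    simp only [Category.assoc, hfst, hsnd]
    exact h
  obtain ⟨φ, hφ, hφu⟩ := hY₀.1.2 Y₁ ψ' hcart
  have hφ' : φ ≫ π₀ = ψ' := hφ
  refine ⟨φ, ?_, ?_⟩
  · change φ ≫ π₀ ≫ mprodι (f ≫ σ) (g ≫ σ) I J = _
    rw [← Category.assoc, hφ', hψ'']
  · intro φ' hφ'2
    apply hφu
    change φ' ≫ π₀ = ψ'
    rw [← cancel_mono (mprodι (f ≫ σ) (g ≫ σ) I J), Category.assoc, hφ'2, hψ'']

theorem isMinimal_map (φ : Y₁ ⟶ Y₀)
    (hφ : φ ≫ π₀ ≫ mprodι (f ≫ σ) (g ≫ σ) I J =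
      π₁ ≫ mprodι f g I J ≫ pullback.mapDesc f g σ) : IsMinimal K₁ K₀ φ := by
  have hfst : pullback.mapDesc f g σ ≫ pullback.fst (f ≫ σ) (g ≫ σ) = pullback.fst f g :=
    (pullback.lift_fst _ _ _).trans (Category.comp_id _)
  have hsnd : pullback.mapDesc f g σ ≫ pullback.snd (f ≫ σ) (g ≫ σ) = pullback.snd f g :=
    (pullback.lift_snd _ _ _).trans (Category.comp_id _)
  have h0 := mul_eq J I hT hX (f ≫ σ) (g ≫ σ) π₀ K₀ hY₀
  have h1 := mul_eq J I hT hX f g π₁ K₁ hY₁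
  have hE := isEffCartierIdeal_sup J I hT hX f g π₁ K₁ hY₁
  have hI : (I.comap (π₀ ≫ mprodι (f ≫ σ) (g ≫ σ) I J ≫ pullback.fst (f ≫ σ) (g ≫ σ))).comap φ =
      I.comap (π₁ ≫ mprodι f g I J ≫ pullback.fst f g) := by
    rw [← Scheme.IdealSheafData.comap_comp]
    congr 1
    rw [← Category.assoc, ← Category.assoc, Category.assoc φ, hφ]
    simp only [Category.assoc, hfst]
  have hJ : (J.comap (π₀ ≫ mprodι (f ≫ σ) (g ≫ σ) I J ≫ pullback.snd (f ≫ σ) (g ≫ σ))).comap φ =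
      J.comap (π₁ ≫ mprodι f g I J ≫ pullback.snd f g) := by
    rw [← Scheme.IdealSheafData.comap_comp]
    congr 1
    rw [← Category.assoc, ← Category.assoc, Category.assoc φ, hφ]
    simp only [Category.assoc, hsnd]
  have h2 := congrArg (fun L : Y₀.IdealSheafData => L.comap φ) h0
  simp only [Groth.Agent.Lib.Helper20.comap_mul, Scheme.IdealSheafData.comap_sup, hI, hJ] at h2
  change K₁ = K₀.comap φ
  exact eq_of_mul_eq_mul_right _ _ _ hE (h1.trans h2.symm)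

end

end Groth.Agent.Lib.Helper56.ModPairAmbFun
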