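import Groth.Agent.Lib.Helper56.AlmostSub
import Groth.Agent.Lib.Helper56.ModPairAmbFun
import Groth.Agent.Lib.BlowUp.CartierCompl

/-!
# Base change of almost blow-up squares (helper56)

ns `Groth.Agent.Lib.Helper56.AlmostBase`.
-/

set_option autoImplicit false
universe u
open CategoryTheory CategoryTheory.Limits AlgebraicGeometry TopologicalSpace Opposite

namespace Groth.Agent.Lib.Helper56.AlmostBase

open Groth.Agent.Lib.Helper56.HBlowUp Groth.Agent.Lib.Helper56.AlmostSub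

theorem isAffineHom_awayFrom_ι {P : Scheme.{u}} (𝓛 : P.IdealSheafData)
    (h𝓛 : HTop.IsLocPrincipal 𝓛) : IsAffineHom (HTop.awayFrom 𝓛).ι := by
  have hW : ((HTop.awayFrom 𝓛 : P.Opens) : Set P) = (𝓛.support : Set P)ᶜ := Closeds.coe_compl _
  refine isAffineHom_of_forall_exists_isAffineOpen _ (fun x => ?_)
  obtain ⟨V, hxV, t, ht⟩ := h𝓛 x
  refine ⟨V.1, hxV, V.2, ?_⟩
  rw [← (HTop.awayFrom 𝓛).ι.isAffineOpen_iff_of_isOpenImmersion,
    Scheme.Hom.image_preimage_eq_opensRange_inf, Scheme.Opens.opensRange_ι,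
    Groth.Agent.Lib.BlowUp.CartierCompl.inf_eq_basicOpen 𝓛 _ hW V t ht]
  exact V.2.basicOpen t

lemma isUnit_map_of_eq_basicOpen {T : Scheme.{u}} {V : T.Opens} (t : Γ(T, V)) (O : T.Opens)
    (hO : O = T.basicOpen t) (h : O ≤ V) :
    IsUnit ((T.presheaf.map (homOfLE h).op).hom t) := by
  subst hO
  exact RingedSpace.isUnit_res_basicOpen _ t

/-- the inverse image of a locally principal ideal on the scheme-theoretic closure of the
complement of its support is effective Cartier -/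
theorem isEffCartierIdeal_comap_supportedOn {P : Scheme.{u}} (𝓛 : P.IdealSheafData)
    (h𝓛 : HTop.IsLocPrincipal 𝓛) :
    BlowUp.IsEffCartierIdeal (𝓛.comap (HTop.supportedOn 𝓛).subschemeι) := by
  have hW : ((HTop.awayFrom 𝓛 : P.Opens) : Set P) = (𝓛.support : Set P)ᶜ := Closeds.coe_compl _
  have haff := isAffineHom_awayFrom_ι 𝓛 h𝓛
  have hqc : QuasiCompact (HTop.awayFrom 𝓛).ι := inferInstance
  intro v
  obtain ⟨U, hxU, t, ht⟩ := h𝓛 ((HTop.supportedOn 𝓛).subschemeι v)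
  have hV' : IsAffineOpen ((HTop.supportedOn 𝓛).subschemeι ⁻¹ᵁ U.1) :=
    U.2.preimage (HTop.supportedOn 𝓛).subschemeι
  have h2 : (HTop.supportedOn 𝓛).subschemeι.ker = (HTop.awayFrom 𝓛).ι.ker :=
    Scheme.IdealSheafData.ker_subschemeι _
  refine ⟨⟨(HTop.supportedOn 𝓛).subschemeι ⁻¹ᵁ U.1, hV'⟩, hxU,
    ((HTop.supportedOn 𝓛).subschemeι.appLE U.1 ((HTop.supportedOn 𝓛).subschemeι ⁻¹ᵁ U.1)
      le_rfl).hom t, ?_, ?_⟩
  · rw [Scheme.Hom.appLE_eq_app, mem_nonZeroDivisors_iff_right]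
    intro y hy
    obtain ⟨s, rfl⟩ := (HTop.supportedOn 𝓛).subschemeι.app_surjective U.1 U.2 y
    have hst : ((HTop.supportedOn 𝓛).subschemeι.app U.1).hom (s * t) = 0 := by
      rw [map_mul]
      exact hy
    have h1 : s * t ∈ (HTop.supportedOn 𝓛).subschemeι.ker.ideal U := by
      rw [Scheme.Hom.ker_apply]
      exact hst
    rw [h2, Scheme.Hom.ker_apply] at h1
    have h3 : ((HTop.awayFrom 𝓛).ι.app U.1).hom (s * t) = 0 := h1
    have hunit : IsUnit (((HTop.awayFrom 𝓛).ι.app U.1).hom t) :=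
      isUnit_map_of_eq_basicOpen t ((HTop.awayFrom 𝓛).ι ''ᵁ (HTop.awayFrom 𝓛).ι ⁻¹ᵁ U.1)
        (by rw [Scheme.Hom.image_preimage_eq_opensRange_inf, Scheme.Opens.opensRange_ι,
          Groth.Agent.Lib.BlowUp.CartierCompl.inf_eq_basicOpen 𝓛 _ hW U t ht]) _
    have h4 : ((HTop.awayFrom 𝓛).ι.app U.1).hom s = 0 := by
      rw [map_mul] at h3
      exact (hunit.mul_left_eq_zero).mp h3
    have h5 : s ∈ (HTop.supportedOn 𝓛).subschemeι.ker.ideal U := by
      rw [h2, Scheme.Hom.ker_apply]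
      exact h4
    rw [Scheme.Hom.ker_apply] at h5
    exact h5
  · rw [Groth.Agent.Lib.Helper20.ideal_comap (HTop.supportedOn 𝓛).subschemeι 𝓛 ⟨_, hV'⟩ U le_rfl,
      ht, Ideal.map_span, Set.image_singleton]

section base

variable {Z X Y Z₁ : Scheme.{u}} {i : Z ⟶ X} {g : Y ⟶ X} {i₁ : Z₁ ⟶ Y} {gZ : Z₁ ⟶ Z}

theorem ker_of_isPullback [IsClosedImmersion i] (hZ : IsPullback gZ i₁ i g) :
    i₁.ker = i.ker.comap g := by
  have h1 : hZ.flip.isoPullback.hom ≫ pullback.fst g i = i₁ := hZ.flip.isoPullback_hom_fst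
  rw [← h1, Scheme.Hom.ker_comp_of_isIso, Scheme.IdealSheafData.ker_fst_of_isClosedImmersion]

theorem range_eq_preimage_of_isPullback [IsClosedImmersion i] [IsClosedImmersion i₁]
    (hZ : IsPullback gZ i₁ i g) : Set.range i₁ = g ⁻¹' Set.range i := by
  rw [← support_ker_eq i₁, ker_of_isPullback hZ, Scheme.IdealSheafData.support_comap,
    Closeds.coe_preimage, support_ker_eq]

end base

theorem almost_baseChange {E Z X' X Y E₁ Z₁ X₁ : Scheme.{u}} {e : E ⟶ X'} {π : E ⟶ Z}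
    {b : X' ⟶ X} {i : Z ⟶ X} (h : HTop.IsAlmostBlowUpSquare e π b i) (g : Y ⟶ X)
    {b₁ : X₁ ⟶ Y} {gX : X₁ ⟶ X'} (hX : IsPullback gX b₁ b g)
    {i₁ : Z₁ ⟶ Y} {gZ : Z₁ ⟶ Z} (hZ : IsPullback gZ i₁ i g)
    {e₁ : E₁ ⟶ X₁} {gE : E₁ ⟶ E} (hE : IsPullback gE e₁ e gX)
    {π₁ : E₁ ⟶ Z₁} (hπ : π₁ ≫ i₁ = e₁ ≫ b₁) : HTop.IsAlmostBlowUpSquare e₁ π₁ b₁ i₁ := by
  have hci := h.isClosedImmersion
  have hifp := h.finitePresentation_base
  have hbp := h.isProper
  have hbfp := h.finitePresentation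
  have hci₁ : IsClosedImmersion i₁ := MorphismProperty.of_isPullback hZ hci
  have hifp₁ : LocallyOfFinitePresentation i₁ := MorphismProperty.of_isPullback hZ hifp
  have hbp₁ : IsProper b₁ := MorphismProperty.of_isPullback hX hbp
  have hbfp₁ : LocallyOfFinitePresentation b₁ := MorphismProperty.of_isPullback hX hbfp
  have hker₁ : i₁.ker = i.ker.comap g := ker_of_isPullback hZ
  have hL₁ : i₁.ker.comap b₁ = (i.ker.comap b).comap gX := by
    rw [hker₁, ← Scheme.IdealSheafData.comap_comp, ← hX.w, Scheme.IdealSheafData.comap_comp]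
  have hmono : Mono i := inferInstance
  have hπZ : gE ≫ π = π₁ ≫ gZ := by
    rw [← cancel_mono i]
    calc (gE ≫ π) ≫ i = gE ≫ e ≫ b := by rw [Category.assoc, h.isPullback.w]
      _ = (e₁ ≫ gX) ≫ b := by rw [← Category.assoc, hE.w]
      _ = e₁ ≫ b₁ ≫ g := by rw [Category.assoc, hX.w]
      _ = (π₁ ≫ i₁) ≫ g := by rw [← Category.assoc, hπ]
      _ = (π₁ ≫ gZ) ≫ i := by rw [Category.assoc, ← hZ.w, Category.assoc]
  have hpb : IsPullback e₁ π₁ b₁ i₁ := by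
    have R1 : IsPullback e₁ (gE ≫ π) (gX ≫ b) i := hE.flip.paste_vert h.isPullback
    rw [hπZ, hX.w] at R1
    exact IsPullback.of_bot R1 hπ.symm hZ.flip
  have hlp : HTop.IsLocPrincipal (i₁.ker.comap b₁) := by
    rw [hL₁]
    exact isLocPrincipal_comap gX _ h.locPrincipal
  refine ⟨hci₁, hifp₁, hpb, hlp, hbp₁, hbfp₁, ?_⟩
  -- the blow-up property
  refine ⟨?_, ?_⟩
  · rw [Scheme.IdealSheafData.comap_comp]
    exact isEffCartierIdeal_comap_supportedOn _ hlp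
  · intro T q hq
    have hq' : BlowUp.IsEffCartierIdeal (i.ker.comap (q ≫ g)) := by
      rw [Scheme.IdealSheafData.comap_comp, ← hker₁]
      exact hq
    obtain ⟨k, hk, -⟩ := h.isBlowUp.2 T (q ≫ g) hq'
    have hk' : (k ≫ (HTop.supportedOn (i.ker.comap b)).subschemeι) ≫ b = q ≫ g := by
      rw [Category.assoc]
      exact hk
    let ψ : T ⟶ X₁ := hX.lift (k ≫ (HTop.supportedOn (i.ker.comap b)).subschemeι) q hk'
    have hψ1 : ψ ≫ gX = k ≫ (HTop.supportedOn (i.ker.comap b)).subschemeι := hX.lift_fst _ _ _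
    have hψ2 : ψ ≫ b₁ = q := hX.lift_snd _ _ _
    let W : T.Opens := HTop.awayFrom (i₁.ker.comap q)
    have hW : (W : Set T) = ((i₁.ker.comap q).support : Set T)ᶜ := Closeds.coe_compl _
    have hWker : W.ι.ker = ⊥ := Groth.Agent.Lib.BlowUp.CartierCompl.ker_ι W hW hq
    have hWU : W ≤ ψ ⁻¹ᵁ HTop.awayFrom (i₁.ker.comap b₁) := by
      intro z hz
      show ψ z ∈ HTop.awayFrom (i₁.ker.comap b₁)
      rw [mem_awayFrom_iff b₁ (ψ z)]
      have h6 : b₁ (ψ z) = q z := by rw [← Scheme.Hom.comp_apply, hψ2]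
      rw [h6]
      exact (mem_awayFrom_iff q z).mp hz
    obtain ⟨ψ', hψ'c⟩ : ∃ ψ' : T ⟶ (HTop.supportedOn (i₁.ker.comap b₁)).subscheme,
        ψ' ≫ (HTop.supportedOn (i₁.ker.comap b₁)).subschemeι = ψ :=
      Groth.Agent.Lib.Helper56.ModPairAmbFun.exists_factor_image ψ
        (HTop.awayFrom (i₁.ker.comap b₁)) W hWker hWU
    have hrange := range_eq_preimage_of_isPullback hZ
    have key : ∀ ℓ' : T ⟶ (HTop.supportedOn (i₁.ker.comap b₁)).subscheme,
        ℓ' ≫ (HTop.supportedOn (i₁.ker.comap b₁)).subschemeι ≫ b₁ = q →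
        ℓ' ≫ (HTop.supportedOn (i₁.ker.comap b₁)).subschemeι ≫ gX = ψ ≫ gX := by
      intro ℓ' hℓ'
      have e1 : (ℓ' ≫ (HTop.supportedOn (i₁.ker.comap b₁)).subschemeι ≫ gX) ≫ b = q ≫ g := by
        calc (ℓ' ≫ (HTop.supportedOn (i₁.ker.comap b₁)).subschemeι ≫ gX) ≫ b
            = ℓ' ≫ (HTop.supportedOn (i₁.ker.comap b₁)).subschemeι ≫ gX ≫ b := by
              simp only [Category.assoc]
          _ = ℓ' ≫ (HTop.supportedOn (i₁.ker.comap b₁)).subschemeι ≫ b₁ ≫ g := by rw [hX.w]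
          _ = (ℓ' ≫ (HTop.supportedOn (i₁.ker.comap b₁)).subschemeι ≫ b₁) ≫ g := by
              simp only [Category.assoc]
          _ = q ≫ g := by rw [hℓ']
      have e2 : (ψ ≫ gX) ≫ b = q ≫ g := by rw [Category.assoc, hX.w, ← Category.assoc, hψ2]
      refine Groth.Agent.Lib.Helper56.ModPairFrac.ext_of_ker_eq_bot_of_isSeparated b
        (e1.trans e2.symm) W.ι hWker ?_
      have e3 : (W.ι ≫ ℓ' ≫ (HTop.supportedOn (i₁.ker.comap b₁)).subschemeι ≫ gX) ≫ b =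
          (W.ι ≫ ψ ≫ gX) ≫ b := by
        rw [Category.assoc W.ι, Category.assoc W.ι, e1, e2]
      apply almost_eq_of_comp_eq h _ _ e3
      · intro z
        rw [Category.assoc W.ι, e1]
        have hz : q (W.ι z) ∉ Set.range i₁ := (mem_awayFrom_iff q (W.ι z)).mp z.2
        rw [hrange] at hz
        exact hz
    refine ⟨ψ', ?_, ?_⟩
    · show ψ' ≫ (HTop.supportedOn (i₁.ker.comap b₁)).subschemeι ≫ b₁ = q
      rw [← Category.assoc, hψ'c, hψ2]
    · intro ℓ hℓ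
      have hℓ' : ℓ ≫ (HTop.supportedOn (i₁.ker.comap b₁)).subschemeι ≫ b₁ = q := hℓ
      rw [← cancel_mono (HTop.supportedOn (i₁.ker.comap b₁)).subschemeι]
      apply hX.hom_ext
      · rw [Category.assoc, key ℓ hℓ', hψ'c]
      · rw [Category.assoc, hℓ', hψ'c, hψ2]

end Groth.Agent.Lib.Helper56.AlmostBase
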