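import Groth.Agent.Lib.Helper56.HBlowUp
import Groth.Agent.Lib.Helper20.IdealComap

/-!
# Closed subschemes of almost blow-up squares (helper56)

ns `Groth.Agent.Lib.Helper56.AlmostSub`.
-/

set_option autoImplicit false
universe u
open CategoryTheory CategoryTheory.Limits AlgebraicGeometry TopologicalSpace Opposite

namespace Groth.Agent.Lib.Helper56.AlmostSub

open Groth.Agent.Lib.Helper56.HBlowUp

/-- inverse image of a locally principal ideal is locally principal -/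
theorem isLocPrincipal_comap {X Y : Scheme.{u}} (f : Y ⟶ X) (𝓘 : X.IdealSheafData)
    (h : HTop.IsLocPrincipal 𝓘) : HTop.IsLocPrincipal (𝓘.comap f) := by
  intro y
  obtain ⟨U, hyU, a, ha⟩ := h (f y)
  obtain ⟨_, ⟨V, hV, rfl⟩, hyV, hVU⟩ :=
    (Scheme.isBasis_affineOpens Y).exists_subset_of_mem_open
      (show y ∈ ((f ⁻¹ᵁ U.1 : Y.Opens) : Set Y) from hyU) (f ⁻¹ᵁ U.1).isOpen
  have hVU' : V ≤ f ⁻¹ᵁ U.1 := fun x hx => hVU hx
  refine ⟨⟨V, hV⟩, hyV, (f.appLE U.1 V hVU').hom a, ?_⟩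
  rw [Groth.Agent.Lib.Helper20.ideal_comap f 𝓘 ⟨V, hV⟩ U hVU', ha, Ideal.map_span,
    Set.image_singleton]

theorem isEffCartierIdeal_comap_of_isIso {X Y : Scheme.{u}} (φ : Y ⟶ X) [IsIso φ]
    (𝓚 : X.IdealSheafData) (h : BlowUp.IsEffCartierIdeal 𝓚) :
    BlowUp.IsEffCartierIdeal (𝓚.comap φ) := by
  intro y
  obtain ⟨U, hyU, a, ha, hUa⟩ := h (φ y)
  have hV : IsAffineOpen (φ ⁻¹ᵁ U.1) := U.2.preimage_of_isIso φ
  refine ⟨⟨φ ⁻¹ᵁ U.1, hV⟩, hyU, (φ.appLE U.1 (φ ⁻¹ᵁ U.1) le_rfl).hom a, ?_, ?_⟩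
  · rw [Scheme.Hom.appLE_eq_app]
    let ψ : Γ(X, U.1) ≃+* Γ(Y, φ ⁻¹ᵁ U.1) := (asIso (φ.app U.1)).commRingCatIsoToRingEquiv
    have hψ : (φ.app U.1).hom a = ψ a := rfl
    rw [hψ, mem_nonZeroDivisors_iff_right]
    intro x hx
    have h0 : ψ.symm x * a = 0 := by
      apply ψ.injective
      rw [map_mul, RingEquiv.apply_symm_apply, hx, map_zero]
    have h1 : ψ.symm x = 0 := (mem_nonZeroDivisors_iff_right.mp ha) _ h0
    have h2 : ψ (ψ.symm x) = ψ 0 := by rw [h1]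
    rwa [RingEquiv.apply_symm_apply, map_zero] at h2
  · rw [Groth.Agent.Lib.Helper20.ideal_comap φ 𝓚 ⟨_, hV⟩ U le_rfl, hUa, Ideal.map_span,
      Set.image_singleton]

theorem isBlowUp_iso_comp {X X₁ X₂ : Scheme.{u}} (φ : X₁ ⟶ X₂) [IsIso φ] (b : X₂ ⟶ X)
    (𝓘 : X.IdealSheafData) (hb : BlowUp.IsBlowUp b 𝓘) : BlowUp.IsBlowUp (φ ≫ b) 𝓘 := by
  refine ⟨?_, ?_⟩
  · rw [Scheme.IdealSheafData.comap_comp]
    exact isEffCartierIdeal_comap_of_isIso φ _ hb.1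
  · intro Y g hg
    obtain ⟨h', hh', huniq⟩ := hb.2 Y g hg
    refine ⟨h' ≫ inv φ, ?_, ?_⟩
    · show (h' ≫ inv φ) ≫ φ ≫ b = g
      rw [Category.assoc, IsIso.inv_hom_id_assoc, hh']
    · intro h₂ hh₂
      have : h₂ ≫ φ = h' := huniq _ (by show (h₂ ≫ φ) ≫ b = g; rw [Category.assoc]; exact hh₂)
      rw [← this, Category.assoc, IsIso.hom_inv_id, Category.comp_id]

section sub

variable {E Z X' X W EW : Scheme.{u}} {e : E ⟶ X'} {π : E ⟶ Z} {b : X' ⟶ X} {i : Z ⟶ X}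

/-- membership in `awayFrom (i.ker.comap b)` -/
theorem mem_awayFrom_iff [IsClosedImmersion i] {X'' : Scheme.{u}} (b : X'' ⟶ X) (y : X'') :
    y ∈ HTop.awayFrom (i.ker.comap b) ↔ b y ∉ Set.range i := by
  have hOset : ((HTop.awayFrom (i.ker.comap b) : X''.Opens) : Set X'') =
      b ⁻¹' (Set.range i)ᶜ := by
    show (((i.ker.comap b).support.compl : Opens X'') : Set X'') = _
    rw [Closeds.coe_compl, Scheme.IdealSheafData.support_comap, Closeds.coe_preimage,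
      support_ker_eq]
    rfl
  have : y ∈ ((HTop.awayFrom (i.ker.comap b) : X''.Opens) : Set X'') ↔
      b y ∉ Set.range i := by
    rw [hOset]
    rfl
  exact this

theorem le_of_almost (h : HTop.IsAlmostBlowUpSquare e π b i) (w : W ⟶ X')
    {eW : EW ⟶ W} {πW : EW ⟶ Z}
    (h' : HTop.IsAlmostBlowUpSquare eW πW (w ≫ b) i) :
    w.ker ≤ HTop.supportedOn (i.ker.comap b) := by
  have := h.isClosedImmersion
  let O : X'.Opens := HTop.awayFrom (i.ker.comap b)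
  let U : X.Opens := complS i
  let c' := (HTop.supportedOn (i.ker.comap (w ≫ b))).subschemeι
  have hiso : IsIso ((c' ≫ w ≫ b) ∣_ U) := isIso_restrict_complS _ i h'.isBlowUp
  have hOU : ∀ t : (O : Scheme.{u}), (O.ι ≫ b) t ∉ Set.range i := by
    intro t
    exact (mem_awayFrom_iff b (O.ι t)).mp t.2
  have hrange : Set.range (O.ι ≫ b) ⊆ Set.range U.ι := by
    rintro _ ⟨t, rfl⟩
    rw [Scheme.Opens.range_ι]
    exact hOU t
  let l : (O : Scheme.{u}) ⟶ U := IsOpenImmersion.lift U.ι (O.ι ≫ b) hrange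
  have hl : l ≫ U.ι = O.ι ≫ b := IsOpenImmersion.lift_fac _ _ _
  let σ : (O : Scheme.{u}) ⟶ W :=
    l ≫ inv ((c' ≫ w ≫ b) ∣_ U) ≫ ((c' ≫ w ≫ b) ⁻¹ᵁ U).ι ≫ c'
  have hσ : (σ ≫ w) ≫ b = O.ι ≫ b := by
    calc (σ ≫ w) ≫ b
        = l ≫ inv ((c' ≫ w ≫ b) ∣_ U) ≫ (((c' ≫ w ≫ b) ⁻¹ᵁ U).ι ≫ (c' ≫ w ≫ b)) := by
          simp only [σ, Category.assoc]
      _ = l ≫ inv ((c' ≫ w ≫ b) ∣_ U) ≫ ((c' ≫ w ≫ b) ∣_ U) ≫ U.ι := by
          rw [morphismRestrict_ι]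
      _ = l ≫ U.ι := by rw [IsIso.inv_hom_id_assoc]
      _ = O.ι ≫ b := hl
  have hfac : σ ≫ w = O.ι := by
    apply almost_eq_of_comp_eq h _ _ hσ
    intro t
    rw [hσ]
    exact hOU t
  show w.ker ≤ O.ι.ker
  rw [← hfac, ← Scheme.IdealSheafData.map_ker, ← Scheme.IdealSheafData.map_bot]
  exact Scheme.IdealSheafData.map_mono w bot_le

theorem almost_of_le (h : HTop.IsAlmostBlowUpSquare e π b i) (w : W ⟶ X') [IsClosedImmersion w]
    [LocallyOfFinitePresentation w] {eW : EW ⟶ W} {gE : EW ⟶ E} (hEW : IsPullback gE eW e w)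
    (hle : w.ker ≤ HTop.supportedOn (i.ker.comap b)) :
    HTop.IsAlmostBlowUpSquare eW (gE ≫ π) (w ≫ b) i := by
  have := h.isClosedImmersion
  have := h.isProper
  have := h.finitePresentation
  let O : X'.Opens := HTop.awayFrom (i.ker.comap b)
  let OW : W.Opens := HTop.awayFrom (i.ker.comap (w ≫ b))
  have hle' : w.ker ≤ O.ι.ker := hle
  let σ : (O : Scheme.{u}) ⟶ W := IsClosedImmersion.lift w O.ι hle'
  have hσ : σ ≫ w = O.ι := IsClosedImmersion.lift_fac w O.ι hle'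
  have hr1 : Set.range (OW.ι ≫ w) ⊆ Set.range O.ι := by
    rintro _ ⟨t, rfl⟩
    rw [Scheme.Opens.range_ι]
    have ht : (w ≫ b) (OW.ι t) ∉ Set.range i := (mem_awayFrom_iff (w ≫ b) (OW.ι t)).mp t.2
    exact (mem_awayFrom_iff b ((OW.ι ≫ w) t)).mpr ht
  let θ : (OW : Scheme.{u}) ⟶ O := IsOpenImmersion.lift O.ι (OW.ι ≫ w) hr1
  have hθ : θ ≫ O.ι = OW.ι ≫ w := IsOpenImmersion.lift_fac _ _ _
  have hr2 : Set.range σ ⊆ Set.range OW.ι := by
    rintro _ ⟨t, rfl⟩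
    rw [Scheme.Opens.range_ι]
    apply (mem_awayFrom_iff (w ≫ b) (σ t)).mpr
    have h3 : (w ≫ b) (σ t) = b (O.ι t) := by
      rw [← hσ]
      rfl
    rw [h3]
    exact (mem_awayFrom_iff b (O.ι t)).mp t.2
  let θ' : (O : Scheme.{u}) ⟶ OW := IsOpenImmersion.lift OW.ι σ hr2
  have hθ' : θ' ≫ OW.ι = σ := IsOpenImmersion.lift_fac _ _ _
  have h1 : θ' ≫ θ = 𝟙 _ := by
    rw [← cancel_mono O.ι, Category.assoc, hθ, ← Category.assoc, hθ', hσ, Category.id_comp]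
  have hθ'w : θ' ≫ OW.ι ≫ w = O.ι := by rw [← Category.assoc, hθ', hσ]
  have h2 : θ ≫ θ' = 𝟙 _ := by
    have h4 : ((θ ≫ θ') ≫ OW.ι) ≫ w = (𝟙 _ ≫ OW.ι) ≫ w := by
      calc ((θ ≫ θ') ≫ OW.ι) ≫ w = θ ≫ (θ' ≫ OW.ι ≫ w) := by simp only [Category.assoc]
        _ = θ ≫ O.ι := by rw [hθ'w]
        _ = OW.ι ≫ w := hθ
        _ = (𝟙 _ ≫ OW.ι) ≫ w := by rw [Category.id_comp]
    exact (cancel_mono OW.ι).mp ((cancel_mono w).mp h4)
  have hθiso : IsIso θ := ⟨θ', h2, h1⟩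
  have hker : ((HTop.supportedOn (i.ker.comap (w ≫ b))).subschemeι ≫ w).ker =
      HTop.supportedOn (i.ker.comap b) := by
    show (OW.ι.ker.subschemeι ≫ w).ker = O.ι.ker
    rw [← Scheme.IdealSheafData.map_ker, Scheme.IdealSheafData.ker_subschemeι,
      Scheme.IdealSheafData.map_ker, ← hθ, Scheme.Hom.ker_comp_of_isIso]
  let c₁ := (HTop.supportedOn (i.ker.comap (w ≫ b))).subschemeι ≫ w
  let c₂ := (HTop.supportedOn (i.ker.comap b)).subschemeι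
  have hc₂ker : c₂.ker = HTop.supportedOn (i.ker.comap b) :=
    Scheme.IdealSheafData.ker_subschemeι _
  have hkeq : c₁.ker = c₂.ker := by rw [hc₂ker]; exact hker
  let f := IsClosedImmersion.lift c₂ c₁ (le_of_eq hkeq.symm)
  have hf : f ≫ c₂ = c₁ := IsClosedImmersion.lift_fac _ _ _
  have hfiso : IsIso f := IsClosedImmersion.isIso_of_ker_eq c₁ c₂ f hf hkeq
  refine ⟨h.isClosedImmersion, h.finitePresentation_base, hEW.flip.paste_vert h.isPullback, ?_,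
    inferInstance, inferInstance, ?_⟩
  · rw [Scheme.IdealSheafData.comap_comp]
    exact isLocPrincipal_comap w _ h.locPrincipal
  · have h5 : (HTop.supportedOn (i.ker.comap (w ≫ b))).subschemeι ≫ w ≫ b = f ≫ (c₂ ≫ b) := by
      rw [← Category.assoc, ← Category.assoc, hf]
    rw [h5]
    exact isBlowUp_iso_comp f (c₂ ≫ b) i.ker h.isBlowUp

end sub

end Groth.Agent.Lib.Helper56.AlmostSub
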