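import Groth.Agent.Lib.Ample.Tensor
import Groth.Agent.Lib.Ample.Helper50_MulSec

/-!
# Base loci of powers of an invertible module and the stable base locus
-/

universe u

open CategoryTheory CategoryTheory.Limits AlgebraicGeometry TopologicalSpace

namespace Groth.Agent.Lib.Helper56.BaseLocus

variable {X : Scheme.{u}}

/-- the base locus of `L^⊗m` -/
def Bs (L : X.Modules) (m : ℕ) : Set X :=
  {x : X | ∀ s : Coh.structureModule X ⟶ CohB1.tensorPow L m, x ∉ CohB1.genLocus (CohB1.tensorPow L m) s}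

/-- the stable base locus -/
def SB (L : X.Modules) : Set X :=
  {x : X | ∀ m : ℕ, 0 < m → ∀ s : Coh.structureModule X ⟶ CohB1.tensorPow L m,
    x ∉ CohB1.genLocus (CohB1.tensorPow L m) s}

lemma SB_subset_Bs (L : X.Modules) {m : ℕ} (hm : 0 < m) : SB L ⊆ Bs L m :=
  fun _ hx s => hx m hm s

lemma isClosed_Bs (L : X.Modules) (m : ℕ) : IsClosed (Bs L m) := by
  have : Bs L m = (⋃ s : Coh.structureModule X ⟶ CohB1.tensorPow L m,
      (CohB1.genLocus (CohB1.tensorPow L m) s : Set X))ᶜ := by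
    ext x
    simp only [Bs, Set.mem_setOf_eq, Set.mem_compl_iff, Set.mem_iUnion, not_exists]
    rfl
  rw [this]
  exact (isOpen_iUnion fun s => (CohB1.genLocus _ s).isOpen).isClosed_compl

lemma Bs_mul_subset {L : X.Modules} (hL : PicF.IsInvertible L) {m k : ℕ} (hm : 0 < m) (hk : 0 < k) :
    Bs L (m * k) ⊆ Bs L m := by
  intro x hx s hxs
  obtain ⟨k₀, rfl⟩ : ∃ k₀, k = k₀ + 1 := ⟨k - 1, by omega⟩
  have hLm := Groth.Agent.Lib.QCoh.isInvertible_tensorPow hL m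
  have h1 := Groth.Agent.Lib.Ample.genLocus_secPow s hLm k₀
  have h2 := Groth.Agent.Lib.Ample.genLocus_comp_iso
    (Groth.Agent.Lib.Ample.secPow s (k₀ + 1)) (Groth.Agent.Lib.QCoh.tensorPowMulIso L m (k₀ + 1))
  refine hx (Groth.Agent.Lib.Ample.secPow s (k₀ + 1) ≫
    (Groth.Agent.Lib.QCoh.tensorPowMulIso L m (k₀ + 1)).hom) ?_
  rw [h2, h1]
  exact hxs

lemma Bs_mul_subset' {L : X.Modules} (hL : PicF.IsInvertible L) {m k : ℕ} (hm : 0 < m) (hk : 0 < k) :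
    Bs L (k * m) ⊆ Bs L m := by
  rw [Nat.mul_comm]; exact Bs_mul_subset hL hm hk

/-- on a Noetherian space, some `Bs(L^n₀)` is contained in every `Bs(L^m)` -/
theorem exists_min [NoetherianSpace X] {L : X.Modules} (hL : PicF.IsInvertible L) :
    ∃ n₀ : ℕ, 0 < n₀ ∧ ∀ m : ℕ, 0 < m → Bs L n₀ ⊆ Bs L m := by
  let S : Set (Closeds X) := {C | ∃ m : ℕ, 0 < m ∧ (C : Set X) = Bs L m}
  have hS : S.Nonempty := ⟨⟨Bs L 1, isClosed_Bs L 1⟩, 1, Nat.one_pos, rfl⟩
  obtain ⟨C, ⟨n₀, hn₀, hC⟩, hmin⟩ := wellFounded_lt.has_min S hS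
  refine ⟨n₀, hn₀, fun m hm => ?_⟩
  have h1 : Bs L (n₀ * m) ⊆ Bs L n₀ := Bs_mul_subset hL hn₀ hm
  have h2 : Bs L (n₀ * m) ⊆ Bs L m := Bs_mul_subset' hL hm hn₀
  have hnot := hmin ⟨Bs L (n₀ * m), isClosed_Bs L _⟩ ⟨n₀ * m, Nat.mul_pos hn₀ hm, rfl⟩
  have h3 : Bs L n₀ ⊆ Bs L (n₀ * m) := by
    by_contra hcon
    apply hnot
    refine lt_of_le_of_ne ?_ ?_
    · intro x hx
      have : x ∈ Bs L n₀ := h1 hx
      rw [← hC] at this
      exact this
    · intro heq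
      apply hcon
      have := congrArg (fun D : Closeds X => (D : Set X)) heq
      simp only [Closeds.coe_mk] at this
      rw [this, hC]
  exact h3.trans h2

theorem SB_eq_Bs_of_min {L : X.Modules} {n₀ : ℕ} (hn₀ : 0 < n₀)
    (hmin : ∀ m : ℕ, 0 < m → Bs L n₀ ⊆ Bs L m) : SB L = Bs L n₀ :=
  Set.Subset.antisymm (SB_subset_Bs L hn₀) (fun x hx m hm s => hmin m hm hx s)

end Groth.Agent.Lib.Helper56.BaseLocus
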