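import Groth.Agent.Lib.BlowUp.Basic
import Groth.Agent.Lib.BlowUp.Helper18_Basic
import Groth.Agent.Lib.BlowUp.Helper18_EffCartier

/-!
# Blow-ups in comaximal ideals (helper56)

ns `Groth.Agent.Lib.Helper56.BlowUpInf`.

For quasi-coherent ideals `I₁ ⊔ I₂ = ⊤` on `X`:

* `ideal_eq_top_of_disjoint` : `I.ideal U = ⊤` for affine `U` missing the support of `I`.
* `comap_inf_eq_of_isOpenImmersion`, `comap_inf_eq` : `(I₁ ⊓ I₂).comap g = I₁.comap g` when `g`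
  misses the support of `I₂`.
* `isEffCartierIdeal_of_local` : being effective Cartier is local.
* `isEffCartierIdeal_comap_left/right` : if `(I₁ ⊓ I₂).comap g` is effective Cartier so are
  `I₁.comap g`, `I₂.comap g`.
* `isEffCartierIdeal_comap_inf` : the converse.
* `isEffCartierIdeal_comap_pullback_fst` : `I₁ · O_P` is effective Cartier on
  `P = B₁ ×_X B₂` (`B₂` a blow-up of `I₂`, `I₁ · O_{B₁}` effective Cartier).
* `exists_iso_blowUp_inf` : the blow-up of `I₁ ⊓ I₂` is `B₁ ×_X B₂`.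
-/

universe u

open CategoryTheory CategoryTheory.Limits AlgebraicGeometry Opposite TopologicalSpace

namespace Groth.Agent.Lib.Helper56.BlowUpInf

open Groth.Agent.Lib.BlowUp Groth.Agent.Lib.BlowUp.UP Groth.Agent.Lib.BlowUp.ReesProj

variable {X : Scheme.{u}}

/-- the ideal of `I` on an affine open missing the support of `I` is the unit ideal -/
theorem ideal_eq_top_of_disjoint (I : X.IdealSheafData) (U : X.affineOpens)
    (h : ∀ x ∈ U.1, x ∉ I.support) : I.ideal U = ⊤ := by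
  have h1 := I.coe_support_inter U
  have h2 : (I.support : Set X) ∩ (U.1 : Set X) = ∅ := by
    ext x
    simp only [Set.mem_inter_iff, Set.mem_empty_iff_false, iff_false, not_and]
    exact fun hx hxU => h x hxU hx
  rw [h2, ← U.2.fromSpec_image_zeroLocus] at h1
  have h3 : PrimeSpectrum.zeroLocus (I.ideal U : Set Γ(X, U.1)) = ∅ :=
    Set.image_eq_empty.1 h1.symm
  exact (PrimeSpectrum.zeroLocus_empty_iff_eq_top).1 h3

/-- `(I₁ ⊓ I₂)·O_U = I₁·O_U` for an open immersion `U ⟶ X` missing the support of `I₂` -/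
theorem comap_inf_eq_of_isOpenImmersion (I₁ I₂ : X.IdealSheafData) {U : Scheme.{u}} (j : U ⟶ X)
    [IsOpenImmersion j] (h : ∀ y : U, j y ∉ I₂.support) :
    (I₁ ⊓ I₂).comap j = I₁.comap j := by
  refine Scheme.IdealSheafData.ext ?_
  funext V
  rw [Scheme.IdealSheafData.ideal_comap_of_isOpenImmersion,
    Scheme.IdealSheafData.ideal_comap_of_isOpenImmersion, Scheme.IdealSheafData.ideal_inf]
  have h1 : I₂.ideal ⟨j ''ᵁ V.1, V.2.image_of_isOpenImmersion j⟩ = ⊤ := by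
    apply ideal_eq_top_of_disjoint
    rintro _ ⟨y, -, rfl⟩
    exact h y
  change Ideal.comap _ (I₁.ideal _ ⊓ I₂.ideal _) = _
  rw [h1, inf_top_eq]

/-- `(I₁ ⊓ I₂)·O_Y = I₁·O_Y` for a morphism `Y ⟶ X` missing the support of `I₂` -/
theorem comap_inf_eq (I₁ I₂ : X.IdealSheafData) {Y : Scheme.{u}} (g : Y ⟶ X)
    (h : ∀ y : Y, g y ∉ I₂.support) : (I₁ ⊓ I₂).comap g = I₁.comap g := by
  obtain ⟨U, hU⟩ : ∃ U : X.Opens, (U : Set X) = (I₂.support : Set X)ᶜ :=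
    ⟨⟨_, I₂.support.isClosed.isOpen_compl⟩, rfl⟩
  have hr : Set.range g ⊆ Set.range U.ι := by
    rintro _ ⟨y, rfl⟩
    rw [Scheme.Opens.range_ι, hU]
    exact h y
  have hg : IsOpenImmersion.lift U.ι g hr ≫ U.ι = g := IsOpenImmersion.lift_fac _ _ _
  have h1 : (I₁ ⊓ I₂).comap U.ι = I₁.comap U.ι := by
    apply comap_inf_eq_of_isOpenImmersion
    intro y
    have : (U.ι y) ∈ (U : Set X) := y.2
    rw [hU] at this
    exact this
  rw [← hg, Scheme.IdealSheafData.comap_comp, Scheme.IdealSheafData.comap_comp, h1]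

/-- being effective Cartier is a local property -/
theorem isEffCartierIdeal_of_local {Y : Scheme.{u}} (𝓙 : Y.IdealSheafData)
    (h : ∀ y : Y, ∃ V : Y.Opens, y ∈ V ∧ BlowUp.IsEffCartierIdeal (𝓙.comap V.ι)) :
    BlowUp.IsEffCartierIdeal 𝓙 := by
  refine isEffCartierIdeal_of_cover 𝓙
    (ι := {V : Y.Opens // BlowUp.IsEffCartierIdeal (𝓙.comap V.ι)})
    (W := fun V => (V.1 : Scheme.{u})) (fun V => V.1.ι) (fun y => ?_) (fun V => V.2)
  obtain ⟨V, hy, hV⟩ := h y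
  refine ⟨⟨V, hV⟩, ?_⟩
  rw [Scheme.Opens.range_ι]
  exact hy

/-- the complement of the support as an open -/
noncomputable def compl (I : X.IdealSheafData) : X.Opens :=
  ⟨(I.support : Set X)ᶜ, I.support.isClosed.isOpen_compl⟩

theorem mem_compl_iff (I : X.IdealSheafData) (x : X) : x ∈ compl I ↔ x ∉ I.support := Iff.rfl

theorem mem_compl_or (I₁ I₂ : X.IdealSheafData) (hdisj : I₁ ⊔ I₂ = ⊤) (x : X) :
    x ∈ compl I₂ ∨ x ∈ compl I₁ := by
  by_contra hcon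
  rw [not_or, mem_compl_iff, mem_compl_iff, not_not, not_not] at hcon
  have h1 : x ∈ (I₁ ⊔ I₂).support := by
    rw [Scheme.IdealSheafData.support_sup]
    exact ⟨hcon.2, hcon.1⟩
  rw [hdisj, Scheme.IdealSheafData.support_top] at h1
  exact h1

/-- if `(I₁ ⊓ I₂)·O_Y` is effective Cartier and `I₁ + I₂ = O_X`, then `I₁·O_Y` is effective
Cartier -/
theorem isEffCartierIdeal_comap_left (I₁ I₂ : X.IdealSheafData) (hdisj : I₁ ⊔ I₂ = ⊤)
    {Y : Scheme.{u}} (g : Y ⟶ X) (hE : BlowUp.IsEffCartierIdeal ((I₁ ⊓ I₂).comap g)) :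
    BlowUp.IsEffCartierIdeal (I₁.comap g) := by
  apply isEffCartierIdeal_of_local
  intro y
  rcases mem_compl_or I₁ I₂ hdisj (g y) with hy | hy
  · refine ⟨g ⁻¹ᵁ compl I₂, hy, ?_⟩
    rw [← Scheme.IdealSheafData.comap_comp, ← comap_inf_eq I₁ I₂ _ (fun z => Subtype.property z),
      Scheme.IdealSheafData.comap_comp]
    exact isEffCartierIdeal_comap_of_flat _ _ hE
  · refine ⟨g ⁻¹ᵁ compl I₁, hy, ?_⟩
    rw [← Scheme.IdealSheafData.comap_comp]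
    exact isEffCartierIdeal_comap_of_forall_notMem_support I₁ _ (fun z => Subtype.property z)

theorem isEffCartierIdeal_comap_right (I₁ I₂ : X.IdealSheafData) (hdisj : I₁ ⊔ I₂ = ⊤)
    {Y : Scheme.{u}} (g : Y ⟶ X) (hE : BlowUp.IsEffCartierIdeal ((I₁ ⊓ I₂).comap g)) :
    BlowUp.IsEffCartierIdeal (I₂.comap g) := by
  rw [inf_comm] at hE
  rw [sup_comm] at hdisj
  exact isEffCartierIdeal_comap_left I₂ I₁ hdisj g hE

/-- if `I₁·O_Y` and `I₂·O_Y` are effective Cartier and `I₁ + I₂ = O_X`, then so is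
`(I₁ ⊓ I₂)·O_Y` -/
theorem isEffCartierIdeal_comap_inf (I₁ I₂ : X.IdealSheafData) (hdisj : I₁ ⊔ I₂ = ⊤)
    {Y : Scheme.{u}} (g : Y ⟶ X) (hE₁ : BlowUp.IsEffCartierIdeal (I₁.comap g))
    (hE₂ : BlowUp.IsEffCartierIdeal (I₂.comap g)) :
    BlowUp.IsEffCartierIdeal ((I₁ ⊓ I₂).comap g) := by
  apply isEffCartierIdeal_of_local
  intro y
  rcases mem_compl_or I₁ I₂ hdisj (g y) with hy | hy
  · refine ⟨g ⁻¹ᵁ compl I₂, hy, ?_⟩
    rw [← Scheme.IdealSheafData.comap_comp, comap_inf_eq I₁ I₂ _ (fun z => Subtype.property z),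
      Scheme.IdealSheafData.comap_comp]
    exact isEffCartierIdeal_comap_of_flat _ _ hE₁
  · refine ⟨g ⁻¹ᵁ compl I₁, hy, ?_⟩
    rw [← Scheme.IdealSheafData.comap_comp, inf_comm, comap_inf_eq I₂ I₁ _ (fun z => Subtype.property z),
      Scheme.IdealSheafData.comap_comp]
    exact isEffCartierIdeal_comap_of_flat _ _ hE₂

/-- `I₁·O_P` is effective Cartier on `P = B₁ ×_X B₂` when `B₂` is a blow-up of `I₂`,
`I₁·O_{B₁}` is effective Cartier and `I₁ + I₂ = O_X` -/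
theorem isEffCartierIdeal_comap_pullback_fst (I₁ I₂ : X.IdealSheafData) (hdisj : I₁ ⊔ I₂ = ⊤)
    {B₁ B₂ : Scheme.{u}} (σ₁ : B₁ ⟶ X) (hE₁ : BlowUp.IsEffCartierIdeal (I₁.comap σ₁))
    (σ₂ : B₂ ⟶ X) (hσ₂ : BlowUp.IsBlowUp σ₂ I₂) :
    BlowUp.IsEffCartierIdeal (I₁.comap (pullback.fst σ₁ σ₂ ≫ σ₁)) := by
  apply isEffCartierIdeal_of_local
  intro y
  rcases mem_compl_or I₁ I₂ hdisj ((pullback.fst σ₁ σ₂ ≫ σ₁) y) with hy | hy
  · -- over the complement of the support of `I₂`, `fst` is an open immersion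
    have hiso : IsIso (σ₂ ∣_ compl I₂) :=
      isIso_morphismRestrict_of_isBlowUp I₂ σ₂ hσ₂ (compl I₂) (fun x hx => hx)
    have hoi : IsOpenImmersion ((σ₂ ⁻¹ᵁ compl I₂).ι ≫ σ₂) := by
      rw [← morphismRestrict_ι]
      infer_instance
    have sq1 : IsPullback (pullback.snd σ₁ σ₂ ∣_ (σ₂ ⁻¹ᵁ compl I₂))
        (pullback.snd σ₁ σ₂ ⁻¹ᵁ (σ₂ ⁻¹ᵁ compl I₂)).ι (σ₂ ⁻¹ᵁ compl I₂).ι (pullback.snd σ₁ σ₂) :=
      isPullback_morphismRestrict _ _
    have sq2 : IsPullback (pullback.snd σ₁ σ₂) (pullback.fst σ₁ σ₂) σ₂ σ₁ :=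
      (IsPullback.of_hasPullback σ₁ σ₂).flip
    have sq := sq1.paste_vert sq2
    have hoi' : IsOpenImmersion
        ((pullback.snd σ₁ σ₂ ⁻¹ᵁ (σ₂ ⁻¹ᵁ compl I₂)).ι ≫ pullback.fst σ₁ σ₂) :=
      MorphismProperty.of_isPullback (P := @IsOpenImmersion) sq hoi
    refine ⟨pullback.snd σ₁ σ₂ ⁻¹ᵁ (σ₂ ⁻¹ᵁ compl I₂), ?_, ?_⟩
    · change σ₂ (pullback.snd σ₁ σ₂ y) ∈ compl I₂
      rw [← Scheme.Hom.comp_apply, ← pullback.condition]
      exact hy
    · rw [← Scheme.IdealSheafData.comap_comp, ← Category.assoc,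
        Scheme.IdealSheafData.comap_comp]
      exact isEffCartierIdeal_comap_of_flat _ _ hE₁
  · refine ⟨(pullback.fst σ₁ σ₂ ≫ σ₁) ⁻¹ᵁ compl I₁, hy, ?_⟩
    rw [← Scheme.IdealSheafData.comap_comp]
    exact isEffCartierIdeal_comap_of_forall_notMem_support I₁ _ (fun z => Subtype.property z)

/-- **The blow-up of `I₁ ⊓ I₂` is the fibre product of the blow-ups of `I₁` and `I₂`**
(for `I₁ + I₂ = O_X`). -/
theorem exists_iso_blowUp_inf {B B₁ B₂ : Scheme.{u}} (I₁ I₂ : X.IdealSheafData)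
    (hdisj : I₁ ⊔ I₂ = ⊤) (σ : B ⟶ X) (hσ : BlowUp.IsBlowUp σ (I₁ ⊓ I₂))
    (σ₁ : B₁ ⟶ X) (hσ₁ : BlowUp.IsBlowUp σ₁ I₁) (σ₂ : B₂ ⟶ X) (hσ₂ : BlowUp.IsBlowUp σ₂ I₂) :
    ∃ ι : B ⟶ pullback σ₁ σ₂, IsIso ι ∧ ι ≫ pullback.fst σ₁ σ₂ ≫ σ₁ = σ := by
  obtain ⟨h₁, hh₁, -⟩ := hσ₁.2 B σ (isEffCartierIdeal_comap_left I₁ I₂ hdisj σ hσ.1)
  obtain ⟨h₂, hh₂, -⟩ := hσ₂.2 B σ (isEffCartierIdeal_comap_right I₁ I₂ hdisj σ hσ.1)
  have hh₁' : h₁ ≫ σ₁ = σ := hh₁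
  have hh₂' : h₂ ≫ σ₂ = σ := hh₂
  have hP₁ : BlowUp.IsEffCartierIdeal (I₁.comap (pullback.fst σ₁ σ₂ ≫ σ₁)) :=
    isEffCartierIdeal_comap_pullback_fst I₁ I₂ hdisj σ₁ hσ₁.1 σ₂ hσ₂
  have hP₂ : BlowUp.IsEffCartierIdeal (I₂.comap (pullback.fst σ₁ σ₂ ≫ σ₁)) := by
    have hsymm : BlowUp.IsEffCartierIdeal (I₂.comap (pullback.fst σ₂ σ₁ ≫ σ₂)) :=
      isEffCartierIdeal_comap_pullback_fst I₂ I₁ (by rw [sup_comm]; exact hdisj) σ₂ hσ₂.1 σ₁ hσ₁
    have e : pullback.fst σ₁ σ₂ ≫ σ₁ =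
        (pullbackSymmetry σ₁ σ₂).hom ≫ pullback.fst σ₂ σ₁ ≫ σ₂ := by
      rw [← Category.assoc, pullbackSymmetry_hom_comp_fst, pullback.condition]
    rw [e, Scheme.IdealSheafData.comap_comp]
    exact isEffCartierIdeal_comap_of_flat _ _ hsymm
  have hP : BlowUp.IsEffCartierIdeal ((I₁ ⊓ I₂).comap (pullback.fst σ₁ σ₂ ≫ σ₁)) :=
    isEffCartierIdeal_comap_inf I₁ I₂ hdisj _ hP₁ hP₂
  obtain ⟨k, hk, -⟩ := hσ.2 _ _ hP
  have hk' : k ≫ σ = pullback.fst σ₁ σ₂ ≫ σ₁ := hk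
  refine ⟨pullback.lift h₁ h₂ (hh₁'.trans hh₂'.symm), ⟨k, ?_, ?_⟩, ?_⟩
  · refine hom_ext hσ _ _ ?_ ?_
    · rw [Category.assoc, hk', pullback.lift_fst_assoc, hh₁']
      exact hσ.1
    · rw [Category.assoc, hk', pullback.lift_fst_assoc, hh₁', Category.id_comp]
  · apply pullback.hom_ext
    · rw [Category.assoc, pullback.lift_fst, Category.id_comp]
      refine hom_ext hσ₁ _ _ ?_ ?_
      · rw [Category.assoc, hh₁', hk']
        exact hP₁
      · rw [Category.assoc, hh₁', hk']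
    · rw [Category.assoc, pullback.lift_snd, Category.id_comp]
      refine hom_ext hσ₂ _ _ ?_ ?_
      · rw [Category.assoc, hh₂', hk']
        exact hP₂
      · rw [Category.assoc, hh₂', hk', pullback.condition]
  · rw [pullback.lift_fst_assoc, hh₁']

end Groth.Agent.Lib.Helper56.BlowUpInf
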