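import Groth.Agent.Lib.BlowUp.Basic
import Groth.Agent.Lib.BlowUp.ReesProjC
import Groth.Agent.Lib.Helper20.IdealComap
import Mathlib.AlgebraicGeometry.ProjectiveSpectrum.Proper
import Mathlib.AlgebraicGeometry.Morphisms.Proper

/-!
# A blowing up in an ideal of finite type is proper (helper56)

ns `Groth.Agent.Lib.Helper56.BlowUpProper`.
-/

set_option autoImplicit false
universe u

open CategoryTheory CategoryTheory.Limits AlgebraicGeometry TopologicalSpace

namespace Groth.Agent.Lib.Helper56.BlowUpProper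

open Groth.Agent.Lib.BlowUp.Rees Groth.Agent.Lib.BlowUp.ReesProj Groth.Agent.Lib.BlowUp.UP

section Affine

variable {A : Type u} [CommRing A] (I : Ideal A)

instance : IsScalarTower A (deg I 0) (reesAlgebra I) :=
  IsScalarTower.of_algebraMap_eq (R := A) (S := deg I 0) (A := reesAlgebra I) (fun c => by
    show algebraMap A (reesAlgebra I) c = (((α I).hom c : deg I 0) : reesAlgebra I)
    rw [coe_α_hom])

theorem finiteType_deg_zero (hI : I.FG) : Algebra.FiniteType (deg I 0) (reesAlgebra I) := by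
  have h1 : Algebra.FiniteType A (reesAlgebra I) :=
    (Subalgebra.fg_iff_finiteType _).mp (reesAlgebra.fg hI)
  exact Algebra.FiniteType.of_restrictScalars_finiteType A (deg I 0) (reesAlgebra I)

theorem α_surjective : Function.Surjective (α I).hom := by
  intro p
  obtain ⟨c, hc, hp⟩ := exists_eq_mon I p.2
  refine ⟨c, ?_⟩
  apply Subtype.ext
  rw [coe_α_hom, hp, ← mon_zero_eq]

theorem isProper_π (hI : I.FG) : IsProper (π I) := by
  have := finiteType_deg_zero I hI
  have : IsClosedImmersion (Spec.map (α I)) :=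
    IsClosedImmersion.spec_of_surjective _ (α_surjective I)
  unfold π
  infer_instance

end Affine

/-- blow-ups of affine schemes in finitely generated ideals exist and are proper -/
theorem exists_isBlowUp_isProper_of_isAffine (Z : Scheme.{u}) [IsAffine Z] (𝓘 : Z.IdealSheafData)
    (hfg : (𝓘.ideal ⟨⊤, isAffineOpen_top Z⟩).FG) :
    ∃ (Z' : Scheme.{u}) (b : Z' ⟶ Z), BlowUp.IsBlowUp b 𝓘 ∧ IsProper b := by
  obtain ⟨J, hJ⟩ : ∃ J : Ideal Γ(Z, ⊤), J = 𝓘.ideal ⟨⊤, isAffineOpen_top Z⟩ := ⟨_, rfl⟩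
  have h1 := isBlowUp_comp_iso Z.isoSpec.symm (π J) (idealSheaf J) (isBlowUp_π J)
  have hp : IsProper (π J) := isProper_π J (hJ ▸ hfg)
  refine ⟨Bl J, π J ≫ Z.isoSpec.symm.hom, isBlowUp_congr ?_ h1, inferInstance⟩
  refine Scheme.IdealSheafData.ext_of_isAffine ?_
  show ((idealSheaf J).comap Z.isoSpec.hom).ideal ⟨⊤, isAffineOpen_top Z⟩ = _
  rw [ideal_comap J Z.isoSpec.hom ⟨⊤, isAffineOpen_top Z⟩, ← hJ]
  have h2 : (Z.isoSpec.hom.appLE ⊤ ⊤ (fun _ _ => trivial)).hom.comp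
      (Scheme.ΓSpecIso (CommRingCat.of Γ(Z, ⊤))).inv.hom = RingHom.id _ := by
    have h3 : Z.isoSpec.hom.appLE ⊤ ⊤ (fun _ _ => trivial) = Z.isoSpec.hom.appTop :=
      Scheme.Hom.appLE_eq_app _
    have h4 : Z.isoSpec.hom.appTop = (Scheme.ΓSpecIso Γ(Z, ⊤)).hom := Scheme.toSpecΓ_appTop Z
    rw [h3, h4]
    ext c
    exact congrArg (fun φ => φ.hom c) (Scheme.ΓSpecIso Γ(Z, ⊤)).inv_hom_id
  show Ideal.map _ J = J
  rw [h2, Ideal.map_id]

/-- A blowing up in an ideal sheaf which is finitely generated on the members of some affine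
open cover is proper. -/
theorem isProper_of_isBlowUp {X' X : Scheme.{u}} (b : X' ⟶ X) (𝓘 : X.IdealSheafData)
    (hb : BlowUp.IsBlowUp b 𝓘)
    (hfg : ∀ x : X, ∃ U : X.affineOpens, x ∈ U.1 ∧ (𝓘.ideal U).FG) : IsProper b := by
  choose U hxU hU using hfg
  apply IsZariskiLocalAtTarget.of_iSup_eq_top (P := @IsProper) (fun x => (U x).1)
  · rw [eq_top_iff]
    intro x _
    exact Opens.mem_iSup.mpr ⟨x, hxU x⟩
  · intro x
    have : IsAffine (U x).1.toScheme := (U x).2
    have hb' : BlowUp.IsBlowUp (b ∣_ (U x).1) (𝓘.comap (U x).1.ι) :=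
      isBlowUp_of_isPullback (U x).1.ι b (b ⁻¹ᵁ (U x).1).ι (b ∣_ (U x).1)
        (isPullback_morphismRestrict b (U x).1).flip 𝓘 hb
    have hfg' : ((𝓘.comap (U x).1.ι).ideal ⟨⊤, isAffineOpen_top _⟩).FG := by
      rw [Groth.Agent.Lib.Helper20.ideal_comap (U x).1.ι 𝓘 ⟨⊤, isAffineOpen_top _⟩ (U x)
        (fun y _ => y.2)]
      exact (hU x).map _
    obtain ⟨Z', b₀, hb₀, hprop⟩ := exists_isBlowUp_isProper_of_isAffine _ _ hfg'
    obtain ⟨e, he⟩ := exists_iso_of_isBlowUp (b ∣_ (U x).1) b₀ hb' hb₀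
    rw [← he]
    infer_instance

end Groth.Agent.Lib.Helper56.BlowUpProper
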