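import Groth.Prelude.Def_HopfRep
import Mathlib

/-!
# A multiplicative coaction of a commutative Hopf algebra preserves non-zero-divisors

For a commutative Hopf algebra `H` over a field `k` coacting multiplicatively on a commutative
`k`-algebra `S`, the twist `S ⊗ H → S ⊗ H`, `s ⊗ h ↦ coact(s) (1 ⊗ h)` is an algebra automorphism.
Hence `coact : S → S ⊗ H` maps non-zero-divisors to non-zero-divisors, like `s ↦ s ⊗ 1`.
-/

set_option autoImplicit false
set_option maxHeartbeats 400000

universe u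

open TensorProduct

namespace Groth.Agent.Lib.Helper56.CoactTwist

section

variable {k : Type u} [Field k] {H : Type u} [CommRing H] [HopfAlgebra k H]
  {S : Type u} [CommRing S] [Algebra k S] [HopfRep.Comod k H S]


theorem G0 (α β : H →ₗ[k] H) (v : S ⊗[k] H) (h : H) :
    (LinearMap.mul' k H).lTensor S ((TensorProduct.assoc k S H H) ((α.lTensor S v) ⊗ₜ[k] β h)) =
      ((LinearMap.mul' k H) ∘ₗ TensorProduct.map α β).lTensor S
        ((TensorProduct.assoc k S H H) (v ⊗ₜ[k] h)) := by
  induction v with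
  | zero => simp
  | tmul s h' => simp
  | add x y hx hy => simp only [map_add, TensorProduct.add_tmul, hx, hy]

theorem G (α β : H →ₗ[k] H) (y : S ⊗[k] H) :
    (LinearMap.mul' k H).lTensor S ((TensorProduct.assoc k S H H)
      (((α.lTensor S ∘ₗ (HopfRep.Comod.coact (k := k) (A := H) (V := S))).rTensor H) (β.lTensor S y))) =
      ((LinearMap.mul' k H) ∘ₗ TensorProduct.map α β).lTensor S
        ((TensorProduct.assoc k S H H) ((LinearMap.rTensor H (HopfRep.Comod.coact (k := k) (A := H) (V := S))) y)) := by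
  induction y with
  | zero => simp
  | tmul s h =>
    simp only [LinearMap.lTensor_tmul, LinearMap.rTensor_tmul, LinearMap.comp_apply]
    exact G0 α β ((HopfRep.Comod.coact (k := k) (A := H) (V := S)) s) h
  | add x y hx hy => simp only [map_add, hx, hy]

theorem assoc_rTensor_coact (t : S) :
    (TensorProduct.assoc k S H H) ((LinearMap.rTensor H (HopfRep.Comod.coact (k := k) (A := H) (V := S))) ((HopfRep.Comod.coact (k := k) (A := H) (V := S)) t)) =
      (CoalgebraStruct.comul (R := k) (A := H)).lTensor S ((HopfRep.Comod.coact (k := k) (A := H) (V := S)) t) :=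
  LinearMap.congr_fun (HopfRep.Comod.coassoc (k := k) (A := H) (V := S)) t

theorem lTensor_counit_coact (t : S) :
    (CoalgebraStruct.counit (R := k) (A := H)).lTensor S ((HopfRep.Comod.coact (k := k) (A := H) (V := S)) t) = t ⊗ₜ[k] (1 : k) :=
  LinearMap.congr_fun (HopfRep.Comod.counit_comp (k := k) (A := H) (V := S)) t

theorem K (α β : H →ₗ[k] H)
    (hαβ : LinearMap.mul' k H ∘ₗ TensorProduct.map α β ∘ₗ CoalgebraStruct.comul (R := k) (A := H) =
      Algebra.linearMap k H ∘ₗ CoalgebraStruct.counit (R := k) (A := H)) (t : S) :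
    (LinearMap.mul' k H).lTensor S ((TensorProduct.assoc k S H H)
      (((α.lTensor S ∘ₗ (HopfRep.Comod.coact (k := k) (A := H) (V := S))).rTensor H) (β.lTensor S ((HopfRep.Comod.coact (k := k) (A := H) (V := S)) t)))) = t ⊗ₜ[k] (1 : H) := by
  rw [G, assoc_rTensor_coact, ← LinearMap.lTensor_comp_apply, LinearMap.comp_assoc, hαβ,
    LinearMap.lTensor_comp_apply, lTensor_counit_coact, LinearMap.lTensor_tmul]
  simp

variable (hmul : ∀ x y : S, (HopfRep.Comod.coact (k := k) (A := H) (V := S)) (x * y) = (HopfRep.Comod.coact (k := k) (A := H) (V := S)) x * (HopfRep.Comod.coact (k := k) (A := H) (V := S)) y) (hone : (HopfRep.Comod.coact (k := k) (A := H) (V := S)) (1 : S) = 1)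

/-- the coaction as an algebra homomorphism -/
noncomputable def rhoA : S →ₐ[k] S ⊗[k] H := AlgHom.ofLinearMap (HopfRep.Comod.coact (k := k) (A := H) (V := S)) hone hmul

theorem rhoA_apply (s : S) : rhoA hmul hone s = (HopfRep.Comod.coact (k := k) (A := H) (V := S)) s := rfl

/-- the twist by an algebra endomorphism of `H` -/
noncomputable def Phi (a : H →ₐ[k] H) : S ⊗[k] H →ₐ[k] S ⊗[k] H :=
  Algebra.TensorProduct.productMap
    ((Algebra.TensorProduct.map (AlgHom.id k S) a).comp (rhoA hmul hone))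
    Algebra.TensorProduct.includeRight

theorem map_id_eq_lTensor (a : H →ₐ[k] H) (v : S ⊗[k] H) :
    Algebra.TensorProduct.map (AlgHom.id k S) a v = a.toLinearMap.lTensor S v := by
  induction v with
  | zero => simp
  | tmul s h => simp
  | add x y hx hy => simp only [map_add, hx, hy]

theorem Phi_tmul (a : H →ₐ[k] H) (s : S) (h : H) :
    Phi hmul hone a (s ⊗ₜ[k] h) = a.toLinearMap.lTensor S ((HopfRep.Comod.coact (k := k) (A := H) (V := S)) s) * ((1 : S) ⊗ₜ[k] h) := by
  rw [Phi, Algebra.TensorProduct.productMap_apply_tmul, AlgHom.comp_apply, rhoA_apply,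
    map_id_eq_lTensor]
  rfl

theorem Phi_one_tmul (a : H →ₐ[k] H) (h : H) :
    Phi hmul hone a ((1 : S) ⊗ₜ[k] h) = (1 : S) ⊗ₜ[k] h := by
  rw [Phi_tmul, hone, ← map_id_eq_lTensor, map_one, one_mul]

theorem Phi_tmul_one (a : H →ₐ[k] H) (s : S) :
    Phi hmul hone a (s ⊗ₜ[k] (1 : H)) = a.toLinearMap.lTensor S ((HopfRep.Comod.coact (k := k) (A := H) (V := S)) s) := by
  rw [Phi_tmul]
  change _ * (1 : S ⊗[k] H) = _
  rw [mul_one]

theorem P0 (a : H →ₐ[k] H) (v : S ⊗[k] H) (h : H) :
    a.toLinearMap.lTensor S v * ((1 : S) ⊗ₜ[k] h) =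
      (LinearMap.mul' k H).lTensor S
        ((TensorProduct.assoc k S H H) ((a.toLinearMap.lTensor S v) ⊗ₜ[k] h)) := by
  induction v with
  | zero => simp
  | tmul s h' => simp [Algebra.TensorProduct.tmul_mul_tmul]
  | add x y hx hy => simp only [map_add, add_mul, TensorProduct.add_tmul, hx, hy]

theorem P (a : H →ₐ[k] H) (w : S ⊗[k] H) :
    Phi hmul hone a w = (LinearMap.mul' k H).lTensor S
      ((TensorProduct.assoc k S H H) (((a.toLinearMap.lTensor S ∘ₗ (HopfRep.Comod.coact (k := k) (A := H) (V := S))).rTensor H) w)) := by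
  induction w with
  | zero => simp
  | tmul s h =>
    rw [Phi_tmul, LinearMap.rTensor_tmul, LinearMap.comp_apply]
    exact P0 a ((HopfRep.Comod.coact (k := k) (A := H) (V := S)) s) h
  | add x y hx hy => simp only [map_add, hx, hy]

theorem Phi_id_antipode (t : S) :
    Phi hmul hone (AlgHom.id k H) ((HopfAlgebra.antipode k).lTensor S ((HopfRep.Comod.coact (k := k) (A := H) (V := S)) t)) =
      t ⊗ₜ[k] (1 : H) := by
  rw [P]
  exact K (S := S) (LinearMap.id : H →ₗ[k] H) (HopfAlgebra.antipode k : H →ₗ[k] H)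
    HopfAlgebra.mul_antipode_lTensor_comul t

theorem Phi_antipode_coact (t : S) :
    Phi hmul hone (HopfAlgebra.antipodeAlgHom k H) ((HopfRep.Comod.coact (k := k) (A := H) (V := S)) t) = t ⊗ₜ[k] (1 : H) := by
  rw [P]
  have := K (S := S) (HopfAlgebra.antipode k : H →ₗ[k] H) (LinearMap.id : H →ₗ[k] H)
    HopfAlgebra.mul_antipode_rTensor_comul t
  rw [LinearMap.lTensor_id, LinearMap.id_apply] at this
  exact this

theorem Phi_comp_Psi :
    (Phi hmul hone (AlgHom.id k H)).comp (Phi hmul hone (HopfAlgebra.antipodeAlgHom k H)) =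
      AlgHom.id k _ := by
  apply Algebra.TensorProduct.ext'
  intro s h
  rw [AlgHom.comp_apply, Phi_tmul, map_mul, Phi_one_tmul]
  change Phi hmul hone (AlgHom.id k H) ((HopfAlgebra.antipode k).lTensor S ((HopfRep.Comod.coact (k := k) (A := H) (V := S)) s)) * _ = _
  rw [Phi_id_antipode, Algebra.TensorProduct.tmul_mul_tmul, mul_one, one_mul]
  rfl

theorem Psi_comp_Phi :
    (Phi hmul hone (HopfAlgebra.antipodeAlgHom k H)).comp (Phi hmul hone (AlgHom.id k H)) =
      AlgHom.id k _ := by
  apply Algebra.TensorProduct.ext'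
  intro s h
  rw [AlgHom.comp_apply, Phi_tmul, map_mul, Phi_one_tmul]
  change Phi hmul hone (HopfAlgebra.antipodeAlgHom k H) ((LinearMap.id).lTensor S ((HopfRep.Comod.coact (k := k) (A := H) (V := S)) s)) * _ = _
  rw [LinearMap.lTensor_id, LinearMap.id_apply, Phi_antipode_coact,
    Algebra.TensorProduct.tmul_mul_tmul, mul_one, one_mul]
  rfl

theorem Phi_id_tmul_one (t : S) : Phi hmul hone (AlgHom.id k H) (t ⊗ₜ[k] (1 : H)) = (HopfRep.Comod.coact (k := k) (A := H) (V := S)) t := by
  rw [Phi_tmul_one]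
  change (LinearMap.id).lTensor S ((HopfRep.Comod.coact (k := k) (A := H) (V := S)) t) = _
  rw [LinearMap.lTensor_id, LinearMap.id_apply]

omit [HopfAlgebra k H] [HopfRep.Comod k H S] in
theorem tmul_one_mem_nonZeroDivisors [Algebra k H] {t : S} (ht : t ∈ nonZeroDivisors S) :
    (t ⊗ₜ[k] (1 : H)) ∈ nonZeroDivisors (S ⊗[k] H) := by
  rw [mem_nonZeroDivisors_iff_left]
  intro x hx
  have hmulL : ∀ x : S ⊗[k] H, (t ⊗ₜ[k] (1 : H)) * x = (LinearMap.mulLeft k t).rTensor H x := by
    intro x
    induction x with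
    | zero => simp
    | tmul s h => simp [Algebra.TensorProduct.tmul_mul_tmul]
    | add x y hx hy => simp only [mul_add, map_add, hx, hy]
  have hinj : Function.Injective (LinearMap.mulLeft k t) := by
    rw [injective_iff_map_eq_zero]
    intro a ha
    exact mem_nonZeroDivisors_iff_left.1 ht a (by simpa using ha)
  have := Module.Flat.rTensor_preserves_injective_linearMap (M := H) (LinearMap.mulLeft k t) hinj
  apply this
  rw [← hmulL, hx, map_zero]

include hmul hone in
theorem coact_mem_nonZeroDivisors {t : S} (ht : t ∈ nonZeroDivisors S) :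
    (HopfRep.Comod.coact (k := k) (A := H) (V := S)) t ∈ nonZeroDivisors (S ⊗[k] H) := by
  rw [mem_nonZeroDivisors_iff_left]
  intro x hx
  have h1 : Phi hmul hone (AlgHom.id k H) (Phi hmul hone (HopfAlgebra.antipodeAlgHom k H) x) = x :=
    AlgHom.congr_fun (Phi_comp_Psi hmul hone) x
  have h2 : Phi hmul hone (AlgHom.id k H)
      ((t ⊗ₜ[k] (1 : H)) * Phi hmul hone (HopfAlgebra.antipodeAlgHom k H) x) = 0 := by
    rw [map_mul, Phi_id_tmul_one, h1, hx]
  have h3 : (t ⊗ₜ[k] (1 : H)) * Phi hmul hone (HopfAlgebra.antipodeAlgHom k H) x = 0 := by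
    have h := congrArg (Phi hmul hone (HopfAlgebra.antipodeAlgHom k H)) h2
    have h' := AlgHom.congr_fun (Psi_comp_Phi hmul hone)
      ((t ⊗ₜ[k] (1 : H)) * Phi hmul hone (HopfAlgebra.antipodeAlgHom k H) x)
    rw [AlgHom.comp_apply, AlgHom.id_apply] at h'
    rw [h', map_zero] at h
    exact h
  have h4 : Phi hmul hone (HopfAlgebra.antipodeAlgHom k H) x = 0 :=
    mem_nonZeroDivisors_iff_left.1 (tmul_one_mem_nonZeroDivisors ht) _ h3
  rw [← h1, h4, map_zero]

end

end Groth.Agent.Lib.Helper56.CoactTwist
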