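import Groth.Prelude.Def_HopfRep
import Groth.Prelude.Def_Hoch
import Mathlib.LinearAlgebra.TensorProduct.Basis
import Mathlib.LinearAlgebra.FreeModule.Basic
import Mathlib.LinearAlgebra.FiniteDimensional.Defs
import Mathlib.LinearAlgebra.FiniteDimensional.Basic
import Mathlib.RingTheory.Flat.Basic
import Mathlib.LinearAlgebra.Dimension.Free

/-!
Basic facts on comodules over a coalgebra over a field (helper56):
local finiteness, kernels of comodule maps are subcomodules.
-/

set_option autoImplicit false
universe u v w

open TensorProduct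

namespace Groth.Agent.Lib.Helper56

section

variable {k : Type u} {C : Type v} [Field k] [AddCommGroup C] [Module k C] [Coalgebra k C]
variable {V : Type w} [AddCommGroup V] [Module k V] [HopfRep.Comod k C V]

/-- contraction of the last tensor factor with a functional -/
noncomputable def contr (M : Type*) [AddCommGroup M] [Module k M] (φ : C →ₗ[k] k) :
    M ⊗[k] C →ₗ[k] M :=
  (TensorProduct.rid k M).toLinearMap ∘ₗ LinearMap.lTensor M φ

@[simp] theorem contr_tmul (M : Type*) [AddCommGroup M] [Module k M] (φ : C →ₗ[k] k) (m : M)
    (c : C) : contr M φ (m ⊗ₜ[k] c) = φ c • m := by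
  simp [contr]

theorem coact_contr (φ : C →ₗ[k] k) (z : V ⊗[k] C) :
    HopfRep.Comod.coact (k := k) (A := C) (contr V φ z) =
      contr (V ⊗[k] C) φ ((HopfRep.Comod.coact (k := k) (A := C)).rTensor C z) := by
  induction z with
  | zero => simp
  | tmul x c => simp
  | add x y hx hy => simp only [map_add, hx, hy]

theorem coact_rTensor_coact (v : V) :
    (HopfRep.Comod.coact (k := k) (A := C)).rTensor C (HopfRep.Comod.coact (k := k) (A := C) v) =
      (TensorProduct.assoc k V C C).symm
        ((CoalgebraStruct.comul (R := k) (A := C)).lTensor V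
          (HopfRep.Comod.coact (k := k) (A := C) v)) := by
  have h := LinearMap.congr_fun (HopfRep.Comod.coassoc (k := k) (A := C) (V := V)) v
  simp only [LinearMap.comp_apply, LinearEquiv.coe_coe] at h
  rw [← h, LinearEquiv.symm_apply_apply]

theorem contr_assoc_symm_mem (W : Submodule k V) (φ : C →ₗ[k] k) (x : V) (hx : x ∈ W)
    (t : C ⊗[k] C) :
    contr (V ⊗[k] C) φ ((TensorProduct.assoc k V C C).symm (x ⊗ₜ[k] t)) ∈
      LinearMap.range (W.subtype.rTensor C) := by
  induction t with
  | zero => simp
  | tmul c c' =>
    refine ⟨φ c' • ((⟨x, hx⟩ : W) ⊗ₜ[k] c), ?_⟩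
    simp
  | add s t hs ht =>
    rw [TensorProduct.tmul_add, map_add, map_add]
    exact Submodule.add_mem _ hs ht

/-- Local finiteness of comodules over a field. -/
theorem exists_finite_subcomod_mem (v : V) :
    ∃ W : Submodule k V, Module.Finite k W ∧ v ∈ W ∧ HopfRep.IsSubcomod (k := k) (A := C) W := by
  classical
  let b := Module.Free.chooseBasis k C
  let f := TensorProduct.equivFinsuppOfBasisRight b (HopfRep.Comod.coact (k := k) (A := C) v)
  have hf : f.sum (fun i m => m ⊗ₜ[k] b i) = HopfRep.Comod.coact (k := k) (A := C) v := by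
    rw [← TensorProduct.equivFinsuppOfBasisRight_symm_apply]
    exact LinearEquiv.symm_apply_apply _ _
  let W : Submodule k V := Submodule.span k (↑(f.support.image f) : Set V)
  have hfW : ∀ i, f i ∈ W := by
    intro i
    by_cases hi : i ∈ f.support
    · exact Submodule.subset_span (Finset.mem_coe.mpr (Finset.mem_image_of_mem f hi))
    · rw [Finsupp.notMem_support_iff.mp hi]
      exact W.zero_mem
  refine ⟨W, ?_, ?_, ?_⟩
  · exact Module.Finite.span_finset k _
  · -- counit
    have h := LinearMap.congr_fun (HopfRep.Comod.counit_comp (k := k) (A := C) (V := V)) v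
    simp only [LinearMap.comp_apply, LinearMap.flip_apply, TensorProduct.mk_apply] at h
    have h2 : contr V (CoalgebraStruct.counit (R := k) (A := C))
        (HopfRep.Comod.coact (k := k) (A := C) v) = v := by
      simp only [contr, LinearMap.comp_apply, h, LinearEquiv.coe_coe, TensorProduct.rid_tmul,
        one_smul]
    rw [← h2, ← hf, Finsupp.sum, map_sum]
    refine Submodule.sum_mem _ fun i _ => ?_
    rw [contr_tmul]
    exact W.smul_mem _ (hfW i)
  · intro w hw
    induction hw using Submodule.span_induction with
    | mem w hw =>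
      obtain ⟨l, _, rfl⟩ := Finset.mem_image.mp (Finset.mem_coe.mp hw)
      have h1 : f l = contr V (b.coord l) (HopfRep.Comod.coact (k := k) (A := C) v) :=
        TensorProduct.equivFinsuppOfBasisRight_apply b _ l
      rw [h1, coact_contr, coact_rTensor_coact, ← hf, Finsupp.sum, map_sum, map_sum, map_sum]
      refine Submodule.sum_mem _ fun i _ => ?_
      rw [LinearMap.lTensor_tmul]
      exact contr_assoc_symm_mem W _ _ (hfW i) _
    | zero => simp
    | add x y _ _ hx hy =>
      rw [map_add]
      exact Submodule.add_mem _ hx hy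
    | smul a x _ hx =>
      rw [map_smul]
      exact Submodule.smul_mem _ a hx

/-- A simple comodule over a field is finite-dimensional. -/
theorem finite_of_isSimpleComod (hV : HopfRep.IsSimpleComod k C V) : Module.Finite k V := by
  obtain ⟨hnt, hsimple⟩ := hV
  obtain ⟨v, hv⟩ := exists_ne (0 : V)
  obtain ⟨W, hWfin, hvW, hW⟩ := exists_finite_subcomod_mem (k := k) (C := C) v
  rcases hsimple W hW with h | h
  · exact absurd ((Submodule.mem_bot k).mp (h ▸ hvW)) hv
  · subst h
    exact Module.Finite.equiv (Submodule.topEquiv (R := k) (M := V))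

/-- The kernel of a morphism of comodules is a subcomodule (over a field). -/
theorem isSubcomod_ker {V' : Type*} [AddCommGroup V'] [Module k V'] [HopfRep.Comod k C V']
    (α : V →ₗ[k] V') (hα : Hoch.IsComodHom C α) :
    HopfRep.IsSubcomod (k := k) (A := C) (LinearMap.ker α) := by
  intro w hw
  have hex : Function.Exact (LinearMap.ker α).subtype α := LinearMap.exact_subtype_ker_map α
  have hex' := Module.Flat.rTensor_exact C hex
  have h1 : α.rTensor C (HopfRep.Comod.coact (k := k) (A := C) w) = 0 := by
    have := LinearMap.congr_fun hα w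
    simp only [LinearMap.comp_apply] at this
    rw [← this, LinearMap.mem_ker.mp hw, map_zero]
  exact (hex' _).mp h1

end

end Groth.Agent.Lib.Helper56
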