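import Groth.Agent.Lib.Helper56.SepBlowUp
import Groth.Agent.Lib.Helper20.IdealComap

/-!
# Conrad's separation lemma for admissible blow-ups (helper56)

`exists_sep_ideal` (S17392): for `q : X₂ ⟶ X₁`, `V₁ ⊆ X₁` quasi-compact open, `Z₁ ⊆ X₁`, `Z₂ ⊆ X₂`
closed with quasi-compact complements and `q⁻¹(Z₁ ∩ V₁) ⊆ Z₂`, blowing up `I₁ + K₀^N`
(`V(I₁) = Z₁`, `V(K₀) = X₁ ∖ V₁`) separates.
-/

set_option autoImplicit false
set_option linter.style.haveILetI false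
set_option maxHeartbeats 400000
universe u
open CategoryTheory CategoryTheory.Limits AlgebraicGeometry TopologicalSpace Topology

namespace Groth.Agent.Lib.Helper56.ConradSep

open Groth.Agent.Lib.QCoh Groth.Agent.Lib.QCoh.FTIdeal

variable {X : Scheme.{u}}

theorem mem_radical_of_forall {T : X.Opens} (hT : IsAffineOpen T) (J : Ideal Γ(X, T))
    (b : Γ(X, T))
    (h : ∀ x ∈ T, x ∈ X.zeroLocus (U := T) (J : Set Γ(X, T)) → x ∉ X.basicOpen b) :
    b ∈ J.radical := by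
  rw [Ideal.radical_eq_sInf, Submodule.mem_sInf]
  rintro p ⟨hJp, hp⟩
  have hP : (⟨p, hp⟩ : PrimeSpectrum Γ(X, T)) ∈ PrimeSpectrum.zeroLocus (J : Set Γ(X, T)) := hJp
  rw [← hT.fromSpec_preimage_zeroLocus] at hP
  have hxT : hT.fromSpec (⟨p, hp⟩ : PrimeSpectrum Γ(X, T)) ∈ T := by
    have h0 : hT.fromSpec (⟨p, hp⟩ : PrimeSpectrum Γ(X, T)) ∈ Set.range hT.fromSpec :=
      Set.mem_range_self _
    rw [hT.range_fromSpec] at h0
    exact h0
  have h1 := h _ hxT hP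
  by_contra hb
  apply h1
  have h2 : (⟨p, hp⟩ : PrimeSpectrum Γ(X, T)) ∈ PrimeSpectrum.basicOpen b := hb
  rw [← hT.fromSpec_preimage_basicOpen] at h2
  exact h2

theorem mem_basicOpen_iff_primeIdealOf {T : X.Opens} (hT : IsAffineOpen T) (x : X) (hx : x ∈ T)
    (b : Γ(X, T)) : x ∈ X.basicOpen b ↔ b ∉ (hT.primeIdealOf ⟨x, hx⟩).asIdeal := by
  have h1 := hT.fromSpec_primeIdealOf ⟨x, hx⟩
  have h2 := hT.fromSpec_preimage_basicOpen b
  constructor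
  · intro hxb
    have h3 : hT.primeIdealOf ⟨x, hx⟩ ∈ (hT.fromSpec ⁻¹ᵁ X.basicOpen b) := by
      show hT.fromSpec (hT.primeIdealOf ⟨x, hx⟩) ∈ X.basicOpen b
      rw [h1]; exact hxb
    rw [h2] at h3
    exact h3
  · intro hb
    have h3 : hT.primeIdealOf ⟨x, hx⟩ ∈ PrimeSpectrum.basicOpen b := hb
    rw [← h2] at h3
    have h4 : hT.fromSpec (hT.primeIdealOf ⟨x, hx⟩) ∈ X.basicOpen b := h3
    rwa [h1] at h4

/-- The key local statement. -/
theorem local_sep {X₁ X₂ X₁' : Scheme.{u}} (q : X₂ ⟶ X₁) (c : X₁' ⟶ X₁)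
    (I₁ K : X₁.IdealSheafData) (V₁ : X₁.Opens)
    (hdisj : Disjoint ((I₁ ⊔ K).support : Set X₁) (V₁ : Set X₁))
    (hb1 : BlowUp.IsEffCartierIdeal ((I₁ ⊔ K).comap c))
    (z : ↑(pullback q c)) (T : X₂.affineOpens) (W : X₁.affineOpens) (hTW : T.1 ≤ q ⁻¹ᵁ W.1)
    (hzT : (pullback.fst q c) z ∈ T.1)
    (hle : Ideal.map (q.appLE W.1 T.1 hTW).hom (K.ideal W) ≤
      Ideal.map (q.appLE W.1 T.1 hTW).hom (I₁.ideal W))
    (hz1 : (pullback.snd q c) z ∈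
      closure ((fun x => c x) ⁻¹' ((I₁.support : Set X₁) ∩ (V₁ : Set X₁)))) :
    z ∉ closure ((fun z => (pullback.fst q c) z) ⁻¹' ((fun x => q x) ⁻¹' (V₁ : Set X₁))) := by
  obtain ⟨V', hxV', f, hf, hEV⟩ := hb1 ((pullback.snd q c) z)
  have hsup : ((I₁ ⊔ K).comap c) = I₁.comap c ⊔ K.comap c :=
    (Scheme.IdealSheafData.map_gc c).l_sup
  have hfmem : f ∈ (I₁.comap c).ideal V' ⊔ (K.comap c).ideal V' := by
    have : f ∈ ((I₁ ⊔ K).comap c).ideal V' := by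
      rw [hEV]; exact Ideal.mem_span_singleton_self f
    rw [hsup, Scheme.IdealSheafData.ideal_sup] at this
    exact this
  obtain ⟨g₁, hg₁, g₂, hg₂, hgf⟩ := Submodule.mem_sup.mp hfmem
  have hle₁ : (I₁.comap c).ideal V' ≤ Ideal.span {f} := by
    rw [← hEV, hsup, Scheme.IdealSheafData.ideal_sup]; exact le_sup_left
  have hle₂ : (K.comap c).ideal V' ≤ Ideal.span {f} := by
    rw [← hEV, hsup, Scheme.IdealSheafData.ideal_sup]; exact le_sup_right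
  obtain ⟨k₁, hk₁⟩ := Ideal.mem_span_singleton'.mp (hle₁ hg₁)
  obtain ⟨k₂, hk₂⟩ := Ideal.mem_span_singleton'.mp (hle₂ hg₂)
  have hone : k₁ + k₂ = 1 := by
    have h3 : (k₁ + k₂) * f = 1 * f := by rw [add_mul, hk₁, hk₂, hgf, one_mul]
    exact (mul_cancel_right_mem_nonZeroDivisors hf).mp h3
  -- points over `V₁` are in `basicOpen f`
  have hunit : ∀ y : X₁', y ∈ V'.1 → c y ∈ V₁ → y ∈ X₁'.basicOpen f := by
    intro y hyV hcy
    by_contra hyf
    have hyE : y ∈ ((I₁ ⊔ K).comap c).support := by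
      rw [Scheme.IdealSheafData.mem_support_iff_of_mem hyV, Scheme.mem_zeroLocus_iff, hEV]
      intro a ha
      obtain ⟨c', rfl⟩ := Ideal.mem_span_singleton'.mp ha
      intro hya
      rw [Scheme.basicOpen_mul] at hya
      exact hyf hya.2
    rw [Scheme.IdealSheafData.support_comap] at hyE
    exact (Set.disjoint_left.mp hdisj) hyE hcy
  -- `r` vanishes at `x'` whenever `r * f` lies in the `I₁`-ideal
  have hvan : ∀ r : Γ(X₁', V'.1), r * f ∈ (I₁.comap c).ideal V' →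
      (pullback.snd q c) z ∉ X₁'.basicOpen r := by
    intro r hr hxr
    obtain ⟨y, hy1, hy2⟩ := mem_closure_iff.mp hz1 (X₁'.basicOpen r) (X₁'.basicOpen r).2 hxr
    have hyV : y ∈ V'.1 := X₁'.basicOpen_le r hy1
    have hyf := hunit y hyV hy2.2
    have hyI : y ∈ (I₁.comap c).support := by
      rw [Scheme.IdealSheafData.support_comap]; exact hy2.1
    rw [Scheme.IdealSheafData.mem_support_iff_of_mem hyV, Scheme.mem_zeroLocus_iff] at hyI
    apply hyI (r * f) hr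
    rw [Scheme.basicOpen_mul]; exact ⟨hy1, hyf⟩
  have hk₂x : (pullback.snd q c) z ∈ X₁'.basicOpen k₂ := by
    have h1 : (pullback.snd q c) z ∈ X₁'.basicOpen (k₁ + k₂) := by
      rw [hone, Scheme.basicOpen_of_isUnit _ isUnit_one]; exact hxV'
    by_contra h2
    have h3 : (pullback.snd q c) z ∉ X₁'.basicOpen k₁ := hvan k₁ (by rw [hk₁]; exact hg₁)
    rw [Scheme.mem_basicOpen _ _ _ hxV', map_add] at h1
    rw [Scheme.mem_basicOpen _ _ _ hxV'] at h2 h3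
    exact (IsLocalRing.nonunits_add h3 h2) h1
  -- affine neighbourhood `T'` of `z`
  obtain ⟨_, ⟨T', hT', rfl⟩, hzT', hT'sub⟩ :=
    (pullback q c).isBasis_affineOpens.exists_subset_of_mem_open
      (show z ∈ (((pullback.fst q c) ⁻¹ᵁ T.1 ⊓ (pullback.snd q c) ⁻¹ᵁ (X₁'.basicOpen k₂) :
        (pullback q c).Opens) : Set _) from ⟨hzT, hk₂x⟩)
      ((pullback.fst q c) ⁻¹ᵁ T.1 ⊓ (pullback.snd q c) ⁻¹ᵁ (X₁'.basicOpen k₂)).2
  have e1 : T' ≤ (pullback.fst q c) ⁻¹ᵁ T.1 := fun y hy => (hT'sub hy).1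
  have e2 : T' ≤ (pullback.snd q c) ⁻¹ᵁ V'.1 := fun y hy => X₁'.basicOpen_le k₂ (hT'sub hy).2
  have hbo : ∀ s : Γ(X₁', V'.1),
      (pullback q c).basicOpen (((pullback.snd q c).appLE V'.1 T' e2).hom s) =
        T' ⊓ (pullback.snd q c) ⁻¹ᵁ (X₁'.basicOpen s) :=
    fun s => Scheme.basicOpen_appLE _ _ _ e2 s
  -- ideal computations
  have hcond : pullback.snd q c ≫ c = pullback.fst q c ≫ q := pullback.condition.symm
  have hA : ∀ J : X₁.IdealSheafData, (J.comap (pullback.snd q c ≫ c)).ideal ⟨T', hT'⟩ =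
      Ideal.map ((pullback.snd q c).appLE V'.1 T' e2).hom ((J.comap c).ideal V') := by
    intro J
    rw [Scheme.IdealSheafData.comap_comp]
    exact Groth.Agent.Lib.Helper20.ideal_comap (pullback.snd q c) (J.comap c) ⟨T', hT'⟩ V' e2
  have hB : ∀ J : X₁.IdealSheafData, (J.comap (pullback.fst q c ≫ q)).ideal ⟨T', hT'⟩ =
      Ideal.map ((pullback.fst q c).appLE T.1 T' e1).hom
        (Ideal.map (q.appLE W.1 T.1 hTW).hom (J.ideal W)) := by
    intro J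
    rw [Scheme.IdealSheafData.comap_comp,
      Groth.Agent.Lib.Helper20.ideal_comap (pullback.fst q c) (J.comap q) ⟨T', hT'⟩ T e1,
      Groth.Agent.Lib.Helper20.ideal_comap q J T W hTW]
  have hkey : Ideal.map ((pullback.snd q c).appLE V'.1 T' e2).hom ((K.comap c).ideal V') ≤
      Ideal.map ((pullback.snd q c).appLE V'.1 T' e2).hom ((I₁.comap c).ideal V') := by
    rw [← hA K, ← hA I₁, hcond, hB K, hB I₁]
    exact Ideal.map_mono hle
  have h1 : ((pullback.snd q c).appLE V'.1 T' e2).hom g₂ ∈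
      Ideal.map ((pullback.snd q c).appLE V'.1 T' e2).hom ((I₁.comap c).ideal V') :=
    hkey (Ideal.mem_map_of_mem _ hg₂)
  have hP : ∀ b : Γ(pullback q c, T'), b ∈ (hT'.primeIdealOf ⟨z, hzT'⟩).asIdeal ↔
      z ∉ (pullback q c).basicOpen b := by
    intro b
    rw [mem_basicOpen_iff_primeIdealOf hT' z hzT' b, not_not]
  have h2 : Ideal.map ((pullback.snd q c).appLE V'.1 T' e2).hom ((I₁.comap c).ideal V') ≤
      (hT'.primeIdealOf ⟨z, hzT'⟩).asIdeal *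
        Ideal.span {((pullback.snd q c).appLE V'.1 T' e2).hom f} := by
    rw [Ideal.map_le_iff_le_comap]
    intro a ha
    obtain ⟨r, hr⟩ := Ideal.mem_span_singleton'.mp (hle₁ ha)
    rw [Ideal.mem_comap, ← hr, map_mul]
    apply Ideal.mul_mem_mul
    · rw [hP, hbo]
      intro hzr
      exact hvan r (by rw [hr]; exact ha) hzr.2
    · exact Ideal.mem_span_singleton_self _
  obtain ⟨ρ, hρ, hρeq⟩ := Ideal.mem_mul_span_singleton.mp (h2 h1)
  have hu0 : (((pullback.snd q c).appLE V'.1 T' e2).hom k₂ - ρ) *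
      ((pullback.snd q c).appLE V'.1 T' e2).hom f = 0 := by
    rw [sub_mul, hρeq, ← map_mul, hk₂, sub_self]
  have hσk₂ : ((pullback.snd q c).appLE V'.1 T' e2).hom k₂ ∉
      (hT'.primeIdealOf ⟨z, hzT'⟩).asIdeal := by
    rw [hP, not_not, hbo]
    exact ⟨hzT', hk₂x⟩
  have hu : ((pullback.snd q c).appLE V'.1 T' e2).hom k₂ - ρ ∉
      (hT'.primeIdealOf ⟨z, hzT'⟩).asIdeal := by
    intro h
    apply hσk₂
    have := Ideal.add_mem _ h hρ
    rwa [sub_add_cancel] at this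
  rw [hP, not_not] at hu
  intro hzcl
  obtain ⟨y, hy1, hy2⟩ := mem_closure_iff.mp hzcl _
    ((pullback q c).basicOpen (((pullback.snd q c).appLE V'.1 T' e2).hom k₂ - ρ)).2 hu
  have hyT' : y ∈ T' := (pullback q c).basicOpen_le _ hy1
  have hcy : c ((pullback.snd q c) y) ∈ V₁ := by
    have h3 : (pullback.snd q c ≫ c) y = (pullback.fst q c ≫ q) y := by rw [hcond]
    have h4 : c ((pullback.snd q c) y) = q ((pullback.fst q c) y) := h3
    rw [h4]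
    exact hy2
  have hyf : (pullback.snd q c) y ∈ X₁'.basicOpen f := hunit _ (e2 hyT') hcy
  have hyσf : y ∈ (pullback q c).basicOpen (((pullback.snd q c).appLE V'.1 T' e2).hom f) := by
    rw [hbo]; exact ⟨hyT', hyf⟩
  have hbot : y ∈ (pullback q c).basicOpen
      ((((pullback.snd q c).appLE V'.1 T' e2).hom k₂ - ρ) *
        ((pullback.snd q c).appLE V'.1 T' e2).hom f) := by
    rw [Scheme.basicOpen_mul]; exact ⟨hy1, hyσf⟩
  rw [hu0, Scheme.basicOpen_zero] at hbot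
  exact hbot

/-- Conrad's separation lemma (S17392), in a slightly stronger form (`U` replaced by `q⁻¹ V₁`,
no separatedness or quasi-compactness of `q`). -/
theorem exists_sep_ideal {X₁ X₂ : Scheme.{u}} [CompactSpace X₁] [QuasiSeparatedSpace X₁]
    (q : X₂ ⟶ X₁) (V₁ : X₁.Opens) (hV₁ : IsCompact (V₁ : Set X₁))
    (Z₁ : Set X₁) (hZ₁ : IsClosed Z₁) (hZ₁c : IsCompact Z₁ᶜ)
    (Z₂ : Set X₂) (hZ₂ : IsClosed Z₂) (hZ₂c : IsCompact Z₂ᶜ)
    (hYZ : (fun x => q x) ⁻¹' (Z₁ ∩ (V₁ : Set X₁)) ⊆ Z₂) :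
    ∃ 𝓔 : X₁.IdealSheafData, BlowUp.IsFiniteTypeIdeal 𝓔 ∧
      (𝓔.support : Set X₁) ⊆ Z₁ \ (V₁ : Set X₁) ∧
      ∀ (X₁' : Scheme.{u}) (c : X₁' ⟶ X₁), BlowUp.IsBlowUp c 𝓔 →
        (fun z => (pullback.snd q c) z) ⁻¹' closure ((fun x => c x) ⁻¹' (Z₁ ∩ (V₁ : Set X₁))) ∩
            closure ((fun z => (pullback.fst q c) z) ⁻¹' ((fun x => q x) ⁻¹' (V₁ : Set X₁))) ⊆
          (fun z => (pullback.fst q c) z) ⁻¹' Z₂ := by
  obtain ⟨I₁, hI₁fg, hI₁s, -⟩ := exists_fg_ideal_support_eq_compl (X := X₁)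
    (U := ⟨Z₁ᶜ, hZ₁.isOpen_compl⟩) hZ₁c
  have hI₁s' : (I₁.support : Set X₁) = Z₁ := by rw [hI₁s]; exact compl_compl Z₁
  obtain ⟨K₀, hK₀fg, hK₀s, -⟩ := exists_fg_ideal_support_eq_compl (X := X₁) (U := V₁) hV₁
  -- finite family of charts covering `Z₂ᶜ`
  have hcov : Z₂ᶜ ⊆ ⋃ i : {p : X₂.affineOpens × X₁.affineOpens //
      p.1.1 ≤ q ⁻¹ᵁ p.2.1 ∧ (p.1.1 : Set X₂) ⊆ Z₂ᶜ}, (i.1.1.1 : Set X₂) := by
    intro x hx
    obtain ⟨_, ⟨W, hW, rfl⟩, hxW, -⟩ := X₁.isBasis_affineOpens.exists_subset_of_mem_open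
      (Set.mem_univ (q x)) isOpen_univ
    obtain ⟨_, ⟨T, hT, rfl⟩, hxT, hTsub⟩ := X₂.isBasis_affineOpens.exists_subset_of_mem_open
      (show x ∈ ((q ⁻¹ᵁ W : X₂.Opens) : Set X₂) ∩ Z₂ᶜ from ⟨hxW, hx⟩)
      ((q ⁻¹ᵁ W).2.inter hZ₂.isOpen_compl)
    exact Set.mem_iUnion.mpr ⟨⟨(⟨T, hT⟩, ⟨W, hW⟩), fun y hy => (hTsub hy).1,
      fun y hy => (hTsub hy).2⟩, hxT⟩
  obtain ⟨t, ht⟩ := hZ₂c.elim_finite_subcover
    (fun i : {p : X₂.affineOpens × X₁.affineOpens //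
      p.1.1 ≤ q ⁻¹ᵁ p.2.1 ∧ (p.1.1 : Set X₂) ⊆ Z₂ᶜ} => (i.1.1.1 : Set X₂))
    (fun i => i.1.1.1.2) hcov
  -- exponent on each chart
  have hN : ∀ i : {p : X₂.affineOpens × X₁.affineOpens //
      p.1.1 ≤ q ⁻¹ᵁ p.2.1 ∧ (p.1.1 : Set X₂) ⊆ Z₂ᶜ}, ∃ n : ℕ,
      Ideal.map (q.appLE i.1.2.1 i.1.1.1 i.2.1).hom ((K₀.ideal i.1.2) ^ n) ≤
        Ideal.map (q.appLE i.1.2.1 i.1.1.1 i.2.1).hom (I₁.ideal i.1.2) := by
    intro i
    have hboq : ∀ s : Γ(X₁, i.1.2.1), X₂.basicOpen ((q.appLE i.1.2.1 i.1.1.1 i.2.1).hom s) =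
        i.1.1.1 ⊓ q ⁻¹ᵁ (X₁.basicOpen s) := fun s => Scheme.basicOpen_appLE _ _ _ i.2.1 s
    have hrad : Ideal.map (q.appLE i.1.2.1 i.1.1.1 i.2.1).hom (K₀.ideal i.1.2) ≤
        (Ideal.map (q.appLE i.1.2.1 i.1.1.1 i.2.1).hom (I₁.ideal i.1.2)).radical := by
      rw [Ideal.map_le_iff_le_comap]
      intro k hk
      rw [Ideal.mem_comap]
      apply mem_radical_of_forall i.1.1.2
      intro x hxT hxz
      have hqxW : q x ∈ i.1.2.1 := i.2.1 hxT
      have hqx1 : q x ∈ I₁.support := by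
        rw [Scheme.IdealSheafData.mem_support_iff_of_mem hqxW, Scheme.mem_zeroLocus_iff]
        intro a ha hqa
        rw [Scheme.mem_zeroLocus_iff] at hxz
        apply hxz _ (Ideal.mem_map_of_mem _ ha)
        rw [hboq]
        exact ⟨hxT, hqa⟩
      have hqxV : q x ∉ V₁ := by
        intro hV
        have hxZ₂ : x ∈ Z₂ := hYZ ⟨by rw [← hI₁s']; exact hqx1, hV⟩
        exact i.2.2 hxT hxZ₂
      have hqxK : q x ∈ K₀.support := by
        have h0 : q x ∈ (K₀.support : Set X₁) := by rw [hK₀s]; exact hqxV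
        exact h0
      rw [Scheme.IdealSheafData.mem_support_iff_of_mem hqxW, Scheme.mem_zeroLocus_iff] at hqxK
      intro hxk
      rw [hboq] at hxk
      exact hqxK k hk hxk.2
    obtain ⟨n, hn⟩ := Ideal.exists_pow_le_of_le_radical_of_fg hrad ((hK₀fg i.1.2).map _)
    exact ⟨n, by rw [Ideal.map_pow]; exact hn⟩
  choose n hn using hN
  have hdisj : Disjoint ((I₁ ⊔ K₀ ^ (t.sup n + 1)).support : Set X₁) (V₁ : Set X₁) := by
    rw [Set.disjoint_left]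
    intro x hx hxV
    have h2 := Scheme.IdealSheafData.support_antitone
      (le_sup_right : K₀ ^ (t.sup n + 1) ≤ I₁ ⊔ K₀ ^ (t.sup n + 1)) hx
    rw [Scheme.IdealSheafData.support_pow_succ] at h2
    have h3 : x ∈ (K₀.support : Set X₁) := h2
    rw [hK₀s] at h3
    exact h3 hxV
  refine ⟨I₁ ⊔ K₀ ^ (t.sup n + 1), ?_, ?_, ?_⟩
  · intro W
    rw [Scheme.IdealSheafData.ideal_sup, Scheme.IdealSheafData.ideal_pow]
    exact Submodule.FG.sup (hI₁fg W) (Ideal.FG.pow (hK₀fg W))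
  · intro x hx
    have h1 := Scheme.IdealSheafData.support_antitone
      (le_sup_left : I₁ ≤ I₁ ⊔ K₀ ^ (t.sup n + 1)) hx
    refine ⟨by rw [← hI₁s']; exact h1, fun hxV => ?_⟩
    exact (Set.disjoint_left.mp hdisj) hx hxV
  · rintro X₁' c hb z ⟨hz1, hz2⟩
    by_contra hzZ
    have hzc : (pullback.fst q c) z ∈ Z₂ᶜ := hzZ
    obtain ⟨i, hit, hzi⟩ : ∃ i ∈ t, (pullback.fst q c) z ∈ (i.1.1.1 : Set X₂) := by
      have := ht hzc
      simpa using this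
    refine local_sep q c I₁ (K₀ ^ (t.sup n + 1)) V₁ hdisj hb.1 z i.1.1 i.1.2 i.2.1 hzi ?_ ?_ hz2
    · rw [Scheme.IdealSheafData.ideal_pow]
      refine le_trans (Ideal.map_mono ?_) (hn i)
      exact Ideal.pow_le_pow_right ((Finset.le_sup hit).trans (Nat.le_succ _))
    · rw [hI₁s']
      exact hz1

end Groth.Agent.Lib.Helper56.ConradSep
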