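import Groth.Agent.Lib.Helper56.ConradSep

/-!
# More separation lemmas for admissible blow-ups (helper56)

* `sep_of_comap_le` : Lütkebohmert's separation lemma (S17889).
* `sep_immersion` : Conrad's lemma (S17391).
-/

set_option autoImplicit false
set_option linter.style.haveILetI false
set_option maxHeartbeats 400000
universe u
open CategoryTheory CategoryTheory.Limits AlgebraicGeometry TopologicalSpace Topology

namespace Groth.Agent.Lib.Helper56.ConradSep

/-- Lütkebohmert's separation lemma, pointwise. -/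
theorem sep_of_comap_le {X Z X' : Scheme.{u}} (p : Z ⟶ X) (X₀ : X.Opens)
    (IF 𝔞 : X.IdealSheafData) (IG : Z.IdealSheafData)
    (h₁ : Disjoint (𝔞.support : Set X) (X₀ : Set X))
    (h₂ : IF ≤ 𝔞) (h₃ : 𝔞.comap p ≤ IF.comap p ⊔ IG)
    (π : X' ⟶ X) (hπ : BlowUp.IsEffCartierIdeal (𝔞.comap π)) (z : ↑(pullback p π))
    (hz1 : (pullback.snd p π) z ∈
      closure ((fun x => π x) ⁻¹' ((IF.support : Set X) ∩ (X₀ : Set X)))) :
    z ∉ closure ((fun z => (pullback.fst p π) z) ⁻¹'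
      ((IG.support : Set Z) ∩ ((fun x => p x) ⁻¹' (X₀ : Set X)))) := by
  obtain ⟨V', hxV', f, hf, hEV⟩ := hπ ((pullback.snd p π) z)
  have hleF : (IF.comap π).ideal V' ≤ Ideal.span {f} := by
    rw [← hEV]
    exact (Scheme.IdealSheafData.comap_mono π h₂) V'
  have hunit : ∀ y : X', y ∈ V'.1 → π y ∈ X₀ → y ∈ X'.basicOpen f := by
    intro y hyV hcy
    by_contra hyf
    have hyE : y ∈ (𝔞.comap π).support := by
      rw [Scheme.IdealSheafData.mem_support_iff_of_mem hyV, Scheme.mem_zeroLocus_iff, hEV]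
      intro a ha
      obtain ⟨c', rfl⟩ := Ideal.mem_span_singleton'.mp ha
      intro hya
      rw [Scheme.basicOpen_mul] at hya
      exact hyf hya.2
    rw [Scheme.IdealSheafData.support_comap] at hyE
    exact (Set.disjoint_left.mp h₁) hyE hcy
  have hvan : ∀ r : Γ(X', V'.1), r * f ∈ (IF.comap π).ideal V' →
      (pullback.snd p π) z ∉ X'.basicOpen r := by
    intro r hr hxr
    obtain ⟨y, hy1, hy2⟩ := mem_closure_iff.mp hz1 (X'.basicOpen r) (X'.basicOpen r).2 hxr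
    have hyV : y ∈ V'.1 := X'.basicOpen_le r hy1
    have hyf := hunit y hyV hy2.2
    have hyI : y ∈ (IF.comap π).support := by
      rw [Scheme.IdealSheafData.support_comap]; exact hy2.1
    rw [Scheme.IdealSheafData.mem_support_iff_of_mem hyV, Scheme.mem_zeroLocus_iff] at hyI
    apply hyI (r * f) hr
    rw [Scheme.basicOpen_mul]; exact ⟨hy1, hyf⟩
  obtain ⟨_, ⟨T', hT', rfl⟩, hzT', hT'sub⟩ :=
    (pullback p π).isBasis_affineOpens.exists_subset_of_mem_open
      (show z ∈ (((pullback.snd p π) ⁻¹ᵁ V'.1 : (pullback p π).Opens) : Set _) from hxV')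
      ((pullback.snd p π) ⁻¹ᵁ V'.1).2
  have e2 : T' ≤ (pullback.snd p π) ⁻¹ᵁ V'.1 := fun y hy => hT'sub hy
  have hbo : ∀ s : Γ(X', V'.1),
      (pullback p π).basicOpen (((pullback.snd p π).appLE V'.1 T' e2).hom s) =
        T' ⊓ (pullback.snd p π) ⁻¹ᵁ (X'.basicOpen s) :=
    fun s => Scheme.basicOpen_appLE _ _ _ e2 s
  have hcond : pullback.snd p π ≫ π = pullback.fst p π ≫ p := pullback.condition.symm
  have hA : ∀ J : X.IdealSheafData, (J.comap (pullback.snd p π ≫ π)).ideal ⟨T', hT'⟩ =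
      Ideal.map ((pullback.snd p π).appLE V'.1 T' e2).hom ((J.comap π).ideal V') := by
    intro J
    rw [Scheme.IdealSheafData.comap_comp]
    exact Groth.Agent.Lib.Helper20.ideal_comap (pullback.snd p π) (J.comap π) ⟨T', hT'⟩ V' e2
  have h1 : ((pullback.snd p π).appLE V'.1 T' e2).hom f ∈
      (𝔞.comap (pullback.snd p π ≫ π)).ideal ⟨T', hT'⟩ := by
    rw [hA, hEV]
    exact Ideal.mem_map_of_mem _ (Ideal.mem_span_singleton_self f)
  have h2 : 𝔞.comap (pullback.snd p π ≫ π) ≤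
      IF.comap (pullback.snd p π ≫ π) ⊔ IG.comap (pullback.fst p π) := by
    rw [hcond, Scheme.IdealSheafData.comap_comp, Scheme.IdealSheafData.comap_comp]
    refine le_trans (Scheme.IdealSheafData.comap_mono (pullback.fst p π) h₃) ?_
    exact le_of_eq (Scheme.IdealSheafData.map_gc (pullback.fst p π)).l_sup
  have h3 : ((pullback.snd p π).appLE V'.1 T' e2).hom f ∈
      (IF.comap (pullback.snd p π ≫ π)).ideal ⟨T', hT'⟩ ⊔
        (IG.comap (pullback.fst p π)).ideal ⟨T', hT'⟩ := by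
    have := h2 ⟨T', hT'⟩ h1
    rwa [Scheme.IdealSheafData.ideal_sup] at this
  obtain ⟨a, ha, γ, hγ, haγ⟩ := Submodule.mem_sup.mp h3
  have hP : ∀ b : Γ(pullback p π, T'), b ∈ (hT'.primeIdealOf ⟨z, hzT'⟩).asIdeal ↔
      z ∉ (pullback p π).basicOpen b := by
    intro b
    rw [mem_basicOpen_iff_primeIdealOf hT' z hzT' b, not_not]
  have h4 : (IF.comap (pullback.snd p π ≫ π)).ideal ⟨T', hT'⟩ ≤
      (hT'.primeIdealOf ⟨z, hzT'⟩).asIdeal *
        Ideal.span {((pullback.snd p π).appLE V'.1 T' e2).hom f} := by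
    rw [hA, Ideal.map_le_iff_le_comap]
    intro a ha
    obtain ⟨r, hr⟩ := Ideal.mem_span_singleton'.mp (hleF ha)
    rw [Ideal.mem_comap, ← hr, map_mul]
    apply Ideal.mul_mem_mul
    · rw [hP, hbo]
      intro hzr
      exact hvan r (by rw [hr]; exact ha) hzr.2
    · exact Ideal.mem_span_singleton_self _
  obtain ⟨ρ, hρ, hρeq⟩ := Ideal.mem_mul_span_singleton.mp (h4 ha)
  have hu0 : (1 - ρ) * ((pullback.snd p π).appLE V'.1 T' e2).hom f = γ := by
    rw [sub_mul, one_mul, hρeq, ← haγ, add_sub_cancel_left]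
  have hu : 1 - ρ ∉ (hT'.primeIdealOf ⟨z, hzT'⟩).asIdeal := by
    intro h
    have h5 := Ideal.add_mem _ h hρ
    rw [sub_add_cancel] at h5
    exact (hT'.primeIdealOf ⟨z, hzT'⟩).isPrime.one_notMem h5
  rw [hP, not_not] at hu
  intro hzcl
  obtain ⟨y, hy1, hy2⟩ := mem_closure_iff.mp hzcl _
    ((pullback p π).basicOpen (1 - ρ)).2 hu
  have hyT' : y ∈ T' := (pullback p π).basicOpen_le _ hy1
  have hyG : y ∈ (IG.comap (pullback.fst p π)).support := by
    rw [Scheme.IdealSheafData.support_comap]; exact hy2.1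
  rw [Scheme.IdealSheafData.mem_support_iff_of_mem (U := ⟨T', hT'⟩) hyT',
    Scheme.mem_zeroLocus_iff] at hyG
  have hcy : π ((pullback.snd p π) y) ∈ X₀ := by
    have h6 : (pullback.snd p π ≫ π) y = (pullback.fst p π ≫ p) y := by rw [hcond]
    have h7 : π ((pullback.snd p π) y) = p ((pullback.fst p π) y) := h6
    rw [h7]
    exact hy2.2
  have hyf : (pullback.snd p π) y ∈ X'.basicOpen f := hunit _ (e2 hyT') hcy
  have hyσf : y ∈ (pullback p π).basicOpen (((pullback.snd p π).appLE V'.1 T' e2).hom f) := by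
    rw [hbo]; exact ⟨hyT', hyf⟩
  apply hyG γ hγ
  rw [← hu0, Scheme.basicOpen_mul]
  exact ⟨hy1, hyσf⟩

/-- Conrad's lemma (S17391), pointwise and with `𝓘₁` in place of `𝓘₁²`. -/
theorem sep_immersion {X Y Z X' : Scheme.{u}} (p : Z ⟶ X) (U V : X.Opens) (hUV : U ≤ V)
    (f : Y ⟶ Z) (hY : Set.range (fun y => p (f y)) ⊆ (U : Set X))
    (𝓘₁ 𝓘₂ : X.IdealSheafData)
    (h₁ : (V : Set X) \ (U : Set X) ⊆ (𝓘₁.support : Set X))
    (h₂ : Disjoint (𝓘₂.support : Set X) (V : Set X))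
    (hincl : 𝓘₂.comap p ≤ 𝓘₁.comap p ⊔ f.ker)
    (q : X' ⟶ X) (hq : BlowUp.IsEffCartierIdeal ((𝓘₁ ⊔ 𝓘₂).comap q)) (z : ↑(pullback p q))
    (hz1 : (pullback.snd p q) z ∈
      closure ((fun x' => q x') ⁻¹' ((V : Set X) \ (U : Set X)))) :
    z ∉ closure (Set.range (fun y => (pullback.snd f (pullback.fst p q)) y)) := by
  obtain ⟨V', hxV', t, ht, hEV⟩ := hq ((pullback.snd p q) z)
  have hsup : ((𝓘₁ ⊔ 𝓘₂).comap q) = 𝓘₁.comap q ⊔ 𝓘₂.comap q :=
    (Scheme.IdealSheafData.map_gc q).l_sup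
  have hfmem : t ∈ (𝓘₁.comap q).ideal V' ⊔ (𝓘₂.comap q).ideal V' := by
    have : t ∈ ((𝓘₁ ⊔ 𝓘₂).comap q).ideal V' := by
      rw [hEV]; exact Ideal.mem_span_singleton_self t
    rw [hsup, Scheme.IdealSheafData.ideal_sup] at this
    exact this
  obtain ⟨g₁, hg₁, g₂, hg₂, hgf⟩ := Submodule.mem_sup.mp hfmem
  have hle₁ : (𝓘₁.comap q).ideal V' ≤ Ideal.span {t} := by
    rw [← hEV, hsup, Scheme.IdealSheafData.ideal_sup]; exact le_sup_left
  have hle₂ : (𝓘₂.comap q).ideal V' ≤ Ideal.span {t} := by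
    rw [← hEV, hsup, Scheme.IdealSheafData.ideal_sup]; exact le_sup_right
  obtain ⟨k₁, hk₁⟩ := Ideal.mem_span_singleton'.mp (hle₁ hg₁)
  obtain ⟨k₂, hk₂⟩ := Ideal.mem_span_singleton'.mp (hle₂ hg₂)
  have hone : k₁ + k₂ = 1 := by
    have h3 : (k₁ + k₂) * t = 1 * t := by rw [add_mul, hk₁, hk₂, hgf, one_mul]
    exact (mul_cancel_right_mem_nonZeroDivisors ht).mp h3
  have hunit : ∀ y : X', y ∈ V'.1 → q y ∈ V → y ∈ X'.basicOpen t := by
    intro y hyV hcy
    by_contra hyf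
    have hyE : y ∈ ((𝓘₁ ⊔ 𝓘₂).comap q).support := by
      rw [Scheme.IdealSheafData.mem_support_iff_of_mem hyV, Scheme.mem_zeroLocus_iff, hEV]
      intro a ha
      obtain ⟨c', rfl⟩ := Ideal.mem_span_singleton'.mp ha
      intro hya
      rw [Scheme.basicOpen_mul] at hya
      exact hyf hya.2
    rw [Scheme.IdealSheafData.support_comap] at hyE
    have hy2 := Scheme.IdealSheafData.support_antitone (le_sup_right : 𝓘₂ ≤ 𝓘₁ ⊔ 𝓘₂) hyE
    exact (Set.disjoint_left.mp h₂) hy2 hcy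
  have hvan : ∀ r : Γ(X', V'.1), r * t ∈ (𝓘₁.comap q).ideal V' →
      (pullback.snd p q) z ∉ X'.basicOpen r := by
    intro r hr hxr
    obtain ⟨y, hy1, hy2⟩ := mem_closure_iff.mp hz1 (X'.basicOpen r) (X'.basicOpen r).2 hxr
    have hyV : y ∈ V'.1 := X'.basicOpen_le r hy1
    have hyf := hunit y hyV hy2.1
    have hyI : y ∈ (𝓘₁.comap q).support := by
      rw [Scheme.IdealSheafData.support_comap]; exact h₁ hy2
    rw [Scheme.IdealSheafData.mem_support_iff_of_mem hyV, Scheme.mem_zeroLocus_iff] at hyI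
    apply hyI (r * t) hr
    rw [Scheme.basicOpen_mul]; exact ⟨hy1, hyf⟩
  have hk₂x : (pullback.snd p q) z ∈ X'.basicOpen k₂ := by
    have h1 : (pullback.snd p q) z ∈ X'.basicOpen (k₁ + k₂) := by
      rw [hone, Scheme.basicOpen_of_isUnit _ isUnit_one]; exact hxV'
    by_contra h2
    have h3 : (pullback.snd p q) z ∉ X'.basicOpen k₁ := hvan k₁ (by rw [hk₁]; exact hg₁)
    rw [Scheme.mem_basicOpen _ _ _ hxV', map_add] at h1
    rw [Scheme.mem_basicOpen _ _ _ hxV'] at h2 h3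
    exact (IsLocalRing.nonunits_add h3 h2) h1
  obtain ⟨_, ⟨T', hT', rfl⟩, hzT', hT'sub⟩ :=
    (pullback p q).isBasis_affineOpens.exists_subset_of_mem_open
      (show z ∈ (((pullback.snd p q) ⁻¹ᵁ (X'.basicOpen k₂) : (pullback p q).Opens) : Set _)
        from hk₂x)
      ((pullback.snd p q) ⁻¹ᵁ (X'.basicOpen k₂)).2
  have e2 : T' ≤ (pullback.snd p q) ⁻¹ᵁ V'.1 := fun y hy => X'.basicOpen_le k₂ (hT'sub hy)
  have hbo : ∀ s : Γ(X', V'.1),
      (pullback p q).basicOpen (((pullback.snd p q).appLE V'.1 T' e2).hom s) =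
        T' ⊓ (pullback.snd p q) ⁻¹ᵁ (X'.basicOpen s) :=
    fun s => Scheme.basicOpen_appLE _ _ _ e2 s
  have hcond : pullback.snd p q ≫ q = pullback.fst p q ≫ p := pullback.condition.symm
  have hA : ∀ J : X.IdealSheafData, (J.comap (pullback.snd p q ≫ q)).ideal ⟨T', hT'⟩ =
      Ideal.map ((pullback.snd p q).appLE V'.1 T' e2).hom ((J.comap q).ideal V') := by
    intro J
    rw [Scheme.IdealSheafData.comap_comp]
    exact Groth.Agent.Lib.Helper20.ideal_comap (pullback.snd p q) (J.comap q) ⟨T', hT'⟩ V' e2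
  have h1 : ((pullback.snd p q).appLE V'.1 T' e2).hom g₂ ∈
      (𝓘₂.comap (pullback.snd p q ≫ q)).ideal ⟨T', hT'⟩ := by
    rw [hA]
    exact Ideal.mem_map_of_mem _ hg₂
  have h2 : 𝓘₂.comap (pullback.snd p q ≫ q) ≤
      𝓘₁.comap (pullback.snd p q ≫ q) ⊔ f.ker.comap (pullback.fst p q) := by
    rw [hcond, Scheme.IdealSheafData.comap_comp, Scheme.IdealSheafData.comap_comp]
    refine le_trans (Scheme.IdealSheafData.comap_mono (pullback.fst p q) hincl) ?_
    exact le_of_eq (Scheme.IdealSheafData.map_gc (pullback.fst p q)).l_sup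
  have h3 : ((pullback.snd p q).appLE V'.1 T' e2).hom g₂ ∈
      (𝓘₁.comap (pullback.snd p q ≫ q)).ideal ⟨T', hT'⟩ ⊔
        (f.ker.comap (pullback.fst p q)).ideal ⟨T', hT'⟩ := by
    have := h2 ⟨T', hT'⟩ h1
    rwa [Scheme.IdealSheafData.ideal_sup] at this
  obtain ⟨a, ha, γ, hγ, haγ⟩ := Submodule.mem_sup.mp h3
  have hP : ∀ b : Γ(pullback p q, T'), b ∈ (hT'.primeIdealOf ⟨z, hzT'⟩).asIdeal ↔
      z ∉ (pullback p q).basicOpen b := by
    intro b
    rw [mem_basicOpen_iff_primeIdealOf hT' z hzT' b, not_not]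
  have h4 : (𝓘₁.comap (pullback.snd p q ≫ q)).ideal ⟨T', hT'⟩ ≤
      (hT'.primeIdealOf ⟨z, hzT'⟩).asIdeal *
        Ideal.span {((pullback.snd p q).appLE V'.1 T' e2).hom t} := by
    rw [hA, Ideal.map_le_iff_le_comap]
    intro a ha
    obtain ⟨r, hr⟩ := Ideal.mem_span_singleton'.mp (hle₁ ha)
    rw [Ideal.mem_comap, ← hr, map_mul]
    apply Ideal.mul_mem_mul
    · rw [hP, hbo]
      intro hzr
      exact hvan r (by rw [hr]; exact ha) hzr.2
    · exact Ideal.mem_span_singleton_self _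
  obtain ⟨ρ, hρ, hρeq⟩ := Ideal.mem_mul_span_singleton.mp (h4 ha)
  have hu0 : (((pullback.snd p q).appLE V'.1 T' e2).hom k₂ - ρ) *
      ((pullback.snd p q).appLE V'.1 T' e2).hom t = γ := by
    rw [sub_mul, hρeq, ← map_mul, hk₂, ← haγ, add_sub_cancel_left]
  have hσk₂ : ((pullback.snd p q).appLE V'.1 T' e2).hom k₂ ∉
      (hT'.primeIdealOf ⟨z, hzT'⟩).asIdeal := by
    rw [hP, not_not, hbo]
    exact ⟨hzT', hk₂x⟩
  have hu : ((pullback.snd p q).appLE V'.1 T' e2).hom k₂ - ρ ∉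
      (hT'.primeIdealOf ⟨z, hzT'⟩).asIdeal := by
    intro h
    apply hσk₂
    have := Ideal.add_mem _ h hρ
    rwa [sub_add_cancel] at this
  rw [hP, not_not] at hu
  intro hzcl
  obtain ⟨y, hy1, ⟨y', rfl⟩⟩ := mem_closure_iff.mp hzcl _
    ((pullback p q).basicOpen (((pullback.snd p q).appLE V'.1 T' e2).hom k₂ - ρ)).2 hu
  have hyT' : (pullback.snd f (pullback.fst p q)) y' ∈ T' := (pullback p q).basicOpen_le _ hy1
  have hfy : (pullback.fst p q) ((pullback.snd f (pullback.fst p q)) y') =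
      f ((pullback.fst f (pullback.fst p q)) y') := by
    have h6 : (pullback.snd f (pullback.fst p q) ≫ pullback.fst p q) y' =
        (pullback.fst f (pullback.fst p q) ≫ f) y' := by rw [pullback.condition]
    exact h6
  have hyG : (pullback.snd f (pullback.fst p q)) y' ∈
      (f.ker.comap (pullback.fst p q)).support := by
    rw [Scheme.IdealSheafData.support_comap]
    show (pullback.fst p q) ((pullback.snd f (pullback.fst p q)) y') ∈ f.ker.support
    rw [hfy]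
    exact f.range_subset_ker_support ⟨_, rfl⟩
  rw [Scheme.IdealSheafData.mem_support_iff_of_mem (U := ⟨T', hT'⟩) hyT',
    Scheme.mem_zeroLocus_iff] at hyG
  have hcy : q ((pullback.snd p q) ((pullback.snd f (pullback.fst p q)) y')) ∈ V := by
    have h6 : (pullback.snd p q ≫ q) ((pullback.snd f (pullback.fst p q)) y') =
        (pullback.fst p q ≫ p) ((pullback.snd f (pullback.fst p q)) y') := by rw [hcond]
    have h7 : q ((pullback.snd p q) ((pullback.snd f (pullback.fst p q)) y')) =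
        p ((pullback.fst p q) ((pullback.snd f (pullback.fst p q)) y')) := h6
    rw [h7, hfy]
    exact hUV (hY ⟨_, rfl⟩)
  have hyf : (pullback.snd p q) ((pullback.snd f (pullback.fst p q)) y') ∈ X'.basicOpen t :=
    hunit _ (e2 hyT') hcy
  have hyσf : (pullback.snd f (pullback.fst p q)) y' ∈
      (pullback p q).basicOpen (((pullback.snd p q).appLE V'.1 T' e2).hom t) := by
    rw [hbo]; exact ⟨hyT', hyf⟩
  apply hyG γ hγ
  rw [← hu0, Scheme.basicOpen_mul]
  exact ⟨hy1, hyσf⟩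

end Groth.Agent.Lib.Helper56.ConradSep
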