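import Groth.Agent.Lib.Helper56.RelAmpleB

/-!
# Ampleness on disjoint unions

ns `Groth.Agent.Lib.Helper56.RelAmple`.

* `isAmple_restrict_restrict_iff'` : `(L|_j)|_{W'}` ample ↔ `L|_{j ''ᵁ W'}` ample, `j` any open immersion.
* `exists_basicOpen_eq_of_isCompl` : a clopen `A` (with open complement `B`) is `X_e` for a global function `e`.
* `isAmple_of_isCompl` : `X = A ⊔ B` disjoint opens, `M|_A`, `M|_B` ample ⇒ `M` ample.
* `isAmple_restrict_sup` : `A`, `B` disjoint opens, `L|_A`, `L|_B` ample ⇒ `L|_{A ⊔ B}` ample.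
-/

set_option maxHeartbeats 400000

universe u

open CategoryTheory CategoryTheory.Limits AlgebraicGeometry TopologicalSpace Opposite

namespace Groth.Agent.Lib.Helper56.RelAmple

open Groth.Agent.Lib.Ample Groth.Agent.Lib.QCoh CohB1 Scheme.Modules

/-- `(L|_j)|_{W'}` is ample iff `L|_{j ''ᵁ W'}` is. -/
theorem isAmple_restrict_restrict_iff' {X' X : Scheme.{u}} (j : X' ⟶ X) [IsOpenImmersion j]
    {L : X.Modules} (W' : X'.Opens) :
    IsAmple ((L.restrict j).restrict W'.ι) ↔ IsAmple (L.restrict (j ''ᵁ W').ι) := by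
  have e : L.restrict (j ''ᵁ W').ι ≅
      ((L.restrict j).restrict W'.ι).restrict (j.isoImage W').inv :=
    (restrictFunctorCongr (j.isoImage_inv_ι W').symm).app L ≪≫
      (restrictFunctorComp (j.isoImage W').inv (W'.ι ≫ j)).app L ≪≫
      (restrictFunctor (j.isoImage W').inv).mapIso ((restrictFunctorComp W'.ι j).app L)
  constructor
  · intro h
    have hc' : CompactSpace (↑W' : Scheme.{u}) := h.2.1
    have hc : CompactSpace (↑(j ''ᵁ W') : Scheme.{u}) :=
      (j.isoImage W').hom.homeomorph.compactSpace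
    exact isAmple_of_iso e.symm (isAmple_restrict_of_isOpenImmersion (j.isoImage W').inv h)
  · intro h
    exact isAmple_of_isAmple_restrict_of_isIso (j.isoImage W').inv (isAmple_of_iso e h)

variable {X : Scheme.{u}}

/-- a clopen subset (given with its open complement) is the non-vanishing locus of a global function -/
theorem exists_basicOpen_eq_of_isCompl (A B : X.Opens) (hdisj : A ⊓ B = ⊥) (hcov : A ⊔ B = ⊤) :
    ∃ e : Γ(X, ⊤), X.basicOpen e = A := by
  let U : Bool → X.Opens := fun b => match b with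
    | true => A
    | false => B
  let sf : ∀ b, Γ(X, U b) := fun b => match b with
    | true => (1 : Γ(X, A))
    | false => (0 : Γ(X, B))
  have hcompat : TopCat.Presheaf.IsCompatible X.presheaf U sf := by
    intro i j
    cases i <;> cases j
    · exact (map_zero _).trans (map_zero _).symm
    · have h0 : U false ⊓ U true = ⊥ := by rw [inf_comm]; exact hdisj
      have hs : Subsingleton Γ(X, U false ⊓ U true) := by rw [h0]; infer_instance
      exact Subsingleton.elim _ _
    · have h0 : U true ⊓ U false = ⊥ := hdisj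
      have hs : Subsingleton Γ(X, U true ⊓ U false) := by rw [h0]; infer_instance
      exact Subsingleton.elim _ _
    · exact (map_one _).trans (map_one _).symm
  have hcover : (⊤ : X.Opens) ≤ iSup U := by
    rw [← hcov]
    exact sup_le (le_iSup U true) (le_iSup U false)
  have hglue : ∃ e : Γ(X, ⊤), ∀ b, X.presheaf.map (homOfLE (le_top : U b ≤ ⊤)).op e = sf b := by
    obtain ⟨e, he, -⟩ := X.sheaf.existsUnique_gluing' U ⊤ (fun b => homOfLE le_top) hcover sf
      hcompat
    exact ⟨e, he⟩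
  obtain ⟨e, he⟩ := hglue
  refine ⟨e, ?_⟩
  have h1 : A ⊓ X.basicOpen e = A := by
    have h := X.basicOpen_res e (homOfLE (le_top : A ≤ ⊤)).op
    have he1 : X.presheaf.map (homOfLE (le_top : A ≤ ⊤)).op e = (1 : Γ(X, A)) := he true
    rw [he1, X.basicOpen_one] at h
    exact h.symm
  have h2 : B ⊓ X.basicOpen e = ⊥ := by
    have h := X.basicOpen_res e (homOfLE (le_top : B ≤ ⊤)).op
    have he0 : X.presheaf.map (homOfLE (le_top : B ≤ ⊤)).op e = (0 : Γ(X, B)) := he false
    rw [he0, X.basicOpen_zero] at h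
    exact h.symm
  calc X.basicOpen e = (A ⊔ B) ⊓ X.basicOpen e := by rw [hcov, top_inf_eq]
    _ = (A ⊓ X.basicOpen e) ⊔ (B ⊓ X.basicOpen e) := inf_sup_right _ _ _
    _ = A := by rw [h1, h2, sup_bot_eq]

/-- ampleness on a disjoint union -/
theorem isAmple_of_isCompl [CompactSpace X] {M : X.Modules} (A B : X.Opens) (hdisj : A ⊓ B = ⊥)
    (hcov : A ⊔ B = ⊤) (hA : IsAmple (M.restrict A.ι)) (hB : IsAmple (M.restrict B.ι)) :
    IsAmple M := by
  obtain ⟨eA, heA⟩ := exists_basicOpen_eq_of_isCompl A B hdisj hcov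
  obtain ⟨eB, heB⟩ := exists_basicOpen_eq_of_isCompl B A (by rwa [inf_comm]) (by rwa [sup_comm])
  apply isAmple_of_forall_exists_basicOpen
  intro x
  have hx : x ∈ A ⊔ B := by rw [hcov]; trivial
  rcases Opens.mem_sup.mp hx with hx | hx
  · exact ⟨eA, by rw [heA]; exact hx, isAmple_restrict_congr heA.symm hA⟩
  · exact ⟨eB, by rw [heB]; exact hx, isAmple_restrict_congr heB.symm hB⟩

/-- ampleness on a disjoint union of two opens -/
theorem isAmple_restrict_sup {L : X.Modules} (A B : X.Opens) (hdisj : A ⊓ B = ⊥)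
    (hA : IsAmple (L.restrict A.ι)) (hB : IsAmple (L.restrict B.ι)) :
    IsAmple (L.restrict (A ⊔ B).ι) := by
  have hcA : IsCompact (A : Set X) := isCompact_iff_compactSpace.mpr hA.2.1
  have hcB : IsCompact (B : Set X) := isCompact_iff_compactSpace.mpr hB.2.1
  have hc : CompactSpace (↑(A ⊔ B) : Scheme.{u}) :=
    isCompact_iff_compactSpace.mp (by rw [Opens.coe_sup]; exact hcA.union hcB)
  have hA' : (A ⊔ B).ι ''ᵁ ((A ⊔ B).ι ⁻¹ᵁ A) = A := by
    rw [Scheme.Hom.image_preimage_eq_opensRange_inf, Scheme.Opens.opensRange_ι]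
    exact inf_eq_right.mpr le_sup_left
  have hB' : (A ⊔ B).ι ''ᵁ ((A ⊔ B).ι ⁻¹ᵁ B) = B := by
    rw [Scheme.Hom.image_preimage_eq_opensRange_inf, Scheme.Opens.opensRange_ι]
    exact inf_eq_right.mpr le_sup_right
  refine isAmple_of_isCompl ((A ⊔ B).ι ⁻¹ᵁ A) ((A ⊔ B).ι ⁻¹ᵁ B) ?_ ?_ ?_ ?_
  · apply Opens.ext
    ext p
    constructor
    · rintro ⟨h1, h2⟩
      have h3 : (A ⊔ B).ι p ∈ A ⊓ B := ⟨h1, h2⟩
      rw [hdisj] at h3
      exact h3.elim
    · intro h; exact h.elim
  · refine eq_top_iff.mpr fun p _ => ?_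
    have hp : (A ⊔ B).ι p ∈ A ⊔ B := p.2
    rcases Opens.mem_sup.mp hp with h | h
    · exact Opens.mem_sup.mpr (Or.inl h)
    · exact Opens.mem_sup.mpr (Or.inr h)
  · rw [isAmple_restrict_restrict_iff]; exact isAmple_restrict_congr hA'.symm hA
  · rw [isAmple_restrict_restrict_iff]; exact isAmple_restrict_congr hB'.symm hB

end Groth.Agent.Lib.Helper56.RelAmple
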