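import Groth.Agent.Lib.Helper56.RelAmpleComp
import Groth.Agent.S4385

/-!
# Modules on a coproduct of two schemes (helper56)

ns `Groth.Agent.Lib.Helper56.CoprodMod`.

* `subsingleton_sections_of_eq_bot`, `isZero_of_subsingleton_sections`
* `isRelAmple_of_iso`
* `exists_module_coprod` : for `L` on `X`, `L'` on `X'` a module on `X ⨿ X'` restricting to `L` and `L'`
* `isRelAmple_coprod_desc` : the resulting module is ample relative to `coprod.desc f f'` if `L`, `L'` are
  relatively ample.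
-/

set_option maxHeartbeats 400000

universe u

open CategoryTheory CategoryTheory.Limits AlgebraicGeometry TopologicalSpace Opposite

namespace Groth.Agent.Lib.Helper56.CoprodMod

open Groth.Agent.Lib.Ample Groth.Agent.Lib.QCoh CohB1 Scheme.Modules

lemma subsingleton_sections_of_eq_bot {T : Scheme.{u}} (M : T.Modules) {U : T.Opens}
    (h : U = ⊥) : Subsingleton Γ(M, U) := by
  have hT : IsTerminal (M.presheaf.obj (op U)) :=
    TopCat.Sheaf.isTerminalOfEqEmpty ⟨M.presheaf, M.isSheaf⟩ h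
  exact AddCommGrpCat.subsingleton_of_isZero hT.isZero

theorem isZero_of_subsingleton_sections {T : Scheme.{u}} (N : T.Modules)
    (h : ∀ V : T.Opens, Subsingleton Γ(N, V)) : IsZero N := by
  rw [IsZero.iff_id_eq_zero]
  apply Scheme.Modules.hom_ext
  intro V
  ext x
  haveI := h V
  exact Subsingleton.elim _ _

theorem isRelAmple_of_iso {X Y : Scheme.{u}} (f : X ⟶ Y) {L L' : X.Modules} (e : L ≅ L')
    (h : RelAmple.IsRelAmple f L) : RelAmple.IsRelAmple f L' :=
  ⟨h.1, fun V => isAmple_of_iso ((restrictFunctor (f ⁻¹ᵁ V.1).ι).mapIso e) (h.2 V)⟩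

theorem exists_module_coprod (X X' : Scheme.{u}) (L : X.Modules) (L' : X'.Modules) :
    ∃ L'' : (X ⨿ X' : Scheme.{u}).Modules,
      Nonempty ((restrictFunctor (coprod.inl : X ⟶ X ⨿ X')).obj L'' ≅ L) ∧
      Nonempty ((restrictFunctor (coprod.inr : X' ⟶ X ⨿ X')).obj L'' ≅ L') := by
  have hz1 : IsZero ((restrictFunctor (coprod.inl : X ⟶ X ⨿ X')).obj
      ((pushforward (coprod.inr : X' ⟶ X ⨿ X')).obj L')) := by
    apply isZero_of_subsingleton_sections
    intro V
    have hb : (coprod.inr : X' ⟶ X ⨿ X') ⁻¹ᵁ ((coprod.inl : X ⟶ X ⨿ X') ''ᵁ V) = ⊥ := by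
      apply Opens.ext
      ext y
      constructor
      · rintro ⟨x, -, hxy⟩
        exact (inl_ne_inr X X' x y hxy).elim
      · intro hy; exact hy.elim
    exact subsingleton_sections_of_eq_bot L' hb
  have hz2 : IsZero ((restrictFunctor (coprod.inr : X' ⟶ X ⨿ X')).obj
      ((pushforward (coprod.inl : X ⟶ X ⨿ X')).obj L)) := by
    apply isZero_of_subsingleton_sections
    intro V
    have hb : (coprod.inl : X ⟶ X ⨿ X') ⁻¹ᵁ ((coprod.inr : X' ⟶ X ⨿ X') ''ᵁ V) = ⊥ := by
      apply Opens.ext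
      ext y
      constructor
      · rintro ⟨x, -, hxy⟩
        exact (inl_ne_inr X X' y x hxy.symm).elim
      · intro hy; exact hy.elim
    exact subsingleton_sections_of_eq_bot L hb
  haveI : PreservesBinaryBiproducts (restrictFunctor (coprod.inl : X ⟶ X ⨿ X')) :=
    preservesBinaryBiproducts_of_preservesBinaryCoproducts _
  haveI : PreservesBinaryBiproducts (restrictFunctor (coprod.inr : X' ⟶ X ⨿ X')) :=
    preservesBinaryBiproducts_of_preservesBinaryCoproducts _
  refine ⟨(pushforward (coprod.inl : X ⟶ X ⨿ X')).obj L ⊞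
    (pushforward (coprod.inr : X' ⟶ X ⨿ X')).obj L', ⟨?_⟩, ⟨?_⟩⟩
  · exact (restrictFunctor (coprod.inl : X ⟶ X ⨿ X')).mapBiprod _ _ ≪≫
      biprod.mapIso ((restrictFunctorAdjCounitIso (coprod.inl : X ⟶ X ⨿ X')).app L) (Iso.refl _) ≪≫
      (isoBiprodZero hz1).symm
  · exact (restrictFunctor (coprod.inr : X' ⟶ X ⨿ X')).mapBiprod _ _ ≪≫
      biprod.mapIso (Iso.refl _) ((restrictFunctorAdjCounitIso (coprod.inr : X' ⟶ X ⨿ X')).app L') ≪≫
      (isoZeroBiprod hz2).symm

/-- a relatively ample module on a coproduct -/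
theorem exists_isRelAmple_coprod_desc {X X' Y : Scheme.{u}} (f : X ⟶ Y) (f' : X' ⟶ Y)
    {L : X.Modules} {L' : X'.Modules} (hL : RelAmple.IsRelAmple f L)
    (hL' : RelAmple.IsRelAmple f' L') :
    ∃ L'' : (X ⨿ X' : Scheme.{u}).Modules, RelAmple.IsRelAmple (coprod.desc f f') L'' := by
  have hqc : QuasiCompact f := hL.1
  have hqc' : QuasiCompact f' := hL'.1
  obtain ⟨L'', ⟨e₁⟩, ⟨e₂⟩⟩ := exists_module_coprod X X' L L'
  have e₁' : (Scheme.Modules.pullback (coprod.inl : X ⟶ X ⨿ X')).obj L'' ≅ L :=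
    ((restrictFunctorIsoPullback (coprod.inl : X ⟶ X ⨿ X')).app L'').symm ≪≫ e₁
  have e₂' : (Scheme.Modules.pullback (coprod.inr : X' ⟶ X ⨿ X')).obj L'' ≅ L' :=
    ((restrictFunctorIsoPullback (coprod.inr : X' ⟶ X ⨿ X')).app L'').symm ≪≫ e₂
  have hLinv := Groth.Agent.Lib.Helper56.RelAmpleComp.isInvertible_of_isRelAmple f hL
  have hLinv' := Groth.Agent.Lib.Helper56.RelAmpleComp.isInvertible_of_isRelAmple f' hL'
  exact ⟨L'', (Groth.Agent.S4385.result f f' L'' (isInvertible_of_iso e₁'.symm hLinv)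
    (isInvertible_of_iso e₂'.symm hLinv')).2
      ⟨isRelAmple_of_iso f e₁'.symm hL, isRelAmple_of_iso f' e₂'.symm hL'⟩⟩

end Groth.Agent.Lib.Helper56.CoprodMod
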