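import Mathlib

/-!
# Covering a Noetherian sober space of dimension `r` by `r + 1` "good" opens

If every finite set of points of a Noetherian quasi-sober T0 space `X` of Krull dimension `≤ r`
has a neighbourhood in a class `P` of opens, then `r + 1` members of `P` cover `X`.
-/

open Set TopologicalSpace Order Topology

namespace Groth.Agent.Lib.Helper56.DimCover

theorem not_succ_le (r : ℕ) : ¬ ((r + 1 : ℕ) : ℕ∞) ≤ (r : ℕ∞) := by
  intro h4
  have : r + 1 ≤ r := by exact_mod_cast h4
  omega

attribute [local instance] specializationOrder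

variable {X : Type*} [TopologicalSpace X] [T0Space X] [QuasiSober X]

theorem topologicalKrullDim_eq_krullDim : topologicalKrullDim X = krullDim X :=
  krullDim_eq_of_orderIso irreducibleSetEquivPoints

omit [T0Space X] in
/-- every closed subset of a Noetherian sober space is the union of the closures of finitely many
of its points -/
theorem exists_finite_generic [NoetherianSpace X] (W : Set X) (hW : IsClosed W) :
    ∃ G : Set X, G.Finite ∧ G ⊆ W ∧ ∀ z ∈ W, ∃ g ∈ G, g ⤳ z := by
  obtain ⟨S, hSf, hSc, hSi, hS⟩ := NoetherianSpace.exists_finite_set_isClosed_irreducible hW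
  have hgen : ∀ t ∈ S, ∃ g : X, IsGenericPoint g t :=
    fun t ht => QuasiSober.sober (hSi t ht) (hSc t ht)
  choose g hg using hgen
  have : Finite S := hSf.to_subtype
  refine ⟨Set.range (fun t : S => g t.1 t.2), Set.finite_range _, ?_, ?_⟩
  · rintro _ ⟨t, rfl⟩
    rw [hS]
    exact ⟨t.1, t.2, (hg t.1 t.2).mem⟩
  · intro z hz
    rw [hS] at hz
    obtain ⟨t, ht, hzt⟩ := hz
    refine ⟨g t ht, ⟨⟨t, ht⟩, rfl⟩, ?_⟩
    rw [specializes_iff_mem_closure, (hg t ht).def]
    exact hzt

theorem claim [NoetherianSpace X] (P : Set X → Prop)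
    (hP : ∀ F : Set X, F.Finite → ∃ U, IsOpen U ∧ P U ∧ F ⊆ U) (r : ℕ)
    (hdim : krullDim X ≤ (r : WithBot ℕ∞)) : ∀ j : ℕ,
    ∃ U : Fin j → Set X, (∀ i, IsOpen (U i) ∧ P (U i)) ∧
      ∀ z : X, (∀ i, z ∉ U i) → Order.height z + (j : ℕ∞) ≤ (r : ℕ∞) := by
  intro j
  induction j with
  | zero =>
    refine ⟨fun i => i.elim0, fun i => i.elim0, fun z _ => ?_⟩
    have h1 : ((Order.height z : ℕ∞) : WithBot ℕ∞) ≤ (r : WithBot ℕ∞) :=
      (Order.height_le_krullDim z).trans hdim
    have h2 : Order.height z ≤ (r : ℕ∞) := by exact_mod_cast h1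
    simpa using h2
  | succ j ih =>
    obtain ⟨U, hU, hUz⟩ := ih
    have hWc : IsClosed (⋃ i, U i)ᶜ := (isOpen_iUnion fun i => (hU i).1).isClosed_compl
    obtain ⟨G, hGf, hGW, hG⟩ := exists_finite_generic _ hWc
    obtain ⟨V, hVo, hVP, hGV⟩ := hP G hGf
    refine ⟨Fin.snoc U V, ?_, ?_⟩
    · intro i
      refine Fin.lastCases ?_ (fun i => ?_) i
      · rw [Fin.snoc_last]; exact ⟨hVo, hVP⟩
      · rw [Fin.snoc_castSucc]; exact hU i
    · intro z hz
      have hzV : z ∉ V := by
        have := hz (Fin.last j)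
        rwa [Fin.snoc_last] at this
      have hzU : ∀ i, z ∉ U i := by
        intro i
        have := hz i.castSucc
        rwa [Fin.snoc_castSucc] at this
      have hzW : z ∈ (⋃ i, U i)ᶜ := by
        simp only [Set.mem_compl_iff, Set.mem_iUnion, not_exists]
        exact hzU
      obtain ⟨g, hgG, hgz⟩ := hG z hzW
      have hgU : ∀ i, g ∉ U i := by
        have := hGW hgG
        simp only [Set.mem_compl_iff, Set.mem_iUnion, not_exists] at this
        exact this
      have hle : z ≤ g := hgz
      have hne : z ≠ g := by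
        rintro rfl
        exact hzV (hGV hgG)
      have hlt : z < g := lt_of_le_of_ne hle hne
      have h1 := hUz g hgU
      have h2 : Order.height z + 1 ≤ Order.height g := Order.height_add_one_le hlt
      calc Order.height z + ((j + 1 : ℕ) : ℕ∞)
          = (Order.height z + 1) + (j : ℕ∞) := by push_cast; ring
        _ ≤ Order.height g + (j : ℕ∞) := by gcongr
        _ ≤ r := h1

/-- **covering by dimension**: a Noetherian sober space of dimension `≤ r` in which every finite set
of points has a neighbourhood in the class `P` is covered by `r + 1` members of `P`. -/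
theorem exists_cover [NoetherianSpace X] (P : Set X → Prop)
    (hP : ∀ F : Set X, F.Finite → ∃ U, IsOpen U ∧ P U ∧ F ⊆ U) (r : ℕ)
    (hdim : topologicalKrullDim X ≤ (r : WithBot ℕ∞)) :
    ∃ U : Fin (r + 1) → Set X, (∀ i, IsOpen (U i) ∧ P (U i)) ∧ ⋃ i, U i = Set.univ := by
  rw [topologicalKrullDim_eq_krullDim] at hdim
  obtain ⟨U, hU, hUz⟩ := claim P hP r hdim (r + 1)
  refine ⟨U, hU, ?_⟩
  rw [Set.eq_univ_iff_forall]
  intro z
  by_contra hcon
  simp only [Set.mem_iUnion, not_exists] at hcon
  have := hUz z hcon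
  have h4 : ((r + 1 : ℕ) : ℕ∞) ≤ (r : ℕ∞) := le_trans le_add_self this
  exact not_succ_le r h4

end Groth.Agent.Lib.Helper56.DimCover
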