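import Mathlib

/-!
# Equalizer subrings of finite products of normal domains

Let `S = Π i, D i` be a finite product of integrally closed domains, `F` a family of ring maps
`S → R` preserving non-zero-divisors, and `A` the subring of `S` where all members of `F` agree.
Then `A` is isomorphic to a finite product of integrally closed domains (`main`).
-/

set_option autoImplicit false
set_option maxHeartbeats 400000

universe u

open Polynomial

namespace Groth.Agent.Lib.Helper56.EqNormal

open scoped Classical in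
/-- the indicator idempotent of a set of indices -/
noncomputable def ind {ι : Type u} (D : ι → Type u) [∀ i, CommRing (D i)] (T : Set ι) :
    Π i, D i := fun i => if i ∈ T then 1 else 0

section

variable {ι : Type u} {D : ι → Type u} [∀ i, CommRing (D i)]

theorem ind_of_mem {T : Set ι} {i : ι} (h : i ∈ T) : ind D T i = 1 := if_pos h

theorem ind_of_not_mem {T : Set ι} {i : ι} (h : i ∉ T) : ind D T i = 0 := if_neg h

theorem ind_compl (T : Set ι) : ind D Tᶜ = 1 - ind D T := by
  funext i
  by_cases h : i ∈ T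
  · rw [ind_of_not_mem (show i ∉ Tᶜ from fun h' => h' h), Pi.sub_apply, ind_of_mem h, Pi.one_apply,
      sub_self]
  · rw [ind_of_mem (show i ∈ Tᶜ from h), Pi.sub_apply, ind_of_not_mem h, Pi.one_apply, sub_zero]

theorem mem_nonZeroDivisors_of_forall_ne_zero [∀ i, IsDomain (D i)] (s : Π i, D i)
    (h : ∀ i, s i ≠ 0) : s ∈ nonZeroDivisors (Π i, D i) := by
  rw [mem_nonZeroDivisors_iff_right]
  intro x hx
  funext i
  exact (mul_eq_zero.1 (congrFun hx i)).resolve_right (h i)

/-- the key consequence of integral closedness used below -/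
theorem dvd_of_scaleRoots_eval_eq_zero {R : Type u} [CommRing R] [IsDomain R]
    [IsIntegrallyClosed R] (q : R[X]) (hq : q.Monic) (α β : R) (hβ : β ≠ 0)
    (h : (q.scaleRoots β).eval α = 0) : ∃ d : R, α = β * d := by
  let K := FractionRing R
  let f := algebraMap R K
  have hfβ : f β ≠ 0 := fun h0 => hβ ((IsFractionRing.injective R K) (h0.trans (map_zero _).symm))
  have h1 : eval₂ f (f β * (f α / f β)) (scaleRoots q β) = f β ^ q.natDegree * eval₂ f (f α / f β) q :=
    scaleRoots_eval₂_mul f (f α / f β) β
  have h2 : f β * (f α / f β) = f α := mul_div_cancel₀ _ hfβ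
  rw [h2, eval₂_at_apply, h, map_zero] at h1
  have h3 : eval₂ f (f α / f β) q = 0 :=
    (mul_eq_zero.1 h1.symm).resolve_left (pow_ne_zero _ hfβ)
  have hint : IsIntegral R (f α / f β) := ⟨q, hq, h3⟩
  obtain ⟨d, hd⟩ := IsIntegrallyClosed.algebraMap_eq_of_integral hint
  refine ⟨d, IsFractionRing.injective R K ?_⟩
  rw [map_mul]
  change f α = f β * f d
  rw [show f d = f α / f β from hd, h2]

end

section main

variable {ι : Type u} [Fintype ι] {D : ι → Type u} [∀ i, CommRing (D i)] [∀ i, IsDomain (D i)]
  {R : Type u} [CommRing R] (F : Set ((Π i, D i) →+* R))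
  (hF : ∀ f ∈ F, ∀ s ∈ nonZeroDivisors (Π i, D i), f s ∈ nonZeroDivisors R)
  (A : Subring (Π i, D i)) (hA : ∀ a, a ∈ A ↔ ∀ f ∈ F, ∀ f' ∈ F, f a = f' a)

include hF hA in
/-- the support idempotent of a member of `A` is in `A`. -/
theorem ind_supp_mem {a : Π i, D i} (ha : a ∈ A) : ind D {i | a i ≠ 0} ∈ A := by
  have hae : a * ind D {i | a i ≠ 0} = a := by
    funext i
    by_cases h : a i = 0
    · rw [Pi.mul_apply, h, zero_mul]
    · rw [Pi.mul_apply, ind_of_mem (show i ∈ {i | a i ≠ 0} from h), mul_one]
  have hee : ind D {i | a i ≠ 0} * ind D {i | a i ≠ 0} = ind D {i | a i ≠ 0} := by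
    funext i
    by_cases h : a i = 0
    · rw [Pi.mul_apply, ind_of_not_mem (show i ∉ {i | a i ≠ 0} from fun h' => h' h), zero_mul]
    · rw [Pi.mul_apply, ind_of_mem (show i ∈ {i | a i ≠ 0} from h), mul_one]
  have hu : a + (1 - ind D {i | a i ≠ 0}) ∈ nonZeroDivisors (Π i, D i) := by
    apply mem_nonZeroDivisors_of_forall_ne_zero
    intro i
    by_cases h : a i = 0
    · rw [Pi.add_apply, Pi.sub_apply, h,
        ind_of_not_mem (show i ∉ {i | a i ≠ 0} from fun h' => h' h), Pi.one_apply, sub_zero,
        zero_add]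
      exact one_ne_zero
    · rw [Pi.add_apply, Pi.sub_apply, ind_of_mem (show i ∈ {i | a i ≠ 0} from h), Pi.one_apply,
        sub_self, add_zero]
      exact h
  generalize ind D {i | a i ≠ 0} = e at hae hee hu ⊢
  have key : ∀ f ∈ F, ∀ f' ∈ F, f e = f e * f' e := by
    intro f hf f' hf'
    have hr : f a = f' a := (hA a).1 ha f hf f' hf'
    have h1 : f a * f e = f a := by rw [← map_mul, hae]
    have h2 : f a * f' e = f a := by rw [hr, ← map_mul, hae]
    have h3 : f e * f e = f e := by rw [← map_mul, hee]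
    have hz : f (a + (1 - e)) * (f e - f e * f' e) = 0 := by
      rw [map_add, map_sub, map_one]
      linear_combination (1 - f' e) * h1 - h2 + (f' e - 1) * h3
    exact sub_eq_zero.1 ((mem_nonZeroDivisors_iff_left.1 (hF f hf _ hu)) _ hz)
  rw [hA]
  intro f hf f' hf'
  exact (key f hf f' hf').trans ((mul_comm _ _).trans (key f' hf' f hf).symm)

/-- the equivalence relation on indices: not separated by an idempotent of `A`. -/
def rel (A : Subring (Π i, D i)) : Setoid ι where
  r i j := ∀ T : Set ι, ind D T ∈ A → (i ∈ T ↔ j ∈ T)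
  iseqv := ⟨fun _ _ _ => Iff.rfl, fun h T hT => (h T hT).symm,
    fun h h' T hT => (h T hT).trans (h' T hT)⟩

theorem rel_iff (i j : ι) : (rel A) i j ↔ ∀ T : Set ι, ind D T ∈ A → (i ∈ T ↔ j ∈ T) := Iff.rfl

include hF hA in
theorem eq_zero_of_rel {a : Π i, D i} (ha : a ∈ A) {i j : ι} (hij : (rel A) i j)
    (hi : a i = 0) : a j = 0 := by
  by_contra hj
  exact ((rel_iff A i j).1 hij _ (ind_supp_mem F hF A hA ha)).2 hj hi

noncomputable instance : Fintype (Quotient (rel A)) := Fintype.ofFinite _

/-- the indicator of an equivalence class -/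
noncomputable def eps (c : Quotient (rel A)) : Π i, D i :=
  ind D {i | Quotient.mk (rel A) i = c}

theorem eps_of_mem {c : Quotient (rel A)} {i : ι} (h : Quotient.mk (rel A) i = c) :
    eps A c i = 1 := ind_of_mem (show i ∈ {i | Quotient.mk (rel A) i = c} from h)

theorem eps_of_not_mem {c : Quotient (rel A)} {i : ι} (h : Quotient.mk (rel A) i ≠ c) :
    eps A c i = 0 := ind_of_not_mem (show i ∉ {i | Quotient.mk (rel A) i = c} from h)

open scoped Classical in
theorem eps_mem (c : Quotient (rel A)) : eps A c ∈ A := by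
  let 𝒯 : Finset (Set ι) := Finset.univ.filter (fun T => ind D T ∈ A ∧ c.out ∈ T)
  have hiff : ∀ i, (Quotient.mk (rel A) i = c) ↔ ∀ T ∈ 𝒯, i ∈ T := by
    intro i
    constructor
    · intro hi T hT
      have hT' := (Finset.mem_filter.1 hT).2
      have hic : (rel A) i c.out := Quotient.exact (hi.trans (Quotient.out_eq c).symm)
      exact ((rel_iff A _ _).1 hic T hT'.1).2 hT'.2
    · intro hi
      refine (Quotient.sound ?_ : Quotient.mk (rel A) i = Quotient.mk (rel A) c.out).trans
        (Quotient.out_eq c)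
      change (rel A) i c.out
      rw [rel_iff]
      intro T hT
      by_cases hc : c.out ∈ T
      · exact ⟨fun _ => hc, fun _ => hi T (Finset.mem_filter.2 ⟨Finset.mem_univ _, hT, hc⟩)⟩
      · have hT' : ind D Tᶜ ∈ A := by rw [ind_compl]; exact A.sub_mem A.one_mem hT
        have := hi Tᶜ (Finset.mem_filter.2 ⟨Finset.mem_univ _, hT', hc⟩)
        exact ⟨fun h => absurd h this, fun h => absurd h hc⟩
  have h : eps A c = ∏ T ∈ 𝒯, ind D T := by
    funext i
    rw [Finset.prod_apply]
    by_cases hi : Quotient.mk (rel A) i = c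
    · rw [eps_of_mem A hi]
      symm
      apply Finset.prod_eq_one
      intro T hT
      exact ind_of_mem ((hiff i).1 hi T hT)
    · rw [eps_of_not_mem A hi]
      symm
      have hn : ¬ ∀ T ∈ 𝒯, i ∈ T := fun h => hi ((hiff i).2 h)
      push_neg at hn
      obtain ⟨T, hT, hiT⟩ := hn
      exact Finset.prod_eq_zero hT (ind_of_not_mem hiT)
  rw [h]
  exact Subring.prod_mem A (fun T hT => (Finset.mem_filter.1 hT).2.1)

/-- evaluation of members of `A` at the chosen representative of a class -/
noncomputable def gc (c : Quotient (rel A)) : A →+* D c.out :=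
  (Pi.evalRingHom D c.out).comp A.subtype

theorem gc_apply (c : Quotient (rel A)) (a : A) : gc A c a = a.1 c.out := rfl

/-- the comparison map -/
noncomputable def Phi : A →+* Π c : Quotient (rel A), (gc A c).range :=
  Pi.ringHom (fun c => (gc A c).rangeRestrict)

theorem Phi_apply (a : A) (c : Quotient (rel A)) : ((Phi A a) c : D c.out) = a.1 c.out := rfl

include hF hA in
theorem Phi_injective : Function.Injective (Phi A) := by
  rw [injective_iff_map_eq_zero]
  intro a ha
  apply Subtype.ext
  funext i
  have h0 : a.1 (Quotient.mk (rel A) i).out = 0 := by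
    rw [← Phi_apply A a, ha]
    rfl
  exact eq_zero_of_rel F hF A hA a.2 (Quotient.mk_out i) h0

theorem Phi_surjective : Function.Surjective (Phi A) := by
  intro y
  choose b hb using fun c => (y c).2
  have hmem : (∑ c, eps A c * (b c).1) ∈ A :=
    Subring.sum_mem A (fun c _ => A.mul_mem (eps_mem A c) (b c).2)
  refine ⟨⟨_, hmem⟩, ?_⟩
  funext c
  apply Subtype.ext
  rw [Phi_apply]
  change (∑ c', eps A c' * (b c').1) c.out = _
  rw [Finset.sum_apply, Finset.sum_eq_single c]
  · rw [Pi.mul_apply, eps_of_mem A (Quotient.out_eq c), one_mul]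
    exact hb c
  · intro c' _ hc'
    rw [Pi.mul_apply, eps_of_not_mem A (fun h => hc' ((Quotient.out_eq c).symm.trans h).symm),
      zero_mul]
  · intro h
    exact absurd (Finset.mem_univ c) h

include hF hA in
/-- the core divisibility statement -/
theorem core [∀ i, IsIntegrallyClosed (D i)] (c : Quotient (rel A)) (a' b' : A)
    (hb : b'.1 c.out ≠ 0) (p' : A[X]) (hp' : p'.Monic)
    (h0 : ((p'.scaleRoots b').eval a').1 c.out = 0) :
    ∃ s : A, a'.1 c.out = b'.1 c.out * s.1 c.out := by
  classical
  -- divisibility at all indices of the class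
  have hdvd : ∀ i, Quotient.mk (rel A) i = c → ∃ d : D i, a'.1 i = b'.1 i * d := by
    intro i hi
    have hic : (rel A) c.out i := Quotient.exact ((Quotient.out_eq c).trans hi.symm)
    have hz : ((p'.scaleRoots b').eval a').1 i = 0 :=
      eq_zero_of_rel F hF A hA ((p'.scaleRoots b').eval a').2 hic h0
    have hbi : b'.1 i ≠ 0 := fun h =>
      hb (eq_zero_of_rel F hF A hA b'.2 ((rel A).symm hic) h)
    let π : A →+* D i := (Pi.evalRingHom D i).comp A.subtype
    have hπ : ∀ x : A, π x = x.1 i := fun _ => rfl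
    have hlc : π p'.leadingCoeff ≠ 0 := by
      rw [hp'.leadingCoeff, map_one]; exact one_ne_zero
    have h1 : ((p'.map π).scaleRoots (π b')).eval (π a') = 0 := by
      rw [← map_scaleRoots p' b' π hlc, eval_map_apply, hπ]
      exact hz
    exact dvd_of_scaleRoots_eval_eq_zero (p'.map π) (hp'.map π) (π a') (π b') hbi h1
  choose d hd using hdvd
  let s : Π i, D i := fun i => if h : Quotient.mk (rel A) i = c then d i h else 0
  have hs_in : ∀ i (h : Quotient.mk (rel A) i = c), s i = d i h := fun i h => dif_pos h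
  have hs_out : ∀ i, Quotient.mk (rel A) i ≠ c → s i = 0 := fun i h => dif_neg h
  have hε := eps_mem A c
  -- identities
  have e1 : eps A c * a'.1 = (eps A c * b'.1) * s := by
    funext i
    by_cases hi : Quotient.mk (rel A) i = c
    · simp only [Pi.mul_apply, eps_of_mem A hi, one_mul, hs_in i hi]
      exact hd i hi
    · simp only [Pi.mul_apply, eps_of_not_mem A hi, zero_mul]
  have e2 : eps A c * s = s := by
    funext i
    by_cases hi : Quotient.mk (rel A) i = c
    · simp only [Pi.mul_apply, eps_of_mem A hi, one_mul]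
    · simp only [Pi.mul_apply, eps_of_not_mem A hi, zero_mul, hs_out i hi]
  have hu : eps A c * b'.1 + (1 - eps A c) ∈ nonZeroDivisors (Π i, D i) := by
    apply mem_nonZeroDivisors_of_forall_ne_zero
    intro i
    by_cases hi : Quotient.mk (rel A) i = c
    · simp only [Pi.add_apply, Pi.mul_apply, Pi.sub_apply, Pi.one_apply, eps_of_mem A hi, one_mul,
        sub_self, add_zero]
      intro h
      exact hb (eq_zero_of_rel F hF A hA b'.2
        (Quotient.exact (hi.trans (Quotient.out_eq c).symm)) h)
    · simp only [Pi.add_apply, Pi.mul_apply, Pi.sub_apply, Pi.one_apply, eps_of_not_mem A hi,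
        zero_mul, sub_zero, zero_add]
      exact one_ne_zero
  have hsA : s ∈ A := by
    rw [hA]
    intro f hf f' hf'
    have ha'' : f (eps A c * a'.1) = f' (eps A c * a'.1) :=
      (hA _).1 (A.mul_mem hε a'.2) f hf f' hf'
    have hb'' : f (eps A c * b'.1) = f' (eps A c * b'.1) :=
      (hA _).1 (A.mul_mem hε b'.2) f hf f' hf'
    have he'' : f (eps A c) = f' (eps A c) := (hA _).1 hε f hf f' hf'
    have h1 : f (eps A c * b'.1) * f s = f (eps A c * a'.1) := by rw [← map_mul, ← e1]
    have h2 : f (eps A c * b'.1) * f' s = f (eps A c * a'.1) := by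
      rw [hb'', ha'', ← map_mul, ← e1]
    have h3 : f (eps A c) * f s = f s := by rw [← map_mul, e2]
    have h4 : f (eps A c) * f' s = f' s := by rw [he'', ← map_mul, e2]
    have hz : f (eps A c * b'.1 + (1 - eps A c)) * (f s - f' s) = 0 := by
      rw [map_add, map_sub, map_one]
      linear_combination h1 - h2 - h3 + h4
    exact sub_eq_zero.1 ((mem_nonZeroDivisors_iff_left.1 (hF f hf _ hu)) _ hz)
  refine ⟨⟨s, hsA⟩, ?_⟩
  have hcc : Quotient.mk (rel A) c.out = c := Quotient.out_eq c
  change a'.1 c.out = b'.1 c.out * s c.out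
  rw [hs_in _ hcc]
  exact hd _ hcc

include hF hA in
theorem isIntegrallyClosed_range [∀ i, IsIntegrallyClosed (D i)] (c : Quotient (rel A)) :
    IsIntegrallyClosed (gc A c).range := by
  have hφ : Function.Surjective (gc A c).rangeRestrict := (gc A c).rangeRestrict_surjective
  rw [isIntegrallyClosed_iff (FractionRing (gc A c).range)]
  intro x hx
  obtain ⟨a, b, hb, rfl⟩ := IsFractionRing.div_surjective (A := (gc A c).range) x
  obtain ⟨p, hp, hpx⟩ := hx
  have hinj := IsFractionRing.injective (gc A c).range (FractionRing (gc A c).range)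
  have h0 : (p.scaleRoots b).eval a = 0 := by
    have := scaleRoots_eval₂_eq_zero_of_eval₂_div_eq_zero hinj hpx hb
    rw [eval₂_at_apply] at this
    exact hinj (this.trans (map_zero _).symm)
  have hb0 : b ≠ 0 := nonZeroDivisors.ne_zero hb
  obtain ⟨a', rfl⟩ := hφ a
  obtain ⟨b', rfl⟩ := hφ b
  obtain ⟨p', rfl, -, hp'⟩ := lifts_and_natDegree_eq_and_monic
    ((mem_lifts p).2 (map_surjective _ hφ p)) hp
  have hlc : (gc A c).rangeRestrict p'.leadingCoeff ≠ 0 := by
    rw [hp'.leadingCoeff, map_one]; exact one_ne_zero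
  rw [← map_scaleRoots p' b' _ hlc, eval_map_apply] at h0
  have h0' : ((p'.scaleRoots b').eval a').1 c.out = 0 := congrArg Subtype.val h0
  have hb' : b'.1 c.out ≠ 0 := fun h => hb0 (Subtype.ext h)
  obtain ⟨s, hs⟩ := core F hF A hA c a' b' hb' p' hp' h0'
  refine ⟨(gc A c).rangeRestrict s, ?_⟩
  have hab : (gc A c).rangeRestrict a' = (gc A c).rangeRestrict b' * (gc A c).rangeRestrict s :=
    Subtype.ext hs
  rw [hab, map_mul, mul_div_cancel_left₀]
  exact fun h => hb0 (hinj (h.trans (map_zero _).symm))

include hF hA in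
/-- the main theorem -/
theorem main [∀ i, IsIntegrallyClosed (D i)] :
    ∃ (κ : Type u) (_ : Fintype κ) (E : κ → Type u) (_ : ∀ j, CommRing (E j))
      (_ : ∀ j, IsDomain (E j)) (_ : ∀ j, IsIntegrallyClosed (E j)),
      Nonempty (A ≃+* Π j, E j) :=
  ⟨Quotient (rel A), inferInstance, fun c => (gc A c).range, fun _ => inferInstance,
    fun _ => inferInstance, fun c => isIntegrallyClosed_range F hF A hA c,
    ⟨RingEquiv.ofBijective (Phi A) ⟨Phi_injective F hF A hA, Phi_surjective A⟩⟩⟩

end main

end Groth.Agent.Lib.Helper56.EqNormal
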