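import Mathlib.RingTheory.Localization.Away.Basic
import Mathlib.Algebra.Category.Ring.Limits
import Mathlib.CategoryTheory.Limits.Shapes.ConcreteCategory
import Mathlib.Algebra.Category.Ring.Constructions

/-!
# Ferrand squares of rings (helper56)

ns `Groth.Agent.Lib.Helper56.Ferrand`.

A *Ferrand square* is a cartesian square of rings `B' = B ×_A A'` with `A' → A` surjective,
expressed elementwise (`FSq`).

* `FSq.lift` : the ring homomorphism into `B'` induced by a compatible pair.
* `FSq.of_pullback` : the categorical pullback in `CommRingCat` gives a Ferrand square.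
* `FSq.localization` : Ferrand squares localize.
* `FSq.bijective_of_zero` : if `β t = 0` then `α` becomes bijective after inverting `t`.
-/

universe u

open CategoryTheory CategoryTheory.Limits

namespace Groth.Agent.Lib.Helper56.Ferrand

/-- a Ferrand square of rings: `B' = B ×_A A'` with `p : A' → A` surjective -/
structure FSq {B' B A' A : Type u} [CommRing B'] [CommRing B] [CommRing A'] [CommRing A]
    (β : B' →+* B) (α : B' →+* A') (q : B →+* A) (p : A' →+* A) : Prop where
  comm : ∀ x, q (β x) = p (α x)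
  surj : Function.Surjective p
  ex : ∀ b a', q b = p a' → ∃ x, β x = b ∧ α x = a'
  inj : ∀ x, β x = 0 → α x = 0 → x = 0

namespace FSq

variable {B' B A' A : Type u} [CommRing B'] [CommRing B] [CommRing A'] [CommRing A]
  {β : B' →+* B} {α : B' →+* A'} {q : B →+* A} {p : A' →+* A}

theorem ext (S : FSq β α q p) {x y : B'} (h1 : β x = β y) (h2 : α x = α y) : x = y := by
  have := S.inj (x - y) (by rw [map_sub, h1, sub_self]) (by rw [map_sub, h2, sub_self])
  exact sub_eq_zero.1 this

theorem surjective_β (S : FSq β α q p) : Function.Surjective β := by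
  intro b
  obtain ⟨a', ha'⟩ := S.surj (q b)
  obtain ⟨x, hx, -⟩ := S.ex b a' ha'.symm
  exact ⟨x, hx⟩

/-- the element of `B'` with given components -/
noncomputable def elt (S : FSq β α q p) (b : B) (a' : A') (h : q b = p a') : B' :=
  (S.ex b a' h).choose

@[simp] theorem β_elt (S : FSq β α q p) (b : B) (a' : A') (h : q b = p a') :
    β (S.elt b a' h) = b := (S.ex b a' h).choose_spec.1

@[simp] theorem α_elt (S : FSq β α q p) (b : B) (a' : A') (h : q b = p a') :
    α (S.elt b a' h) = a' := (S.ex b a' h).choose_spec.2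

/-- the ring homomorphism into `B'` induced by a compatible pair of ring homomorphisms -/
noncomputable def lift (S : FSq β α q p) {R : Type u} [CommRing R] (φ : R →+* B) (ψ : R →+* A')
    (h : ∀ r, q (φ r) = p (ψ r)) : R →+* B' where
  toFun r := S.elt (φ r) (ψ r) (h r)
  map_one' := S.ext (by rw [β_elt, map_one, map_one]) (by rw [α_elt, map_one, map_one])
  map_mul' x y := S.ext (by rw [β_elt, map_mul, map_mul, β_elt, β_elt])
    (by rw [α_elt, map_mul, map_mul, α_elt, α_elt])
  map_zero' := S.ext (by rw [β_elt, map_zero, map_zero]) (by rw [α_elt, map_zero, map_zero])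
  map_add' x y := S.ext (by rw [β_elt, map_add, map_add, β_elt, β_elt])
    (by rw [α_elt, map_add, map_add, α_elt, α_elt])

@[simp] theorem β_lift (S : FSq β α q p) {R : Type u} [CommRing R] (φ : R →+* B) (ψ : R →+* A')
    (h : ∀ r, q (φ r) = p (ψ r)) : β.comp (S.lift φ ψ h) = φ :=
  RingHom.ext fun r => S.β_elt (φ r) (ψ r) (h r)

@[simp] theorem α_lift (S : FSq β α q p) {R : Type u} [CommRing R] (φ : R →+* B) (ψ : R →+* A')
    (h : ∀ r, q (φ r) = p (ψ r)) : α.comp (S.lift φ ψ h) = ψ :=
  RingHom.ext fun r => S.α_elt (φ r) (ψ r) (h r)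

theorem hom_ext (S : FSq β α q p) {R : Type u} [CommRing R] {φ ψ : R →+* B'}
    (h1 : β.comp φ = β.comp ψ) (h2 : α.comp φ = α.comp ψ) : φ = ψ :=
  RingHom.ext fun r => S.ext (RingHom.congr_fun h1 r) (RingHom.congr_fun h2 r)

/-- the categorical pullback of rings is a Ferrand square -/
theorem of_pullback {A A' B : Type u} [CommRing A] [CommRing A'] [CommRing B] (p : A' →+* A)
    (hp : Function.Surjective p) (q : B →+* A) :
    FSq (pullback.fst (CommRingCat.ofHom q) (CommRingCat.ofHom p)).hom
      (pullback.snd (CommRingCat.ofHom q) (CommRingCat.ofHom p)).hom q p where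
  comm x := by
    have h := pullback.condition (f := CommRingCat.ofHom q) (g := CommRingCat.ofHom p)
    exact congrArg (fun φ => φ.hom x) h
  surj := hp
  ex b a' h := by
    refine ⟨Concrete.pullbackMk (CommRingCat.ofHom q) (CommRingCat.ofHom p) b a' h, ?_, ?_⟩
    · exact Concrete.pullbackMk_fst _ _ _ _ _
    · exact Concrete.pullbackMk_snd _ _ _ _ _
  inj x h1 h2 := by
    obtain ⟨x₁, x₂, h, rfl⟩ := Concrete.pullbackMk_surjective (CommRingCat.ofHom q)
      (CommRingCat.ofHom p) x
    obtain ⟨y₁, y₂, h', hy⟩ := Concrete.pullbackMk_surjective (CommRingCat.ofHom q)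
      (CommRingCat.ofHom p) (0 : ↑(pullback (CommRingCat.ofHom q) (CommRingCat.ofHom p)))
    have e1 : x₁ = 0 := by
      rw [← h1]; exact (Concrete.pullbackMk_fst _ _ _ _ _).symm
    have e2 : x₂ = 0 := by
      rw [← h2]; exact (Concrete.pullbackMk_snd _ _ _ _ _).symm
    have e3 : y₁ = 0 := by
      have := congrArg (pullback.fst (CommRingCat.ofHom q) (CommRingCat.ofHom p)).hom hy
      rw [map_zero] at this
      rw [this]; exact (Concrete.pullbackMk_fst _ _ _ _ _).symm
    have e4 : y₂ = 0 := by
      have := congrArg (pullback.snd (CommRingCat.ofHom q) (CommRingCat.ofHom p)).hom hy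
      rw [map_zero] at this
      rw [this]; exact (Concrete.pullbackMk_snd _ _ _ _ _).symm
    subst e1 e2 e3 e4
    exact hy.symm

section Localization

variable (S : FSq β α q p) (f : B')
  {B'f Bf A'f Af : Type u} [CommRing B'f] [CommRing Bf] [CommRing A'f] [CommRing Af]
  [Algebra B' B'f] [Algebra B Bf] [Algebra A' A'f] [Algebra A Af]
  [IsLocalization.Away f B'f] [IsLocalization.Away (β f) Bf] [IsLocalization.Away (α f) A'f]
  [IsLocalization.Away (q (β f)) Af]
  (βf : B'f →+* Bf) (αf : B'f →+* A'f) (qf : Bf →+* Af) (pf : A'f →+* Af)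
  (hβ : ∀ x, βf (algebraMap B' B'f x) = algebraMap B Bf (β x))
  (hα : ∀ x, αf (algebraMap B' B'f x) = algebraMap A' A'f (α x))
  (hq : ∀ x, qf (algebraMap B Bf x) = algebraMap A Af (q x))
  (hp : ∀ x, pf (algebraMap A' A'f x) = algebraMap A Af (p x))

include S f hβ hα hq hp

/-- Ferrand squares localize -/
theorem localization : FSq βf αf qf pf := by
  have uB' : IsUnit (algebraMap B' B'f f) := IsLocalization.Away.algebraMap_isUnit f
  have uB : IsUnit (algebraMap B Bf (β f)) := IsLocalization.Away.algebraMap_isUnit (β f)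
  have uA' : IsUnit (algebraMap A' A'f (α f)) := IsLocalization.Away.algebraMap_isUnit (α f)
  have uA : IsUnit (algebraMap A Af (q (β f))) := IsLocalization.Away.algebraMap_isUnit (q (β f))
  have hpα : p (α f) = q (β f) := (S.comm f).symm
  refine ⟨?_, ?_, ?_, ?_⟩
  · -- commutativity
    intro y
    obtain ⟨n, x, hx⟩ := IsLocalization.Away.surj f y
    have h1 : qf (βf y) * algebraMap A Af (q (β f)) ^ n = pf (αf y) * algebraMap A Af (q (β f)) ^ n := by
      have e1 : qf (βf y) * algebraMap A Af (q (β f)) ^ n = qf (βf (y * algebraMap B' B'f f ^ n)) := by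
        rw [map_mul, map_mul, map_pow, map_pow, hβ, hq]
      have e2 : pf (αf y) * algebraMap A Af (q (β f)) ^ n = pf (αf (y * algebraMap B' B'f f ^ n)) := by
        rw [map_mul, map_mul, map_pow, map_pow, hα, hp, hpα]
      rw [e1, e2, hx, hβ, hα, hq, hp, S.comm]
    exact (uA.pow n).mul_left_injective h1
  · -- surjectivity of `pf`
    intro z
    obtain ⟨n, a, ha⟩ := IsLocalization.Away.surj (q (β f)) z
    obtain ⟨a', rfl⟩ := S.surj a
    obtain ⟨w, hw⟩ := (uA'.pow n).exists_right_inv
    refine ⟨algebraMap A' A'f a' * w, ?_⟩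
    have h1 : pf (algebraMap A' A'f a' * w) * algebraMap A Af (q (β f)) ^ n =
        z * algebraMap A Af (q (β f)) ^ n := by
      have e1 : algebraMap A Af (q (β f)) ^ n = pf (algebraMap A' A'f (α f) ^ n) := by
        rw [map_pow, hp, hpα]
      rw [ha, e1, ← map_mul, mul_assoc, mul_comm w, hw, mul_one, hp]
    exact (uA.pow n).mul_left_injective h1
  · -- existence
    intro u v huv
    obtain ⟨n, b, hb⟩ := IsLocalization.Away.surj (β f) u
    obtain ⟨m, a', ha'⟩ := IsLocalization.Away.surj (α f) v
    -- common exponent `n + m`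
    have hb1 : u * algebraMap B Bf (β f) ^ (n + m) = algebraMap B Bf (b * β f ^ m) := by
      rw [pow_add, ← mul_assoc, hb, map_mul, map_pow]
    have ha1 : v * algebraMap A' A'f (α f) ^ (n + m) = algebraMap A' A'f (a' * α f ^ n) := by
      rw [pow_add, mul_comm (_ ^ n), ← mul_assoc, ha', map_mul, map_pow]
    have h1 : algebraMap A Af (q (b * β f ^ m)) = algebraMap A Af (p (a' * α f ^ n)) := by
      rw [← hq, ← hb1, ← hp, ← ha1, map_mul, map_mul, map_pow, map_pow, hq, hp, hpα, huv]
    obtain ⟨⟨_, k, rfl⟩, hk⟩ := (IsLocalization.eq_iff_exists (Submonoid.powers (q (β f))) Af).1 h1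
    have hk' : q (β f ^ k * (b * β f ^ m)) = p (α f ^ k * (a' * α f ^ n)) := by
      rw [map_mul, map_mul p, map_pow, map_pow p, hpα]
      exact hk
    obtain ⟨x, hx1, hx2⟩ := S.ex _ _ hk'
    obtain ⟨w, hw⟩ := (uB'.pow (k + (n + m))).exists_right_inv
    refine ⟨algebraMap B' B'f x * w, ?_, ?_⟩
    · have e0 : βf (algebraMap B' B'f f ^ (k + (n + m))) = algebraMap B Bf (β f) ^ (k + (n + m)) := by
        rw [map_pow, hβ]
      have e1 : βf (algebraMap B' B'f x * w) * algebraMap B Bf (β f) ^ (k + (n + m)) =
          algebraMap B Bf (β x) := by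
        rw [← e0, ← map_mul, mul_assoc, mul_comm w, hw, mul_one, hβ]
      have e2 : u * algebraMap B Bf (β f) ^ (k + (n + m)) = algebraMap B Bf (β x) := by
        rw [hx1, pow_add, mul_left_comm, hb1, map_mul _ (β f ^ k), map_pow]
      exact (uB.pow _).mul_left_injective (e1.trans e2.symm)
    · have e0 : αf (algebraMap B' B'f f ^ (k + (n + m))) = algebraMap A' A'f (α f) ^ (k + (n + m)) := by
        rw [map_pow, hα]
      have e1 : αf (algebraMap B' B'f x * w) * algebraMap A' A'f (α f) ^ (k + (n + m)) =
          algebraMap A' A'f (α x) := by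
        rw [← e0, ← map_mul, mul_assoc, mul_comm w, hw, mul_one, hα]
      have e2 : v * algebraMap A' A'f (α f) ^ (k + (n + m)) = algebraMap A' A'f (α x) := by
        rw [hx2, pow_add, mul_left_comm, ha1, map_mul _ (α f ^ k), map_pow]
      exact (uA'.pow _).mul_left_injective (e1.trans e2.symm)
  · -- injectivity
    intro y h1 h2
    obtain ⟨n, x, hx⟩ := IsLocalization.Away.surj f y
    have e1 : algebraMap B Bf (β x) = 0 := by
      rw [← hβ, ← hx, map_mul, h1, zero_mul]
    have e2 : algebraMap A' A'f (α x) = 0 := by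
      rw [← hα, ← hx, map_mul, h2, zero_mul]
    rw [← map_zero (algebraMap B Bf)] at e1
    rw [← map_zero (algebraMap A' A'f)] at e2
    obtain ⟨⟨_, k, rfl⟩, hk⟩ := (IsLocalization.eq_iff_exists (Submonoid.powers (β f)) Bf).1 e1
    obtain ⟨⟨_, m, rfl⟩, hm⟩ := (IsLocalization.eq_iff_exists (Submonoid.powers (α f)) A'f).1 e2
    rw [mul_zero] at hk hm
    have e3 : f ^ (k + m) * x = 0 := by
      apply S.inj
      · have hk2 : β f ^ k * β x = 0 := hk
        rw [map_mul, map_pow, pow_add, mul_right_comm, hk2, zero_mul]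
      · have hm2 : α f ^ m * α x = 0 := hm
        rw [map_mul, map_pow, pow_add, mul_assoc, hm2, mul_zero]
    have e4 : algebraMap B' B'f x = 0 := by
      have := congrArg (algebraMap B' B'f) e3
      rw [map_mul, map_pow, map_zero] at this
      exact (uB'.pow (k + m)).mul_right_eq_zero.1 this
    rw [e4] at hx
    exact (uB'.pow n).mul_left_eq_zero.1 hx

/-- if `β t = 0` then `α` becomes bijective after inverting `t` -/
theorem bijective_of_zero (hf : β f = 0) : Function.Bijective αf := by
  have hS := S.localization f βf αf qf pf hβ hα hq hp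
  have hBf : Subsingleton Bf := by
    have : IsUnit (algebraMap B Bf (β f)) := IsLocalization.Away.algebraMap_isUnit (β f)
    rw [hf, map_zero] at this
    exact subsingleton_of_zero_eq_one (isUnit_zero_iff.1 this)
  have hAf : Subsingleton Af := by
    have : IsUnit (algebraMap A Af (q (β f))) := IsLocalization.Away.algebraMap_isUnit (q (β f))
    rw [hf, map_zero, map_zero] at this
    exact subsingleton_of_zero_eq_one (isUnit_zero_iff.1 this)
  constructor
  · rw [injective_iff_map_eq_zero]
    intro y hy
    exact hS.inj y (Subsingleton.elim _ _) hy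
  · intro v
    obtain ⟨y, -, hy⟩ := hS.ex 0 v (Subsingleton.elim _ _)
    exact ⟨y, hy⟩

end Localization

end FSq

end Groth.Agent.Lib.Helper56.Ferrand
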