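import Groth.Agent.Lib.Helper56.FerrandRing
import Groth.Agent.Lib.Helper42.LocalGlue
import Mathlib.AlgebraicGeometry.AffineScheme
import Mathlib.AlgebraicGeometry.OpenImmersion

/-!
# Ferrand pushouts of affine schemes (helper56)

ns `Groth.Agent.Lib.Helper56.Ferrand`.

For a Ferrand square of rings `B' = B ×_A A'` (`A' → A` surjective), `Spec B'` is the pushout of
`Spec B ← Spec A → Spec A'` in the category of schemes (`FSq.isPushout`).
-/

universe u

open CategoryTheory CategoryTheory.Limits AlgebraicGeometry Opposite TopologicalSpace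

namespace Groth.Agent.Lib.Helper56.Ferrand

/-- `Spec` of a ring homomorphism -/
noncomputable abbrev sp {R S : Type u} [CommRing R] [CommRing S] (φ : R →+* S) :
    Spec (CommRingCat.of S) ⟶ Spec (CommRingCat.of R) :=
  Spec.map (CommRingCat.ofHom φ)

theorem sp_comp {R S T : Type u} [CommRing R] [CommRing S] [CommRing T] (φ : R →+* S)
    (ψ : S →+* T) : sp (ψ.comp φ) = sp ψ ≫ sp φ := by
  unfold sp
  rw [← Spec.map_comp]
  rfl

theorem sp_congr {R S : Type u} [CommRing R] [CommRing S] {φ ψ : R →+* S} (h : φ = ψ) :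
    sp φ = sp ψ := by rw [h]

section Away

variable {R P : Type u} [CommRing R] [CommRing P]

/-- the open immersion `D(r) = Spec R_r ⟶ Spec R` -/
noncomputable abbrev jj (r : R) :
    Spec (CommRingCat.of (Localization.Away r)) ⟶ Spec (CommRingCat.of R) :=
  sp (algebraMap R (Localization.Away r))

theorem range_jj (r : R) :
    Set.range (jj r) = (PrimeSpectrum.basicOpen r : Set (PrimeSpectrum R)) :=
  PrimeSpectrum.localization_away_comap_range (Localization.Away r) r

/-- the map induced on localizations by `φ : R → P` with `φ r = s` -/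
noncomputable def locMap (φ : R →+* P) (r : R) (s : P)
    (h : IsUnit (algebraMap P (Localization.Away s) (φ r))) :
    Localization.Away r →+* Localization.Away s :=
  IsLocalization.Away.lift r (g := (algebraMap P (Localization.Away s)).comp φ) h

theorem locMap_algebraMap (φ : R →+* P) (r : R) (s : P)
    (h : IsUnit (algebraMap P (Localization.Away s) (φ r))) (x : R) :
    locMap φ r s h (algebraMap R (Localization.Away r) x) =
      algebraMap P (Localization.Away s) (φ x) :=
  IsLocalization.Away.lift_eq r h x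

theorem locMap_jj (φ : R →+* P) (r : R) (s : P)
    (h : IsUnit (algebraMap P (Localization.Away s) (φ r))) :
    sp (locMap φ r s h) ≫ jj r = jj s ≫ sp φ := by
  rw [← sp_comp, ← sp_comp]
  apply sp_congr
  ext x
  exact locMap_algebraMap φ r s h x

theorem isUnit_algebraMap_self (s : P) : IsUnit (algebraMap P (Localization.Away s) s) :=
  IsLocalization.Away.algebraMap_isUnit s

end Away

section AffineTarget

variable {T : Scheme.{u}}

/-- a morphism from an affine scheme landing in an affine open `W` comes from a ring map -/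
theorem exists_factor {R : Type u} [CommRing R] (g : Spec (CommRingCat.of R) ⟶ T) (W : T.Opens)
    (hW : IsAffineOpen W) (hg : ∀ y, g y ∈ W) :
    ∃ ψ : Γ(T, W) ⟶ CommRingCat.of R, g = Spec.map ψ ≫ hW.fromSpec := by
  have hr : Set.range g ⊆ Set.range hW.fromSpec := by
    rw [hW.range_fromSpec]
    rintro _ ⟨y, rfl⟩
    exact hg y
  refine ⟨Spec.preimage (IsOpenImmersion.lift hW.fromSpec g hr), ?_⟩
  rw [Spec.map_preimage, IsOpenImmersion.lift_fac]

variable {B' B A' A : Type u} [CommRing B'] [CommRing B] [CommRing A'] [CommRing A]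
  {β : B' →+* B} {α : B' →+* A'} {q : B →+* A} {p : A' →+* A}

/-- uniqueness for targets landing in a common affine open -/
theorem FSq.ext_of_affine (S : FSq β α q p) (g₁ g₂ : Spec (CommRingCat.of B') ⟶ T) (W : T.Opens)
    (hW : IsAffineOpen W) (h₁ : ∀ y, g₁ y ∈ W) (h₂ : ∀ y, g₂ y ∈ W)
    (hβ : sp β ≫ g₁ = sp β ≫ g₂) (hα : sp α ≫ g₁ = sp α ≫ g₂) : g₁ = g₂ := by
  obtain ⟨ψ₁, rfl⟩ := exists_factor g₁ W hW h₁
  obtain ⟨ψ₂, rfl⟩ := exists_factor g₂ W hW h₂
  have e1 : ψ₁ ≫ CommRingCat.ofHom β = ψ₂ ≫ CommRingCat.ofHom β := by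
    apply Spec.map_injective
    rw [Spec.map_comp, Spec.map_comp, ← cancel_mono hW.fromSpec, Category.assoc, Category.assoc]
    exact hβ
  have e2 : ψ₁ ≫ CommRingCat.ofHom α = ψ₂ ≫ CommRingCat.ofHom α := by
    apply Spec.map_injective
    rw [Spec.map_comp, Spec.map_comp, ← cancel_mono hW.fromSpec, Category.assoc, Category.assoc]
    exact hα
  have e3 : ψ₁.hom = ψ₂.hom :=
    S.hom_ext (congrArg CommRingCat.Hom.hom e1) (congrArg CommRingCat.Hom.hom e2)
  have e4 : ψ₁ = ψ₂ := CommRingCat.hom_ext e3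
  rw [e4]

/-- existence for targets landing in a common affine open -/
theorem FSq.exists_desc_of_affine (S : FSq β α q p) (a : Spec (CommRingCat.of B) ⟶ T)
    (b : Spec (CommRingCat.of A') ⟶ T) (hab : sp q ≫ a = sp p ≫ b) (W : T.Opens)
    (hW : IsAffineOpen W) (ha : ∀ y, a y ∈ W) (hb : ∀ y, b y ∈ W) :
    ∃ h : Spec (CommRingCat.of B') ⟶ T, sp β ≫ h = a ∧ sp α ≫ h = b := by
  obtain ⟨ψa, rfl⟩ := exists_factor a W hW ha
  obtain ⟨ψb, rfl⟩ := exists_factor b W hW hb
  have e1 : ψa ≫ CommRingCat.ofHom q = ψb ≫ CommRingCat.ofHom p := by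
    apply Spec.map_injective
    rw [Spec.map_comp, Spec.map_comp, ← cancel_mono hW.fromSpec, Category.assoc, Category.assoc]
    exact hab
  have e2 : ∀ r, q (ψa.hom r) = p (ψb.hom r) := fun r => congrArg (fun φ => φ.hom r) e1
  refine ⟨Spec.map (CommRingCat.ofHom (S.lift ψa.hom ψb.hom e2)) ≫ hW.fromSpec, ?_, ?_⟩
  · rw [← Category.assoc, ← Spec.map_comp]
    congr 2
    apply CommRingCat.hom_ext
    exact S.β_lift ψa.hom ψb.hom e2
  · rw [← Category.assoc, ← Spec.map_comp]
    congr 2
    apply CommRingCat.hom_ext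
    exact S.α_lift ψa.hom ψb.hom e2

end AffineTarget


section Loc

variable {B' B A' A : Type u} [CommRing B'] [CommRing B] [CommRing A'] [CommRing A]
  {β : B' →+* B} {α : B' →+* A'} {q : B →+* A} {p : A' →+* A}

/-- the localization of `φ` at `r` -/
noncomputable def locSelf {R P : Type u} [CommRing R] [CommRing P] (φ : R →+* P) (r : R) :
    Localization.Away r →+* Localization.Away (φ r) :=
  locMap φ r (φ r) (isUnit_algebraMap_self _)

theorem FSq.isUnit_p (S : FSq β α q p) (f : B') :
    IsUnit (algebraMap A (Localization.Away (q (β f))) (p (α f))) := by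
  rw [← S.comm f]
  exact isUnit_algebraMap_self _

/-- the localization of `p` at `α f`, with target `A_{q (β f)}` -/
noncomputable def FSq.pL (S : FSq β α q p) (f : B') :
    Localization.Away (α f) →+* Localization.Away (q (β f)) :=
  locMap p (α f) (q (β f)) (S.isUnit_p f)

/-- the localized Ferrand square -/
theorem FSq.loc (S : FSq β α q p) (f : B') :
    FSq (locSelf β f) (locSelf α f) (locSelf q (β f)) (S.pL f) :=
  S.localization f _ _ _ _ (fun x => locMap_algebraMap _ _ _ _ x)
    (fun x => locMap_algebraMap _ _ _ _ x) (fun x => locMap_algebraMap _ _ _ _ x)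
    (fun x => locMap_algebraMap _ _ _ _ x)

theorem FSq.bijective_locSelf_α (S : FSq β α q p) (t : B') (ht : β t = 0) :
    Function.Bijective (locSelf α t) :=
  S.bijective_of_zero t (locSelf β t) (locSelf α t) (locSelf q (β t)) (S.pL t)
    (fun x => locMap_algebraMap _ _ _ _ x)
    (fun x => locMap_algebraMap _ _ _ _ x) (fun x => locMap_algebraMap _ _ _ _ x)
    (fun x => locMap_algebraMap _ _ _ _ x) ht

/-- points of `Spec B'` containing `ker β` come from `Spec B` -/
theorem FSq.mem_range_β (S : FSq β α q p) (x : PrimeSpectrum B')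
    (h : ∀ t, β t = 0 → t ∈ x.asIdeal) : ∃ y : PrimeSpectrum B, PrimeSpectrum.comap β y = x := by
  have : x ∈ Set.range (PrimeSpectrum.comap β) := by
    rw [_root_.range_comap_of_surjective _ β S.surjective_β, PrimeSpectrum.mem_zeroLocus]
    intro t ht
    exact h t (RingHom.mem_ker.1 ht)
  exact this

/-- points of `Spec B'` not containing `ker β` come from `Spec A'` -/
theorem FSq.mem_range_α (S : FSq β α q p) (x : PrimeSpectrum B') (t : B') (ht : β t = 0)
    (hx : t ∉ x.asIdeal) : ∃ z : PrimeSpectrum A', PrimeSpectrum.comap α z = x := by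
  have hx' : x ∈ (PrimeSpectrum.basicOpen t : Set (PrimeSpectrum B')) := hx
  rw [← PrimeSpectrum.localization_away_comap_range (Localization.Away t) t] at hx'
  obtain ⟨y, rfl⟩ := hx'
  let e := RingEquiv.ofBijective (locSelf α t) (S.bijective_locSelf_α t ht)
  refine ⟨PrimeSpectrum.comap (algebraMap A' (Localization.Away (α t)))
    (PrimeSpectrum.comap e.symm.toRingHom y), ?_⟩
  rw [← PrimeSpectrum.comap_comp_apply, ← PrimeSpectrum.comap_comp_apply]
  have h1 : e.symm.toRingHom.comp ((algebraMap A' (Localization.Away (α t))).comp α) =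
      algebraMap B' (Localization.Away t) := by
    ext x
    change e.symm (algebraMap A' (Localization.Away (α t)) (α x)) = _
    rw [RingEquiv.symm_apply_eq]
    exact (locMap_algebraMap α t (α t) (isUnit_algebraMap_self _) x).symm
  rw [h1]

end Loc

section Main

variable {T : Scheme.{u}} {B' B A' A : Type u} [CommRing B'] [CommRing B] [CommRing A'] [CommRing A]
  {β : B' →+* B} {α : B' →+* A'} {q : B →+* A} {p : A' →+* A}

theorem jj_mem {R : Type u} [CommRing R] (r : R)
    (y : Spec (CommRingCat.of (Localization.Away r))) :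
    r ∉ ((jj r y : Spec (CommRingCat.of R)) : PrimeSpectrum R).asIdeal := by
  have : jj r y ∈ Set.range (jj r) := ⟨y, rfl⟩
  rw [range_jj] at this
  exact this

theorem mem_range_jj {R : Type u} [CommRing R] (r : R) (x : Spec (CommRingCat.of R))
    (hx : r ∉ (x : PrimeSpectrum R).asIdeal) : x ∈ Set.range (jj r) := by
  rw [range_jj]
  exact hx

/-- **joint epimorphy**: morphisms out of `Spec B'` are determined on `Spec B` and `Spec A'` -/
theorem FSq.hom_ext_sp (S : FSq β α q p) (h₁ h₂ : Spec (CommRingCat.of B') ⟶ T)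
    (hβ : sp β ≫ h₁ = sp β ≫ h₂) (hα : sp α ≫ h₁ = sp α ≫ h₂) : h₁ = h₂ := by
  have hpt : ∀ x : Spec (CommRingCat.of B'), h₁ x = h₂ x := by
    intro x
    by_cases hx : ∀ t, β t = 0 → t ∈ (x : PrimeSpectrum B').asIdeal
    · obtain ⟨y, rfl⟩ := S.mem_range_β x hx
      exact congrArg (fun g : Spec (CommRingCat.of B) ⟶ T => g.base y) hβ
    · push Not at hx
      obtain ⟨t, ht, hxt⟩ := hx
      obtain ⟨z, rfl⟩ := S.mem_range_α x t ht hxt
      exact congrArg (fun g : Spec (CommRingCat.of A') ⟶ T => g.base z) hα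
  refine Groth.Agent.Lib.Helper42.LocalGlue.hom_ext_of_family
    (J := {f : B' // ∃ W : T.Opens, IsAffineOpen W ∧ (∀ y, (jj f ≫ h₁) y ∈ W) ∧
      (∀ y, (jj f ≫ h₂) y ∈ W)})
    (fun f => Spec (CommRingCat.of (Localization.Away f.1))) (fun f => jj f.1) ?_ ?_
  · intro x
    obtain ⟨W, hWaff, hxW, -⟩ := Opens.isBasis_iff_nbhd.1 (T.isBasis_affineOpens)
      (show h₁ x ∈ (⊤ : T.Opens) from trivial)
    have hxO : x ∈ h₁ ⁻¹ᵁ W ⊓ h₂ ⁻¹ᵁ W := ⟨hxW, by
      change h₂ x ∈ W
      rw [← hpt x]
      exact hxW⟩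
    obtain ⟨_, ⟨f, rfl⟩, hxf, hfO⟩ := Opens.isBasis_iff_nbhd.1
      (PrimeSpectrum.isBasis_basic_opens (R := B')) hxO
    refine ⟨⟨f, W, hWaff, fun y => ?_, fun y => ?_⟩, mem_range_jj f x hxf⟩
    · exact (hfO (jj_mem f y)).1
    · exact (hfO (jj_mem f y)).2
  · rintro ⟨f, W, hW, h1, h2⟩
    refine (S.loc f).ext_of_affine _ _ W hW h1 h2 ?_ ?_
    · change sp (locSelf β f) ≫ jj f ≫ h₁ = sp (locSelf β f) ≫ jj f ≫ h₂
      rw [← Category.assoc, ← Category.assoc]
      unfold locSelf
      rw [locMap_jj, Category.assoc, Category.assoc, hβ]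
    · change sp (locSelf α f) ≫ jj f ≫ h₁ = sp (locSelf α f) ≫ jj f ≫ h₂
      rw [← Category.assoc, ← Category.assoc]
      unfold locSelf
      rw [locMap_jj, Category.assoc, Category.assoc, hα]


/-- the goodness condition for `f : B'` relative to an open `W` of the target -/
def Good (β : B' →+* B) (α : B' →+* A') (a : Spec (CommRingCat.of B) ⟶ T)
    (b : Spec (CommRingCat.of A') ⟶ T) (f : B') (W : T.Opens) : Prop :=
  (∀ y : PrimeSpectrum B, β f ∉ y.asIdeal → a.base y ∈ W) ∧
    (∀ z : PrimeSpectrum A', α f ∉ z.asIdeal → b.base z ∈ W)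

/-- every point of `Spec B'` has a basic open neighbourhood `D(f)` such that `D(β f)` and
`D(α f)` are mapped into a common affine open of `T` -/
theorem FSq.exists_good (S : FSq β α q p) (a : Spec (CommRingCat.of B) ⟶ T)
    (b : Spec (CommRingCat.of A') ⟶ T) (hab : sp q ≫ a = sp p ≫ b) (x : PrimeSpectrum B') :
    ∃ (f : B') (W : T.Opens), IsAffineOpen W ∧ f ∉ x.asIdeal ∧ Good β α a b f W := by
  by_cases hx : ∀ t, β t = 0 → t ∈ x.asIdeal
  · obtain ⟨y, rfl⟩ := S.mem_range_β x hx
    obtain ⟨W, hWaff, hyW, -⟩ := Opens.isBasis_iff_nbhd.1 (T.isBasis_affineOpens)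
      (show a.base y ∈ (⊤ : T.Opens) from trivial)
    have hyO : y ∈ a ⁻¹ᵁ W := hyW
    obtain ⟨_, ⟨β₀, rfl⟩, hyβ₀, hβ₀O⟩ := Opens.isBasis_iff_nbhd.1
      (PrimeSpectrum.isBasis_basic_opens (R := B)) hyO
    -- the closed complement of `b⁻¹ W`
    let C : Set (PrimeSpectrum A') := {z | b.base z ∉ W}
    have hC : IsClosed C := by
      have h0 : IsOpen {z : PrimeSpectrum A' | b.base z ∈ W} := (b ⁻¹ᵁ W).isOpen
      exact h0.isClosed_compl
    have hrad : q β₀ ∈ ((PrimeSpectrum.vanishingIdeal C).map p).radical := by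
      rw [Ideal.radical_eq_sInf, Ideal.mem_sInf]
      rintro 𝔭 ⟨hle, hprime⟩
      let P : PrimeSpectrum A := ⟨𝔭, hprime⟩
      have h1 : PrimeSpectrum.comap p P ∈ PrimeSpectrum.zeroLocus
          (PrimeSpectrum.vanishingIdeal C : Set A') := by
        rw [PrimeSpectrum.mem_zeroLocus]
        exact Ideal.map_le_iff_le_comap.1 hle
      rw [PrimeSpectrum.zeroLocus_vanishingIdeal_eq_closure, hC.closure_eq] at h1
      have h2 : b.base (PrimeSpectrum.comap p P) = a.base (PrimeSpectrum.comap q P) :=
        (congrArg (fun g : Spec (CommRingCat.of A) ⟶ T => g.base P) hab).symm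
      have h3 : a.base (PrimeSpectrum.comap q P) ∉ W := by
        rw [← h2]; exact h1
      by_contra hcon
      apply h3
      exact hβ₀O (show PrimeSpectrum.comap q P ∈ PrimeSpectrum.basicOpen β₀ from hcon)
    obtain ⟨n, hn⟩ := hrad
    have hn' : q β₀ ^ (n + 1) ∈ (PrimeSpectrum.vanishingIdeal C).map p := by
      rw [pow_succ]
      exact Ideal.mul_mem_right _ _ hn
    obtain ⟨a', ha'C, ha'⟩ := (Ideal.mem_map_iff_of_surjective p S.surj).1 hn'
    have hcompat : q (β₀ ^ (n + 1)) = p a' := by rw [map_pow, ha']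
    refine ⟨S.elt (β₀ ^ (n + 1)) a' hcompat, W, hWaff, ?_, ?_, ?_⟩
    · intro hmem
      have h1 : β (S.elt (β₀ ^ (n + 1)) a' hcompat) ∈ y.asIdeal := hmem
      rw [S.β_elt] at h1
      exact hyβ₀ (y.isPrime.mem_of_pow_mem _ h1)
    · intro y' hy'
      rw [S.β_elt] at hy'
      apply hβ₀O
      intro hmem
      exact hy' (Ideal.pow_mem_of_mem _ hmem _ (Nat.succ_pos n))
    · intro z hz
      rw [S.α_elt] at hz
      by_contra hcon
      exact hz ((PrimeSpectrum.mem_vanishingIdeal _ _).1 ha'C z hcon)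
  · push Not at hx
    obtain ⟨t, ht, hxt⟩ := hx
    obtain ⟨z, rfl⟩ := S.mem_range_α x t ht hxt
    obtain ⟨W, hWaff, hzW, -⟩ := Opens.isBasis_iff_nbhd.1 (T.isBasis_affineOpens)
      (show b.base z ∈ (⊤ : T.Opens) from trivial)
    have hzO : z ∈ b ⁻¹ᵁ W := hzW
    obtain ⟨_, ⟨s, rfl⟩, hzs, hsO⟩ := Opens.isBasis_iff_nbhd.1
      (PrimeSpectrum.isBasis_basic_opens (R := A')) hzO
    have hcompat : q 0 = p (α t * s) := by
      rw [map_zero, map_mul, ← S.comm t, ht, map_zero, zero_mul]
    refine ⟨S.elt 0 (α t * s) hcompat, W, hWaff, ?_, ?_, ?_⟩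
    · intro hmem
      have h1 : α (S.elt 0 (α t * s) hcompat) ∈ z.asIdeal := hmem
      rw [S.α_elt] at h1
      rcases z.isPrime.mem_or_mem h1 with h2 | h2
      · exact hxt h2
      · exact hzs h2
    · intro y' hy'
      rw [S.β_elt] at hy'
      exact absurd (Ideal.zero_mem _) hy'
    · intro z' hz'
      rw [S.α_elt] at hz'
      apply hsO
      intro hmem
      exact hz' (Ideal.mul_mem_left _ _ hmem)

theorem isUnit_left {R : Type u} [CommRing R] (r r' : R) :
    IsUnit (algebraMap R (Localization.Away (r * r')) ((RingHom.id R) r)) := by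
  have h : IsUnit (algebraMap R (Localization.Away (r * r')) (r * r')) :=
    isUnit_algebraMap_self _
  rw [map_mul] at h
  exact isUnit_of_mul_isUnit_left h

theorem isUnit_right {R : Type u} [CommRing R] (r r' : R) :
    IsUnit (algebraMap R (Localization.Away (r * r')) ((RingHom.id R) r')) := by
  have h : IsUnit (algebraMap R (Localization.Away (r * r')) (r * r')) :=
    isUnit_algebraMap_self _
  rw [map_mul] at h
  exact isUnit_of_mul_isUnit_right h

/-- transition maps between localizations -/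
noncomputable def awayTrans {R : Type u} [CommRing R] (r r' : R) :
    Localization.Away r →+* Localization.Away (r * r') :=
  locMap (RingHom.id R) r (r * r') (isUnit_left r r')

theorem awayTrans_jj {R : Type u} [CommRing R] (r r' : R) :
    sp (awayTrans r r') ≫ jj r = jj (r * r') := by
  unfold awayTrans
  rw [locMap_jj]
  have : sp (RingHom.id R) = 𝟙 _ := Spec.map_id _
  rw [this, Category.comp_id]

noncomputable def awayTrans' {R : Type u} [CommRing R] (r r' : R) :
    Localization.Away r' →+* Localization.Away (r * r') :=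
  locMap (RingHom.id R) r' (r * r') (isUnit_right r r')

theorem awayTrans'_jj {R : Type u} [CommRing R] (r r' : R) :
    sp (awayTrans' r r') ≫ jj r' = jj (r * r') := by
  unfold awayTrans'
  rw [locMap_jj]
  have : sp (RingHom.id R) = 𝟙 _ := Spec.map_id _
  rw [this, Category.comp_id]

/-- a morphism `D(r r') → T` of the form `D(r r') → D(φ ..)`: naturality of `locSelf` with respect
to a general localization map out of `R_r` -/
theorem locSelf_comp_eq {R P : Type u} [CommRing R] [CommRing P] (φ : R →+* P) (r k : R)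
    (τ : Localization.Away r →+* Localization.Away k)
    (hτ : ∀ x, τ (algebraMap R (Localization.Away r) x) = algebraMap R (Localization.Away k) x)
    (τ' : Localization.Away (φ r) →+* Localization.Away (φ k))
    (hτ' : ∀ x, τ' (algebraMap P (Localization.Away (φ r)) x) =
      algebraMap P (Localization.Away (φ k)) x) :
    (locSelf φ k).comp τ = τ'.comp (locSelf φ r) := by
  apply IsLocalization.ringHom_ext (Submonoid.powers r)
  ext x
  change locSelf φ k (τ (algebraMap R (Localization.Away r) x)) =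
    τ' (locSelf φ r (algebraMap R (Localization.Away r) x))
  unfold locSelf
  rw [hτ, locMap_algebraMap, locMap_algebraMap, hτ']


theorem sp_id {R : Type u} [CommRing R] : sp (RingHom.id R) = 𝟙 _ := Spec.map_id _

/-- compatibility of local descents with the transition maps -/
theorem trans_desc {R P : Type u} [CommRing R] [CommRing P] (φ : R →+* P) (r k : R)
    (hu : IsUnit (algebraMap R (Localization.Away k) r))
    (ψ : Spec (CommRingCat.of (Localization.Away r)) ⟶ T) (c : Spec (CommRingCat.of P) ⟶ T)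
    (hψ : sp (locSelf φ r) ≫ ψ = jj (φ r) ≫ c) :
    sp (locSelf φ k) ≫ sp (locMap (RingHom.id R) r k hu) ≫ ψ = jj (φ k) ≫ c := by
  have hu' : IsUnit (algebraMap P (Localization.Away (φ k)) ((RingHom.id P) (φ r))) := by
    have := hu.map (locSelf φ k)
    unfold locSelf at this
    rw [locMap_algebraMap] at this
    exact this
  have e := locSelf_comp_eq φ r k (locMap (RingHom.id R) r k hu)
    (fun x => locMap_algebraMap _ _ _ _ x) (locMap (RingHom.id P) (φ r) (φ k) hu')
    (fun x => locMap_algebraMap _ _ _ _ x)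
  rw [← Category.assoc, ← sp_comp, e, sp_comp, Category.assoc, hψ, ← Category.assoc, locMap_jj,
    sp_id, Category.comp_id]

/-- **existence**: compatible morphisms from `Spec B` and `Spec A'` descend to `Spec B'` -/
theorem FSq.exists_desc (S : FSq β α q p) (a : Spec (CommRingCat.of B) ⟶ T)
    (b : Spec (CommRingCat.of A') ⟶ T) (hab : sp q ≫ a = sp p ≫ b) :
    ∃ h : Spec (CommRingCat.of B') ⟶ T, sp β ≫ h = a ∧ sp α ≫ h = b := by
  -- local descents
  have key : ∀ f : {f : B' // ∃ W : T.Opens, IsAffineOpen W ∧ Good β α a b f W},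
      ∃ φ : Spec (CommRingCat.of (Localization.Away f.1)) ⟶ T,
        sp (locSelf β f.1) ≫ φ = jj (β f.1) ≫ a ∧ sp (locSelf α f.1) ≫ φ = jj (α f.1) ≫ b := by
    rintro ⟨f, W, hW, h1, h2⟩
    refine (S.loc f).exists_desc_of_affine (jj (β f) ≫ a) (jj (α f) ≫ b) ?_ W hW ?_ ?_
    · have e1 : sp (locSelf q (β f)) ≫ jj (β f) = jj (q (β f)) ≫ sp q := locMap_jj _ _ _ _
      have e2 : sp (S.pL f) ≫ jj (α f) = jj (q (β f)) ≫ sp p := locMap_jj _ _ _ _
      rw [← Category.assoc, e1, ← Category.assoc, e2, Category.assoc, Category.assoc, hab]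
    · intro y
      exact h1 _ (jj_mem (β f) y)
    · intro z
      exact h2 _ (jj_mem (α f) z)
  choose φ hφβ hφα using key
  have hcov : ∀ x : Spec (CommRingCat.of B'),
      ∃ f : {f : B' // ∃ W : T.Opens, IsAffineOpen W ∧ Good β α a b f W},
        x ∈ Set.range (jj f.1).base := by
    intro x
    obtain ⟨f, W, hW, hfx, hgood⟩ := S.exists_good a b hab x
    exact ⟨⟨f, W, hW, hgood⟩, mem_range_jj f x hfx⟩
  obtain ⟨h, hh, -⟩ := Groth.Agent.Lib.Helper42.LocalGlue.existsUnique_glue
    (fun f : {f : B' // ∃ W : T.Opens, IsAffineOpen W ∧ Good β α a b f W} =>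
      Spec (CommRingCat.of (Localization.Away f.1))) (fun f => jj f.1) hcov φ (by
    rintro ⟨i, W, hW, h1, h2⟩ ⟨j, W', hW', h1', h2'⟩ t hti htj
    have hti' : i ∉ (t : PrimeSpectrum B').asIdeal := by
      have := hti
      rw [range_jj] at this
      exact this
    have htj' : j ∉ (t : PrimeSpectrum B').asIdeal := by
      have := htj
      rw [range_jj] at this
      exact this
    have hgood : Good β α a b (i * j) W := by
      constructor
      · intro y hy
        apply h1
        intro hmem
        apply hy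
        rw [map_mul]
        exact Ideal.mul_mem_right _ _ hmem
      · intro z hz
        apply h2
        intro hmem
        apply hz
        rw [map_mul]
        exact Ideal.mul_mem_right _ _ hmem
    refine ⟨⟨i * j, W, hW, hgood⟩, sp (awayTrans i j), sp (awayTrans' i j), ?_, awayTrans_jj i j,
      awayTrans'_jj i j, ?_⟩
    · apply mem_range_jj
      intro hmem
      rcases (t : PrimeSpectrum B').isPrime.mem_or_mem hmem with h | h
      · exact hti' h
      · exact htj' h
    · refine (S.loc (i * j)).hom_ext_sp _ _ ?_ ?_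
      · have e1 := trans_desc β i (i * j) (isUnit_left i j) (φ ⟨i, W, hW, h1, h2⟩) a (hφβ ⟨i, W, hW, h1, h2⟩)
        have e2 := trans_desc β j (i * j) (isUnit_right i j) (φ ⟨j, W', hW', h1', h2'⟩) a
          (hφβ ⟨j, W', hW', h1', h2'⟩)
        exact e1.trans e2.symm
      · have e1 := trans_desc α i (i * j) (isUnit_left i j) (φ ⟨i, W, hW, h1, h2⟩) b (hφα ⟨i, W, hW, h1, h2⟩)
        have e2 := trans_desc α j (i * j) (isUnit_right i j) (φ ⟨j, W', hW', h1', h2'⟩) b
          (hφα ⟨j, W', hW', h1', h2'⟩)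
        exact e1.trans e2.symm)
  refine ⟨h, ?_, ?_⟩
  · refine Groth.Agent.Lib.Helper42.LocalGlue.hom_ext_of_family
      (fun f : {f : B' // ∃ W : T.Opens, IsAffineOpen W ∧ Good β α a b f W} =>
        Spec (CommRingCat.of (Localization.Away (β f.1)))) (fun f => jj (β f.1)) ?_ ?_
    · intro y
      obtain ⟨f, W, hW, hfx, hgood⟩ := S.exists_good a b hab
        (PrimeSpectrum.comap β (y : PrimeSpectrum B))
      exact ⟨⟨f, W, hW, hgood⟩, mem_range_jj (β f) y hfx⟩
    · intro f
      have e1 : sp (locSelf β f.1) ≫ jj f.1 = jj (β f.1) ≫ sp β := locMap_jj _ _ _ _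
      rw [← Category.assoc, ← e1, Category.assoc, hh, hφβ]
  · refine Groth.Agent.Lib.Helper42.LocalGlue.hom_ext_of_family
      (fun f : {f : B' // ∃ W : T.Opens, IsAffineOpen W ∧ Good β α a b f W} =>
        Spec (CommRingCat.of (Localization.Away (α f.1)))) (fun f => jj (α f.1)) ?_ ?_
    · intro z
      obtain ⟨f, W, hW, hfx, hgood⟩ := S.exists_good a b hab
        (PrimeSpectrum.comap α (z : PrimeSpectrum A'))
      exact ⟨⟨f, W, hW, hgood⟩, mem_range_jj (α f) z hfx⟩
    · intro f
      have e1 : sp (locSelf α f.1) ≫ jj f.1 = jj (α f.1) ≫ sp α := locMap_jj _ _ _ _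
      rw [← Category.assoc, ← e1, Category.assoc, hh, hφα]

/-- **Ferrand pushouts**: `Spec (B ×_A A')` is the pushout of `Spec B ← Spec A → Spec A'` in the
category of schemes when `A' → A` is surjective -/
theorem FSq.isPushout (S : FSq β α q p) : IsPushout (sp p) (sp q) (sp α) (sp β) := by
  have w : sp p ≫ sp α = sp q ≫ sp β := by
    rw [← sp_comp, ← sp_comp]
    apply sp_congr
    ext x
    exact (S.comm x).symm
  refine ⟨⟨w⟩, ⟨PushoutCocone.IsColimit.mk w
    (fun s => (S.exists_desc s.inr s.inl s.condition.symm).choose) ?_ ?_ ?_⟩⟩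
  · intro s
    exact (S.exists_desc s.inr s.inl s.condition.symm).choose_spec.2
  · intro s
    exact (S.exists_desc s.inr s.inl s.condition.symm).choose_spec.1
  · intro s m h1 h2
    refine S.hom_ext_sp _ _ ?_ ?_
    · exact h2.trans (S.exists_desc s.inr s.inl s.condition.symm).choose_spec.1.symm
    · exact h1.trans (S.exists_desc s.inr s.inl s.condition.symm).choose_spec.2.symm

end Main

end Groth.Agent.Lib.Helper56.Ferrand
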