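import Groth.Agent.Lib.Helper56.FittStrictAlg
import Groth.Agent.Lib.QCoh.Helper74_FittGen
import Groth.Agent.Lib.QCoh.Helper74_FittComap
import Groth.Agent.Lib.QCoh.Helper50_GlobGen
import Groth.Prelude.Def_BlowUp2

/-!
# Strict transform after blowing up a Fitting ideal is locally generated by `k` sections (helper56)
-/

set_option autoImplicit false
set_option linter.style.haveILetI false
universe u
open CategoryTheory CategoryTheory.Limits AlgebraicGeometry TopologicalSpace Opposite

namespace Groth.Agent.Lib.Helper56.FittStrict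

open Scheme.Modules Groth.Agent.Lib.QCoh Groth.Agent.Lib.Helper61.QCohSections
  Groth.Agent.Lib.QCoh.FittSheaf74

/-- A map from a free module lifts along `φ` as soon as the images of the basis sections are
global sections in the image of `φ`. -/
lemma exists_lift_free' {X : Scheme.{u}} {P Q : X.Modules} (φ : P ⟶ Q) {ι : Type u}
    (p : freeModule X ι ⟶ Q)
    (hφ : ∀ i : ι, (SheafOfModules.freeHomEquiv Q p i).val (op ⊤) ∈ Set.range (φ.app ⊤)) :
    ∃ q : freeModule X ι ⟶ P, q ≫ φ = p := by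
  choose z hz using hφ
  refine ⟨(SheafOfModules.freeHomEquiv P).symm (fun i => sectionsOfTop P (z i)), ?_⟩
  have h1 : (SheafOfModules.freeHomEquiv P).symm (fun i => sectionsOfTop P (z i)) ≫ φ =
      (SheafOfModules.freeHomEquiv Q).symm
        (fun i => SheafOfModules.sectionsMap φ (sectionsOfTop P (z i))) :=
    SheafOfModules.freeHomEquiv_symm_comp (fun i => sectionsOfTop P (z i)) φ
  refine h1.trans ?_
  apply (SheafOfModules.freeHomEquiv Q).injective
  rw [Equiv.apply_symm_apply]
  funext i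
  rw [sectionsMap_sectionsOfTop, hz i, sectionsOfTop_val_top]

/-- Lemma A. -/
theorem exists_epi_freeMod_of_span {Y : Scheme.{u}} {P' G' : Y.Modules} (π' : P' ⟶ G') [Epi π']
    {ι : Type u} (p : freeModule Y ι ⟶ P') [Epi p] {k : ℕ} (y : Fin k → Γ(P', ⊤))
    (hy : ∀ m : Γ(P', ⊤), ∃ c : Fin k → Γ(Y, ⊤), π'.app ⊤ m = ∑ i, c i • π'.app ⊤ (y i)) :
    ∃ q : FlatMod.freeMod Y k ⟶ G', Epi q := by
  let q₀ : freeModule Y (ULift.{u} (Fin k)) ⟶ P' :=
    (SheafOfModules.freeHomEquiv P').symm (fun i => sectionsOfTop P' (y i.down))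
  let e : ULift.{u} (Fin k) → Γ(freeModule Y (ULift.{u} (Fin k)), ⊤) := fun i =>
    (SheafOfModules.freeSection (R := Y.ringCatSheaf) i).val (op ⊤)
  have he : ∀ i : ULift.{u} (Fin k), q₀.app ⊤ (e i) = y i.down := by
    intro i
    have h1 := SheafOfModules.sectionsMap_freeHomEquiv_symm_freeSection
      (M := P') (fun i : ULift.{u} (Fin k) => sectionsOfTop P' (y i.down)) i
    have h2 := congrArg (fun s => s.val (op ⊤)) h1
    refine Eq.trans ?_ (h2.trans ?_)
    · rfl
    · change P'.presheaf.map (homOfLE (le_top : (⊤ : Y.Opens) ≤ ⊤)).op (y i.down) = y i.down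
      have : (homOfLE (le_top : (⊤ : Y.Opens) ≤ ⊤)) = 𝟙 _ := rfl
      rw [this, op_id, P'.presheaf.map_id]
      rfl
  have hrange : ∀ m : Γ(P', ⊤), π'.app ⊤ m ∈ Set.range ((q₀ ≫ π').app ⊤) := by
    intro m
    obtain ⟨c, hc⟩ := hy m
    refine ⟨∑ i, c i • e ⟨i⟩, ?_⟩
    rw [hc, map_sum]
    refine Finset.sum_congr rfl fun i _ => ?_
    rw [Hom.app_smul]
    congr 1
    change π'.app ⊤ (q₀.app ⊤ (e ⟨i⟩)) = _
    rw [he]
  obtain ⟨q', hq'⟩ := exists_lift_free' (q₀ ≫ π') (p ≫ π') (fun i => by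
    have h0 : SheafOfModules.freeHomEquiv G' (p ≫ π') i =
        SheafOfModules.sectionsMap π' (SheafOfModules.freeHomEquiv P' p i) :=
      SheafOfModules.freeHomEquiv_comp_apply p π' i
    have h3 : (SheafOfModules.freeHomEquiv G' (p ≫ π') i).val (op ⊤) =
        π'.app ⊤ ((SheafOfModules.freeHomEquiv P' p i).val (op ⊤)) :=
      congrArg (fun s => s.val (op ⊤)) h0
    obtain ⟨w, hw⟩ := hrange ((SheafOfModules.freeHomEquiv P' p i).val (op ⊤))
    exact ⟨w, hw.trans h3.symm⟩)
  have h1 : Epi (q' ≫ (q₀ ≫ π')) := by rw [hq']; infer_instance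
  have h2 : Epi (q₀ ≫ π') := epi_of_epi q' _
  have h3 : Epi (freeModIsoFree Y k).hom := by
    have : IsIso (freeModIsoFree Y k).hom := Iso.isIso_hom _
    exact IsIso.epi_of_iso _
  exact ⟨(freeModIsoFree Y k).hom ≫ (q₀ ≫ π'), epi_comp _ _⟩

/-- Lemma B. -/
theorem exists_epi_restrict {X : Scheme.{u}} (P : X.Modules) [P.IsQuasicoherent] [P.IsFiniteType]
    {G : X.Modules} (π : P ⟶ G) [Epi π] {W : X.Opens} (hW : IsAffineOpen W) {k : ℕ}
    (y : Fin k → Γ(P, W.ι ''ᵁ ⊤))
    (hy : ∀ m : Γ(P, W.ι ''ᵁ ⊤), π.app _ m ∈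
      Submodule.span Γ(X, W.ι ''ᵁ ⊤) (Set.range fun i => π.app _ (y i))) :
    ∃ q : FlatMod.freeMod (↑W) k ⟶ G.restrict W.ι, Epi q := by
  have hfin : Module.Finite Γ(X, W) Γ(P, W) := finite_Γ_of_isAffineOpen hW P
  obtain ⟨n, x, hx⟩ := Module.Finite.exists_fin (R := Γ(X, W)) (M := Γ(P, W))
  obtain ⟨p₀, hp₀⟩ := exists_epi_of_span P hW x hx
  have h3 : Epi (freeModIsoFree (↑W) n).inv := by
    have : IsIso (freeModIsoFree (↑W) n).inv := Iso.isIso_inv _
    exact IsIso.epi_of_iso _
  have hp : Epi ((freeModIsoFree (↑W) n).inv ≫ p₀) := epi_comp _ _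
  have hπ' : Epi ((restrictFunctor W.ι).map π) := inferInstance
  refine exists_epi_freeMod_of_span ((restrictFunctor W.ι).map π)
    ((freeModIsoFree (↑W) n).inv ≫ p₀) y ?_
  intro m
  obtain ⟨c, hc⟩ := (Submodule.mem_span_range_iff_exists_fun _).1 (hy m)
  refine ⟨fun i => (W.ι.appIso ⊤).hom (c i), ?_⟩
  refine hc.symm.trans ?_
  refine Finset.sum_congr rfl fun i _ => ?_
  change c i • π.app _ (y i) = ((W.ι.appIso ⊤).inv ((W.ι.appIso ⊤).hom (c i))) • π.app _ (y i)
  rw [Iso.hom_inv_id_apply]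

/-- Core theorem. -/
theorem exists_epi_of_fitt_principal {X : Scheme.{u}} (P : X.Modules) [P.IsQuasicoherent]
    [P.IsFiniteType] (k : ℕ) (hE : BlowUp.IsEffCartierIdeal (Fitt.sheafIdeal P k))
    {G : X.Modules} (π : P ⟶ G) [Epi π]
    (hker : ∀ (V : X.affineOpens) (m : Γ(P, V.1)),
      BlowUp.KilledByPowerNear (Fitt.sheafIdeal P k) P V m → π.app V.1 m = 0) (s : X) :
    ∃ U : X.Opens, s ∈ U ∧ ∃ q : FlatMod.freeMod (↑U) k ⟶ G.restrict U.ι, Epi q := by
  obtain ⟨U, hsU, f, hf, hfid⟩ := hE s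
  have hfid' : Fitt.ideal Γ(X, U.1) Γ(P, U.1) k = Ideal.span {f} := by
    rw [← sheafIdeal_ideal]; exact hfid
  obtain ⟨u, n, x, t, hu, hx, hz⟩ := Groth.Agent.Lib.Helper56.FittStrictAlg.exists_local_gens
    (R := Γ(X, U.1)) (M := Γ(P, U.1)) k f hf hfid' (U.2.primeIdealOf ⟨s, hsU⟩).asIdeal
  choose z hzmem hzf using hz
  have hsu : s ∈ X.basicOpen u := (notMem_primeIdealOf_iff U.2 s hsU u).1 hu
  have hW : IsAffineOpen (X.basicOpen u) := U.2.basicOpen u
  have key : ∀ (W₀ : X.Opens) (_ : W₀ = X.basicOpen u), ∃ y : Fin k → Γ(P, W₀),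
      ∀ m : Γ(P, W₀), π.app W₀ m ∈
        Submodule.span Γ(X, W₀) (Set.range fun i => π.app W₀ (y i)) := by
    rintro _ rfl
    have h : X.basicOpen u ≤ U.1 := X.basicOpen_le u
    letI := resModule P h
    letI := resAlgebra (X := X) h
    have := isScalarTower_res P h
    have : IsLocalization.Away u Γ(X, X.basicOpen u) := U.2.isLocalization_basicOpen u
    have hloc := isLocalizedModule_res_basicOpen P U.2 u
    have hspan : Submodule.span Γ(X, X.basicOpen u) (Set.range (resLinear P h ∘ x)) = ⊤ := by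
      rw [Set.range_comp]
      exact span_eq_top_of_isLocalizedModule Γ(X, X.basicOpen u)
        (Submonoid.powers u) (resLinear P h) hx
    have hunit : IsUnit (X.presheaf.map (homOfLE h).op u) :=
      RingedSpace.isUnit_res_basicOpen _ u
    refine ⟨fun j => P.presheaf.map (homOfLE h).op (t j), fun m => ?_⟩
    have hm : m ∈ Submodule.span Γ(X, X.basicOpen u) (Set.range (resLinear P h ∘ x)) := by
      rw [hspan]; exact Submodule.mem_top
    -- images of elements of `span (range t)`
    have hzN : ∀ z' ∈ Submodule.span Γ(X, U.1) (Set.range t),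
        π.app _ (P.presheaf.map (homOfLE h).op z') ∈
          Submodule.span Γ(X, X.basicOpen u) (Set.range fun i =>
            π.app (X.basicOpen u) (P.presheaf.map (homOfLE h).op (t i))) := by
      intro z' hz'
      induction hz' using Submodule.span_induction with
      | mem v hv =>
        obtain ⟨j, rfl⟩ := hv
        exact Submodule.subset_span ⟨j, rfl⟩
      | zero => rw [map_zero, map_zero]; exact Submodule.zero_mem _
      | add a b _ _ ha hb => rw [map_add, map_add]; exact Submodule.add_mem _ ha hb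
      | smul r a _ ha =>
        rw [Scheme.Modules.map_smul, Hom.app_smul]
        exact Submodule.smul_mem _ _ ha
    induction hm using Submodule.span_induction with
    | mem v hv =>
      obtain ⟨l, rfl⟩ := hv
      change π.app _ (P.presheaf.map (homOfLE h).op (x l)) ∈ _
      -- the element killed by `f`
      have hkill : BlowUp.KilledByPowerNear (Fitt.sheafIdeal P k) P ⟨X.basicOpen u, hW⟩
          (P.presheaf.map (homOfLE h).op (u • x l - z l)) := by
        refine ⟨1, fun a ha => ?_⟩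
        rw [pow_one] at ha
        have h1 := (Fitt.sheafIdeal P k).map_ideal (U := ⟨X.basicOpen u, hW⟩) (V := U) h
        rw [← h1, hfid, Ideal.map_span, Set.image_singleton] at ha
        obtain ⟨c, rfl⟩ := Ideal.mem_span_singleton'.1 ha
        rw [mul_smul]
        have h2 : (X.presheaf.map (homOfLE h).op).hom f •
            P.presheaf.map (homOfLE h).op (u • x l - z l) = 0 := by
          have h3 := Scheme.Modules.map_smul P (homOfLE h) f (u • x l - z l)
          rw [hzf l, map_zero] at h3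
          exact h3.symm
        exact (congrArg (fun w => c • w) h2).trans (smul_zero c)
      have h0 := hker ⟨X.basicOpen u, hW⟩ _ hkill
      rw [map_sub, map_sub, Scheme.Modules.map_smul, Hom.app_smul, sub_eq_zero] at h0
      have h4 : π.app _ (P.presheaf.map (homOfLE h).op (x l)) =
          ((hunit.unit⁻¹ : Γ(X, X.basicOpen u)ˣ) : Γ(X, X.basicOpen u)) •
            π.app _ (P.presheaf.map (homOfLE h).op (z l)) := by
        rw [← h0, smul_smul]
        have : ((hunit.unit⁻¹ : Γ(X, X.basicOpen u)ˣ) : Γ(X, X.basicOpen u)) *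
            (X.presheaf.map (homOfLE h).op) u = 1 := by
          exact hunit.unit.inv_mul
        rw [this, one_smul]
      rw [h4]
      exact Submodule.smul_mem _ _ (hzN _ (hzmem l))
    | zero => rw [map_zero]; exact Submodule.zero_mem _
    | add a b _ _ ha hb => rw [map_add]; exact Submodule.add_mem _ ha hb
    | smul r a _ ha =>
      rw [Hom.app_smul]
      exact Submodule.smul_mem _ _ ha
  obtain ⟨y, hy⟩ := key ((X.basicOpen u).ι ''ᵁ ⊤) (by simp)
  exact ⟨X.basicOpen u, hsu, exists_epi_restrict P π hW y hy⟩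

end Groth.Agent.Lib.Helper56.FittStrict
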