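import Groth.Agent.Lib.Helper56.FittStrictFree
import Groth.Agent.Lib.QCoh.Helper74_FittFG
import Groth.Agent.Lib.QCoh.OmegaS1
import Groth.Agent.Lib.QCoh.Helper18_PullbackStalk
import Groth.Prelude.Def_CInt

/-!
# Admissible blow-ups in Fitting ideals (helper56), for S8913
-/

set_option autoImplicit false
set_option linter.style.haveILetI false
universe u
open CategoryTheory CategoryTheory.Limits AlgebraicGeometry TopologicalSpace Opposite

namespace Groth.Agent.Lib.Helper56.FittStrictAdm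

open Scheme.Modules Groth.Agent.Lib.QCoh Groth.Agent.Lib.Helper61.QCohSections
  Groth.Agent.Lib.QCoh.FittSheaf74 Groth.Agent.Lib.Helper45.Fitting FlatMod
  Groth.Agent.Lib.Helper56.FittStrictFree

/-- F1': Fitting ideals `Fit_j`, `j ≥ k`, are the unit ideal on small affine opens inside an open
where `F` is locally free of rank `k`. -/
theorem exists_affine_fitt_eq_top {S : Scheme.{u}} (F : S.Modules) [F.IsQuasicoherent]
    [F.IsFiniteType] (k : ℕ) (V : S.Opens) (hfree : IsFinLocFreeOfRank k (F.restrict V.ι))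
    (s : S) (hs : s ∈ V) :
    ∃ A : S.affineOpens, s ∈ A.1 ∧ ∀ j, k ≤ j → (Fitt.sheafIdeal F j).ideal A = ⊤ := by
  obtain ⟨U', hU', hxU', -, ⟨bas⟩⟩ := exists_affine_basis_of_isFinLocFreeOfRank hfree
    (V := ⊤) (x := (⟨s, hs⟩ : V.toScheme)) trivial
  have hA : IsAffineOpen (V.ι ''ᵁ U') := hU'.image_of_isOpenImmersion V.ι
  refine ⟨⟨V.ι ''ᵁ U', hA⟩, ⟨⟨s, hs⟩, hxU', rfl⟩, fun j hj => ?_⟩
  rw [sheafIdeal_ideal]
  let φ : Γ(V.toScheme, U') ≃+* Γ(S, V.ι ''ᵁ U') :=
    (V.ι.appIso U').symm.commRingCatIsoToRingEquiv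
  letI : Module Γ(S, V.ι ''ᵁ U') Γ(F.restrict V.ι, U') :=
    inferInstanceAs (Module Γ(S, V.ι ''ᵁ U') Γ(F, V.ι ''ᵁ U'))
  let bas' : Module.Basis (Fin k) Γ(S, V.ι ''ᵁ U') Γ(F.restrict V.ι, U') :=
    bas.mapCoeffs φ (fun _ _ => rfl)
  exact (fitt_of_basis bas' j).2 hj

/-- The support of `Fit_k F` is disjoint from an open where `F` is locally free of rank `k`. -/
theorem disjoint_support {S : Scheme.{u}} (F : S.Modules) [F.IsQuasicoherent]
    [F.IsFiniteType] (k : ℕ) (V : S.Opens) (hfree : IsFinLocFreeOfRank k (F.restrict V.ι)) :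
    Disjoint ((Fitt.sheafIdeal F k).support : Set S) (V : Set S) := by
  rw [Set.disjoint_left]
  intro s hs hsV
  obtain ⟨A, hsA, hA⟩ := exists_affine_fitt_eq_top F k V hfree s hsV
  rw [SetLike.mem_coe, Scheme.IdealSheafData.mem_support_iff_of_mem (U := A) hsA, hA k le_rfl,
    Scheme.mem_zeroLocus_iff] at hs
  refine hs 1 Submodule.mem_top ?_
  rw [Scheme.basicOpen_of_isUnit _ isUnit_one]
  exact hsA

/-- F4: an ideal sheaf vanishing locally on a schematically dense open vanishes. -/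
theorem eq_bot_of_schematicallyDense {X : Scheme.{u}} (J : X.IdealSheafData) (U : X.Opens)
    (hU : CInt.IsSchematicallyDense U)
    (hloc : ∀ x ∈ U, ∃ A' : X.affineOpens, x ∈ A'.1 ∧ J.ideal A' = ⊥) : J = ⊥ := by
  refine Scheme.IdealSheafData.ext (funext fun A => ?_)
  change J.ideal A = (⊥ : Ideal Γ(X, A.1))
  rw [eq_bot_iff]
  intro a ha
  apply hU A.1
  rw [map_zero]
  refine TopCat.Presheaf.section_ext X.sheaf _ _ _ (fun y hy => ?_)
  obtain ⟨A', hyA', hA'⟩ := hloc y hy.2
  obtain ⟨B, hB, hyB, hBle⟩ := Opens.isBasis_iff_nbhd.1 X.isBasis_affineOpens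
    (show y ∈ (A.1 ⊓ U) ⊓ A'.1 from ⟨hy, hyA'⟩)
  have hBA : B ≤ A.1 := hBle.trans (inf_le_left.trans inf_le_left)
  have hBA' : B ≤ A'.1 := hBle.trans inf_le_right
  have h1 : X.presheaf.map (homOfLE hBA).op a ∈ J.ideal ⟨B, hB⟩ :=
    J.ideal_le_comap_ideal (U := ⟨B, hB⟩) (V := A) hBA ha
  have h2 : J.ideal ⟨B, hB⟩ = ⊥ := by
    rw [← J.map_ideal (U := ⟨B, hB⟩) (V := A') hBA', hA', Ideal.map_bot]
  rw [h2, Ideal.mem_bot] at h1
  have h3 : X.presheaf.germ (A.1 ⊓ U) y hy
      (X.presheaf.map (homOfLE (inf_le_left : A.1 ⊓ U ≤ A.1)).op a) =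
      X.presheaf.germ B y hyB (X.presheaf.map (homOfLE hBA).op a) := by
    rw [TopCat.Presheaf.germ_res_apply, TopCat.Presheaf.germ_res_apply]
  have h4 : X.presheaf.germ (A.1 ⊓ U) y hy
      (X.presheaf.map (homOfLE (inf_le_left : A.1 ⊓ U ≤ A.1)).op a) = 0 := by
    rw [h3, h1, map_zero]
  exact h4.trans (map_zero _).symm

open Groth.Agent.Lib.Helper56.TildeQuot in
/-- General form of the main theorem: `P` quasi-coherent of finite type with `Fit_k(P)` effective
Cartier and `Fit_j(P) = 0` for `j < k`; then the strict transform is locally free of rank `k`. -/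
theorem isFinLocFreeOfRank_strict_of_fitt {X : Scheme.{u}} (P G : X.Modules) [P.IsQuasicoherent]
    [P.IsFiniteType] (k : ℕ) (hE : BlowUp.IsEffCartierIdeal (Fitt.sheafIdeal P k))
    (π : P ⟶ G) [Epi π]
    (hker : ∀ (V : X.affineOpens) (m : Γ(P, V.1)),
      π.app V.1 m = 0 ↔ BlowUp.KilledByPowerNear (Fitt.sheafIdeal P k) P V m)
    (hJ : ∀ j < k, Fitt.sheafIdeal P j = ⊥) :
    G.IsQuasicoherent ∧ IsFinLocFreeOfRank k G := by
  have hGq : G.IsQuasicoherent :=
    Groth.Agent.Lib.Helper56.StrictQC.isQuasicoherent_of_strict (Fitt.sheafIdeal P k)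
      (fun x => by
        obtain ⟨U, hxU, g, -, hg⟩ := hE x
        exact ⟨U, hxU, g, hg⟩) P G π hker
  have hGft : G.IsFiniteType := isFiniteType_of_epi π
  refine ⟨hGq, ?_⟩
  apply isFinLocFreeOfRank_of_sheafIdeal G
  · intro j hj
    choose U hxU f hf hfU using hE
    have hcov : ⨆ x : X, ((U x : X.affineOpens) : X.Opens) = ⊤ :=
      top_le_iff.1 fun x _ => Opens.mem_iSup.2 ⟨x, hxU x⟩
    refine Scheme.IdealSheafData.ext_of_iSup_eq_top (fun x : X => U x) hcov fun x => ?_
    change (Fitt.sheafIdeal G j).ideal (U x) = (⊥ : Ideal Γ(X, (U x).1))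
    rw [sheafIdeal_ideal]
    obtain ⟨e⟩ := Groth.Agent.Lib.Helper56.StrictQC.nonempty_restrictSpec_iso (U x).2 _
      P G π hker (f x) (hfU x)
    have hfinP : Module.Finite Γ(X, (U x).1) Γ(P, (U x).1) :=
      finite_Γ_of_isAffineOpen (U x).2 _
    have hfinM : Module.Finite Γ(X, (U x).1)
        ((moduleSpecΓFunctor (R := Γ(X, (U x).1))).obj (restrictSpec (U x).2 P)) :=
      Module.Finite.equiv (ΓrestrictSpecLinearEquiv (U x).2 P).symm
    have hM0 : Fitt.ideal Γ(X, (U x).1) Γ(P, (U x).1) j = ⊥ := by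
      rw [← sheafIdeal_ideal _ j (U x), hJ j hj]
      rfl
    have hM : Fitt.ideal Γ(X, (U x).1)
        ((moduleSpecΓFunctor (R := Γ(X, (U x).1))).obj (restrictSpec (U x).2 P)) j = ⊥ :=
      (fitt_congr (ΓrestrictSpecLinearEquiv (U x).2 P) j).trans hM0
    have hQ := Groth.Agent.Lib.Helper56.FittTorsion.fitt_quot_torsion_eq_bot (f x) (hf x) j hM
    have e1 := fitt_congr (ΓrestrictSpecLinearEquiv (U x).2 G).symm j
    have e2 := fitt_congr ((moduleSpecΓFunctor (R := Γ(X, (U x).1))).mapIso e).toLinearEquiv j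
    have e3 := fitt_congr ((tilde.toTildeΓNatIso (R := Γ(X, (U x).1))).app
      (quotObj (f x) ((moduleSpecΓFunctor (R := Γ(X, (U x).1))).obj
          (restrictSpec (U x).2 P)))).symm.toLinearEquiv j
    exact e1.trans (e2.trans (e3.trans hQ))
  · rw [← Scheme.IdealSheafData.support_eq_bot_iff]
    ext x
    simp only [Closeds.coe_bot, Set.mem_empty_iff_false, iff_false, SetLike.mem_coe]
    refine (exists_epi_iff_notMem_support G x k).1 ?_
    exact Groth.Agent.Lib.Helper56.FittStrict.exists_epi_of_fitt_principal P k hE π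
      (fun V m hm => (hker V m).2 hm) x

/-- The kernel of an epimorphism from a locally finitely presented quasi-coherent module onto a
finite locally free module is finitely presented. -/
theorem isFinitePresentation_kernel {X : Scheme.{u}} (P G : X.Modules) [P.IsQuasicoherent]
    [G.IsQuasicoherent] (hG : IsFinLocFree G) (π : P ⟶ G) [Epi π]
    (hP : ∀ x : X, ∃ A : X.affineOpens, x ∈ A.1 ∧
      Module.FinitePresentation Γ(X, A.1) Γ(P, A.1)) :
    (kernel π).IsFinitePresentation := by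
  have hK : (kernel π).IsQuasicoherent := isQuasicoherent_kernel π
  choose A hxA hA using hP
  refine isFinitePresentation_of_isOpenCover (kernel π) (fun x : X => (A x).1) ?_ (fun x => ?_)
  · rw [IsOpenCover, ← top_le_iff]
    intro x _
    exact Opens.mem_iSup.2 ⟨x, hxA x⟩
  · refine exists_presentation_restrict_of_finitePresentation (A x).2 (kernel π) ?_
    have := hA x
    obtain ⟨_, hproj⟩ := finite_projective_Γ_of_isAffineOpen hG (A x).2
    have hsurj : Function.Surjective (appLin π (A x).1) := surjective_app_of_epi π (A x).2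
    have hfp : Module.FinitePresentation Γ(X, (A x).1) (LinearMap.ker (appLin π (A x).1)) :=
      Module.finitePresentation_of_projective_of_exact (LinearMap.ker (appLin π (A x).1)).subtype
        (appLin π (A x).1) (Submodule.injective_subtype _) hsurj
        (LinearMap.exact_subtype_ker_map _)
    exact Module.FinitePresentation.of_equiv (kernelΓEquiv π (A x).1).symm

/-- The kernel of a strict transform map vanishes away from the exceptional divisor. -/
theorem isZero_kernel_restrict {X : Scheme.{u}} (𝓔 : X.IdealSheafData)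
    (hE : BlowUp.IsEffCartierIdeal 𝓔) (P G : X.Modules) (π : P ⟶ G)
    (hker : ∀ (V : X.affineOpens) (m : Γ(P, V.1)),
      π.app V.1 m = 0 → BlowUp.KilledByPowerNear 𝓔 P V m)
    (W : X.Opens) (hW : Disjoint (𝓔.support : Set X) (W : Set X)) :
    IsZero ((kernel π).restrict W.ι) := by
  rw [IsZero.iff_id_eq_zero]
  apply Scheme.Modules.hom_ext
  intro W'
  ext s
  have hs : (show Γ(kernel π, W.ι ''ᵁ W') from s) = 0 := by
    apply app_injective_of_mono (kernel.ι π) (W.ι ''ᵁ W')
    rw [map_zero]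
    have hm : π.app (W.ι ''ᵁ W') ((kernel.ι π).app (W.ι ''ᵁ W') s) = 0 := by
      have := congr(($(kernel.condition π)).app (W.ι ''ᵁ W') s)
      exact this
    generalize (kernel.ι π).app (W.ι ''ᵁ W') s = m0 at hm ⊢
    apply section_eq_zero_of_germ_eq_zero P
    intro x hx
    obtain ⟨B, hB, hxB, hBle⟩ := Opens.isBasis_iff_nbhd.1 X.isBasis_affineOpens hx
    have hm' : π.app B (P.presheaf.map (homOfLE hBle).op m0) = 0 := by
      rw [app_naturality_apply π (homOfLE hBle), hm, map_zero]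
    obtain ⟨n, hn⟩ := hker ⟨B, hB⟩ _ hm'
    have hxW : x ∈ W := by
      obtain ⟨y, -, rfl⟩ := hx
      exact y.2
    have h1 := Groth.Agent.Lib.Helper56.StrictTransFlat.germ_eq_zero_of_killed 𝓔 hE P ⟨B, hB⟩ _ n
      hn x hxB (fun h => absurd hxW (Set.disjoint_left.1 hW h))
    rw [TopCat.Presheaf.germ_res_apply] at h1
    exact h1
  have hs' : s = 0 := hs
  rw [hs']
  simp

end Groth.Agent.Lib.Helper56.FittStrictAdm
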