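import Groth.Prelude.Def_Fitting
import Mathlib.LinearAlgebra.Matrix.Adjugate
import Mathlib.RingTheory.Ideal.Operations
import Mathlib.Algebra.GroupWithZero.NonZeroDivisors

/-!
# Fitting ideals generated by a nonzerodivisor (helper56)

If `Fit_k(M) = (f)` with `f` a nonzerodivisor, then locally (away from some `u ∉ 𝔭`) the module `M`
is generated by `k` elements modulo `f`-torsion.
-/

set_option autoImplicit false
universe u v

namespace Groth.Agent.Lib.Helper56.FittStrictAlg

open Matrix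

variable {R : Type u} [CommRing R] {M : Type v} [AddCommGroup M] [Module R M]

theorem det_smul_eq_sum_adjugate {n : ℕ} (a : Matrix (Fin n) (Fin n) R) (x : Fin n → M)
    (l : Fin n) :
    a.det • x l = ∑ i, a.adjugate l i • ∑ j, a i j • x j := by
  calc a.det • x l = ∑ j, (a.det • (1 : Matrix (Fin n) (Fin n) R)) l j • x j := by
        simp [Matrix.smul_apply, Matrix.one_apply, ite_smul]
    _ = ∑ j, (a.adjugate * a) l j • x j := by rw [Matrix.adjugate_mul]
    _ = ∑ j, ∑ i, a.adjugate l i • (a i j • x j) := by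
        simp only [Matrix.mul_apply, Finset.sum_smul, mul_smul]
    _ = ∑ i, ∑ j, a.adjugate l i • (a i j • x j) := Finset.sum_comm
    _ = ∑ i, a.adjugate l i • ∑ j, a i j • x j := by simp only [Finset.smul_sum]

theorem adjugate_mem_fitt (k : ℕ) {n : ℕ} (a : Matrix (Fin n) (Fin n) R) (x : Fin n → M)
    (hx : Submodule.span R (Set.range x) = ⊤)
    (hrel : ∀ i : Fin n, (i : ℕ) < n - k → ∑ j, a i j • x j = 0) (l i : Fin n)
    (hi : n - k ≤ (i : ℕ)) : a.adjugate l i ∈ Fitt.ideal R M k := by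
  rw [Matrix.adjugate_apply]
  refine Ideal.subset_span ⟨n, x, a.updateRow i (Pi.single l 1), hx, ?_, rfl⟩
  intro i' hi'
  have hne : i' ≠ i := by
    intro h; rw [h] at hi'; omega
  simp only [Matrix.updateRow_ne hne]
  exact hrel i' hi'

/-- The main algebraic lemma. -/
theorem exists_local_gens (k : ℕ) (f : R) (hf : f ∈ nonZeroDivisors R)
    (hfit : Fitt.ideal R M k = Ideal.span {f}) (𝔭 : Ideal R) [h𝔭 : 𝔭.IsPrime] :
    ∃ (u : R) (n : ℕ) (x : Fin n → M) (t : Fin k → M), u ∉ 𝔭 ∧
      Submodule.span R (Set.range x) = ⊤ ∧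
      ∀ l, ∃ z ∈ Submodule.span R (Set.range t), f • (u • x l - z) = 0 := by
  -- Step 1: a generator determinant `u * f` with `u ∉ 𝔭`.
  have h1 : ∃ (n : ℕ) (x : Fin n → M) (a : Matrix (Fin n) (Fin n) R) (u : R),
      Submodule.span R (Set.range x) = ⊤ ∧
      (∀ i : Fin n, (i : ℕ) < n - k → ∑ j, a i j • x j = 0) ∧ a.det = u * f ∧ u ∉ 𝔭 := by
    by_contra hcon
    push Not at hcon
    have hle : Fitt.ideal R M k ≤ 𝔭 * Ideal.span {f} := by
      refine Ideal.span_le.2 ?_
      rintro d ⟨n, x, a, hx, hrel, rfl⟩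
      have hd : a.det ∈ Ideal.span {f} := by
        rw [← hfit]
        exact Ideal.subset_span ⟨n, x, a, hx, hrel, rfl⟩
      obtain ⟨u, hu⟩ := Ideal.mem_span_singleton'.1 hd
      rw [← hu]
      exact Ideal.mul_mem_mul (hcon n x a u hx hrel hu.symm) (Ideal.mem_span_singleton_self f)
    have hfmem : f ∈ 𝔭 * Ideal.span {f} := hle (hfit ▸ Ideal.mem_span_singleton_self f)
    obtain ⟨z, hz, hzf⟩ := Ideal.mem_mul_span_singleton.1 hfmem
    have hz1 : z - 1 = 0 := by
      apply (mem_nonZeroDivisors_iff_right.1 hf)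
      rw [sub_mul, hzf, one_mul, sub_self]
    have : z = 1 := by linear_combination hz1
    exact h𝔭.ne_top ((Ideal.eq_top_iff_one _).2 (this ▸ hz))
  obtain ⟨n, x, a, u, hx, hrel, hdet, hu⟩ := h1
  -- Step 2
  have hc : ∀ l i : Fin n, ∃ c : R,
      a.adjugate l i • (∑ j, a i j • x j) = f • (c • ∑ j, a i j • x j) := by
    intro l i
    by_cases hi : (i : ℕ) < n - k
    · exact ⟨0, by rw [hrel i hi]; simp⟩
    · have hmem : a.adjugate l i ∈ Ideal.span {f} := by
        rw [← hfit]
        exact adjugate_mem_fitt k a x hx hrel l i (not_lt.1 hi)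
      obtain ⟨c, hc⟩ := Ideal.mem_span_singleton'.1 hmem
      exact ⟨c, by rw [← hc, smul_smul, mul_comm]⟩
  choose c hc using hc
  refine ⟨u, n, x, fun j => if h : n - k + (j : ℕ) < n then ∑ j', a ⟨n - k + j, h⟩ j' • x j' else 0,
    hu, hx, fun l => ⟨∑ i, c l i • ∑ j, a i j • x j, ?_, ?_⟩⟩
  · refine Submodule.sum_mem _ fun i _ => Submodule.smul_mem _ _ ?_
    by_cases hi : (i : ℕ) < n - k
    · rw [hrel i hi]; exact Submodule.zero_mem _
    · have hik : (i : ℕ) - (n - k) < k := by have := i.2; omega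
      have hlt : n - k + ((⟨(i : ℕ) - (n - k), hik⟩ : Fin k) : ℕ) < n := by
        have := i.2; simp only; omega
      have heq : (⟨n - k + ((⟨(i : ℕ) - (n - k), hik⟩ : Fin k) : ℕ), hlt⟩ : Fin n) = i := by
        apply Fin.ext; simp only; omega
      refine Submodule.subset_span ⟨⟨(i : ℕ) - (n - k), hik⟩, ?_⟩
      simp only [dif_pos hlt, heq]
  · rw [smul_sub, smul_smul, mul_comm, ← hdet, det_smul_eq_sum_adjugate, Finset.smul_sum,
      sub_eq_zero]
    exact Finset.sum_congr rfl fun i _ => hc l i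

end Groth.Agent.Lib.Helper56.FittStrictAlg
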