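import Groth.Agent.Lib.Helper45.FittingLocal
import Mathlib.Algebra.Module.Torsion.Basic
import Mathlib.Algebra.Module.LocalizedModule.Basic

/-!
# Fitting ideals of the quotient by power torsion (helper56)
-/

set_option autoImplicit false
universe u v

namespace Groth.Agent.Lib.Helper56.FittTorsion

open Groth.Agent.Lib.Helper45.Fitting

variable {R : Type u} [CommRing R] {M : Type v} [AddCommGroup M] [Module R M]

/-- The composite `M → M/N → (M/N)_S` is a localization when `N` is the `S`-torsion. -/
theorem isLocalizedModule_quot_torsion (S : Submonoid R) :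
    IsLocalizedModule S ((LocalizedModule.mkLinearMap S (M ⧸ Submodule.torsion' R M S)) ∘ₗ
      (Submodule.torsion' R M S).mkQ) := by
  refine ⟨?_, ?_, ?_⟩
  · intro s
    exact IsLocalizedModule.map_units (LocalizedModule.mkLinearMap S (M ⧸ Submodule.torsion' R M S)) s
  · intro y
    obtain ⟨⟨q, s⟩, hq⟩ := IsLocalizedModule.surj S
      (LocalizedModule.mkLinearMap S (M ⧸ Submodule.torsion' R M S)) y
    obtain ⟨m, rfl⟩ := Submodule.mkQ_surjective _ q
    exact ⟨⟨m, s⟩, hq⟩
  · intro m₁ m₂ h
    obtain ⟨c, hc⟩ := IsLocalizedModule.exists_of_eq (S := S)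
      (f := LocalizedModule.mkLinearMap S (M ⧸ Submodule.torsion' R M S)) h
    have h1 : (Submodule.torsion' R M S).mkQ ((c : R) • (m₁ - m₂)) = 0 := by
      rw [map_smul, map_sub, smul_sub, sub_eq_zero]
      exact hc
    have h2 : (c : R) • (m₁ - m₂) ∈ Submodule.torsion' R M S :=
      (Submodule.Quotient.mk_eq_zero _).1 h1
    obtain ⟨t, ht⟩ := (Submodule.mem_torsion'_iff _ _).1 h2
    refine ⟨t * c, ?_⟩
    have h3 : ((t : R) * (c : R)) • (m₁ - m₂) = 0 := by
      rw [mul_smul]; exact ht
    rw [smul_sub, sub_eq_zero] at h3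
    exact h3

theorem fitt_quot_torsion_eq_bot [Module.Finite R M] (f : R) (hf : f ∈ nonZeroDivisors R) (j : ℕ)
    (h : Fitt.ideal R M j = ⊥) :
    Fitt.ideal R (M ⧸ Submodule.torsion' R M (Submonoid.powers f)) j = ⊥ := by
  have hloc := isLocalizedModule_quot_torsion (M := M) (Submonoid.powers f)
  have h1 : Fitt.ideal (Localization (Submonoid.powers f))
      (LocalizedModule (Submonoid.powers f) (M ⧸ Submodule.torsion' R M (Submonoid.powers f))) j =
      (Fitt.ideal R M j).map (algebraMap R (Localization (Submonoid.powers f))) :=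
    fitt_isBaseChange (IsLocalizedModule.isBaseChange (Submonoid.powers f)
      (Localization (Submonoid.powers f))
      ((LocalizedModule.mkLinearMap (Submonoid.powers f)
        (M ⧸ Submodule.torsion' R M (Submonoid.powers f))) ∘ₗ
        (Submodule.torsion' R M (Submonoid.powers f)).mkQ)) j
  have h2 : Fitt.ideal (Localization (Submonoid.powers f))
      (LocalizedModule (Submonoid.powers f) (M ⧸ Submodule.torsion' R M (Submonoid.powers f))) j =
      (Fitt.ideal R (M ⧸ Submodule.torsion' R M (Submonoid.powers f)) j).map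
        (algebraMap R (Localization (Submonoid.powers f))) :=
    fitt_isBaseChange (IsLocalizedModule.isBaseChange (Submonoid.powers f)
      (Localization (Submonoid.powers f))
      (LocalizedModule.mkLinearMap (Submonoid.powers f)
        (M ⧸ Submodule.torsion' R M (Submonoid.powers f)))) j
  rw [h, Ideal.map_bot] at h1
  rw [h1] at h2
  rw [eq_bot_iff]
  intro a ha
  have h3 : algebraMap R (Localization (Submonoid.powers f)) a ∈
      (Fitt.ideal R (M ⧸ Submodule.torsion' R M (Submonoid.powers f)) j).map
        (algebraMap R (Localization (Submonoid.powers f))) := Ideal.mem_map_of_mem _ ha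
  rw [← h2, Ideal.mem_bot] at h3
  obtain ⟨⟨_, n, rfl⟩, hm⟩ := (IsLocalization.map_eq_zero_iff (Submonoid.powers f) _ a).1 h3
  have hn : f ^ n ∈ nonZeroDivisors R := pow_mem hf n
  exact (mem_nonZeroDivisors_iff_left.1 hn) a hm

end Groth.Agent.Lib.Helper56.FittTorsion
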