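import Groth.Agent.Lib.Helper56.TildeQuot
import Groth.Agent.Lib.QCoh.AffineOpen
import Groth.Agent.Lib.QCoh.Local
import Groth.Prelude.Def_BlowUp2

/-!
# Strict transforms along locally principal ideals are quasi-coherent (helper56)
-/

set_option autoImplicit false
set_option linter.style.haveILetI false
universe u
open CategoryTheory CategoryTheory.Limits AlgebraicGeometry TopologicalSpace Opposite

namespace Groth.Agent.Lib.Helper56.StrictQC

open Scheme.Modules Groth.Agent.Lib.QCoh Groth.Agent.Lib.Helper56.TildeQuot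

variable {X : Scheme.{u}} {U : X.Opens} (hU : IsAffineOpen U)

theorem image_le (V' : (Spec Γ(X, U)).Opens) : hU.fromSpec ''ᵁ V' ≤ U := by
  exact (Scheme.Hom.image_mono hU.fromSpec (le_top : V' ≤ ⊤)).trans (fromSpec_image_top hU).le

/-- The ring identity behind the `Γ(X, U)`-module structure on sections of `restrictSpec`. -/
theorem fromSpec_ring_identity' (V' : (Spec Γ(X, U)).Opens) :
    (Scheme.ΓSpecIso Γ(X, U)).inv ≫ (Spec Γ(X, U)).presheaf.map V'.leTop.op ≫
      (hU.fromSpec.appIso V').inv = X.presheaf.map (homOfLE (image_le hU V')).op := by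
  have hle : V' ≤ hU.fromSpec ⁻¹ᵁ U := by rw [hU.fromSpec_preimage_self]; exact le_top
  have h0 : (Scheme.ΓSpecIso Γ(X, U)).inv ≫ (Spec Γ(X, U)).presheaf.map V'.leTop.op =
      hU.fromSpec.appLE U V' hle := by
    rw [Scheme.Hom.appLE, hU.fromSpec_app_self, Category.assoc, ← Functor.map_comp]
    rfl
  have h1 : hU.fromSpec.appLE U V' hle =
      X.presheaf.map (homOfLE (image_le hU V')).op ≫ (hU.fromSpec.appIso V').hom := by
    rw [Scheme.Hom.appIso_hom', Scheme.Hom.map_appLE]
  rw [← Category.assoc, h0, h1, Category.assoc, Iso.hom_inv_id, Category.comp_id]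

theorem smul_restrictSpec (P : X.Modules) (V' : (Spec Γ(X, U)).Opens) (r : Γ(X, U))
    (m : Γ(restrictSpec hU P, V')) :
    r • m = (show Γ(restrictSpec hU P, V') from
      (X.presheaf.map (homOfLE (image_le hU V')).op r) • (show Γ(P, hU.fromSpec ''ᵁ V') from m)) := by
  rw [smul_Spec_def]
  change ((hU.fromSpec.appIso V').inv ((Spec Γ(X, U)).presheaf.map V'.leTop.op
    ((Scheme.ΓSpecIso Γ(X, U)).inv r))) • (show Γ(P, hU.fromSpec ''ᵁ V') from m) = _
  congr 1
  exact congr($(fromSpec_ring_identity' hU V') r)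

theorem isAffineOpen_image_D (g : Γ(X, U)) : IsAffineOpen (hU.fromSpec ''ᵁ D g) := by
  rw [show hU.fromSpec ''ᵁ D g = X.basicOpen g from hU.fromSpec_image_basicOpen g]
  exact hU.basicOpen g

theorem isAffineOpen_image_top : IsAffineOpen (hU.fromSpec ''ᵁ ⊤) := by
  rw [fromSpec_image_top hU]
  exact hU

/-- The strict transform restricted to an affine open where the ideal is principal is the
tilde of the quotient by power torsion. -/
theorem nonempty_restrictSpec_iso (𝓔 : X.IdealSheafData) (P G : X.Modules) [P.IsQuasicoherent]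
    (π : P ⟶ G) [Epi π]
    (hker : ∀ (V : X.affineOpens) (m : Γ(P, V.1)),
      π.app V.1 m = 0 ↔ BlowUp.KilledByPowerNear 𝓔 P V m)
    (f : Γ(X, U)) (hf : 𝓔.ideal ⟨U, hU⟩ = Ideal.span {f}) :
    Nonempty (restrictSpec hU G ≅ tilde (quotObj f
      ((moduleSpecΓFunctor (R := Γ(X, U))).obj (restrictSpec hU P)))) := by
  have hepi : Epi ((restrictFunctor hU.fromSpec).map π) := inferInstance
  refine nonempty_iso_tilde_quot (restrictSpec hU P) (restrictSpec hU G)
    ((restrictFunctor hU.fromSpec).map π) f ?_ ?_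
  · intro g m hm
    have hm' : π.app (hU.fromSpec ''ᵁ D g) m = 0 := hm
    obtain ⟨a, ha⟩ := (hker ⟨hU.fromSpec ''ᵁ D g, isAffineOpen_image_D hU g⟩ m).1 hm'
    refine ⟨a, ?_⟩
    rw [smul_restrictSpec]
    have hmem : X.presheaf.map (homOfLE (image_le hU (D g))).op f ∈
        𝓔.ideal ⟨hU.fromSpec ''ᵁ D g, isAffineOpen_image_D hU g⟩ :=
      𝓔.ideal_le_comap_ideal (U := ⟨hU.fromSpec ''ᵁ D g, isAffineOpen_image_D hU g⟩)
        (V := ⟨U, hU⟩) (image_le hU (D g)) (hf ▸ Ideal.mem_span_singleton_self f)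
    have := ha ((X.presheaf.map (homOfLE (image_le hU (D g))).op f) ^ a)
      (Ideal.pow_mem_pow hmem a)
    rw [← map_pow] at this
    exact this
  · rintro m ⟨a, ha⟩
    refine (hker ⟨hU.fromSpec ''ᵁ ⊤, isAffineOpen_image_top hU⟩ m).2 ⟨a, fun e he => ?_⟩
    have h1 := 𝓔.map_ideal (U := ⟨hU.fromSpec ''ᵁ ⊤, isAffineOpen_image_top hU⟩) (V := ⟨U, hU⟩)
      (image_le hU ⊤)
    have he' : e ∈ (𝓔.ideal ⟨hU.fromSpec ''ᵁ ⊤, isAffineOpen_image_top hU⟩) ^ a := he
    rw [← h1, hf, Ideal.map_span, Set.image_singleton, Ideal.span_singleton_pow] at he'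
    obtain ⟨c, rfl⟩ := Ideal.mem_span_singleton'.1 he'
    rw [smul_restrictSpec, map_pow] at ha
    have ha' : (X.presheaf.map (homOfLE (image_le hU ⊤)).op f) ^ a •
        (show Γ(P, hU.fromSpec ''ᵁ ⊤) from m) = 0 := ha
    exact (mul_smul c ((X.presheaf.map (homOfLE (image_le hU ⊤)).op f) ^ a)
      (show Γ(P, hU.fromSpec ''ᵁ ⊤) from m)).trans
      ((congrArg (fun w => c • w) ha').trans (smul_zero c))

/-- `G|_U` as the restriction of `restrictSpec hU G` along `U ≅ Spec Γ(X, U)`. -/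
noncomputable def restrictIsoOfSpec (G : X.Modules) :
    (restrictSpec hU G).restrict hU.isoSpec.hom ≅ G.restrict U.ι :=
  ((restrictFunctorComp hU.isoSpec.hom hU.fromSpec).app G).symm ≪≫
    (restrictFunctorCongr hU.isoSpec_hom_fromSpec).app G

/-- **Strict transforms of quasi-coherent modules along locally principal ideals are
quasi-coherent.** -/
theorem isQuasicoherent_of_strict (𝓔 : X.IdealSheafData)
    (hE : ∀ x : X, ∃ U : X.affineOpens, x ∈ U.1 ∧ ∃ f : Γ(X, U.1), 𝓔.ideal U = Ideal.span {f})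
    (P G : X.Modules) [P.IsQuasicoherent] (π : P ⟶ G) [Epi π]
    (hker : ∀ (V : X.affineOpens) (m : Γ(P, V.1)),
      π.app V.1 m = 0 ↔ BlowUp.KilledByPowerNear 𝓔 P V m) : G.IsQuasicoherent := by
  choose U hxU f hf using hE
  refine isQuasicoherent_of_isOpenCover G (fun x : X => (U x).1) ?_ (fun x => ?_)
  · rw [IsOpenCover, ← top_le_iff]
    intro x _
    exact Opens.mem_iSup.2 ⟨x, hxU x⟩
  · obtain ⟨e⟩ := nonempty_restrictSpec_iso (U x).2 𝓔 P G π hker (f x) (hf x)
    have h1 : (restrictSpec (U x).2 G).IsQuasicoherent :=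
      isQuasicoherent_of_iso e.symm inferInstance
    exact isQuasicoherent_of_iso (restrictIsoOfSpec (U x).2 G) inferInstance

end Groth.Agent.Lib.Helper56.StrictQC
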