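import Groth.Agent.Lib.Helper56.FittStrict
import Groth.Agent.Lib.Helper56.FittTorsion
import Groth.Agent.Lib.Helper56.StrictQC
import Groth.Agent.Lib.Helper56.StrictTransFlat
import Groth.Agent.Lib.QCoh.Helper74_FittFree
import Groth.Agent.Lib.QCoh.Coherent

/-!
# Strict transform after blowing up a Fitting ideal is locally free (helper56)
-/

set_option autoImplicit false
set_option linter.style.haveILetI false
universe u
open CategoryTheory CategoryTheory.Limits AlgebraicGeometry TopologicalSpace Opposite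

namespace Groth.Agent.Lib.Helper56.FittStrictFree

open Scheme.Modules Groth.Agent.Lib.QCoh Groth.Agent.Lib.Helper61.QCohSections
  Groth.Agent.Lib.QCoh.FittSheaf74 Groth.Agent.Lib.Helper45.Fitting FlatMod

/-- F1: Fitting ideals vanish on small affine opens inside an open where `F` is locally free. -/
theorem exists_affine_fitt_eq_bot {S : Scheme.{u}} (F : S.Modules) [F.IsQuasicoherent]
    [F.IsFiniteType] (k : ℕ) (V : S.Opens) (hfree : IsFinLocFreeOfRank k (F.restrict V.ι))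
    (s : S) (hs : s ∈ V) :
    ∃ A : S.affineOpens, s ∈ A.1 ∧ ∀ j < k, (Fitt.sheafIdeal F j).ideal A = ⊥ := by
  obtain ⟨U', hU', hxU', -, ⟨bas⟩⟩ := exists_affine_basis_of_isFinLocFreeOfRank hfree
    (V := ⊤) (x := (⟨s, hs⟩ : V.toScheme)) trivial
  have hA : IsAffineOpen (V.ι ''ᵁ U') := hU'.image_of_isOpenImmersion V.ι
  refine ⟨⟨V.ι ''ᵁ U', hA⟩, ⟨⟨s, hs⟩, hxU', rfl⟩, fun j hj => ?_⟩
  rw [sheafIdeal_ideal]
  let φ : Γ(V.toScheme, U') ≃+* Γ(S, V.ι ''ᵁ U') :=
    (V.ι.appIso U').symm.commRingCatIsoToRingEquiv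
  letI : Module Γ(S, V.ι ''ᵁ U') Γ(F.restrict V.ι, U') :=
    inferInstanceAs (Module Γ(S, V.ι ''ᵁ U') Γ(F, V.ι ''ᵁ U'))
  let bas' : Module.Basis (Fin k) Γ(S, V.ι ''ᵁ U') Γ(F.restrict V.ι, U') :=
    bas.mapCoeffs φ (fun _ _ => rfl)
  exact (fitt_of_basis bas' j).1 hj

/-- F2. -/
theorem exists_affine_comap_fitt_eq_bot {S S' : Scheme.{u}} (b : S' ⟶ S) (F : S.Modules)
    [F.IsQuasicoherent] [F.IsFiniteType] (k : ℕ) (V : S.Opens)
    (hfree : IsFinLocFreeOfRank k (F.restrict V.ι)) (x' : S') (hx' : b x' ∈ V) :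
    ∃ A' : S'.affineOpens, x' ∈ A'.1 ∧ ∀ j < k, ((Fitt.sheafIdeal F j).comap b).ideal A' = ⊥ := by
  obtain ⟨A, hsA, hA⟩ := exists_affine_fitt_eq_bot F k V hfree (b x') hx'
  obtain ⟨A', hA', hxA', hle⟩ := Opens.isBasis_iff_nbhd.1 S'.isBasis_affineOpens
    (show x' ∈ b ⁻¹ᵁ A.1 from hsA)
  refine ⟨⟨A', hA'⟩, hxA', fun j hj => ?_⟩
  rw [Groth.Agent.Lib.Helper20.ideal_comap b _ ⟨A', hA'⟩ A hle, hA j hj, Ideal.map_bot]

/-- F3: an ideal sheaf vanishing locally off an effective Cartier divisor vanishes. -/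
theorem eq_bot_of_locally_off {X : Scheme.{u}} (J 𝓔 : X.IdealSheafData)
    (hE : BlowUp.IsEffCartierIdeal 𝓔)
    (hloc : ∀ x : X, x ∉ 𝓔.support → ∃ A' : X.affineOpens, x ∈ A'.1 ∧ J.ideal A' = ⊥) :
    J = ⊥ := by
  choose U hxU f hf hfU using hE
  have hcov : ⨆ x : X, ((U x : X.affineOpens) : X.Opens) = ⊤ :=
    top_le_iff.1 fun x _ => Opens.mem_iSup.2 ⟨x, hxU x⟩
  refine Scheme.IdealSheafData.ext_of_iSup_eq_top (fun x : X => U x) hcov fun x => ?_
  change J.ideal (U x) = (⊥ : Ideal Γ(X, (U x).1))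
  rw [eq_bot_iff]
  intro a ha
  have hW : IsAffineOpen (X.basicOpen (f x)) := (U x).2.basicOpen (f x)
  have hJW : J.ideal ⟨X.basicOpen (f x), hW⟩ = ⊥ := by
    rw [hW.ideal_ext_iff]
    intro y hy
    have hyU : y ∈ (U x).1 := X.basicOpen_le (f x) hy
    have hys : y ∉ 𝓔.support := by
      rw [Scheme.IdealSheafData.mem_support_iff_of_mem (U := U x) hyU, hfU x,
        Scheme.mem_zeroLocus_iff]
      intro h
      exact h (f x) (Ideal.mem_span_singleton_self _) hy
    obtain ⟨A', hyA', hA'⟩ := hloc y hys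
    rw [Groth.Agent.Lib.Helper56.StrictTransFlat.map_germ_ideal_eq J
      ⟨X.basicOpen (f x), hW⟩ A' y hy hyA', hA', Ideal.map_bot, Ideal.map_bot]
  have h1 := J.ideal_le_comap_ideal (U := ⟨X.basicOpen (f x), hW⟩) (V := U x)
    (X.basicOpen_le (f x)) ha
  rw [hJW] at h1
  have h2 : X.presheaf.map (homOfLE (X.basicOpen_le (f x))).op a = 0 := h1
  letI := resAlgebra (X := X) (X.basicOpen_le (f x))
  have : IsLocalization.Away (f x) Γ(X, X.basicOpen (f x)) :=
    (U x).2.isLocalization_basicOpen (f x)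
  obtain ⟨⟨_, n, rfl⟩, hm⟩ := (IsLocalization.map_eq_zero_iff (Submonoid.powers (f x))
    Γ(X, X.basicOpen (f x)) a).1 h2
  have hn : f x ^ n ∈ nonZeroDivisors Γ(X, (U x).1) := pow_mem (hf x) n
  exact (mem_nonZeroDivisors_iff_left.1 hn) a hm

open Groth.Agent.Lib.Helper56.TildeQuot in
/-- **Main theorem** (S8912). -/
theorem isFinLocFreeOfRank_strict (S : Scheme.{u}) (F : S.Modules) [F.IsQuasicoherent]
    [F.IsFiniteType] (k : ℕ)
    (hfree : IsFinLocFreeOfRank k
      (F.restrict (Scheme.Opens.ι (Fitt.sheafIdeal F k).support.compl)))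
    {S' : Scheme.{u}} (b : S' ⟶ S)
    (hE : BlowUp.IsEffCartierIdeal ((Fitt.sheafIdeal F k).comap b)) (G : S'.Modules)
    (π : (Scheme.Modules.pullback b).obj F ⟶ G)
    (hG : BlowUp.IsStrictTransform b (Fitt.sheafIdeal F k) F G π) :
    IsFinLocFreeOfRank k G := by
  have hPft : ((Scheme.Modules.pullback b).obj F).IsFiniteType := isFiniteType_pullback b F
  have hepi : Epi π := hG.1
  have hker : ∀ (V : S'.affineOpens) (m : Γ((Scheme.Modules.pullback b).obj F, V.1)),
      π.app V.1 m = 0 ↔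
        BlowUp.KilledByPowerNear ((Fitt.sheafIdeal F k).comap b)
          ((Scheme.Modules.pullback b).obj F) V m := hG.2
  -- `Fit_j(P) = ⊥` for `j < k`
  have hJ : ∀ j < k, Fitt.sheafIdeal ((Scheme.Modules.pullback b).obj F) j = ⊥ := by
    intro j hj
    rw [← comap_sheafIdeal b F j]
    refine eq_bot_of_locally_off _ ((Fitt.sheafIdeal F k).comap b) hE (fun x hx => ?_)
    have hbx : b x ∈ (Fitt.sheafIdeal F k).support.compl := by
      rw [Scheme.IdealSheafData.support_comap] at hx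
      exact hx
    obtain ⟨A', hxA', hA'⟩ := exists_affine_comap_fitt_eq_bot b F k _ hfree x hbx
    exact ⟨A', hxA', hA' j hj⟩
  have hGq : G.IsQuasicoherent :=
    Groth.Agent.Lib.Helper56.StrictQC.isQuasicoherent_of_strict ((Fitt.sheafIdeal F k).comap b)
      (fun x => by
        obtain ⟨U, hxU, g, -, hg⟩ := hE x
        exact ⟨U, hxU, g, hg⟩) ((Scheme.Modules.pullback b).obj F) G π hker
  have hGft : G.IsFiniteType := isFiniteType_of_epi π
  apply isFinLocFreeOfRank_of_sheafIdeal G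
  · intro j hj
    choose U hxU f hf hfU using hE
    have hcov : ⨆ x : S', ((U x : S'.affineOpens) : S'.Opens) = ⊤ :=
      top_le_iff.1 fun x _ => Opens.mem_iSup.2 ⟨x, hxU x⟩
    refine Scheme.IdealSheafData.ext_of_iSup_eq_top (fun x : S' => U x) hcov fun x => ?_
    change (Fitt.sheafIdeal G j).ideal (U x) = (⊥ : Ideal Γ(S', (U x).1))
    rw [sheafIdeal_ideal]
    obtain ⟨e⟩ := Groth.Agent.Lib.Helper56.StrictQC.nonempty_restrictSpec_iso (U x).2 _
      ((Scheme.Modules.pullback b).obj F) G π hker (f x) (hfU x)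
    have hfinP : Module.Finite Γ(S', (U x).1) Γ((Scheme.Modules.pullback b).obj F, (U x).1) :=
      finite_Γ_of_isAffineOpen (U x).2 _
    have hfinM : Module.Finite Γ(S', (U x).1)
        ((moduleSpecΓFunctor (R := Γ(S', (U x).1))).obj
          (restrictSpec (U x).2 ((Scheme.Modules.pullback b).obj F))) :=
      Module.Finite.equiv
        (ΓrestrictSpecLinearEquiv (U x).2 ((Scheme.Modules.pullback b).obj F)).symm
    have hM0 : Fitt.ideal Γ(S', (U x).1) Γ((Scheme.Modules.pullback b).obj F, (U x).1) j = ⊥ := by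
      rw [← sheafIdeal_ideal _ j (U x), hJ j hj]
      rfl
    have hM : Fitt.ideal Γ(S', (U x).1)
        ((moduleSpecΓFunctor (R := Γ(S', (U x).1))).obj
          (restrictSpec (U x).2 ((Scheme.Modules.pullback b).obj F))) j = ⊥ :=
      (fitt_congr (ΓrestrictSpecLinearEquiv (U x).2 ((Scheme.Modules.pullback b).obj F)) j).trans
        hM0
    have hQ := Groth.Agent.Lib.Helper56.FittTorsion.fitt_quot_torsion_eq_bot (f x) (hf x) j hM
    have e1 := fitt_congr (ΓrestrictSpecLinearEquiv (U x).2 G).symm j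
    have e2 := fitt_congr ((moduleSpecΓFunctor (R := Γ(S', (U x).1))).mapIso e).toLinearEquiv j
    have e3 := fitt_congr ((tilde.toTildeΓNatIso (R := Γ(S', (U x).1))).app
      (quotObj (f x) ((moduleSpecΓFunctor (R := Γ(S', (U x).1))).obj
          (restrictSpec (U x).2 ((Scheme.Modules.pullback b).obj F))))).symm.toLinearEquiv j
    exact e1.trans (e2.trans (e3.trans hQ))
  · rw [← Scheme.IdealSheafData.support_eq_bot_iff]
    ext x
    simp only [Closeds.coe_bot, Set.mem_empty_iff_false, iff_false, SetLike.mem_coe]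
    have hcomap := comap_sheafIdeal b F k
    refine (exists_epi_iff_notMem_support G x k).1 ?_
    refine Groth.Agent.Lib.Helper56.FittStrict.exists_epi_of_fitt_principal
      ((Scheme.Modules.pullback b).obj F) k (hcomap ▸ hE) π (fun V m hm => ?_) x
    refine (hker V m).2 ?_
    rw [hcomap]
    exact hm

end Groth.Agent.Lib.Helper56.FittStrictFree
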