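import Groth.Prelude.Def_W4bk4boschfrg79
import Mathlib.RingTheory.AdicCompletion.RingHom
import Mathlib.RingTheory.AdicCompletion.Completeness
import Mathlib.Algebra.GroupWithZero.NonZeroDivisors

/-!
# Universal property of the charts of an admissible formal blowing-up (helper56)

* `completionLift` : an `R`-algebra map `C → B` into an `IB`-adically complete ring extends to the
  `IC`-adic completion of `C`.
* `completion_algHom_ext` : uniqueness of such extensions when `I` is finitely generated.
* `chart_existsUnique` : S11545.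
-/

set_option autoImplicit false
set_option linter.style.haveILetI false
set_option maxHeartbeats 400000
universe u
open AdicRing

namespace Groth.Agent.Lib.Helper56.FormalChart

section completion

variable {R : Type u} [CommRing R] (I : Ideal R) {C : Type u} [CommRing C] [Algebra R C]
  {B : Type u} [CommRing B] [Algebra R B]

theorem map_pow_le (ψ₀ : C →ₐ[R] B) (n : ℕ) :
    (I.map (algebraMap R C)) ^ n ≤ Ideal.comap ψ₀ ((I.map (algebraMap R B)) ^ n) := by
  have h1 : I.map (algebraMap R C) ≤ Ideal.comap ψ₀ (I.map (algebraMap R B)) := by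
    rw [Ideal.map_le_iff_le_comap]
    intro x hx
    rw [Ideal.mem_comap, Ideal.mem_comap, AlgHom.commutes]
    exact Ideal.mem_map_of_mem _ hx
  exact le_trans (Ideal.pow_right_mono h1 n) (Ideal.le_comap_pow _ n)

/-- the level-`n` map -/
noncomputable def levelHom (ψ₀ : C →ₐ[R] B) (n : ℕ) :
    AdicCompletion (I.map (algebraMap R C)) C →ₐ[R] B ⧸ (I.map (algebraMap R B)) ^ n :=
  (Ideal.quotientMapₐ ((I.map (algebraMap R B)) ^ n) ψ₀ (map_pow_le I ψ₀ n)).comp
    ((AdicCompletion.evalₐ (I.map (algebraMap R C)) n).restrictScalars R)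

theorem levelHom_mk (ψ₀ : C →ₐ[R] B) (n : ℕ)
    (s : AdicCompletion.AdicCauchySequence (I.map (algebraMap R C)) C) :
    levelHom I ψ₀ n (AdicCompletion.mk _ _ s) =
      Ideal.Quotient.mk ((I.map (algebraMap R B)) ^ n) (ψ₀ (s.val n)) := by
  simp only [levelHom, AlgHom.comp_apply, AlgHom.restrictScalars_apply]
  rw [AdicCompletion.evalₐ_mk]
  rfl

theorem levelHom_of (ψ₀ : C →ₐ[R] B) (n : ℕ) (c : C) :
    levelHom I ψ₀ n (AdicCompletion.of _ _ c) =
      Ideal.Quotient.mk ((I.map (algebraMap R B)) ^ n) (ψ₀ c) := by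
  simp only [levelHom, AlgHom.comp_apply, AlgHom.restrictScalars_apply]
  rw [AdicCompletion.evalₐ_of]
  rfl

theorem levelHom_compat (ψ₀ : C →ₐ[R] B) {m n : ℕ} (hle : m ≤ n) :
    (Ideal.Quotient.factorₐ R (Ideal.pow_le_pow_right hle)).comp (levelHom I ψ₀ n) =
      levelHom I ψ₀ m := by
  ext x
  induction x using AdicCompletion.induction_on with
  | _ s =>
    rw [AlgHom.comp_apply, levelHom_mk, levelHom_mk]
    change Ideal.Quotient.mk _ (ψ₀ (s.val n)) = Ideal.Quotient.mk _ (ψ₀ (s.val m))
    rw [Ideal.Quotient.eq, ← map_sub]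
    have h1 : s.val n - s.val m ∈ (I.map (algebraMap R C)) ^ m := by
      rw [← Ideal.Quotient.eq]
      exact AdicCompletion.Ideal.mk_eq_mk _ hle s
    exact map_pow_le I ψ₀ m h1

variable [IsAdicComplete (I.map (algebraMap R B)) B]

/-- The extension of `ψ₀ : C → B` to the completion of `C`. -/
noncomputable def completionLift (ψ₀ : C →ₐ[R] B) :
    AdicCompletion (I.map (algebraMap R C)) C →ₐ[R] B :=
  IsAdicComplete.liftAlgHom (I.map (algebraMap R B)) (levelHom I ψ₀)
    (fun hle => levelHom_compat I ψ₀ hle)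

theorem eq_of_forall_mk_eq {x y : B}
    (h : ∀ n, Ideal.Quotient.mk ((I.map (algebraMap R B)) ^ n) x =
      Ideal.Quotient.mk ((I.map (algebraMap R B)) ^ n) y) : x = y := by
  rw [← sub_eq_zero]
  apply IsHausdorff.haus' (I := I.map (algebraMap R B)) (x - y)
  intro n
  rw [SModEq.zero]
  have := (Ideal.Quotient.eq).mp (h n)
  simpa using this

theorem completionLift_of (ψ₀ : C →ₐ[R] B) (c : C) :
    completionLift I ψ₀ (AdicCompletion.of _ _ c) = ψ₀ c := by
  apply eq_of_forall_mk_eq I
  intro n
  rw [completionLift, IsAdicComplete.mk_liftAlgHom, levelHom_of]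

/-- an `R`-algebra map out of the completion maps `ker (evalₐ n)` into `(IB)^n` (`I` f.g.) -/
theorem map_ker_eval_le (hI : I.FG)
    (g : AdicCompletion (I.map (algebraMap R C)) C →ₐ[R] B) (n : ℕ)
    (y : AdicCompletion (I.map (algebraMap R C)) C)
    (hy : AdicCompletion.evalₐ (I.map (algebraMap R C)) n y = 0) :
    g y ∈ (I.map (algebraMap R B)) ^ n := by
  have hJ : (I.map (algebraMap R C)).FG := hI.map _
  have h1 : y ∈ LinearMap.ker (AdicCompletion.eval (I.map (algebraMap R C)) C n) := by
    have h0 : (I.map (algebraMap R C)) ^ n ≤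
        ((I.map (algebraMap R C)) ^ n • ⊤ : Ideal C) := by
      rw [smul_eq_mul, Ideal.mul_top]
    rw [LinearMap.mem_ker, ← AdicCompletion.factor_evalₐ_eq_eval _ y h0, hy, map_zero]
  rw [← AdicCompletion.pow_smul_top_eq_ker_eval hJ] at h1
  refine Submodule.smul_induction_on h1 ?_ ?_
  · intro j hj x _
    have h2 : j • x = algebraMap C _ j * x := Algebra.smul_def j x
    rw [h2, map_mul]
    apply Ideal.mul_mem_right
    exact map_pow_le I (g.comp (IsScalarTower.toAlgHom R C _)) n hj
  · intro a b ha hb
    rw [map_add]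
    exact Ideal.add_mem _ ha hb

theorem completion_algHom_ext (hI : I.FG)
    (g₁ g₂ : AdicCompletion (I.map (algebraMap R C)) C →ₐ[R] B)
    (h : ∀ c : C, g₁ (AdicCompletion.of _ _ c) = g₂ (AdicCompletion.of _ _ c)) : g₁ = g₂ := by
  ext x
  apply eq_of_forall_mk_eq I
  intro n
  obtain ⟨c, hc⟩ := Ideal.Quotient.mk_surjective
    (AdicCompletion.evalₐ (I.map (algebraMap R C)) n x)
  have hy : AdicCompletion.evalₐ (I.map (algebraMap R C)) n (x - AdicCompletion.of _ _ c) = 0 := by
    rw [map_sub, AdicCompletion.evalₐ_of, hc, sub_self]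
  have e1 := map_ker_eval_le I hI g₁ n _ hy
  have e2 := map_ker_eval_le I hI g₂ n _ hy
  rw [map_sub, ← Ideal.Quotient.eq] at e1 e2
  rw [e1, e2, h c]

end completion

section chart

variable {R : Type u} [CommRing R] (I : Ideal R) {A : Type u} [CommRing A] [Algebra R A]
  {ι : Type} (f : ι → A) (i : ι) {B : Type u} [CommRing B] [Algebra R B] (φ : A →ₐ[R] B)

/-- the polynomial-level map -/
noncomputable def polyHom (b : {j : ι // j ≠ i} → B) :
    MvPolynomial {j : ι // j ≠ i} A →ₐ[R] B :=
  { MvPolynomial.eval₂Hom (φ : A →+* B) b with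
    commutes' := fun r => by
      change MvPolynomial.eval₂Hom (φ : A →+* B) b (algebraMap R (MvPolynomial _ A) r) = _
      rw [IsScalarTower.algebraMap_apply R A (MvPolynomial _ A), MvPolynomial.algebraMap_eq,
        MvPolynomial.eval₂Hom_C]
      exact φ.commutes r }

theorem polyHom_C (b : {j : ι // j ≠ i} → B) (a : A) :
    polyHom i φ b (MvPolynomial.C a) = φ a :=
  MvPolynomial.eval₂Hom_C _ _ _

theorem polyHom_X (b : {j : ι // j ≠ i} → B) (j : {j : ι // j ≠ i}) :
    polyHom i φ b (MvPolynomial.X j) = b j :=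
  MvPolynomial.eval₂Hom_X' _ _ _

/-- the map on the chart algebra -/
noncomputable def chartHom (b : {j : ι // j ≠ i} → B) (hb : ∀ j, φ (f i) * b j = φ (f j.1)) :
    chartAlg f i →ₐ[R] B :=
  Ideal.Quotient.liftₐ _ (polyHom i φ b) (by
    intro a ha
    have hle : Ideal.span (Set.range fun j : {j : ι // j ≠ i} =>
        MvPolynomial.C (f i) * MvPolynomial.X j - MvPolynomial.C (f j.1)) ≤
        RingHom.ker (polyHom i φ b).toRingHom := by
      rw [Ideal.span_le]
      rintro _ ⟨j, rfl⟩
      rw [SetLike.mem_coe, RingHom.mem_ker]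
      change polyHom i φ b _ = 0
      rw [map_sub, map_mul, polyHom_C, polyHom_X, polyHom_C, hb, sub_self]
    exact hle ha)

theorem chartHom_mk (b : {j : ι // j ≠ i} → B) (hb : ∀ j, φ (f i) * b j = φ (f j.1))
    (p : MvPolynomial {j : ι // j ≠ i} A) :
    chartHom f i φ b hb (Ideal.Quotient.mk _ p) = polyHom i φ b p := rfl

/-- **Universal property of the chart `A_i` of an admissible formal blowing-up** (S11545). -/
theorem chart_existsUnique (hI : I.FG) [IsAdicComplete (I.map (algebraMap R B)) B]
    (hnzd : φ (f i) ∈ nonZeroDivisors B)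
    (hgen : ∀ j : ι, ∃ b : B, φ (f i) * b = φ (f j)) :
    ∃! ψ : chartAdm I f i →ₐ[R] B,
      ψ.comp (IsScalarTower.toAlgHom R A (chartAdm I f i)) = φ := by
  choose b hb using hgen
  -- the map on the completion
  obtain ⟨ψh, hψh⟩ : ∃ ψh : chartCompl I f i →ₐ[R] B,
      ∀ c : chartAlg f i, ψh (AdicCompletion.of _ _ c) =
        chartHom f i φ (fun j => b j.1) (fun j => hb j.1) c :=
    ⟨completionLift I (chartHom f i φ (fun j => b j.1) (fun j => hb j.1)),
      fun c => completionLift_of I _ c⟩
  have hψhA : ∀ a : A, ψh (algebraMap A (chartCompl I f i) a) = φ a := by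
    intro a
    rw [AdicCompletion.algebraMap_apply, hψh]
    change chartHom f i φ (fun j => b j.1) (fun j => hb j.1)
      (Ideal.Quotient.mk _ (MvPolynomial.C a)) = φ a
    rw [chartHom_mk, polyHom_C]
  -- it kills the `f i`-power torsion
  have hker : ∀ x ∈ (⨆ n : ℕ, Submodule.torsionBy (chartCompl I f i) (chartCompl I f i)
      (algebraMap A (chartCompl I f i) (f i) ^ n) : Ideal (chartCompl I f i)), ψh x = 0 := by
    intro x hx
    have hle : (⨆ n : ℕ, Submodule.torsionBy (chartCompl I f i) (chartCompl I f i)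
        (algebraMap A (chartCompl I f i) (f i) ^ n) : Ideal (chartCompl I f i)) ≤
        RingHom.ker ψh.toRingHom := by
      apply iSup_le
      intro n y hy
      rw [Submodule.mem_torsionBy_iff] at hy
      rw [RingHom.mem_ker]
      have h1 : ψh (algebraMap A _ (f i) ^ n * y) = 0 := by
        rw [← smul_eq_mul, hy, map_zero]
      rw [map_mul, map_pow, hψhA] at h1
      exact (mul_left_mem_nonZeroDivisors_eq_zero_iff (pow_mem hnzd n)).mp h1
    exact hle hx
  refine ⟨Ideal.Quotient.liftₐ _ ψh hker, ?_, ?_⟩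
  · ext a
    change ψh (algebraMap A (chartCompl I f i) a) = φ a
    exact hψhA a
  · intro ψ' hψ'
    apply Ideal.Quotient.algHom_ext R
    apply completion_algHom_ext I hI
    intro c
    -- both sides are `R`-algebra maps on the chart algebra
    have hA' : ∀ a : A, ψ' (algebraMap A (chartAdm I f i) a) = φ a := by
      intro a
      have := congrArg (fun g => g a) hψ'
      exact this
    -- reduce to generators
    obtain ⟨p, rfl⟩ := Ideal.Quotient.mk_surjective c
    have key : (ψ'.toRingHom.comp ((Ideal.Quotient.mk _).comp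
        ((algebraMap (chartAlg f i) (chartCompl I f i)).comp (Ideal.Quotient.mk _)))) =
        (polyHom i φ (fun j => b j.1)).toRingHom := by
      apply MvPolynomial.ringHom_ext
      · intro a
        show ψ' (Ideal.Quotient.mk _ (algebraMap (chartAlg f i) (chartCompl I f i)
          (Ideal.Quotient.mk _ (MvPolynomial.C a)))) = polyHom i φ (fun j => b j.1) (MvPolynomial.C a)
        rw [polyHom_C]
        exact hA' a
      · intro j
        show ψ' (Ideal.Quotient.mk _ (algebraMap (chartAlg f i) (chartCompl I f i)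
          (Ideal.Quotient.mk _ (MvPolynomial.X j)))) = polyHom i φ (fun j => b j.1) (MvPolynomial.X j)
        rw [polyHom_X]
        have h1 : ψ' (Ideal.Quotient.mk _ (algebraMap (chartAlg f i) (chartCompl I f i)
            (Ideal.Quotient.mk _ (MvPolynomial.C (f i) * MvPolynomial.X j)))) = φ (f j.1) := by
          have h2 : (Ideal.Quotient.mk (Ideal.span (Set.range fun j : {j : ι // j ≠ i} =>
              MvPolynomial.C (f i) * MvPolynomial.X j - MvPolynomial.C (f j.1)))
              (MvPolynomial.C (f i) * MvPolynomial.X j)) =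
              Ideal.Quotient.mk _ (MvPolynomial.C (f j.1)) := by
            rw [Ideal.Quotient.eq]
            exact Ideal.subset_span ⟨j, rfl⟩
          rw [h2]
          exact hA' (f j.1)
        rw [map_mul, map_mul, map_mul, map_mul] at h1
        have h3 : ψ' (Ideal.Quotient.mk _ (algebraMap (chartAlg f i) (chartCompl I f i)
            (Ideal.Quotient.mk _ (MvPolynomial.C (f i))))) = φ (f i) := hA' (f i)
        rw [h3, ← hb j.1] at h1
        have h4 : φ (f i) * (ψ' (Ideal.Quotient.mk _ (algebraMap (chartAlg f i)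
            (chartCompl I f i) (Ideal.Quotient.mk _ (MvPolynomial.X j)))) - b j.1) = 0 := by
          rw [mul_sub, h1, sub_self]
        exact sub_eq_zero.mp ((mul_left_mem_nonZeroDivisors_eq_zero_iff hnzd).mp h4)
    have key' := congrArg (fun g => g p) key
    change ψ' (Ideal.Quotient.mk _ (AdicCompletion.of _ _ (Ideal.Quotient.mk _ p))) =
      ψh (AdicCompletion.of _ _ (Ideal.Quotient.mk _ p))
    rw [hψh, chartHom_mk]
    exact key'

end chart

end Groth.Agent.Lib.Helper56.FormalChart
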