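import Groth.Agent.Lib.Helper56.ModPairFrac
import Mathlib.AlgebraicGeometry.Noetherian
import Mathlib.AlgebraicGeometry.Morphisms.Proper

/-!
# Extending a morphism after a proper modification: closure of the graph (helper56)

ns `Groth.Agent.Lib.Helper56.GraphClosure`.
-/

set_option autoImplicit false
universe u
open CategoryTheory CategoryTheory.Limits AlgebraicGeometry TopologicalSpace Opposite

namespace Groth.Agent.Lib.Helper56.GraphClosure

lemma ker_le_ker_comp {A B C : Scheme.{u}} (σ : A ⟶ B) (w : B ⟶ C) : w.ker ≤ (σ ≫ w).ker := by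
  rw [← Scheme.IdealSheafData.map_ker, ← Scheme.IdealSheafData.map_bot]
  exact Scheme.IdealSheafData.map_mono w bot_le

/-- the morphism to the scheme-theoretic image has trivial kernel -/
theorem ker_toImage {A B : Scheme.{u}} (γ : A ⟶ B) : γ.toImage.ker = ⊥ := by
  have hγ : γ = γ.toImage.toImage ≫ (γ.toImage.imageι ≫ γ.imageι) := by
    rw [← Category.assoc, γ.toImage.toImage_imageι, γ.toImage_imageι]
  have hc : γ.imageι.ker = γ.ker := Scheme.IdealSheafData.ker_subschemeι _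
  have h1 : (γ.toImage.imageι ≫ γ.imageι).ker = γ.imageι.ker := by
    apply le_antisymm
    · rw [hc]
      have := ker_le_ker_comp γ.toImage.toImage (γ.toImage.imageι ≫ γ.imageι)
      rwa [← hγ] at this
    · exact ker_le_ker_comp γ.toImage.imageι γ.imageι
  have : IsIso γ.toImage.imageι :=
    IsClosedImmersion.isIso_of_ker_eq (γ.toImage.imageι ≫ γ.imageι) γ.imageι γ.toImage.imageι
      rfl h1
  exact (Scheme.isIso_subschemeι_iff_eq_bot _).mp this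

theorem exists_extension {X Y S : Scheme.{u}} [IsNoetherian X] (a : X ⟶ S) (b : Y ⟶ S)
    [IsProper b] (U : X.Opens) (f : (U : Scheme.{u}) ⟶ Y) (hf : f ≫ b = U.ι ≫ a) :
    ∃ (X' : Scheme.{u}) (p : X' ⟶ X) (f' : X' ⟶ Y), IsProper p ∧ IsIso (p ∣_ U) ∧
      f' ≫ b = p ≫ a ∧ (p ⁻¹ᵁ U).ι ≫ f' = (p ∣_ U) ≫ f := by
  let γ : (U : Scheme.{u}) ⟶ pullback a b := pullback.lift U.ι f hf.symm
  have hγ1 : γ ≫ pullback.fst a b = U.ι := pullback.lift_fst _ _ _
  have hγ2 : γ ≫ pullback.snd a b = f := pullback.lift_snd _ _ _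
  have hqcι : QuasiCompact U.ι := inferInstance
  have hqc : QuasiCompact γ := by
    have : QuasiCompact (γ ≫ pullback.fst a b) := by rw [hγ1]; exact hqcι
    exact QuasiCompact.of_comp γ (pullback.fst a b)
  let τ := γ.toImage
  let c := γ.imageι
  have hτc : τ ≫ c = γ := γ.toImage_imageι
  let p : γ.image ⟶ X := c ≫ pullback.fst a b
  let f' : γ.image ⟶ Y := c ≫ pullback.snd a b
  have hτp : τ ≫ p = U.ι := by
    show τ ≫ c ≫ pullback.fst a b = U.ι
    rw [← Category.assoc, hτc, hγ1]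
  have hτf : τ ≫ f' = f := by
    show τ ≫ c ≫ pullback.snd a b = f
    rw [← Category.assoc, hτc, hγ2]
  have hp : IsProper p := inferInstance
  have hτker : τ.ker = ⊥ := ker_toImage γ
  have hqcτ : QuasiCompact τ := inferInstance
  have hrV : Set.range τ ⊆ Set.range (p ⁻¹ᵁ U).ι := by
    rintro _ ⟨u, rfl⟩
    rw [Scheme.Opens.range_ι]
    show p (τ u) ∈ U
    rw [← Scheme.Hom.comp_apply, hτp]
    exact u.2
  let τ' := IsOpenImmersion.lift (p ⁻¹ᵁ U).ι τ hrV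
  have hτ' : τ' ≫ (p ⁻¹ᵁ U).ι = τ := IsOpenImmersion.lift_fac _ _ _
  have hrestr : (τ ⁻¹ᵁ (p ⁻¹ᵁ U)).ι ≫ τ' = τ ∣_ (p ⁻¹ᵁ U) := by
    rw [← cancel_mono (p ⁻¹ᵁ U).ι, Category.assoc, hτ', morphismRestrict_ι]
  have htop : τ ⁻¹ᵁ (p ⁻¹ᵁ U) = ⊤ := by
    ext u
    simp only [Opens.coe_top, Set.mem_univ, iff_true]
    show p (τ u) ∈ U
    rw [← Scheme.Hom.comp_apply, hτp]
    exact u.2
  have hisoι : IsIso (τ ⁻¹ᵁ (p ⁻¹ᵁ U)).ι :=
    isIso_of_isOpenImmersion_of_opensRange_eq_top _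
      (by rw [Scheme.Opens.opensRange_ι]; exact htop)
  have hker' : τ'.ker = ⊥ := by
    have e : (τ ∣_ (p ⁻¹ᵁ U)).ker = ⊥ := by
      apply Scheme.IdealSheafData.ext
      funext W
      rw [Scheme.ker_morphismRestrict_ideal, hτker]
      rfl
    rw [← hrestr, Scheme.Hom.ker_comp_of_isIso] at e
    exact e
  have h1 : τ' ≫ (p ∣_ U) = 𝟙 _ := by
    rw [← cancel_mono U.ι, Category.assoc, morphismRestrict_ι, ← Category.assoc, hτ', hτp,
      Category.id_comp]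
  have h2 : (p ∣_ U) ≫ τ' = 𝟙 _ := by
    have hsep : IsSeparated ((p ⁻¹ᵁ U).ι ≫ p) := inferInstance
    refine Groth.Agent.Lib.Helper56.ModPairFrac.ext_of_ker_eq_bot_of_isSeparated
      ((p ⁻¹ᵁ U).ι ≫ p) ?_ τ' hker' ?_
    · calc ((p ∣_ U) ≫ τ') ≫ (p ⁻¹ᵁ U).ι ≫ p = (p ∣_ U) ≫ (τ' ≫ (p ⁻¹ᵁ U).ι) ≫ p := by
            simp only [Category.assoc]
        _ = (p ∣_ U) ≫ U.ι := by rw [hτ', hτp]
        _ = 𝟙 _ ≫ (p ⁻¹ᵁ U).ι ≫ p := by rw [morphismRestrict_ι, Category.id_comp]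
    · rw [← Category.assoc, h1, Category.id_comp, Category.comp_id]
  have hiso : IsIso (p ∣_ U) := ⟨τ', h2, h1⟩
  refine ⟨γ.image, p, f', hp, hiso, ?_, ?_⟩
  · show (c ≫ pullback.snd a b) ≫ b = (c ≫ pullback.fst a b) ≫ a
    rw [Category.assoc, Category.assoc, pullback.condition]
  · calc (p ⁻¹ᵁ U).ι ≫ f' = ((p ∣_ U) ≫ τ') ≫ (p ⁻¹ᵁ U).ι ≫ f' := by
          rw [h2, Category.id_comp]
      _ = (p ∣_ U) ≫ (τ' ≫ (p ⁻¹ᵁ U).ι) ≫ f' := by simp only [Category.assoc]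
      _ = (p ∣_ U) ≫ f := by rw [hτ', hτf]

end Groth.Agent.Lib.Helper56.GraphClosure
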