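import Groth.Agent.Lib.Helper56.PhBlowUp
import Groth.Agent.Lib.Helper24.LfpOfComp
import Groth.Agent.S7468
import Groth.Prelude.Def_HTop3

/-!
# h sheaves and almost blow-up squares (helper56)

ns `Groth.Agent.Lib.Helper56.HBlowUp`.
-/

set_option autoImplicit false
universe u
open CategoryTheory CategoryTheory.Limits AlgebraicGeometry TopologicalSpace Opposite

namespace Groth.Agent.Lib.Helper56.HBlowUp

open Groth.Agent.Lib.Helper56.PhPair Groth.Agent.Lib.Helper56.PhBlowUp

/-- a two-member family of proper, finitely presented, jointly surjective morphisms is an h covering -/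
theorem isHCover_bool {T : Scheme.{u}} (Y : Bool → Scheme.{u}) (f : ∀ j, Y j ⟶ T)
    [hp : ∀ j, IsProper (f j)] (hfp : ∀ j, LocallyOfFinitePresentation (f j))
    (hsurj : ∀ t : T, ∃ j, t ∈ Set.range (f j)) :
    HTop.IsHCover ({ I₀ := Bool, X := Y, f := f } : PreZeroHypercover.{0} T) := by
  refine ⟨hfp, ?_⟩
  intro U
  obtain ⟨F, hF, href⟩ := (isPhCover_bool Y f hsurj).2 U
  exact ⟨F, Groth.Agent.S7468.result F hF, href⟩

theorem isSheafFor_bool_h (S : Scheme.{u}) (F : HTop.ShH S) {X : Over S} (Y : Bool → Over S)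
    (g : ∀ j, Y j ⟶ X) [∀ j, IsProper (g j).left]
    (hfp : ∀ j, LocallyOfFinitePresentation (g j).left)
    (hsurj : ∀ t : X.left, ∃ j, t ∈ Set.range (g j).left) :
    Presieve.IsSheafFor F.obj (Presieve.ofArrows Y g) := by
  have hF : Presieve.IsSheaf (HTop.Jh S) F.obj :=
    (isSheaf_iff_isSheaf_of_type _ _).mp F.property
  have hmem : Sieve.ofArrows Y g ∈ HTop.Jh S X := by
    rw [GrothendieckTopology.mem_over_iff, Sieve.overEquiv_ofArrows]
    apply Precoverage.generate_mem_toGrothendieck
    exact (HTop.presieve₀_mem_hPrecoverage_iff _).mpr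
      (isHCover_bool (fun j => (Y j).left) (fun j => (g j).left) hfp hsurj)
  have := hF _ hmem
  rwa [Sieve.ofArrows, ← Presieve.isSheafFor_iff_generate] at this

section geometry

variable {Z X' X : Scheme.{u}} (b : X' ⟶ X) (i : Z ⟶ X) [IsClosedImmersion i]

/-- the open complement of the centre -/
noncomputable def complS : X.Opens :=
  ⟨(Set.range i)ᶜ, i.isClosedEmbedding.isClosed_range.isOpen_compl⟩

theorem support_ker_eq : (i.ker.support : Set X) = Set.range i := by
  rw [Scheme.Hom.support_ker, i.isClosedEmbedding.isClosed_range.closure_eq]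

theorem isIso_restrict_complS (hb : BlowUp.IsBlowUp b i.ker) : IsIso (b ∣_ complS i) := by
  refine Groth.Agent.Lib.BlowUp.isIso_morphismRestrict_of_isBlowUp i.ker b hb (complS i)
    (fun z hz hz' => ?_)
  have : z ∈ (i.ker.support : Set X) := hz'
  rw [support_ker_eq] at this
  exact hz this

theorem mem_range_of_notMem_rangeS (hb : BlowUp.IsBlowUp b i.ker) (x : X)
    (hx : x ∉ Set.range i) : x ∈ Set.range b := by
  have hiso := isIso_restrict_complS b i hb
  have hxU : x ∈ complS i := hx
  have hsurj : Function.Surjective (b ∣_ complS i) := by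
    intro p
    refine ⟨(inv (b ∣_ complS i)) p, ?_⟩
    rw [← Scheme.Hom.comp_apply, IsIso.inv_hom_id]
    rfl
  obtain ⟨y, hy⟩ := hsurj ⟨x, hxU⟩
  refine ⟨y.1, ?_⟩
  rw [← morphismRestrict_base_coe, hy]

theorem eq_of_comp_eq_of_notMemS (hb : BlowUp.IsBlowUp b i.ker) {T : Scheme.{u}}
    (α₁ α₂ : T ⟶ X') (h : α₁ ≫ b = α₂ ≫ b)
    (hT : ∀ t : T, (α₁ ≫ b) t ∉ Set.range i) : α₁ = α₂ := by
  have hiso := isIso_restrict_complS b i hb
  have hr : ∀ α : T ⟶ X', α ≫ b = α₁ ≫ b →
      Set.range α ⊆ Set.range (b ⁻¹ᵁ complS i).ι := by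
    intro α hα
    rintro _ ⟨t, rfl⟩
    rw [Scheme.Opens.range_ι]
    show b (α t) ∈ complS i
    rw [← Scheme.Hom.comp_apply, hα]
    exact hT t
  let β₁ := IsOpenImmersion.lift (b ⁻¹ᵁ complS i).ι α₁ (hr α₁ rfl)
  let β₂ := IsOpenImmersion.lift (b ⁻¹ᵁ complS i).ι α₂ (hr α₂ h.symm)
  have hβ₁ : β₁ ≫ (b ⁻¹ᵁ complS i).ι = α₁ := IsOpenImmersion.lift_fac _ _ _
  have hβ₂ : β₂ ≫ (b ⁻¹ᵁ complS i).ι = α₂ := IsOpenImmersion.lift_fac _ _ _
  have h1 : β₁ ≫ (b ∣_ complS i) = β₂ ≫ (b ∣_ complS i) := by
    rw [← cancel_mono (complS i).ι, Category.assoc, Category.assoc, morphismRestrict_ι,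
      ← Category.assoc, ← Category.assoc, hβ₁, hβ₂, h]
  have h2 : β₁ = β₂ := (cancel_mono _).mp h1
  rw [← hβ₁, ← hβ₂, h2]

end geometry

section almost

variable {E Z X' X : Scheme.{u}} {e : E ⟶ X'} {π : E ⟶ Z} {b : X' ⟶ X} {i : Z ⟶ X}

theorem almost_mem_range (h : HTop.IsAlmostBlowUpSquare e π b i) (x : X)
    (hx : x ∉ Set.range i) : x ∈ Set.range b := by
  have := h.isClosedImmersion
  obtain ⟨y, hy⟩ := mem_range_of_notMem_rangeS _ i h.isBlowUp x hx
  refine ⟨(HTop.supportedOn (i.ker.comap b)).subschemeι y, ?_⟩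
  rw [← Scheme.Hom.comp_apply]
  exact hy

theorem almost_eq_of_comp_eq (h : HTop.IsAlmostBlowUpSquare e π b i) {T : Scheme.{u}}
    (α₁ α₂ : T ⟶ X') (hα : α₁ ≫ b = α₂ ≫ b)
    (hT : ∀ t : T, (α₁ ≫ b) t ∉ Set.range i) : α₁ = α₂ := by
  have := h.isClosedImmersion
  let O : X'.Opens := HTop.awayFrom (i.ker.comap b)
  have hOset : (O : Set X') = b ⁻¹' (Set.range i)ᶜ := by
    show (((i.ker.comap b).support.compl : Opens X') : Set X') = _
    rw [Closeds.coe_compl, Scheme.IdealSheafData.support_comap, Closeds.coe_preimage,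
      support_ker_eq]
    rfl
  have hr : ∀ α : T ⟶ X', α ≫ b = α₁ ≫ b → Set.range α ⊆ Set.range O.ι := by
    intro α hα'
    rintro _ ⟨t, rfl⟩
    rw [Scheme.Opens.range_ι, hOset]
    show b (α t) ∉ Set.range i
    rw [← Scheme.Hom.comp_apply, hα']
    exact hT t
  let β₁ := IsOpenImmersion.lift O.ι α₁ (hr α₁ rfl)
  let β₂ := IsOpenImmersion.lift O.ι α₂ (hr α₂ hα.symm)
  have hβ₁ : β₁ ≫ O.ι = α₁ := IsOpenImmersion.lift_fac _ _ _
  have hβ₂ : β₂ ≫ O.ι = α₂ := IsOpenImmersion.lift_fac _ _ _
  let c : (HTop.supportedOn (i.ker.comap b)).subscheme ⟶ X' :=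
    (HTop.supportedOn (i.ker.comap b)).subschemeι
  let τ : (O : Scheme.{u}) ⟶ (HTop.supportedOn (i.ker.comap b)).subscheme := O.ι.toImage
  have hc : τ ≫ c = O.ι := O.ι.toImage_imageι
  have hγ₁ : (β₁ ≫ τ) ≫ c = α₁ := by rw [Category.assoc, hc, hβ₁]
  have hγ₂ : (β₂ ≫ τ) ≫ c = α₂ := by rw [Category.assoc, hc, hβ₂]
  have key : β₁ ≫ τ = β₂ ≫ τ := by
    apply eq_of_comp_eq_of_notMemS (c ≫ b) i h.isBlowUp
    · rw [← Category.assoc, ← Category.assoc, hγ₁, hγ₂, hα]
    · intro t
      rw [← Category.assoc, hγ₁]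
      exact hT t
  rw [← hγ₁, ← hγ₂, key]

end almost

section main

variable (S : Scheme.{u}) (F : HTop.ShH S) {E Z X' X : Over S} (e : E ⟶ X') (π : E ⟶ Z)
  (b : X' ⟶ X) (i : Z ⟶ X)

theorem map_comp_apply_h {A B C : Over S} (f : A ⟶ B) (g : B ⟶ C) (x : F.obj.obj (op C)) :
    F.obj.map (f ≫ g).op x = F.obj.map f.op (F.obj.map g.op x) := by
  rw [op_comp, FunctorToTypes.map_comp_apply]

theorem cartesian_h (h : HTop.IsAlmostBlowUpSquare e.left π.left b.left i.left)
    (t : F.obj.obj (op Z)) (s' : F.obj.obj (op X')) (hts : F.obj.map π.op t = F.obj.map e.op s') :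
    ∃! s : F.obj.obj (op X), F.obj.map i.op s = t ∧ F.obj.map b.op s = s' := by
  have hci : IsClosedImmersion i.left := h.isClosedImmersion
  have hifp : LocallyOfFinitePresentation i.left := h.finitePresentation_base
  have hbp : IsProper b.left := h.isProper
  have hbfp : LocallyOfFinitePresentation b.left := h.finitePresentation
  have hE : IsPullback e.left π.left b.left i.left := h.isPullback
  -- the kernel pair
  let P₂ : Over S := Over.mk (pullback.fst b.left b.left ≫ X'.hom)
  let p₁ : P₂ ⟶ X' := Over.homMk (pullback.fst b.left b.left) rfl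
  have hw₂ : pullback.snd b.left b.left ≫ X'.hom = pullback.fst b.left b.left ≫ X'.hom := by
    rw [← Over.w b, ← Category.assoc, ← Category.assoc, pullback.condition]
  let p₂ : P₂ ⟶ X' := Over.homMk (pullback.snd b.left b.left) hw₂
  have key : F.obj.map p₁.op s' = F.obj.map p₂.op s' := by
    let W₂ : Over S :=
      Over.mk (pullback.snd (pullback.fst b.left b.left ≫ b.left) i.left ≫ Z.hom)
    have hj₂w : pullback.fst (pullback.fst b.left b.left ≫ b.left) i.left ≫ P₂.hom = W₂.hom := by
      have h := pullback.condition (f := pullback.fst b.left b.left ≫ b.left) (g := i.left)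
      calc pullback.fst (pullback.fst b.left b.left ≫ b.left) i.left ≫
            (pullback.fst b.left b.left ≫ X'.hom)
          = (pullback.fst (pullback.fst b.left b.left ≫ b.left) i.left ≫
              (pullback.fst b.left b.left ≫ b.left)) ≫ X.hom := by
            rw [← Over.w b]
            simp only [Category.assoc]
        _ = (pullback.snd (pullback.fst b.left b.left ≫ b.left) i.left ≫ i.left) ≫ X.hom := by
            rw [h]
        _ = pullback.snd (pullback.fst b.left b.left ≫ b.left) i.left ≫ Z.hom := by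
            rw [Category.assoc, Over.w i]
    let j₂ : W₂ ⟶ P₂ :=
      Over.homMk (pullback.fst (pullback.fst b.left b.left ≫ b.left) i.left) hj₂w
    let ζ : W₂ ⟶ Z :=
      Over.homMk (pullback.snd (pullback.fst b.left b.left ≫ b.left) i.left) rfl
    have hΔw : pullback.diagonal b.left ≫ P₂.hom = X'.hom := by
      show _ ≫ (pullback.fst b.left b.left ≫ X'.hom) = _
      rw [← Category.assoc, pullback.diagonal_fst, Category.id_comp]
    let Δ : X' ⟶ P₂ := Over.homMk (pullback.diagonal b.left) hΔw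
    let Y₂ : Bool → Over S := fun j => Bool.rec W₂ X' j
    let g₂ : ∀ j, Y₂ j ⟶ P₂ :=
      fun j => Bool.rec (motive := fun j => (Bool.rec W₂ X' j : Over S) ⟶ P₂) j₂ Δ j
    haveI : ∀ j, IsProper (g₂ j).left := by
      intro j
      cases j
      · show IsProper (pullback.fst (pullback.fst b.left b.left ≫ b.left) i.left)
        infer_instance
      · show IsProper (pullback.diagonal b.left)
        infer_instance
    have hfp₂ : ∀ j, LocallyOfFinitePresentation (g₂ j).left := by
      intro j
      cases j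
      · show LocallyOfFinitePresentation
          (pullback.fst (pullback.fst b.left b.left ≫ b.left) i.left)
        infer_instance
      · show LocallyOfFinitePresentation (pullback.diagonal b.left)
        haveI : LocallyOfFinitePresentation
            (pullback.diagonal b.left ≫ pullback.fst b.left b.left) := by
          rw [pullback.diagonal_fst]
          infer_instance
        exact Groth.Agent.Lib.Helper24.locallyOfFinitePresentation_of_comp
          (pullback.diagonal b.left) (pullback.fst b.left b.left)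
    have hsurj₂ : ∀ w : P₂.left, ∃ j, w ∈ Set.range (g₂ j).left := by
      intro w
      by_cases hw : (pullback.fst b.left b.left ≫ b.left) w ∈ Set.range i.left
      · obtain ⟨z, hz⟩ := hw
        obtain ⟨w', hw'1, -⟩ := Scheme.Pullback.exists_preimage_pullback
          (f := pullback.fst b.left b.left ≫ b.left) (g := i.left) w z hz.symm
        exact ⟨false, w', hw'1⟩
      · refine ⟨true, ?_⟩
        let O : (pullback b.left b.left).Opens :=
          (pullback.fst b.left b.left ≫ b.left) ⁻¹ᵁ complS i.left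
        have hα : O.ι ≫ pullback.fst b.left b.left = O.ι ≫ pullback.snd b.left b.left := by
          apply almost_eq_of_comp_eq h
          · rw [Category.assoc, Category.assoc, pullback.condition]
          · intro t
            rw [Category.assoc]
            exact t.2
        have hι : O.ι = (O.ι ≫ pullback.fst b.left b.left) ≫ pullback.diagonal b.left := by
          apply pullback.hom_ext
          · rw [Category.assoc, pullback.diagonal_fst, Category.comp_id]
          · rw [Category.assoc, pullback.diagonal_snd, Category.comp_id, hα]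
        have hwO : w ∈ O := hw
        obtain ⟨wO, hwO'⟩ : ∃ wO : (O : Scheme.{u}), O.ι wO = w := ⟨⟨w, hwO⟩, rfl⟩
        refine ⟨(O.ι ≫ pullback.fst b.left b.left) wO, ?_⟩
        show (pullback.diagonal b.left) ((O.ι ≫ pullback.fst b.left b.left) wO) = w
        rw [← Scheme.Hom.comp_apply, ← hι]
        exact hwO'
    have hsh₂ := isSheafFor_bool_h S F Y₂ g₂ hfp₂ hsurj₂
    apply hsh₂.isSeparatedFor.ext
    rintro _ _ ⟨j⟩
    cases j
    · show F.obj.map j₂.op (F.obj.map p₁.op s') = F.obj.map j₂.op (F.obj.map p₂.op s')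
      have hc₁ : (j₂.left ≫ p₁.left) ≫ b.left = ζ.left ≫ i.left := by
        show (pullback.fst (pullback.fst b.left b.left ≫ b.left) i.left ≫
          pullback.fst b.left b.left) ≫ b.left =
          pullback.snd (pullback.fst b.left b.left ≫ b.left) i.left ≫ i.left
        rw [Category.assoc]
        exact pullback.condition
      have hc₂ : (j₂.left ≫ p₂.left) ≫ b.left = ζ.left ≫ i.left := by
        have h : (j₂.left ≫ p₂.left) ≫ b.left = (j₂.left ≫ p₁.left) ≫ b.left := by
          show (pullback.fst (pullback.fst b.left b.left ≫ b.left) i.left ≫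
            pullback.snd b.left b.left) ≫ b.left =
            (pullback.fst (pullback.fst b.left b.left ≫ b.left) i.left ≫
              pullback.fst b.left b.left) ≫ b.left
          rw [Category.assoc, Category.assoc, pullback.condition]
        exact h.trans hc₁
      have hEw : ∀ (l : W₂.left ⟶ E.left), l ≫ π.left = ζ.left → l ≫ E.hom = W₂.hom := by
        intro l hl
        rw [← Over.w π, ← Category.assoc, hl]
        rfl
      let l₁ : W₂ ⟶ E := Over.homMk (hE.lift (j₂.left ≫ p₁.left) ζ.left hc₁)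
        (hEw _ (hE.lift_snd _ _ _))
      let l₂ : W₂ ⟶ E := Over.homMk (hE.lift (j₂.left ≫ p₂.left) ζ.left hc₂)
        (hEw _ (hE.lift_snd _ _ _))
      have h₁e : l₁ ≫ e = j₂ ≫ p₁ := Over.OverMorphism.ext (hE.lift_fst _ _ _)
      have h₁π : l₁ ≫ π = ζ := Over.OverMorphism.ext (hE.lift_snd _ _ _)
      have h₂e : l₂ ≫ e = j₂ ≫ p₂ := Over.OverMorphism.ext (hE.lift_fst _ _ _)
      have h₂π : l₂ ≫ π = ζ := Over.OverMorphism.ext (hE.lift_snd _ _ _)
      rw [← map_comp_apply_h, ← map_comp_apply_h, ← h₁e, ← h₂e, map_comp_apply_h, map_comp_apply_h,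
        ← hts, ← map_comp_apply_h, ← map_comp_apply_h, h₁π, h₂π]
    · show F.obj.map Δ.op (F.obj.map p₁.op s') = F.obj.map Δ.op (F.obj.map p₂.op s')
      have h1 : Δ ≫ p₁ = 𝟙 X' := Over.OverMorphism.ext (pullback.diagonal_fst _)
      have h2 : Δ ≫ p₂ = 𝟙 X' := Over.OverMorphism.ext (pullback.diagonal_snd _)
      rw [← map_comp_apply_h, ← map_comp_apply_h, h1, h2]
  -- the covering family of `X`
  let Y₁ : Bool → Over S := fun j => Bool.rec Z X' j
  let g₁ : ∀ j, Y₁ j ⟶ X :=
    fun j => Bool.rec (motive := fun j => (Bool.rec Z X' j : Over S) ⟶ X) i b j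
  haveI : ∀ j, IsProper (g₁ j).left := by
    intro j
    cases j
    · show IsProper i.left
      infer_instance
    · exact hbp
  have hsurj₁ : ∀ x : X.left, ∃ j, x ∈ Set.range (g₁ j).left := by
    intro x
    by_cases hx : x ∈ Set.range i.left
    · exact ⟨false, hx⟩
    · exact ⟨true, almost_mem_range h x hx⟩
  have hfp₁ : ∀ j, LocallyOfFinitePresentation (g₁ j).left := by
    intro j
    cases j
    · exact hifp
    · exact hbfp
  have hsh₁ := isSheafFor_bool_h S F Y₁ g₁ hfp₁ hsurj₁
  rw [Presieve.isSheafFor_arrows_iff] at hsh₁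
  let x₁ : ∀ j, F.obj.obj (op (Y₁ j)) :=
    fun j => Bool.rec (motive := fun j => F.obj.obj (op (Bool.rec Z X' j : Over S))) t s' j
  have hmono : Mono i := by
    haveI : Mono i.left := inferInstance
    exact Over.mono_of_mono_left i
  have hcompat : Presieve.Arrows.Compatible F.obj g₁ x₁ := by
    intro j k W gj gk hjk
    have hEw : ∀ (l : W.left ⟶ E.left) (gZ : W ⟶ Z), l ≫ π.left = gZ.left →
        l ≫ E.hom = W.hom := by
      intro l gZ hl
      rw [← Over.w π, ← Category.assoc, hl, Over.w]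
    cases j <;> cases k
    · have : gj = gk := (cancel_mono i).mp hjk
      rw [this]
    · have hc : gk.left ≫ b.left = gj.left ≫ i.left := (congrArg CommaMorphism.left hjk).symm
      let l' : W ⟶ E := Over.homMk (hE.lift gk.left gj.left hc) (hEw _ gj (hE.lift_snd _ _ _))
      have he : l' ≫ e = gk := Over.OverMorphism.ext (hE.lift_fst _ _ _)
      have hπ : l' ≫ π = gj := Over.OverMorphism.ext (hE.lift_snd _ _ _)
      show F.obj.map gj.op t = F.obj.map gk.op s'
      rw [← he, ← hπ, map_comp_apply_h, map_comp_apply_h, hts]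
    · have hc : gj.left ≫ b.left = gk.left ≫ i.left := congrArg CommaMorphism.left hjk
      let l' : W ⟶ E := Over.homMk (hE.lift gj.left gk.left hc) (hEw _ gk (hE.lift_snd _ _ _))
      have he : l' ≫ e = gj := Over.OverMorphism.ext (hE.lift_fst _ _ _)
      have hπ : l' ≫ π = gk := Over.OverMorphism.ext (hE.lift_snd _ _ _)
      show F.obj.map gj.op s' = F.obj.map gk.op t
      rw [← he, ← hπ, map_comp_apply_h, map_comp_apply_h, hts]
    · have hc : gj.left ≫ b.left = gk.left ≫ b.left := congrArg CommaMorphism.left hjk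
      have hlw : pullback.lift gj.left gk.left hc ≫ P₂.hom = W.hom := by
        show _ ≫ (pullback.fst b.left b.left ≫ X'.hom) = _
        rw [← Category.assoc, pullback.lift_fst, Over.w]
      let l : W ⟶ P₂ := Over.homMk (pullback.lift gj.left gk.left hc) hlw
      have h1 : l ≫ p₁ = gj := Over.OverMorphism.ext (pullback.lift_fst _ _ _)
      have h2 : l ≫ p₂ = gk := Over.OverMorphism.ext (pullback.lift_snd _ _ _)
      show F.obj.map gj.op s' = F.obj.map gk.op s'
      rw [← h1, ← h2, map_comp_apply_h, map_comp_apply_h, key]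
  obtain ⟨s, hs, hs'⟩ := hsh₁ x₁ hcompat
  refine ⟨s, ⟨hs false, hs true⟩, ?_⟩
  rintro s₂ ⟨h₂i, h₂b⟩
  apply hs'
  intro j
  cases j
  · exact h₂i
  · exact h₂b

end main

end Groth.Agent.Lib.Helper56.HBlowUp
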