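import Groth.Agent.Lib.Helper56.RelAmpleComp
import Groth.Agent.Lib.Ample.Helper50_VASections
import Groth.Agent.Lib.Ample.Helper50_QProj
import Groth.Agent.S9705

/-!
# (Quasi-)projective-space immersions and ample modules (helper56)

* `exists_isAmple_of_isHQuasiProjective` : `S` has an ample module and `f : X ⟶ S` is a
  quasi-compact immersion into `P^n_S` followed by the projection ⇒ `X` has an ample module.
* `isHQuasiProjective_of_isAmple` : `f` of finite type, `X` has an ample module ⇒ `f` is
  H-quasi-projective (any base).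
* `isHProjective_of_isAmple` : `f` proper, `X` has an ample module ⇒ `f` is H-projective.
-/

set_option autoImplicit false

namespace Groth.Agent.Lib.Helper56.HProjAmple

open AlgebraicGeometry CategoryTheory Limits CohB1 Groth.Agent.Lib.Ample.VA

universe u

theorem exists_isAmple_of_isHQuasiProjective {X S : Scheme.{u}} (f : X ⟶ S)
    (hS : ∃ N : S.Modules, IsAmple N) (h : RelProj.IsHQuasiProjective f) :
    ∃ L : X.Modules, IsAmple L := by
  obtain ⟨N, hN⟩ := hS
  obtain ⟨-, -, L, hL⟩ := isQuasiProjective_of_isHQuasiProjective h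
  obtain ⟨n₀, hn₀⟩ := RelAmpleComp.exists_isAmple_tensorMod_pullback_tensorPow f hL hN
  exact ⟨_, hn₀ n₀ le_rfl⟩

theorem isHQuasiProjective_of_isAmple {X S : Scheme.{u}} (f : X ⟶ S) [LocallyOfFiniteType f]
    [QuasiCompact f] {L : X.Modules} (hL : IsAmple L) : RelProj.IsHQuasiProjective f := by
  obtain ⟨n₀, hn⟩ := isRelVeryAmplePn_tensorPow_of_isAmple f hL
  obtain ⟨m, i, himm, hi, -⟩ := hn n₀ le_rfl
  refine ⟨m, i, himm, ?_, hi⟩
  have hp := Groth.Agent.S9705.isProper_toBase m S
  have h1 : QuasiCompact (i ≫ CohB1.ProjSpaceOver.toBase m S) := by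
    have h2 : i ≫ CohB1.ProjSpaceOver.toBase m S = f := hi
    rw [h2]; infer_instance
  exact QuasiCompact.of_comp i (CohB1.ProjSpaceOver.toBase m S)

theorem isHProjective_of_isAmple {X S : Scheme.{u}} (f : X ⟶ S) [IsProper f]
    {L : X.Modules} (hL : IsAmple L) : RelProj.IsHProjective f := by
  obtain ⟨m, i, himm, -, hi⟩ := isHQuasiProjective_of_isAmple f hL
  have hp := Groth.Agent.S9705.isProper_toBase m S
  have h1 : IsProper (i ≫ CohB1.ProjSpaceOver.toBase m S) := by
    rw [hi]; infer_instance
  have h2 : IsProper i := IsProper.of_comp i (CohB1.ProjSpaceOver.toBase m S)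
  exact ⟨m, i, IsClosedImmersion.of_isPreimmersion i i.isClosedMap.isClosed_range, hi⟩

theorem isProper_of_isHProjective {X S : Scheme.{u}} {f : X ⟶ S} (h : RelProj.IsHProjective f) :
    IsProper f := by
  obtain ⟨n, i, hcl, hi⟩ := h
  have hp := Groth.Agent.S9705.isProper_toBase n S
  rw [← hi]; infer_instance

theorem isHQuasiProjective_of_isHProjective {X S : Scheme.{u}} {f : X ⟶ S}
    (h : RelProj.IsHProjective f) : RelProj.IsHQuasiProjective f := by
  obtain ⟨n, i, hcl, hi⟩ := h
  exact ⟨n, i, inferInstance, inferInstance, hi⟩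

/-- some power of an ample module is relatively ample for any morphism of finite type -/
theorem exists_isRelAmple_of_isAmple {X S : Scheme.{u}} (f : X ⟶ S) [LocallyOfFiniteType f]
    [QuasiCompact f] {L : X.Modules} (hL : IsAmple L) : ∃ M : X.Modules, RelAmple.IsRelAmple f M := by
  obtain ⟨n₀, hn⟩ := isRelVeryAmplePn_tensorPow_of_isAmple f hL
  exact ⟨_, isRelAmple_of_isRelVeryAmplePn f (hn n₀ le_rfl)⟩

end Groth.Agent.Lib.Helper56.HProjAmple
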