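import Mathlib.CategoryTheory.Abelian.GrothendieckCategory.ColimCoyoneda
import Mathlib.CategoryTheory.Abelian.GrothendieckCategory.Basic
import Mathlib.CategoryTheory.Subobject.NoetherianObject
import Mathlib.CategoryTheory.Adjunction.Limits
import Mathlib.CategoryTheory.Adjunction.FullyFaithful
import Mathlib.CategoryTheory.Limits.Preserves.Filtered
import Mathlib.CategoryTheory.Functor.ReflectsIso.Balanced
import Mathlib.CategoryTheory.Generator.Basic
import Mathlib.CategoryTheory.Limits.Shapes.Pullback.IsPullback.Basic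

/-!
# Faithful exact functors with a right adjoint commuting with filtered colimits (helper56)

Let `F : A ⥤ B` be a faithful exact functor between abelian categories with a right adjoint `G`
preserving filtered colimits, `A` cocomplete, `B` Grothendieck abelian. Then `A` is Grothendieck
abelian (Hashimoto's lemma).

* `ab5` : `A` satisfies AB5.
* `wellPowered` : `A` is well-powered.
* `exists_family` : a small separating family `t k` of `A` such that each `F (t k)` embeds in a
  quotient of a finite sum of members of a given separating family of `B`.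
-/

set_option autoImplicit false
set_option maxHeartbeats 400000
set_option linter.style.haveILetI false
universe w u₁ u₂

open CategoryTheory Limits ZeroObject

namespace Groth.Agent.Lib.Helper56.Hashimoto

section basic

variable {A : Type u₁} [Category.{w} A] [Abelian A] {B : Type u₂} [Category.{w} B] [Abelian B]
  (F : A ⥤ B) [F.Faithful]

theorem reflectsFiniteLimits [PreservesFiniteLimits F] : ReflectsFiniteLimits F where
  reflects _ _ _ := reflectsLimitsOfShape_of_reflectsIsomorphisms

theorem ab5 [HasColimitsOfSize.{w, w} A] [HasColimitsOfSize.{w, w} B] [AB5OfSize.{w, w} B]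
    [PreservesFiniteLimits F] [PreservesColimitsOfSize.{w, w} F] : AB5OfSize.{w, w} A where
  ofShape J _ _ := by
    haveI := reflectsFiniteLimits F
    exact HasExactColimitsOfShape.domain_of_functor J F

variable [F.Additive]

theorem le_of_map_factors {a : A} (P Q : Subobject a)
    (h : ∃ g : F.obj (P : A) ⟶ F.obj (Q : A), g ≫ F.map Q.arrow = F.map P.arrow) : P ≤ Q := by
  obtain ⟨g, hg⟩ := h
  have h0 : P.arrow ≫ cokernel.π Q.arrow = 0 := by
    apply F.map_injective
    rw [F.map_comp, ← hg, Category.assoc, ← F.map_comp, cokernel.condition, F.map_zero,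
      comp_zero, F.map_zero]
  exact Subobject.le_of_comm (Abelian.monoLift Q.arrow P.arrow h0) (Abelian.monoLift_comp _ _ _)

variable [PreservesFiniteLimits F]

/-- the map on subobjects induced by `F`. -/
noncomputable def mapSub {a : A} (P : Subobject a) : Subobject (F.obj a) :=
  Subobject.mk (F.map P.arrow)

theorem mapSub_le_iff {a : A} (P Q : Subobject a) : mapSub F P ≤ mapSub F Q ↔ P ≤ Q := by
  constructor
  · intro h
    exact le_of_map_factors F P Q ⟨Subobject.ofMkLEMk _ _ h, Subobject.ofMkLEMk_comp h⟩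
  · intro h
    exact Subobject.mk_le_mk_of_comm (F.map (Subobject.ofLE P Q h))
      (by rw [← F.map_comp, Subobject.ofLE_arrow])

theorem mapSub_injective {a : A} : Function.Injective (mapSub F (a := a)) := by
  intro P Q h
  exact le_antisymm ((mapSub_le_iff F P Q).1 h.le) ((mapSub_le_iff F Q P).1 h.ge)

include F in
theorem wellPowered [WellPowered.{w} B] : WellPowered.{w} A where
  subobject_small a := small_of_injective (mapSub_injective F (a := a))

theorem isNoetherianObject_of_map {a : A} [IsNoetherianObject (F.obj a)] :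
    IsNoetherianObject a := by
  rw [isNoetherianObject_iff_monotone_chain_condition]
  intro f
  obtain ⟨n, hn⟩ := monotone_chain_condition_of_isNoetherianObject
    ⟨fun k => mapSub F (f k), fun i j hij => (mapSub_le_iff F _ _).2 (f.2 hij)⟩
  exact ⟨n, fun m hm => mapSub_injective F (hn m hm)⟩

end basic

section gen

variable {B : Type u₂} [Category.{w} B] [Abelian B] {ι : Type w} (s : ι → B)

/-- finite sums of members of the family `s`. -/
noncomputable def Xι : List ι → B
  | [] => 0
  | i :: l => s i ⊞ Xι l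

variable {s}

theorem imageSubobject_le_iff {X b : B} (f : X ⟶ b) (Q : Subobject b) :
    imageSubobject f ≤ Q ↔ Q.Factors f := by
  constructor
  · intro h
    refine Subobject.factors_of_le f h ?_
    exact (Subobject.factors_iff _ _).2 ⟨factorThruImageSubobject f, imageSubobject_arrow_comp f⟩
  · intro h
    exact imageSubobject_le f (Q.factorThru f h) (Q.factorThru_arrow f h)

theorem factors_biprod_desc {X Y b : B} (f : X ⟶ b) (g : Y ⟶ b) (Q : Subobject b) :
    Q.Factors (biprod.desc f g) ↔ Q.Factors f ∧ Q.Factors g := by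
  constructor
  · intro h
    constructor
    · have := Subobject.factors_of_factors_right (biprod.inl : X ⟶ X ⊞ Y) h
      rwa [biprod.inl_desc] at this
    · have := Subobject.factors_of_factors_right (biprod.inr : Y ⟶ X ⊞ Y) h
      rwa [biprod.inr_desc] at this
  · rintro ⟨hf, hg⟩
    have key : biprod.desc (Q.factorThru f hf) (Q.factorThru g hg) ≫ Q.arrow = biprod.desc f g := by
      apply biprod.hom_ext' <;> simp
    exact (Subobject.factors_iff _ _).2 ⟨_, key⟩

variable (b : B)

/-- the map from a finite sum of generators to `b` attached to a list of maps. -/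
noncomputable def dl : (ℓ : List (Σ i : ι, (s i ⟶ b))) → (Xι s (ℓ.map Sigma.fst) ⟶ b)
  | [] => 0
  | x :: ℓ' => (biprod.desc x.2 (dl ℓ') : s x.1 ⊞ Xι s (ℓ'.map Sigma.fst) ⟶ b)

theorem factors_dl_iff (ℓ : List (Σ i : ι, (s i ⟶ b))) (Q : Subobject b) :
    Q.Factors (dl b ℓ) ↔ ∀ x ∈ ℓ, Q.Factors x.2 := by
  induction ℓ with
  | nil =>
    simp only [List.not_mem_nil, false_imp_iff, implies_true, iff_true]
    exact (Subobject.factors_iff _ _).2 ⟨0, zero_comp⟩
  | cons x ℓ' ih =>
    change Q.Factors (biprod.desc x.2 (dl b ℓ')) ↔ _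
    rw [factors_biprod_desc, ih, List.forall_mem_cons]

variable (s) in
/-- the index category: lists of maps from generators to `b`. -/
structure Idx where
  /-- the list -/
  l : List (Σ i : ι, (s i ⟶ b))

variable {b}

/-- the subobject of `b` generated by a list of maps. -/
noncomputable abbrev Idx.sub (j : Idx s b) : Subobject b := imageSubobject (dl b j.l)

theorem Idx.sub_le_iff (j : Idx s b) (Q : Subobject b) :
    j.sub ≤ Q ↔ ∀ x ∈ j.l, Q.Factors x.2 := by
  rw [Idx.sub, imageSubobject_le_iff, factors_dl_iff]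

noncomputable instance : Preorder (Idx s b) := Preorder.lift Idx.sub

theorem Idx.le_def (j j' : Idx s b) : j ≤ j' ↔ j.sub ≤ j'.sub := Iff.rfl

theorem Idx.le_of_subset (j j' : Idx s b) (h : ∀ x ∈ j.l, x ∈ j'.l) : j ≤ j' := by
  rw [Idx.le_def, Idx.sub_le_iff]
  intro x hx
  exact (j'.sub_le_iff j'.sub).1 le_rfl x (h x hx)

instance : IsDirected (Idx s b) (· ≤ ·) :=
  ⟨fun j j' => ⟨⟨j.l ++ j'.l⟩,
    Idx.le_of_subset _ _ (fun x hx => List.mem_append_left _ hx),
    Idx.le_of_subset _ _ (fun x hx => List.mem_append_right _ hx)⟩⟩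

instance : Nonempty (Idx s b) := ⟨⟨[]⟩⟩

variable (s b) in
/-- the diagram of finitely generated subobjects. -/
noncomputable def Fun : Idx s b ⥤ MonoOver b :=
  (Monotone.functor (f := Idx.sub (s := s) (b := b)) (fun _ _ h => h)) ⋙ Subobject.representative

variable (s b) in
/-- the cocone with point `𝟙 b`. -/
noncomputable def cocone : Cocone (Fun s b ⋙ MonoOver.forget b) where
  pt := Over.mk (𝟙 b)
  ι :=
    { app := fun j => Over.mkIdTerminal.from _
      naturality := fun _ _ _ => Over.mkIdTerminal.hom_ext _ _ }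

theorem iSup_sub_eq_top
    (hsep : ∀ ⦃X Y : B⦄ (f g : X ⟶ Y), (∀ (i : ι) (h : s i ⟶ X), h ≫ f = h ≫ g) → f = g)
    [IsGrothendieckAbelian.{w} B] :
    (⨆ j : Idx s b, j.sub) = ⊤ := by
  have hS : ObjectProperty.IsSeparating (ObjectProperty.ofObj s) := by
    intro X Y f g h
    exact hsep f g (fun i k => h (s i) ⟨i⟩ k)
  refine Subobject.eq_of_le_of_isDetecting hS.isDetecting _ _ le_top ?_
  rintro G ⟨i⟩ f -
  have h1 : (Idx.sub (⟨[⟨i, f⟩]⟩ : Idx s b)).Factors f :=
    ((⟨[⟨i, f⟩]⟩ : Idx s b).sub_le_iff _).1 le_rfl ⟨i, f⟩ (List.mem_singleton_self _)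
  exact Subobject.factors_of_le f (le_iSup (fun j : Idx s b => j.sub) _) h1

theorem exists_iso_cokernel {X Y : B} (e : X ⟶ Y) [Epi e] :
    ∃ K : Subobject X, Nonempty (Y ≅ cokernel K.arrow) := by
  have hcok := Abelian.epiIsCokernelOfKernel _ (kernelIsKernel e)
  let iso₁ : cokernel (kernel.ι e) ≅ Y :=
    (cokernelIsCokernel (kernel.ι e)).coconePointUniqueUpToIso hcok
  let K : Subobject X := Subobject.mk (kernel.ι e)
  have hK : K.arrow = (Subobject.underlyingIso (kernel.ι e)).hom ≫ kernel.ι e :=
    (Subobject.underlyingIso_hom_comp_eq_mk _).symm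
  let iso₂ : cokernel K.arrow ≅ cokernel (kernel.ι e) :=
    cokernelIsoOfEq hK ≪≫ cokernelEpiComp _ _
  exact ⟨K, ⟨(iso₂ ≪≫ iso₁).symm⟩⟩

end gen

section main

variable {A : Type u₁} [Category.{w} A] [Abelian A] [HasColimitsOfSize.{w, w} A]
  {B : Type u₂} [Category.{w} B] [Abelian B] [IsGrothendieckAbelian.{w} B]
  {F : A ⥤ B} {G : B ⥤ A} (adj : F ⊣ G) [F.Additive] [F.Faithful]
  [PreservesFiniteLimits F] [PreservesFiniteColimits F] [PreservesFilteredColimitsOfSize.{w, w} G]
  {ι : Type w} {s : ι → B}
  (hsep : ∀ ⦃X Y : B⦄ (f g : X ⟶ Y), (∀ (i : ι) (h : s i ⟶ X), h ≫ f = h ≫ g) → f = g)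

/-- every object of `B` is the filtered colimit of its finitely generated subobjects. -/
noncomputable def isColimitCocone (b : B) :
    IsColimit ((Over.forget b).mapCocone (cocone s b)) := by
  haveI : Mono (cocone s b).pt.hom := by
    change Mono (𝟙 b); infer_instance
  apply IsGrothendieckAbelian.isColimitMapCoconeOfSubobjectMkEqISup (Fun s b) (cocone s b)
  have h1 : Subobject.mk (cocone s b).pt.hom = ⊤ := by
    change Subobject.mk (𝟙 b) = ⊤
    exact (Subobject.top_eq_id b).symm
  have h2 : ∀ j : Idx s b, Subobject.mk ((Fun s b).obj j).obj.hom = j.sub :=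
    fun j => Subobject.mk_arrow j.sub
  rw [h1]
  simp_rw [h2]
  exact (iSup_sub_eq_top hsep).symm

include adj hsep in
theorem eq_of_forall_family (a y : A) (u v : a ⟶ y)
    (H : ∀ (x : A) (l : List ι) (K : Subobject (Xι s l)) (θ : F.obj x ⟶ cokernel K.arrow)
      (_ : Mono θ) (h : x ⟶ a), h ≫ u = h ≫ v) : u = v := by
  haveI : PreservesColimitsOfSize.{w, w} F := adj.leftAdjoint_preservesColimits
  haveI : G.PreservesMonomorphisms := Functor.preservesMonomorphisms_of_adjunction adj
  let b := F.obj a
  let c₀ := (Over.forget b).mapCocone (cocone s b)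
  have hc₀ : IsColimit c₀ := isColimitCocone hsep b
  let c₁ := (G ⋙ F).mapCocone c₀
  have hc₁ : IsColimit c₁ := isColimitOfPreserves (G ⋙ F) hc₀
  let z : F.obj a ⟶ c₁.pt := F.map (adj.unit.app a)
  haveI := IsGrothendieckAbelian.IsPresentable.surjectivity.epi_f hc₁ z
  apply F.map_injective
  rw [← cancel_epi (IsGrothendieckAbelian.IsPresentable.surjectivity.f z)]
  apply colimit.hom_ext
  intro j
  rw [← Category.assoc, ← Category.assoc,
    IsGrothendieckAbelian.IsPresentable.surjectivity.hf z j]
  -- the `j`-th subobject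
  let m : (j.sub : B) ⟶ F.obj a := j.sub.arrow
  have hm : c₀.ι.app j = m := by
    simp only [c₀, cocone, Functor.mapCocone_ι_app, Over.forget_map, Over.mkIdTerminal_from_left]
    rfl
  let fst := pullback.fst (adj.unit.app a) (G.map m)
  let snd := pullback.snd (adj.unit.app a) (G.map m)
  let θ : F.obj (pullback (adj.unit.app a) (G.map m)) ⟶ (j.sub : B) :=
    F.map snd ≫ adj.counit.app _
  have hθ : θ ≫ m = F.map fst := by
    have h := pullback.condition (f := adj.unit.app a) (g := G.map m)
    have h2 := congrArg (fun t => F.map t ≫ adj.counit.app _) h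
    simp at h2
    simp [θ, fst, snd, h2]
  haveI : Mono fst := pullback.fst_of_mono
  haveI : Mono θ := by
    haveI : Mono (θ ≫ m) := by rw [hθ]; infer_instance
    exact mono_of_mono θ m
  -- the quotient
  obtain ⟨K, ⟨iso⟩⟩ := exists_iso_cokernel (factorThruImageSubobject (dl b j.l))
  have Hj : fst ≫ u = fst ≫ v :=
    H _ _ K (θ ≫ (iso : (j.sub : B) ≅ _).hom) (mono_comp _ _) fst
  -- the comparison with the functor-category pullback
  let p₁ := (pullback.fst c₁.ι ((Functor.const (Idx s b)).map z)).app j
  let p₂ := (pullback.snd c₁.ι ((Functor.const (Idx s b)).map z)).app j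
  have cond : p₁ ≫ F.map (G.map m) = p₂ ≫ F.map (adj.unit.app a) := by
    have := congrArg (fun t => t.app j)
      (pullback.condition (f := c₁.ι) (g := (Functor.const (Idx s b)).map z))
    simp only [NatTrans.comp_app, Functor.const_map_app] at this
    have hc₁ι : c₁.ι.app j = F.map (G.map m) := by rw [← hm]; rfl
    rw [hc₁ι] at this
    exact this
  have hPB : IsPullback (F.map fst) (F.map snd) (F.map (adj.unit.app a)) (F.map (G.map m)) :=
    (IsPullback.of_hasPullback _ _).map F
  let lift := hPB.lift p₂ p₁ cond.symm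
  have hlift : lift ≫ F.map fst = p₂ := hPB.lift_fst _ _ _
  change p₂ ≫ F.map u = p₂ ≫ F.map v
  rw [← hlift, Category.assoc, Category.assoc, ← F.map_comp, ← F.map_comp, Hj]

/-- the (large) index type of the separating family. -/
def BigIdx (adj : F ⊣ G) (s : ι → B) : Type (max w u₁ u₂) :=
  Σ (l : List ι) (K : Subobject (Xι s l)),
    { T : Subobject (G.obj (cokernel K.arrow)) //
      Mono (F.map T.arrow ≫ adj.counit.app (cokernel K.arrow)) }

/-- the separating family, indexed by the large type. -/
noncomputable def tbig (k : BigIdx adj s) : A := (k.2.2.1 : A)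

theorem small_bigIdx [WellPowered.{w} A] : Small.{w} (BigIdx adj s) := by
  unfold BigIdx
  infer_instance

include adj hsep in
theorem exists_family : ∃ (κ : Type w) (t : κ → A),
    (∀ k, ∃ (l : List ι) (K : Subobject (Xι s l)) (θ : F.obj (t k) ⟶ cokernel K.arrow), Mono θ) ∧
    ∀ ⦃X Y : A⦄ (f g : X ⟶ Y), (∀ (k : κ) (h : t k ⟶ X), h ≫ f = h ≫ g) → f = g := by
  haveI : WellPowered.{w} A := wellPowered F
  haveI : G.PreservesMonomorphisms := Functor.preservesMonomorphisms_of_adjunction adj
  haveI : Small.{w} (BigIdx adj s) := small_bigIdx adj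
  refine ⟨Shrink.{w} (BigIdx adj s), fun k => tbig adj ((equivShrink (BigIdx adj s)).symm k),
    ?_, ?_⟩
  · intro k
    exact ⟨_, _, _, ((equivShrink (BigIdx adj s)).symm k).2.2.2⟩
  · intro X Y f g hyp
    apply eq_of_forall_family adj hsep X Y f g
    intro x l K θ hθ h
    let θt : x ⟶ G.obj (cokernel K.arrow) := adj.unit.app x ≫ G.map θ
    haveI := adj.unit_mono_of_L_faithful x
    haveI : Mono θt := mono_comp _ _
    have hθt : F.map θt ≫ adj.counit.app _ = θ := by
      simp [θt]
    have hT : Mono (F.map (Subobject.mk θt).arrow ≫ adj.counit.app (cokernel K.arrow)) := by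
      have : (Subobject.mk θt).arrow = (Subobject.underlyingIso θt).hom ≫ θt :=
        (Subobject.underlyingIso_hom_comp_eq_mk θt).symm
      rw [this, F.map_comp, Category.assoc, hθt]
      infer_instance
    have key : ∀ (kb : BigIdx adj s) (k : Shrink.{w} (BigIdx adj s)),
        (equivShrink (BigIdx adj s)).symm k = kb →
        ∀ h : tbig adj kb ⟶ X, h ≫ f = h ≫ g := by
      intro kb k hk
      subst hk
      exact hyp k
    have h3 := key ⟨l, K, Subobject.mk θt, hT⟩ (equivShrink _ ⟨l, K, Subobject.mk θt, hT⟩)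
      (Equiv.symm_apply_apply _ _) ((Subobject.underlyingIso θt).hom ≫ h)
    exact (cancel_epi (Subobject.underlyingIso θt).hom).1
      ((Category.assoc _ _ _).symm.trans (h3.trans (Category.assoc _ _ _)))

include adj in
/-- Hashimoto's lemma. -/
theorem isGrothendieckAbelian : IsGrothendieckAbelian.{w} A := by
  haveI : PreservesColimitsOfSize.{w, w} F := adj.leftAdjoint_preservesColimits
  have hsep : ∀ ⦃X Y : B⦄ (f g : X ⟶ Y),
      (∀ (i : PUnit.{w + 1}) (h : (fun _ : PUnit.{w + 1} => separator B) i ⟶ X),
        h ≫ f = h ≫ g) → f = g := by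
    intro X Y f g h
    exact (isSeparator_def _).1 (isSeparator_separator B) f g (fun k => h PUnit.unit k)
  obtain ⟨κ, t, -, hsepA⟩ := exists_family adj hsep
  haveI : AB5OfSize.{w, w} A := ab5 F
  haveI : HasSeparator A := ⟨⟨∐ t, (isSeparator_sigma t).2
    (fun X Y f g h => hsepA f g (fun k hk => h (t k) ⟨k⟩ hk))⟩⟩
  exact {}

end main

end Groth.Agent.Lib.Helper56.Hashimoto
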