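import Groth.Agent.Lib.Helper20.IdealComap

/-!
# Inverse images of products and powers of quasi-coherent ideals (helper56)

ns `Groth.Agent.Lib.Helper56.IdealComapPow`.

* `comap_mul` : `(I * J)·O_{X'} = (I·O_{X'}) * (J·O_{X'})`.
* `comap_pow` : `(I ^ n)·O_{X'} = (I·O_{X'}) ^ n`.
* `ker_eq_comap_of_isPullback` : the ideal of the base change of a closed immersion is the inverse
  image ideal.
* `isPullback_subscheme_pow` : the base change of the `n`-th infinitesimal neighbourhood of a closed
  immersion is the `n`-th infinitesimal neighbourhood of the base change.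
-/

universe u

open CategoryTheory CategoryTheory.Limits AlgebraicGeometry Opposite TopologicalSpace

namespace Groth.Agent.Lib.Helper56.IdealComapPow

open Groth.Agent.Lib.Helper20

variable {X X' : Scheme.{u}}

/-- equality of ideal sheaves on `X'` can be checked on affine opens mapping into affine opens
of `X` -/
theorem ext_of_small (v : X' ⟶ X) {I J : X'.IdealSheafData}
    (h : ∀ (W : X'.affineOpens) (V : X.affineOpens), W.1 ≤ v ⁻¹ᵁ V.1 → I.ideal W = J.ideal W) :
    I = J := by
  refine Scheme.IdealSheafData.ext_of_iSup_eq_top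
    (fun W : {W : X'.affineOpens // ∃ V : X.affineOpens, W.1 ≤ v ⁻¹ᵁ V.1} => W.1) ?_ ?_
  · rw [eq_top_iff]
    intro x _
    obtain ⟨V, hV0, hxV, -⟩ := Opens.isBasis_iff_nbhd.1 (X.isBasis_affineOpens)
      (show v x ∈ (⊤ : X.Opens) from trivial)
    have hxV' : x ∈ v ⁻¹ᵁ V := hxV
    obtain ⟨W, hW0, hxW, hWV⟩ := Opens.isBasis_iff_nbhd.1 (X'.isBasis_affineOpens) hxV'
    exact Opens.mem_iSup.2 ⟨⟨⟨W, hW0⟩, ⟨V, hV0⟩, hWV⟩, hxW⟩
  · rintro ⟨W, V, hWV⟩
    exact h W V hWV

theorem comap_mul (v : X' ⟶ X) (I J : X.IdealSheafData) :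
    (I * J).comap v = I.comap v * J.comap v := by
  apply ext_of_small v
  intro W V hWV
  rw [ideal_comap v (I * J) W V hWV, Scheme.IdealSheafData.ideal_mul,
    Scheme.IdealSheafData.ideal_mul]
  change Ideal.map _ (I.ideal V * J.ideal V) = (I.comap v).ideal W * (J.comap v).ideal W
  rw [Ideal.map_mul, ideal_comap v I W V hWV, ideal_comap v J W V hWV]

theorem comap_pow (v : X' ⟶ X) (I : X.IdealSheafData) (n : ℕ) :
    (I ^ n).comap v = (I.comap v) ^ n := by
  induction n with
  | zero =>
    rw [pow_zero, pow_zero]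
    exact Scheme.IdealSheafData.comap_top v
  | succ n ih => rw [pow_succ, pow_succ, comap_mul, ih]

/-- the ideal of the base change of a closed immersion is the inverse image ideal -/
theorem ker_eq_comap_of_isPullback {Y Y' : Scheme.{u}} (f : Y ⟶ X) [IsClosedImmersion f]
    (v : X' ⟶ X) (u : Y' ⟶ Y) (f' : Y' ⟶ X') (hsq : IsPullback u f' f v) :
    f'.ker = f.ker.comap v := by
  have h1 : hsq.flip.isoPullback.hom ≫ pullback.fst v f = f' := hsq.flip.isoPullback_hom_fst
  rw [← h1, Scheme.Hom.ker_comp_of_isIso, Scheme.IdealSheafData.ker_fst_of_isClosedImmersion]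

/-- base change of infinitesimal neighbourhoods -/
theorem isPullback_subscheme_pow {Y Y' : Scheme.{u}} (f : Y ⟶ X) [IsClosedImmersion f]
    (v : X' ⟶ X) (u : Y' ⟶ Y) (f' : Y' ⟶ X') (hsq : IsPullback u f' f v) (n : ℕ)
    (w : (f'.ker ^ n).subscheme ⟶ (f.ker ^ n).subscheme)
    (hw : w ≫ (f.ker ^ n).subschemeι = (f'.ker ^ n).subschemeι ≫ v) :
    IsPullback w (f'.ker ^ n).subschemeι (f.ker ^ n).subschemeι v := by
  refine (isPullback_of_isClosedImmersion (f'.ker ^ n).subschemeι (f.ker ^ n).subschemeι w v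
    hw.symm ?_).flip
  rw [Scheme.IdealSheafData.ker_subschemeι, Scheme.IdealSheafData.ker_subschemeι, comap_pow,
    ker_eq_comap_of_isPullback f v u f' hsq]

end Groth.Agent.Lib.Helper56.IdealComapPow
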