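import Groth.Agent.Lib.Helper56.LocPullback
import Mathlib.CategoryTheory.Limits.Constructions.LimitsOfProductsAndEqualizers
import Mathlib.CategoryTheory.Limits.Constructions.FiniteProductsOfBinaryProducts
import Mathlib.CategoryTheory.Limits.Constructions.Pullbacks
import Mathlib.CategoryTheory.Limits.Shapes.Pullback.Iso

/-!
# Finite limits in a localization with a right calculus of fractions (helper56)

ns `Groth.Agent.Lib.Helper56.LocFiniteLimits`.
-/

set_option autoImplicit false

namespace Groth.Agent.Lib.Helper56.LocFiniteLimits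

open CategoryTheory CategoryTheory.Limits MorphismProperty
open Groth.Agent.Lib.Helper56.LocPullback

variable {C D : Type*} [Category C] [Category D] (L : C ⥤ D) (W : MorphismProperty C)
  [L.IsLocalization W] [W.HasRightCalculusOfFractions]

include L W in
/-- the image of a terminal object is terminal -/
theorem hasTerminal_of_isTerminal {pt : C} (hpt : IsTerminal pt) : HasTerminal D := by
  have := Localization.essSurj L W
  have huniq : ∀ (Z₀ : C) (m₁ m₂ : L.obj Z₀ ⟶ L.obj pt), m₁ = m₂ := by
    intro Z₀ m₁ m₂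
    obtain ⟨Z', s, hs, w₁, w₂, hw₁, hw₂⟩ := exists_common_denominator L W m₁ m₂
    have : IsIso (L.map s) := Localization.inverts L W _ hs
    rw [← cancel_epi (L.map s), hw₁, hw₂, hpt.hom_ext w₁ w₂]
  have hT : IsTerminal (L.obj pt) := by
    refine IsTerminal.ofUniqueHom (fun Zd => (L.objObjPreimageIso Zd).inv ≫
      L.map (hpt.from (L.objPreimage Zd))) ?_
    intro Zd m
    rw [← cancel_epi (L.objObjPreimageIso Zd).hom]
    exact huniq _ _ _
  exact hT.hasTerminal

include W in
/-- pullbacks of images of cospans suffice -/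
theorem hasPullbacks_of_map
    (H : ∀ (X T P : C) (f : X ⟶ P) (g : T ⟶ P), HasPullback (L.map f) (L.map g)) :
    HasPullbacks D := by
  have := Localization.essSurj L W
  suffices h : ∀ {Xd Td Pd : D} {fd : Xd ⟶ Pd} {gd : Td ⟶ Pd}, HasLimit (cospan fd gd) from
    hasPullbacks_of_hasLimit_cospan D
  intro Xd Td Pd fd gd
  let eX := L.objObjPreimageIso Xd
  let eT := L.objObjPreimageIso Td
  let eP := L.objObjPreimageIso Pd
  obtain ⟨φ, hφ⟩ := Localization.exists_rightFraction L W (eX.hom ≫ fd ≫ eP.inv)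
  obtain ⟨ψ, hψ⟩ := Localization.exists_rightFraction L W (eT.hom ≫ gd ≫ eP.inv)
  have : IsIso (L.map φ.s) := Localization.inverts L W _ φ.hs
  have : IsIso (L.map ψ.s) := Localization.inverts L W _ ψ.hs
  have h1 : L.map φ.s ≫ eX.hom ≫ fd ≫ eP.inv = L.map φ.f := by
    rw [hφ, RightFraction.map_s_comp_map]
  have h2 : L.map ψ.s ≫ eT.hom ≫ gd ≫ eP.inv = L.map ψ.f := by
    rw [hψ, RightFraction.map_s_comp_map]
  have := H _ _ _ φ.f ψ.f
  refine hasLimit_of_iso (cospanExt (asIso (L.map φ.s) ≪≫ eX) (asIso (L.map ψ.s) ≪≫ eT) eP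
    (f := L.map φ.f) (g := L.map ψ.f) ?_ ?_)
  · rw [← h1]
    simp
  · rw [← h2]
    simp

end Groth.Agent.Lib.Helper56.LocFiniteLimits
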