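import Groth.Agent.S18741
import Mathlib.CategoryTheory.ObjectProperty.FullSubcategory

/-!
# Localization of a full subcategory of a slice, stable under denominators (helper56)

ns `Groth.Agent.Lib.Helper56.LocOverSub`.  Adapted from helper94's `S18741`.
-/

set_option autoImplicit false
universe v₁ v₂ v₃ u₁ u₂ u₃

namespace Groth.Agent.Lib.Helper56.LocOverSub

open CategoryTheory

variable {C : Type u₁} [Category.{v₁} C] (W : MorphismProperty C) [W.HasRightCalculusOfFractions]
  (S : C) (P : ObjectProperty (Over S))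
  (hP : ∀ (X X' : Over S) (s : X' ⟶ X), P X → W s.left → P X')

/-- the class of morphisms of the full subcategory whose underlying morphism is in `W` -/
abbrev Wft : MorphismProperty P.FullSubcategory :=
  (W.inverseImage (Over.forget S)).inverseImage P.ι

include hP in
theorem hasRight : (Wft W S P).HasRightCalculusOfFractions where
  id_mem X := W.id_mem _
  comp_mem f g hf hg := W.comp_mem _ _ hf hg
  exists_rightFraction X Y φ := by
    obtain ⟨ψ, hψ⟩ := MorphismProperty.HasRightCalculusOfFractions.exists_rightFraction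
      (W := W.inverseImage (Over.forget S))
      (MorphismProperty.LeftFraction.mk φ.f.hom φ.s.hom φ.hs)
    dsimp at hψ
    have hX' : P ψ.X' := hP X.obj ψ.X' ψ.s X.property ψ.hs
    refine ⟨MorphismProperty.RightFraction.mk (X' := ⟨ψ.X', hX'⟩)
      (ObjectProperty.homMk ψ.s) ψ.hs (ObjectProperty.homMk ψ.f), ?_⟩
    apply ObjectProperty.hom_ext
    exact hψ
  ext X Y Y' f₁ f₂ s hs h := by
    obtain ⟨X', t, ht, h'⟩ := MorphismProperty.HasRightCalculusOfFractions.ext
      (W := W.inverseImage (Over.forget S)) f₁.hom f₂.hom s.hom hs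
      (by rw [← ObjectProperty.FullSubcategory.comp_hom, h,
        ObjectProperty.FullSubcategory.comp_hom])
    have hX' : P X' := hP X.obj X' t X.property ht
    refine ⟨⟨X', hX'⟩, ObjectProperty.homMk t, ht, ?_⟩
    apply ObjectProperty.hom_ext
    exact h'

variable {D : Type u₂} [Category.{v₂} D] (L : C ⥤ D) [L.IsLocalization W]
  {E : Type u₃} [Category.{v₃} E] (L' : P.FullSubcategory ⥤ E)
  [L'.IsLocalization (Wft W S P)]
  (Φ : E ⥤ Over (L.obj S)) (e : L' ⋙ Φ ≅ P.ι ⋙ Over.post L)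

include hP e in
theorem full_and_faithful : Φ.Full ∧ Φ.Faithful := by
  have := hasRight W S P hP
  have hinv : (Wft W S P).IsInvertedBy L' := Localization.inverts L' _
  have hL : W.IsInvertedBy L := Localization.inverts L W
  have nat : ∀ {X Y : P.FullSubcategory} (f : X ⟶ Y),
      Φ.map (L'.map f) = e.hom.app X ≫ (Over.post L).map f.hom ≫ e.inv.app Y := by
    intro X Y f
    have := e.hom.naturality f
    simp only [Functor.comp_map] at this
    rw [← Category.assoc]
    erw [← this]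
    rw [Category.assoc, Iso.hom_inv_id_app, Category.comp_id]
  have faith : ∀ {X Y : P.FullSubcategory} (g₁ g₂ : L'.obj X ⟶ L'.obj Y),
      Φ.map g₁ = Φ.map g₂ → g₁ = g₂ := by
    intro X Y g₁ g₂ h
    obtain ⟨X', s, hs, f₁, f₂, h₁, h₂⟩ :=
      Groth.Agent.S18741.exists_common (Wft W S P) L' g₁ g₂
    have : IsIso (L'.map s) := hinv s hs
    rw [← cancel_epi (L'.map s), h₁, h₂]
    have h3 : Φ.map (L'.map f₁) = Φ.map (L'.map f₂) := by
      rw [← h₁, ← h₂, Φ.map_comp, Φ.map_comp, h]
    rw [nat, nat] at h3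
    have h4 : (Over.post L).map f₁.hom = (Over.post L).map f₂.hom := by
      rw [cancel_epi] at h3
      exact (cancel_mono _).1 h3
    have h5 : L.map f₁.hom.left = L.map f₂.hom.left := congrArg CommaMorphism.left h4
    rw [MorphismProperty.map_eq_iff_precomp L W] at h5
    obtain ⟨Z, t, ht, htf⟩ := h5
    rw [MorphismProperty.map_eq_iff_precomp L' (Wft W S P)]
    let t' : Over.mk (t ≫ X'.obj.hom) ⟶ X'.obj := Over.homMk t rfl
    have hZ : P (Over.mk (t ≫ X'.obj.hom)) := hP X'.obj _ t' X'.property ht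
    refine ⟨⟨Over.mk (t ≫ X'.obj.hom), hZ⟩, ObjectProperty.homMk t', ht, ?_⟩
    apply ObjectProperty.hom_ext
    ext
    exact htf
  have full : ∀ {X Y : P.FullSubcategory} (h : Φ.obj (L'.obj X) ⟶ Φ.obj (L'.obj Y)),
      ∃ g, Φ.map g = h := by
    intro X Y h
    let h' : (Over.post L).obj X.obj ⟶ (Over.post L).obj Y.obj := e.inv.app X ≫ h ≫ e.hom.app Y
    have hh : h = e.hom.app X ≫ h' ≫ e.inv.app Y := by simp [h']
    let hl : L.obj X.obj.left ⟶ L.obj Y.obj.left := h'.left
    obtain ⟨φ, hφ⟩ := Localization.exists_rightFraction L W hl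
    have hw : hl ≫ L.map Y.obj.hom = L.map X.obj.hom := Over.w h'
    have hφ' : L.map φ.s ≫ hl = L.map φ.f := by
      rw [hφ, MorphismProperty.RightFraction.map_s_comp_map]
    have h6 : L.map (φ.f ≫ Y.obj.hom) = L.map (φ.s ≫ X.obj.hom) := by
      rw [L.map_comp, L.map_comp, ← hw, ← hφ', Category.assoc]
    rw [MorphismProperty.map_eq_iff_precomp L W] at h6
    obtain ⟨Z, t, ht, htf⟩ := h6
    let X'' : Over S := Over.mk (t ≫ φ.s ≫ X.obj.hom)
    let s' : X'' ⟶ X.obj := Over.homMk (t ≫ φ.s) (by simp [X''])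
    let f' : X'' ⟶ Y.obj := Over.homMk (t ≫ φ.f) (by simpa [X''] using htf)
    have hs'W : W s'.left := W.comp_mem _ _ ht φ.hs
    have hX'' : P X'' := hP X.obj X'' s' X.property hs'W
    let X₂ : P.FullSubcategory := ⟨X'', hX''⟩
    let s₂ : X₂ ⟶ X := ObjectProperty.homMk s'
    let f₂ : X₂ ⟶ Y := ObjectProperty.homMk f'
    have hs' : (Wft W S P) s₂ := hs'W
    have : IsIso (L'.map s₂) := hinv s₂ hs'
    refine ⟨inv (L'.map s₂) ≫ L'.map f₂, ?_⟩
    have : IsIso (Φ.map (L'.map s₂)) := inferInstance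
    rw [Φ.map_comp, Functor.map_inv, IsIso.inv_comp_eq, hh, nat, nat]
    simp only [Category.assoc, Iso.inv_hom_id_app_assoc]
    congr 1
    rw [← Category.assoc]
    congr 1
    ext
    rw [Over.comp_left]
    change L.map (t ≫ φ.f) = L.map (t ≫ φ.s) ≫ hl
    rw [L.map_comp, L.map_comp, Category.assoc, hφ']
  have hess : L'.EssSurj := Localization.essSurj L' (Wft W S P)
  refine ⟨⟨?_⟩, ⟨?_⟩⟩
  · intro A B g
    let a := L'.objObjPreimageIso A
    let b := L'.objObjPreimageIso B
    obtain ⟨k, hk⟩ := full (Φ.map a.hom ≫ g ≫ Φ.map b.inv)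
    refine ⟨a.inv ≫ k ≫ b.hom, ?_⟩
    rw [Φ.map_comp, Φ.map_comp, hk]
    simp [← Φ.map_comp, ← Φ.map_comp_assoc]
  · intro A B g₁ g₂ h
    let a := L'.objObjPreimageIso A
    let b := L'.objObjPreimageIso B
    have := faith (a.hom ≫ g₁ ≫ b.inv) (a.hom ≫ g₂ ≫ b.inv) (by simp [h])
    simpa using this

end Groth.Agent.Lib.Helper56.LocOverSub
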