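import Mathlib.CategoryTheory.Localization.CalculusOfFractions
import Mathlib.CategoryTheory.Limits.Shapes.Pullback.IsPullback.Basic

/-!
# Pullback squares in a localization with a right calculus of fractions (helper56)

ns `Groth.Agent.Lib.Helper56.LocPullback`.
-/

set_option autoImplicit false

namespace Groth.Agent.Lib.Helper56.LocPullback

open CategoryTheory CategoryTheory.Limits MorphismProperty

variable {C D : Type*} [Category C] [Category D] (L : C ⥤ D) (W : MorphismProperty C)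
  [L.IsLocalization W] [W.HasRightCalculusOfFractions]

/-- two morphisms of the localization with the same source have a common denominator -/
theorem exists_common_denominator {Z A B : C} (u : L.obj Z ⟶ L.obj A) (v : L.obj Z ⟶ L.obj B) :
    ∃ (Z' : C) (s : Z' ⟶ Z) (_ : W s) (a : Z' ⟶ A) (b : Z' ⟶ B),
      L.map s ≫ u = L.map a ∧ L.map s ≫ v = L.map b := by
  obtain ⟨φu, hu⟩ := Localization.exists_rightFraction L W u
  obtain ⟨φv, hv⟩ := Localization.exists_rightFraction L W v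
  obtain ⟨ψ, hψ⟩ := (LeftFraction.mk φu.s φv.s φv.hs).exists_rightFraction
  dsimp at hψ
  refine ⟨ψ.X', ψ.s ≫ φu.s, W.comp_mem _ _ ψ.hs φu.hs, ψ.s ≫ φu.f, ψ.f ≫ φv.f, ?_, ?_⟩
  · rw [L.map_comp, L.map_comp, Category.assoc, hu, RightFraction.map_s_comp_map]
  · rw [hψ, L.map_comp, L.map_comp, Category.assoc, hv, RightFraction.map_s_comp_map]

/-- two morphisms of `W` with the same target have a common refinement in `W` -/
theorem exists_common_refinement {Z Z₁ Z₂ : C} (t₁ : Z₁ ⟶ Z) (t₂ : Z₂ ⟶ Z) (h₁ : W t₁)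
    (h₂ : W t₂) :
    ∃ (Z₃ : C) (r₁ : Z₃ ⟶ Z₁) (r₂ : Z₃ ⟶ Z₂), r₁ ≫ t₁ = r₂ ≫ t₂ ∧ W (r₁ ≫ t₁) := by
  obtain ⟨ψ, hψ⟩ := (LeftFraction.mk t₁ t₂ h₂).exists_rightFraction
  dsimp at hψ
  exact ⟨ψ.X', ψ.s, ψ.f, hψ, W.comp_mem _ _ ψ.hs h₁⟩

variable {P T X Yp : C} (f : X ⟶ P) (g : T ⟶ P) (pT : Yp ⟶ T) (pX : Yp ⟶ X)
  (hcomm : pT ≫ g = pX ≫ f)
  (Hex : ∀ (Z : C) (a : Z ⟶ T) (b : Z ⟶ X), a ≫ g = b ≫ f →
    ∃ (Z' : C) (β : Z' ⟶ Z) (_ : W β) (w : Z' ⟶ Yp), w ≫ pT = β ≫ a ∧ w ≫ pX = β ≫ b)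
  (Huniq : ∀ (Z : C) (w₁ w₂ : Z ⟶ Yp), w₁ ≫ pT = w₂ ≫ pT → w₁ ≫ pX = w₂ ≫ pX → w₁ = w₂)

include Hex in
theorem exists_lift_aux {Z₀ : C} (u : L.obj Z₀ ⟶ L.obj T) (v : L.obj Z₀ ⟶ L.obj X)
    (huv : u ≫ L.map g = v ≫ L.map f) :
    ∃ m : L.obj Z₀ ⟶ L.obj Yp, m ≫ L.map pT = u ∧ m ≫ L.map pX = v := by
  obtain ⟨Z', s, hs, a, b, ha, hb⟩ := exists_common_denominator L W u v
  have hab : L.map (a ≫ g) = L.map (b ≫ f) := by
    rw [L.map_comp, L.map_comp, ← ha, ← hb, Category.assoc, Category.assoc, huv]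
  obtain ⟨Z'', t, ht, hteq⟩ := (MorphismProperty.map_eq_iff_precomp L W _ _).mp hab
  obtain ⟨Z''', β, hβ, w, hw1, hw2⟩ := Hex Z'' (t ≫ a) (t ≫ b)
    (by simpa only [Category.assoc] using hteq)
  have hσ : W (β ≫ t ≫ s) := W.comp_mem _ _ hβ (W.comp_mem _ _ ht hs)
  have : IsIso (L.map (β ≫ t ≫ s)) := Localization.inverts L W _ hσ
  refine ⟨inv (L.map (β ≫ t ≫ s)) ≫ L.map w, ?_, ?_⟩
  · rw [Category.assoc, ← L.map_comp, hw1, IsIso.inv_comp_eq, L.map_comp, L.map_comp,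
      L.map_comp, L.map_comp, ← ha]
    simp only [Category.assoc]
  · rw [Category.assoc, ← L.map_comp, hw2, IsIso.inv_comp_eq, L.map_comp, L.map_comp,
      L.map_comp, L.map_comp, ← hb]
    simp only [Category.assoc]

include W Huniq in
theorem lift_unique_aux {Z₀ : C} (m₁ m₂ : L.obj Z₀ ⟶ L.obj Yp)
    (h1 : m₁ ≫ L.map pT = m₂ ≫ L.map pT) (h2 : m₁ ≫ L.map pX = m₂ ≫ L.map pX) : m₁ = m₂ := by
  obtain ⟨Z', s, hs, w₁, w₂, hw₁, hw₂⟩ := exists_common_denominator L W m₁ m₂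
  have hT : L.map (w₁ ≫ pT) = L.map (w₂ ≫ pT) := by
    rw [L.map_comp, L.map_comp, ← hw₁, ← hw₂, Category.assoc, Category.assoc, h1]
  have hX : L.map (w₁ ≫ pX) = L.map (w₂ ≫ pX) := by
    rw [L.map_comp, L.map_comp, ← hw₁, ← hw₂, Category.assoc, Category.assoc, h2]
  obtain ⟨Z₁, t₁, ht₁, e₁⟩ := (MorphismProperty.map_eq_iff_precomp L W _ _).mp hT
  obtain ⟨Z₂, t₂, ht₂, e₂⟩ := (MorphismProperty.map_eq_iff_precomp L W _ _).mp hX
  obtain ⟨Z₃, r₁, r₂, hr, hrW⟩ := exists_common_refinement W t₁ t₂ ht₁ ht₂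
  have hw : (r₁ ≫ t₁) ≫ w₁ = (r₁ ≫ t₁) ≫ w₂ := by
    apply Huniq
    · simp only [Category.assoc]
      rw [e₁]
    · rw [hr]
      simp only [Category.assoc]
      rw [e₂]
  have : IsIso (L.map (r₁ ≫ t₁)) := Localization.inverts L W _ hrW
  have : IsIso (L.map s) := Localization.inverts L W _ hs
  have hLw : L.map w₁ = L.map w₂ := by
    rw [← cancel_epi (L.map (r₁ ≫ t₁)), ← L.map_comp, ← L.map_comp, hw]
  rw [← cancel_epi (L.map s), hw₁, hw₂, hLw]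

include hcomm Hex Huniq in
theorem isPullback_map :
    IsPullback (L.map pT) (L.map pX) (L.map g) (L.map f) := by
  have hsq : L.map pT ≫ L.map g = L.map pX ≫ L.map f := by
    rw [← L.map_comp, ← L.map_comp, hcomm]
  have := Localization.essSurj L W
  have key : ∀ s : PullbackCone (L.map g) (L.map f),
      ∃ m : s.pt ⟶ L.obj Yp, m ≫ L.map pT = s.fst ∧ m ≫ L.map pX = s.snd := by
    intro s
    let e := L.objObjPreimageIso s.pt
    obtain ⟨m, hm1, hm2⟩ := exists_lift_aux L W f g pT pX Hex (e.hom ≫ s.fst) (e.hom ≫ s.snd)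
      (by rw [Category.assoc, Category.assoc, s.condition])
    refine ⟨e.inv ≫ m, ?_, ?_⟩
    · rw [Category.assoc, hm1, e.inv_hom_id_assoc]
    · rw [Category.assoc, hm2, e.inv_hom_id_assoc]
  refine ⟨⟨hsq⟩, ⟨PullbackCone.IsLimit.mk hsq (fun s => (key s).choose)
    (fun s => (key s).choose_spec.1) (fun s => (key s).choose_spec.2) ?_⟩⟩
  intro s m hm1 hm2
  let e := L.objObjPreimageIso s.pt
  have h : e.hom ≫ m = e.hom ≫ (key s).choose := by
    apply lift_unique_aux L W pT pX Huniq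
    · rw [Category.assoc, Category.assoc, hm1, (key s).choose_spec.1]
    · rw [Category.assoc, Category.assoc, hm2, (key s).choose_spec.2]
  exact (cancel_epi e.hom).mp h

end Groth.Agent.Lib.Helper56.LocPullback
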