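import Groth.Agent.Lib.Helper56.ModPairAmbProd
import Groth.Agent.Lib.Helper56.BlowUpProper

/-!
# The projection of an ambient product of modulus pairs (helper56)

ns `Groth.Agent.Lib.Helper56.ModPairAmbProper`.
-/

set_option autoImplicit false
universe u

open CategoryTheory CategoryTheory.Limits AlgebraicGeometry TopologicalSpace
open ModPair

namespace Groth.Agent.Lib.Helper56.ModPairAmbProper

variable {S T X Y : Scheme.{u}} (J : T.IdealSheafData) (I : X.IdealSheafData)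
  (hT : BlowUp.IsEffCartierIdeal J) (hX : BlowUp.IsEffCartierIdeal I)
  (f : X ⟶ S) (g : T ⟶ S)

include hT hX in
theorem prodCentre_fg (y : mprod f g I J) :
    ∃ U : (mprod f g I J).affineOpens, y ∈ U.1 ∧ ((prodCentre f g I J).ideal U).FG := by
  obtain ⟨VX, hyVX, tX, -, htX⟩ := hX ((mprodι f g I J ≫ pullback.fst f g) y)
  obtain ⟨VT, hyVT, tT, -, htT⟩ := hT ((mprodι f g I J ≫ pullback.snd f g) y)
  have hy : y ∈ (mprodι f g I J ≫ pullback.fst f g) ⁻¹ᵁ VX.1 ⊓
      (mprodι f g I J ≫ pullback.snd f g) ⁻¹ᵁ VT.1 := ⟨hyVX, hyVT⟩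
  obtain ⟨_, ⟨V, hV, rfl⟩, hyV, hVle⟩ :=
    (Scheme.isBasis_affineOpens (mprod f g I J)).exists_subset_of_mem_open hy
      ((mprodι f g I J ≫ pullback.fst f g) ⁻¹ᵁ VX.1 ⊓
        (mprodι f g I J ≫ pullback.snd f g) ⁻¹ᵁ VT.1).isOpen
  have e1 : V ≤ (mprodι f g I J ≫ pullback.fst f g) ⁻¹ᵁ VX.1 := fun z hz => (hVle hz).1
  have e2 : V ≤ (mprodι f g I J ≫ pullback.snd f g) ⁻¹ᵁ VT.1 := fun z hz => (hVle hz).2
  refine ⟨⟨V, hV⟩, hyV, ?_⟩
  have h1 : (prodCentre f g I J).ideal ⟨V, hV⟩ =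
      (I.comap (mprodι f g I J ≫ pullback.fst f g)).ideal ⟨V, hV⟩ ⊔
        (J.comap (mprodι f g I J ≫ pullback.snd f g)).ideal ⟨V, hV⟩ := rfl
  rw [h1, Groth.Agent.Lib.Helper20.ideal_comap _ I ⟨V, hV⟩ VX e1,
    Groth.Agent.Lib.Helper20.ideal_comap _ J ⟨V, hV⟩ VT e2, htX, htT, Ideal.map_span,
    Ideal.map_span, Set.image_singleton, Set.image_singleton]
  exact Submodule.FG.sup (Submodule.fg_span_singleton _) (Submodule.fg_span_singleton _)

variable (π : Y ⟶ mprod f g I J) (K : Y.IdealSheafData) (hY : IsAmbProd f g I J π K)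

include hT hX hY in
theorem isProper_π : IsProper π :=
  Groth.Agent.Lib.Helper56.BlowUpProper.isProper_of_isBlowUp π (prodCentre f g I J) hY.1
    (prodCentre_fg J I hT hX f g)

include hT hX hY in
theorem main :
    ((LocallyOfFiniteType f ∧ QuasiCompact f) →
        LocallyOfFiniteType (π ≫ mprodι f g I J ≫ pullback.snd f g) ∧
          QuasiCompact (π ≫ mprodι f g I J ≫ pullback.snd f g)) ∧
      (UniversallyClosed f → UniversallyClosed (π ≫ mprodι f g I J ≫ pullback.snd f g)) ∧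
      (IsProper f → IsProper (π ≫ mprodι f g I J ≫ pullback.snd f g)) := by
  have hπ := isProper_π J I hT hX f g π K hY
  refine ⟨?_, ?_, ?_⟩
  · rintro ⟨h1, h2⟩
    exact ⟨inferInstance, inferInstance⟩
  · intro h
    infer_instance
  · intro h
    infer_instance

end Groth.Agent.Lib.Helper56.ModPairAmbProper
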