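import Groth.Prelude.Def_W4c6modpairsegaMP
import Groth.Agent.Lib.BlowUp.CartierCompl
import Groth.Agent.Lib.Helper20.IdealComap
import Mathlib.AlgebraicGeometry.Morphisms.Finite
import Mathlib.AlgebraicGeometry.Morphisms.Proper

/-!
# Splitting a modulus pair along a decomposition of the interior (helper56)
-/

set_option autoImplicit false
universe u

open CategoryTheory CategoryTheory.Limits AlgebraicGeometry TopologicalSpace

namespace Groth.Agent.Lib.Helper56.ModPairSplit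

/-- A morphism which over `V` factors through an open piece on which it is a monomorphism, and has
a section over `V`, is an isomorphism over `V`. -/
theorem isIso_morphismRestrict_of_section {P X Q : Scheme.{u}} (p : P ⟶ X) (V : X.Opens)
    (j : Q ⟶ P) [IsOpenImmersion j] [Mono (j ≫ p)]
    (hV : ((p ⁻¹ᵁ V : P.Opens) : Set P) ⊆ Set.range j)
    (s : (V : Scheme.{u}) ⟶ Q) (hs : s ≫ j ≫ p = V.ι) : IsIso (p ∣_ V) := by
  have hσr : Set.range (s ≫ j) ⊆ Set.range (p ⁻¹ᵁ V).ι := by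
    rintro _ ⟨x, rfl⟩
    rw [Scheme.Opens.range_ι]
    change p ((s ≫ j) x) ∈ V
    have : p ((s ≫ j) x) = V.ι x := by
      rw [← Scheme.Hom.comp_apply, Category.assoc, hs]
    rw [this]
    exact x.2
  let σ : (V : Scheme.{u}) ⟶ (p ⁻¹ᵁ V : P.Opens) := IsOpenImmersion.lift (p ⁻¹ᵁ V).ι (s ≫ j) hσr
  have hσ : σ ≫ (p ⁻¹ᵁ V).ι = s ≫ j := IsOpenImmersion.lift_fac _ _ _
  have hsplit : σ ≫ (p ∣_ V) = 𝟙 _ := by
    rw [← cancel_mono V.ι, Category.assoc, morphismRestrict_ι, ← Category.assoc, hσ, Category.assoc,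
      hs, Category.id_comp]
  have hmono : Mono (p ∣_ V) := by
    constructor
    intro T a b hab
    have hra : Set.range (a ≫ (p ⁻¹ᵁ V).ι) ⊆ Set.range j := by
      rintro _ ⟨x, rfl⟩
      apply hV
      rw [Scheme.Hom.comp_apply]
      exact (a x).2
    have hrb : Set.range (b ≫ (p ⁻¹ᵁ V).ι) ⊆ Set.range j := by
      rintro _ ⟨x, rfl⟩
      apply hV
      rw [Scheme.Hom.comp_apply]
      exact (b x).2
    have ha := IsOpenImmersion.lift_fac j (a ≫ (p ⁻¹ᵁ V).ι) hra
    have hb := IsOpenImmersion.lift_fac j (b ≫ (p ⁻¹ᵁ V).ι) hrb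
    have hab' : IsOpenImmersion.lift j (a ≫ (p ⁻¹ᵁ V).ι) hra =
        IsOpenImmersion.lift j (b ≫ (p ⁻¹ᵁ V).ι) hrb := by
      rw [← cancel_mono (j ≫ p), ← Category.assoc, ← Category.assoc, ha, hb, Category.assoc,
        Category.assoc, ← morphismRestrict_ι, ← Category.assoc, ← Category.assoc, hab]
    rw [← cancel_mono (p ⁻¹ᵁ V).ι, ← ha, ← hb, hab']
  haveI : IsSplitEpi (p ∣_ V) := ⟨⟨σ, hsplit⟩⟩
  exact isIso_of_mono_of_isSplitEpi _

section split

variable {X : Scheme.{u}} (I : X.IdealSheafData) (hI : BlowUp.IsEffCartierIdeal I)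
  (U₀ U₁ : X.Opens) (hU : U₀ ⊔ U₁ = ModPair.interior I) (hd : Disjoint U₀ U₁)

include hU hd in
theorem inter_eq (V : Set X) :
    (U₀ : Set X) ∩ V = ((ModPair.interior I : Set X) ∩ V) ∩ (U₁ : Set X)ᶜ := by
  ext x
  constructor
  · rintro ⟨h0, hV⟩
    refine ⟨⟨?_, hV⟩, ?_⟩
    · have : U₀ ≤ ModPair.interior I := hU ▸ le_sup_left
      exact this h0
    · intro h1
      exact (Set.disjoint_left.mp (by simpa using hd : Disjoint (U₀ : Set X) (U₁ : Set X))) h0 h1
  · rintro ⟨⟨hW, hV⟩, h1⟩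
    refine ⟨?_, hV⟩
    have : x ∈ U₀ ⊔ U₁ := hU ▸ hW
    rcases this with h | h
    · exact h
    · exact (h1 h).elim

include hI hU hd in
theorem quasiCompact_ι : QuasiCompact U₀.ι := by
  rw [quasiCompact_iff_forall_isAffineOpen]
  intro V hV
  have hW : IsAffineHom (ModPair.interior I).ι :=
    Groth.Agent.Lib.BlowUp.CartierCompl.isAffineHom_ι (ModPair.interior I) rfl hI
  have h1 : IsCompact (((ModPair.interior I).ι ⁻¹ᵁ V : (ModPair.interior I).toScheme.Opens) :
      Set (ModPair.interior I).toScheme) :=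
    (ModPair.interior I).ι.isCompact_preimage hV.isCompact
  have h2 : IsCompact ((ModPair.interior I : Set X) ∩ V) := by
    have := h1.image (ModPair.interior I).ι.continuous
    convert this using 1
    ext x
    constructor
    · rintro ⟨hx1, hx2⟩
      exact ⟨⟨x, hx1⟩, hx2, rfl⟩
    · rintro ⟨y, hy, rfl⟩
      exact ⟨y.2, hy⟩
  have h3 : IsCompact ((U₀ : Set X) ∩ V) := by
    rw [inter_eq I U₀ U₁ hU hd]
    exact h2.inter_right U₁.isOpen.isClosed_compl
  rw [U₀.ι.isOpenEmbedding.isInducing.isCompact_iff]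
  convert h3 using 1
  ext x
  constructor
  · rintro ⟨y, hy, rfl⟩
    exact ⟨y.2, hy⟩
  · rintro ⟨hx1, hx2⟩
    exact ⟨⟨x, hx1⟩, hx2, rfl⟩

end split

section nzd

variable {X : Scheme.{u}} (I : X.IdealSheafData)

/-- a section whose basic open is everything is a unit -/
theorem isUnit_of_le_basicOpen {M : Scheme.{u}} {W : M.Opens} (s : Γ(M, W))
    (hle : W ≤ M.basicOpen s) : IsUnit s := by
  have h1 : IsUnit (M.presheaf.map (homOfLE (M.basicOpen_le s)).op s) :=
    RingedSpace.isUnit_res_basicOpen M.toRingedSpace s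
  have h2 := h1.map (M.presheaf.map (homOfLE hle).op).hom
  have h3 : (M.presheaf.map (homOfLE hle).op).hom
      ((M.presheaf.map (homOfLE (M.basicOpen_le s)).op).hom s) = s := by
    rw [← CommRingCat.comp_apply, ← Functor.map_comp]
    have : (homOfLE (M.basicOpen_le s)).op ≫ (homOfLE hle).op = 𝟙 _ := Subsingleton.elim _ _
    rw [this, CategoryTheory.Functor.map_id]
    rfl
  rw [h3] at h2
  exact h2

/-- for a morphism landing in the interior, the local equation of `I` pulls back to a unit -/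
theorem isUnit_app_of_range_subset {M : Scheme.{u}} (h : M ⟶ X)
    (hr : Set.range h ⊆ (ModPair.interior I : Set X)) (V : X.affineOpens) (t : Γ(X, V.1))
    (ht : I.ideal V = Ideal.span {t}) : IsUnit (h.app V.1 t) := by
  apply isUnit_of_le_basicOpen
  rw [← Scheme.preimage_basicOpen,
    ← Groth.Agent.Lib.BlowUp.CartierCompl.inf_eq_basicOpen I (ModPair.interior I) rfl V t ht]
  intro x hx
  exact ⟨hr ⟨x, rfl⟩, hx⟩

/-- nonzerodivisor criterion through an injective pullback to a place where `t` is a unit -/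
theorem mem_nonZeroDivisors_app {Q M : Scheme.{u}} (i : Q ⟶ X) (m : M ⟶ Q) (V : X.Opens)
    (t : Γ(X, V)) (hinj : Function.Injective (m.app (i ⁻¹ᵁ V)))
    (hunit : IsUnit ((m ≫ i).app V t)) : i.app V t ∈ nonZeroDivisors Γ(Q, i ⁻¹ᵁ V) := by
  rw [mem_nonZeroDivisors_iff_right]
  intro a ha
  apply hinj
  rw [map_zero]
  have h1 : (m.app (i ⁻¹ᵁ V)) (a * i.app V t) = 0 := by rw [ha, map_zero]
  rw [map_mul] at h1
  have h2 : (m.app (i ⁻¹ᵁ V)) (i.app V t) = (m ≫ i).app V t := rfl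
  rw [h2] at h1
  exact hunit.mul_left_eq_zero.mp h1

end nzd

section cartier

variable {X : Scheme.{u}} (I : X.IdealSheafData) (hI : BlowUp.IsEffCartierIdeal I)
  (U₀ U₁ : X.Opens) (hU : U₀ ⊔ U₁ = ModPair.interior I) (hd : Disjoint U₀ U₁)

include hI hU hd in
theorem mem_nonZeroDivisors_imageι (k : U₀.ι.image ⟶ X) (hk : k = U₀.ι.imageι)
    (V : X.affineOpens) (t : Γ(X, V.1)) (ht : I.ideal V = Ideal.span {t}) :
    k.app V.1 t ∈ nonZeroDivisors Γ(U₀.ι.image, k ⁻¹ᵁ V.1) := by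
  subst hk
  haveI : QuasiCompact U₀.ι := quasiCompact_ι I hI U₀ U₁ hU hd
  refine mem_nonZeroDivisors_app _ U₀.ι.toImage V.1 t (U₀.ι.toImage_app_injective V)
    (isUnit_app_of_range_subset I _ ?_ V t ht)
  rw [U₀.ι.toImage_imageι, Scheme.Opens.range_ι]
  have : U₀ ≤ ModPair.interior I := hU ▸ le_sup_left
  exact this

theorem prod_ext_elem {A B : CommRingCat.{u}} (x y : (A ⨯ B : CommRingCat.{u}))
    (h1 : (prod.fst : A ⨯ B ⟶ A) x = (prod.fst : A ⨯ B ⟶ A) y)
    (h2 : (prod.snd : A ⨯ B ⟶ B) x = (prod.snd : A ⨯ B ⟶ B) y) : x = y := by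
  apply Concrete.limit_ext (pair A B) x y
  rintro ⟨j⟩
  cases j
  · exact h1
  · exact h2

include hI hU hd in
theorem isEffCartierIdeal_comap :
    BlowUp.IsEffCartierIdeal (I.comap (coprod.desc U₀.ι.imageι U₁.ι.imageι)) := by
  intro z
  obtain ⟨V, hxV, t, -, ht⟩ := hI ((coprod.desc U₀.ι.imageι U₁.ι.imageι) z)
  have hW : IsAffineOpen ((coprod.desc U₀.ι.imageι U₁.ι.imageι) ⁻¹ᵁ V.1) :=
    V.2.preimage (coprod.desc U₀.ι.imageι U₁.ι.imageι)
  refine ⟨⟨(coprod.desc U₀.ι.imageι U₁.ι.imageι) ⁻¹ᵁ V.1, hW⟩, hxV,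
    (coprod.desc U₀.ι.imageι U₁.ι.imageι).app V.1 t, ?_, ?_⟩
  · rw [mem_nonZeroDivisors_iff_right]
    intro a ha
    have h0 : ((coprod.inl : U₀.ι.image ⟶ U₀.ι.image ⨿ U₁.ι.image).app _) a = 0 := by
      have hn := mem_nonZeroDivisors_imageι I hI U₀ U₁ hU hd
        (coprod.inl ≫ coprod.desc U₀.ι.imageι U₁.ι.imageι) (coprod.inl_desc _ _) V t ht
      rw [mem_nonZeroDivisors_iff_right] at hn
      apply hn
      have := congrArg ((coprod.inl : U₀.ι.image ⟶ U₀.ι.image ⨿ U₁.ι.image).app _) ha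
      rw [map_mul, map_zero] at this
      exact this
    have h1 : ((coprod.inr : U₁.ι.image ⟶ U₀.ι.image ⨿ U₁.ι.image).app _) a = 0 := by
      have hn := mem_nonZeroDivisors_imageι I hI U₁ U₀ (by rw [sup_comm]; exact hU) hd.symm
        (coprod.inr ≫ coprod.desc U₀.ι.imageι U₁.ι.imageι) (coprod.inr_desc _ _) V t ht
      rw [mem_nonZeroDivisors_iff_right] at hn
      apply hn
      have := congrArg ((coprod.inr : U₁.ι.image ⟶ U₀.ι.image ⨿ U₁.ι.image).app _) ha
      rw [map_mul, map_zero] at this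
      exact this
    let e := Scheme.coprodPresheafObjIso ((coprod.desc U₀.ι.imageι U₁.ι.imageι) ⁻¹ᵁ V.1)
    have he : e.hom a = e.hom 0 := by
      apply prod_ext_elem
      · rw [← CommRingCat.comp_apply, ← CommRingCat.comp_apply,
          Scheme.coprodPresheafObjIso_hom_fst, map_zero]
        exact h0
      · rw [← CommRingCat.comp_apply, ← CommRingCat.comp_apply,
          Scheme.coprodPresheafObjIso_hom_snd, map_zero]
        exact h1
    have := congrArg e.inv he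
    rw [← CommRingCat.comp_apply, ← CommRingCat.comp_apply, e.hom_inv_id] at this
    simpa using this
  · rw [Groth.Agent.Lib.Helper20.ideal_comap (coprod.desc U₀.ι.imageι U₁.ι.imageι) I
      ⟨_, hW⟩ V le_rfl, ht, Ideal.map_span, Set.image_singleton, Scheme.Hom.appLE_eq_app]

include hI hU hd in
theorem isIso_restrict_piece :
    IsIso ((coprod.desc U₀.ι.imageι U₁.ι.imageι) ∣_ U₀) := by
  haveI : QuasiCompact U₁.ι :=
    quasiCompact_ι I hI U₁ U₀ (by rw [sup_comm]; exact hU) hd.symm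
  haveI : Mono ((coprod.inl : U₀.ι.image ⟶ U₀.ι.image ⨿ U₁.ι.image) ≫
      coprod.desc U₀.ι.imageι U₁.ι.imageι) := by
    rw [coprod.inl_desc]; infer_instance
  refine isIso_morphismRestrict_of_section (coprod.desc U₀.ι.imageι U₁.ι.imageι) U₀
    (coprod.inl : U₀.ι.image ⟶ U₀.ι.image ⨿ U₁.ι.image) ?_ U₀.ι.toImage ?_
  · intro z hz
    have hc := isCompl_range_inl_inr U₀.ι.image U₁.ι.image
    have hz' : z ∈ Set.range (coprod.inl : U₀.ι.image ⟶ U₀.ι.image ⨿ U₁.ι.image) ∪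
        Set.range (coprod.inr : U₁.ι.image ⟶ U₀.ι.image ⨿ U₁.ι.image) := by
      have h0 : Set.range (coprod.inl : U₀.ι.image ⟶ U₀.ι.image ⨿ U₁.ι.image) ∪
          Set.range (coprod.inr : U₁.ι.image ⟶ U₀.ι.image ⨿ U₁.ι.image) = Set.univ :=
        hc.sup_eq_top
      rw [h0]; trivial
    rcases hz' with h | ⟨y, rfl⟩
    · exact h
    · exfalso
      have h1 : (coprod.desc U₀.ι.imageι U₁.ι.imageι)
          ((coprod.inr : U₁.ι.image ⟶ U₀.ι.image ⨿ U₁.ι.image) y) = U₁.ι.imageι y := by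
        rw [← Scheme.Hom.comp_apply, coprod.inr_desc]
      have h2 : U₁.ι.imageι y ∈ closure (U₁ : Set X) := by
        have h3 : U₁.ι.imageι y ∈ Set.range U₁.ι.imageι := ⟨y, rfl⟩
        rw [Scheme.IdealSheafData.range_subschemeι, Scheme.Hom.support_ker,
          Scheme.Opens.range_ι] at h3
        exact h3
      have h4 : Disjoint (U₀ : Set X) (closure (U₁ : Set X)) :=
        (by simpa using hd : Disjoint (U₀ : Set X) (U₁ : Set X)).closure_right U₀.isOpen
      have h5 : (coprod.desc U₀.ι.imageι U₁.ι.imageι)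
          ((coprod.inr : U₁.ι.image ⟶ U₀.ι.image ⨿ U₁.ι.image) y) ∈ (U₀ : Set X) := hz
      rw [h1] at h5
      exact Set.disjoint_left.mp h4 h5 h2
  · rw [coprod.inl_desc, Scheme.Hom.toImage_imageι]

include hI hU hd in
theorem isIso_restrict_piece' :
    IsIso ((coprod.desc U₀.ι.imageι U₁.ι.imageι) ∣_ U₁) := by
  haveI : QuasiCompact U₀.ι := quasiCompact_ι I hI U₀ U₁ hU hd
  haveI : Mono ((coprod.inr : U₁.ι.image ⟶ U₀.ι.image ⨿ U₁.ι.image) ≫
      coprod.desc U₀.ι.imageι U₁.ι.imageι) := by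
    rw [coprod.inr_desc]; infer_instance
  refine isIso_morphismRestrict_of_section (coprod.desc U₀.ι.imageι U₁.ι.imageι) U₁
    (coprod.inr : U₁.ι.image ⟶ U₀.ι.image ⨿ U₁.ι.image) ?_ U₁.ι.toImage ?_
  · intro z hz
    have hc := isCompl_range_inl_inr U₀.ι.image U₁.ι.image
    have hz' : z ∈ Set.range (coprod.inl : U₀.ι.image ⟶ U₀.ι.image ⨿ U₁.ι.image) ∪
        Set.range (coprod.inr : U₁.ι.image ⟶ U₀.ι.image ⨿ U₁.ι.image) := by
      have h0 : Set.range (coprod.inl : U₀.ι.image ⟶ U₀.ι.image ⨿ U₁.ι.image) ∪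
          Set.range (coprod.inr : U₁.ι.image ⟶ U₀.ι.image ⨿ U₁.ι.image) = Set.univ :=
        hc.sup_eq_top
      rw [h0]; trivial
    rcases hz' with ⟨y, rfl⟩ | h
    · exfalso
      have h1 : (coprod.desc U₀.ι.imageι U₁.ι.imageι)
          ((coprod.inl : U₀.ι.image ⟶ U₀.ι.image ⨿ U₁.ι.image) y) = U₀.ι.imageι y := by
        rw [← Scheme.Hom.comp_apply, coprod.inl_desc]
      have h2 : U₀.ι.imageι y ∈ closure (U₀ : Set X) := by
        have h3 : U₀.ι.imageι y ∈ Set.range U₀.ι.imageι := ⟨y, rfl⟩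
        rw [Scheme.IdealSheafData.range_subschemeι, Scheme.Hom.support_ker,
          Scheme.Opens.range_ι] at h3
        exact h3
      have h4 : Disjoint (U₁ : Set X) (closure (U₀ : Set X)) :=
        (by simpa using hd.symm : Disjoint (U₁ : Set X) (U₀ : Set X)).closure_right U₁.isOpen
      have h5 : (coprod.desc U₀.ι.imageι U₁.ι.imageι)
          ((coprod.inl : U₀.ι.image ⟶ U₀.ι.image ⨿ U₁.ι.image) y) ∈ (U₁ : Set X) := hz
      rw [h1] at h5
      exact Set.disjoint_left.mp h4 h5 h2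
    · exact h
  · rw [coprod.inr_desc, Scheme.Hom.toImage_imageι]

/-- isomorphism over a union of two opens -/
theorem isIso_restrict_sup {P : Scheme.{u}} (p : P ⟶ X) (U V₀ V₁ : X.Opens) (h : V₀ ⊔ V₁ = U)
    (h0 : IsIso (p ∣_ V₀)) (h1 : IsIso (p ∣_ V₁)) : IsIso (p ∣_ U) := by
  have hle0 : V₀ ≤ U := h ▸ le_sup_left
  have hle1 : V₁ ≤ U := h ▸ le_sup_right
  change (MorphismProperty.isomorphisms Scheme.{u}) (p ∣_ U)
  apply IsZariskiLocalAtTarget.of_iSup_eq_top (P := MorphismProperty.isomorphisms Scheme.{u})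
    (fun b : Bool => U.ι ⁻¹ᵁ (if b then V₀ else V₁))
  · rw [iSup_bool_eq]
    simp only [if_true, Bool.false_eq_true, if_false]
    rw [← Scheme.Hom.preimage_sup, h]
    exact Scheme.Opens.ι_preimage_self U
  · intro b
    have key : ∀ (V : X.Opens), V ≤ U → IsIso (p ∣_ V) →
        (MorphismProperty.isomorphisms Scheme.{u}) (p ∣_ U ∣_ (U.ι ⁻¹ᵁ V)) := by
      intro V hV hiso
      have e : U.ι ''ᵁ (U.ι ⁻¹ᵁ V) = V := by
        rw [Scheme.Hom.image_preimage_eq_opensRange_inf, Scheme.Opens.opensRange_ι]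
        exact inf_eq_right.mpr hV
      rw [(MorphismProperty.isomorphisms Scheme.{u}).arrow_mk_iso_iff
        (morphismRestrictRestrict p U (U.ι ⁻¹ᵁ V) ≪≫ morphismRestrictEq p e)]
      exact hiso
    cases b
    · simpa using key V₁ hle1 h1
    · simpa using key V₀ hle0 h0

end cartier

end Groth.Agent.Lib.Helper56.ModPairSplit
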