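import Mathlib
import Groth.Prelude.Def_Curves
import Groth.Agent.Lib.Helper56.AICLocal
import Groth.Agent.Lib.Helper56.ModPairSplit

set_option autoImplicit false
universe u
open CategoryTheory CategoryTheory.Limits AlgebraicGeometry TopologicalSpace

namespace Groth.Agent.Lib.Helper56.RqfhLocal

variable (P : Scheme.{u})

/-- locality for Zariski coverings by quasi-compact open immersions -/
def ZarLocal : Prop :=
  ∀ (X : Scheme.{u}) (R : Presieve X), R ∈ Scheme.precoverage (@IsOpenImmersion ⊓ @QuasiCompact) X →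
    ∀ g : P ⟶ X, ∃ (Y : Scheme.{u}) (w : Y ⟶ X) (h : P ⟶ Y), R w ∧ h ≫ w = g

/-- locality for finite coverings -/
def FinLocal : Prop :=
  ∀ (X : Scheme.{u}) (R : Presieve X), R ∈ Scheme.precoverage @IsFinite X →
    ∀ g : P ⟶ X, ∃ (Y : Scheme.{u}) (w : Y ⟶ X) (h : P ⟶ Y), R w ∧ h ≫ w = g

variable {P}

theorem nonempty_of_zarLocal (hZ : ZarLocal P) : Nonempty P := by
  by_contra hne
  rw [not_nonempty_iff] at hne
  obtain ⟨Y, w, h, hR, -⟩ := hZ P ⊥ (Scheme.bot_mem_precoverage _ P) (𝟙 P)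
  exact hR

theorem isAffine_of_zarLocal [QuasiSeparatedSpace P] (hZ : ZarLocal P) : IsAffine P := by
  have hmem : Presieve.ofArrows (fun U : P.affineOpens => (U.1 : Scheme.{u}))
      (fun U => U.1.ι) ∈ Scheme.precoverage (@IsOpenImmersion ⊓ @QuasiCompact) P := by
    rw [Scheme.ofArrows_mem_precoverage_iff]
    refine ⟨fun x => ?_, fun U => ?_⟩
    · obtain ⟨_, ⟨U, hU, rfl⟩, hxU, -⟩ :=
        (Scheme.isBasis_affineOpens P).exists_subset_of_mem_open (Set.mem_univ x) isOpen_univ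
      refine ⟨⟨U, hU⟩, ?_⟩
      rw [Scheme.Opens.range_ι]
      exact hxU
    · have : IsAffine (U.1 : Scheme.{u}) := U.2
      exact ⟨inferInstance, inferInstance⟩
  obtain ⟨Y, w, h, hR, hw⟩ := hZ P _ hmem (𝟙 P)
  obtain ⟨U⟩ := hR
  have : IsAffine (U.1 : Scheme.{u}) := U.2
  have : IsSplitEpi U.1.ι := IsSplitEpi.mk' ⟨h, hw⟩
  have : IsIso U.1.ι := isIso_of_mono_of_isSplitEpi _
  exact IsAffine.of_isIso (inv U.1.ι)

theorem isLocalRing_of_zarLocal [QuasiSeparatedSpace P] (hZ : ZarLocal P) :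
    IsLocalRing Γ(P, ⊤) := by
  have hne := nonempty_of_zarLocal hZ
  have haff := isAffine_of_zarLocal hZ
  have : Nonempty (⊤ : P.Opens) := ⟨⟨hne.some, trivial⟩⟩
  have : Nontrivial Γ(P, ⊤) := Scheme.component_nontrivial P ⊤
  refine IsLocalRing.of_isUnit_or_isUnit_one_sub_self (fun a => ?_)
  let W : Bool → P.Opens := fun b => P.basicOpen (if b then a else 1 - a)
  have hmem : Presieve.ofArrows (fun b : Bool => ((W b : P.Opens) : Scheme.{u}))
      (fun b => (W b).ι) ∈ Scheme.precoverage (@IsOpenImmersion ⊓ @QuasiCompact) P := by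
    rw [Scheme.ofArrows_mem_precoverage_iff]
    refine ⟨fun x => ?_, fun b => ?_⟩
    · have h1 : IsUnit (P.presheaf.germ ⊤ x trivial a + P.presheaf.germ ⊤ x trivial (1 - a)) := by
        rw [← map_add]
        simp
      rcases IsLocalRing.isUnit_or_isUnit_of_isUnit_add h1 with h | h
      · refine ⟨true, ?_⟩
        rw [Scheme.Opens.range_ι]
        exact (P.mem_basicOpen (U := ⊤) _ x (Set.mem_univ x)).mpr h
      · refine ⟨false, ?_⟩
        rw [Scheme.Opens.range_ι]
        exact (P.mem_basicOpen (U := ⊤) _ x (Set.mem_univ x)).mpr h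
    · have : IsAffine ((W b : P.Opens) : Scheme.{u}) := (isAffineOpen_top P).basicOpen _
      exact ⟨inferInstance, inferInstance⟩
  obtain ⟨Y, w, h, hR, hw⟩ := hZ P _ hmem (𝟙 P)
  obtain ⟨b⟩ := hR
  have hle : (⊤ : P.Opens) ≤ W b := by
    intro x _
    have : x = (W b).ι (h x) := by
      rw [← Scheme.Hom.comp_apply, hw]
      rfl
    rw [this]
    exact (h x).2
  have hu := Groth.Agent.Lib.Helper56.ModPairSplit.isUnit_of_le_basicOpen _ hle
  cases b
  · exact Or.inr hu
  · exact Or.inl hu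

theorem exists_retraction_of_finLocal [IsAffine P] (hF : FinLocal P) {ι : Type*}
    (B : ι → CommRingCat.{u}) (ψ : ∀ i, Γ(P, ⊤) ⟶ B i)
    (hfin : ∀ i, IsFinite (Spec.map (ψ i)))
    (hsurj : ∀ x : Spec Γ(P, ⊤), ∃ i, x ∈ Set.range (Spec.map (ψ i))) :
    ∃ (i : ι) (φ : B i ⟶ Γ(P, ⊤)), ψ i ≫ φ = 𝟙 _ := by
  have hmem : Presieve.ofArrows (fun i => Spec (B i)) (fun i => Spec.map (ψ i)) ∈
      Scheme.precoverage @IsFinite (Spec Γ(P, ⊤)) := by
    exact (Scheme.ofArrows_mem_precoverage_iff (P := @IsFinite)).mpr ⟨hsurj, hfin⟩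
  obtain ⟨Y, w, h, hR, hw⟩ := hF _ _ hmem P.isoSpec.hom
  obtain ⟨i⟩ := hR
  refine ⟨i, Spec.preimage (P.isoSpec.inv ≫ h), ?_⟩
  apply Spec.map_injective
  rw [Spec.map_comp, Spec.map_preimage, Category.assoc, hw, Iso.inv_hom_id, Spec.map_id]

theorem isDomain_of_finLocal [IsAffine P] (hF : FinLocal P) : IsDomain Γ(P, ⊤) := by
  obtain ⟨p, φ, hφ⟩ := exists_retraction_of_finLocal hF
    (fun p : PrimeSpectrum Γ(P, ⊤) => CommRingCat.of (Γ(P, ⊤) ⧸ p.asIdeal))
    (fun p => CommRingCat.ofHom (Ideal.Quotient.mk p.asIdeal))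
    (fun p => by
      have := IsClosedImmersion.spec_of_surjective
        (CommRingCat.ofHom (Ideal.Quotient.mk p.asIdeal)) Ideal.Quotient.mk_surjective
      infer_instance)
    (fun x => by
      have hxp : x.asIdeal.IsPrime := x.isPrime
      have : IsDomain (Γ(P, ⊤) ⧸ x.asIdeal) := Ideal.Quotient.isDomain _
      refine ⟨x, ⟨(⟨⊥, Ideal.isPrime_bot⟩ : PrimeSpectrum (Γ(P, ⊤) ⧸ x.asIdeal)), ?_⟩⟩
      apply PrimeSpectrum.ext
      show Ideal.comap (Ideal.Quotient.mk x.asIdeal) ⊥ = x.asIdeal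
      rw [← RingHom.ker_eq_comap_bot, Ideal.mk_ker])
  have hbot : p.asIdeal = ⊥ := by
    rw [eq_bot_iff]
    intro a ha
    have h1 : (Ideal.Quotient.mk p.asIdeal) a = 0 := Ideal.Quotient.eq_zero_iff_mem.mpr ha
    have h2 : φ.hom ((Ideal.Quotient.mk p.asIdeal) a) = a := by
      have := congrArg (fun k => k.hom a) hφ
      simpa using this
    rw [h1, map_zero] at h2
    exact h2.symm
  have : (⊥ : Ideal Γ(P, ⊤)).IsPrime := hbot ▸ p.isPrime
  exact IsDomain.of_bot_isPrime _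

theorem isAIC_of_finLocal [IsAffine P] (hF : FinLocal P) : Curves.IsAIC Γ(P, ⊤) := by
  have hdom := isDomain_of_finLocal hF
  intro f hf hdeg
  have hinj : Function.Injective (AdjoinRoot.of f) := by
    apply AdjoinRoot.of.injective_of_degree_ne_zero
    rw [Polynomial.degree_eq_natDegree hf.ne_zero]
    exact_mod_cast hdeg.ne'
  have hfinite : (AdjoinRoot.of f).Finite := by
    have := hf.finite_adjoinRoot
    exact RingHom.finite_algebraMap.mpr this
  obtain ⟨-, φ, hφ⟩ := exists_retraction_of_finLocal hF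
    (fun _ : Unit => CommRingCat.of (AdjoinRoot f))
    (fun _ => CommRingCat.ofHom (AdjoinRoot.of f))
    (fun _ => (IsFinite.SpecMap_iff _).mpr hfinite)
    (fun x => ⟨(), hfinite.to_isIntegral.comap_surjective hinj x⟩)
  refine ⟨φ.hom (AdjoinRoot.root f), ?_⟩
  have h2 : ∀ a, φ.hom (AdjoinRoot.of f a) = a := by
    intro a
    have := congrArg (fun k => k.hom a) hφ
    simpa using this
  have h3 := congrArg φ.hom (AdjoinRoot.eval₂_root f)
  rw [Polynomial.hom_eval₂, map_zero] at h3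
  have h4 : φ.hom.comp (AdjoinRoot.of f) = RingHom.id _ := RingHom.ext h2
  rw [h4, Polynomial.eval₂_id] at h3
  exact h3

theorem zarLocal_of_isLocalRing [IsAffine P] [IsLocalRing Γ(P, ⊤)] : ZarLocal P := by
  intro X R hR g
  let x₀ : P := P.isoSpec.inv (IsLocalRing.closedPoint Γ(P, ⊤))
  have hspec : ∀ y : P, y ⤳ x₀ := by
    intro y
    have h1 : P.isoSpec.hom y ⤳ IsLocalRing.closedPoint Γ(P, ⊤) :=
      IsLocalRing.specializes_closedPoint _
    have h2 := h1.map P.isoSpec.inv.continuous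
    have h3 : P.isoSpec.inv (P.isoSpec.hom y) = y := by
      rw [← Scheme.Hom.comp_apply, Iso.hom_inv_id]
      rfl
    rwa [h3] at h2
  obtain ⟨Y, w, hw, y, hy⟩ := ((Presieve.mem_comap_jointlySurjectivePrecoverage_iff _).mp hR.1) (g x₀)
  have hwP := hR.2 hw
  have : IsOpenImmersion w := hwP.1
  refine ⟨Y, w, IsOpenImmersion.lift w g ?_, hw, IsOpenImmersion.lift_fac _ _ _⟩
  rintro _ ⟨z, rfl⟩
  have h3 : g z ⤳ g x₀ := (hspec z).map g.continuous
  exact h3.mem_open w.isOpenEmbedding.isOpen_range ⟨y, hy⟩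

theorem exists_retraction_of_isAIC {A B : Type u} [CommRing A] [CommRing B] [IsDomain A]
    (hA : Curves.IsAIC A) (ψ : A →+* B) (hψ : ψ.Finite) (q : Ideal B) [q.IsPrime]
    (hq : Ideal.comap ψ q = ⊥) : ∃ ρ : B →+* A, ρ.comp ψ = RingHom.id A := by
  let χ : A →+* B ⧸ q := (Ideal.Quotient.mk q).comp ψ
  have hχinj : Function.Injective χ := by
    rw [RingHom.injective_iff_ker_eq_bot, ← hq]
    ext a
    simp [χ, RingHom.mem_ker, Ideal.Quotient.eq_zero_iff_mem]
  have hχint : χ.IsIntegral :=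
    RingHom.IsIntegral.trans _ _ hψ.to_isIntegral
      (RingHom.isIntegral_of_surjective _ Ideal.Quotient.mk_surjective)
  have hχsurj := Groth.Agent.Lib.Helper56.AICLocal.surjective_of_isAIC χ hA hχint
  let e := RingEquiv.ofBijective χ ⟨hχinj, hχsurj⟩
  refine ⟨(e.symm : B ⧸ q →+* A).comp (Ideal.Quotient.mk q), ?_⟩
  ext a
  simp only [RingHom.coe_comp, Function.comp_apply, RingHom.id_apply, RingHom.coe_coe]
  exact e.symm_apply_apply a

theorem finLocal_of_isAIC [IsAffine P] [IsDomain Γ(P, ⊤)] (hA : Curves.IsAIC Γ(P, ⊤)) :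
    FinLocal P := by
  intro X R hR g
  let η₀ : ↥(Spec Γ(P, ⊤)) := (⟨⊥, Ideal.isPrime_bot⟩ : PrimeSpectrum Γ(P, ⊤))
  let η : P := P.isoSpec.inv η₀
  obtain ⟨Y, w, hw, y, hy⟩ := ((Presieve.mem_comap_jointlySurjectivePrecoverage_iff _).mp hR.1) (g η)
  have hwfin : IsFinite w := hR.2 hw
  have hfst : IsFinite (pullback.fst g w) := inferInstance
  have haff : IsAffine (pullback g w) := isAffine_of_isAffineHom (pullback.fst g w)
  obtain ⟨y', hy'1, hy'2⟩ := Scheme.Pullback.exists_preimage_pullback (f := g) (g := w) η y hy.symm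
  have hψfin := (pullback.fst g w).finite_appTop
  let q : PrimeSpectrum Γ(pullback g w, ⊤) := (pullback g w).isoSpec.hom y'
  have hq : Ideal.comap (pullback.fst g w).appTop.hom q.asIdeal = ⊥ := by
    have h1 : Spec.map (pullback.fst g w).appTop ((pullback g w).isoSpec.hom y') =
        P.isoSpec.hom (pullback.fst g w y') := by
      rw [← Scheme.Hom.comp_apply, ← Scheme.Hom.comp_apply, Scheme.isoSpec_hom_naturality]
    rw [hy'1] at h1
    have h2 : P.isoSpec.hom η = η₀ := by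
      show P.isoSpec.hom (P.isoSpec.inv η₀) = η₀
      rw [← Scheme.Hom.comp_apply, Iso.inv_hom_id]
      rfl
    rw [h2] at h1
    exact congrArg PrimeSpectrum.asIdeal h1
  have hqp : q.asIdeal.IsPrime := q.isPrime
  obtain ⟨ρ, hρ⟩ := exists_retraction_of_isAIC hA _ hψfin q.asIdeal hq
  let s : P ⟶ pullback g w :=
    P.isoSpec.hom ≫ Spec.map (CommRingCat.ofHom ρ) ≫ (pullback g w).isoSpec.inv
  have hs : s ≫ pullback.fst g w = 𝟙 P := by
    simp only [s, Category.assoc]
    rw [← Scheme.isoSpec_inv_naturality, ← Spec.map_comp_assoc]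
    have : (pullback.fst g w).appTop ≫ CommRingCat.ofHom ρ = 𝟙 _ := by
      ext a
      exact congrArg (fun k => k a) hρ
    rw [this, Spec.map_id, Category.id_comp, Iso.hom_inv_id]
  refine ⟨Y, w, s ≫ pullback.snd g w, hw, ?_⟩
  rw [Category.assoc, ← pullback.condition, ← Category.assoc, hs, Category.id_comp]

end Groth.Agent.Lib.Helper56.RqfhLocal
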