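import Groth.Agent.Lib.Helper56.ModPairFrac
import Mathlib.AlgebraicGeometry.Morphisms.SchemeTheoreticallyDominant

/-!
# Scheme-theoretic density of interiors and minimal products of modulus pairs (helper56)

ns `Groth.Agent.Lib.Helper56.ModPairDense`.
-/

set_option autoImplicit false
universe u

open CategoryTheory CategoryTheory.Limits AlgebraicGeometry TopologicalSpace
open ModPair

namespace Groth.Agent.Lib.Helper56.ModPairDense

open Groth.Agent.Lib.Helper56.ModPairSplit Groth.Agent.Lib.Helper56.ModPairBase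
  Groth.Agent.Lib.Helper56.ModPairFrac

theorem quasiCompact_preimage_interior_ι {X X' : Scheme.{u}} (I : X.IdealSheafData)
    (hI : BlowUp.IsEffCartierIdeal I) (f : X' ⟶ X) : QuasiCompact (f ⁻¹ᵁ interior I).ι := by
  have hW : IsAffineHom (interior I).ι :=
    Groth.Agent.Lib.BlowUp.CartierCompl.isAffineHom_ι (interior I) rfl hI
  have h1 : QuasiCompact (interior I).ι := inferInstance
  exact MorphismProperty.of_isPullback (P := @QuasiCompact)
    (isPullback_morphismRestrict f (interior I)) h1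

/-- Pull-back of an effective Cartier ideal along `f : X' ⟶ X` stays effective Cartier as soon as
some `m : M ⟶ X'` lands in the preimage of the interior and is injective on sections over a basis
of affine opens. -/
theorem isEffCartierIdeal_comap_of_app_injective {X X' M : Scheme.{u}} (I : X.IdealSheafData)
    (hI : BlowUp.IsEffCartierIdeal I) (f : X' ⟶ X) (m : M ⟶ X')
    (hm : ∀ (z : X') (O : X'.Opens), z ∈ O → ∃ W : X'.Opens, IsAffineOpen W ∧ z ∈ W ∧ W ≤ O ∧
      Function.Injective (m.app W))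
    (hr : Set.range (m ≫ f) ⊆ (interior I : Set X)) : BlowUp.IsEffCartierIdeal (I.comap f) := by
  intro z
  obtain ⟨V, hzV, t, -, ht⟩ := hI (f z)
  obtain ⟨W, hW, hzW, e, hinj⟩ := hm z (f ⁻¹ᵁ V.1) hzV
  refine ⟨⟨W, hW⟩, hzW, f.appLE V.1 W e t, ?_, ?_⟩
  · refine mem_nonZeroDivisors_of_injective_of_isUnit m W _ hinj ?_
    apply isUnit_of_le_basicOpen
    rw [← Scheme.preimage_basicOpen, Scheme.Hom.appLE, CommRingCat.comp_apply,
      Scheme.basicOpen_res, ← Scheme.preimage_basicOpen,
      ← Groth.Agent.Lib.BlowUp.CartierCompl.inf_eq_basicOpen I (interior I) rfl V t ht]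
    intro x hx
    refine ⟨hx, ?_, e hx⟩
    change f (m x) ∈ interior I
    rw [← Scheme.Hom.comp_apply]
    exact hr ⟨x, rfl⟩
  · rw [Groth.Agent.Lib.Helper20.ideal_comap f I ⟨_, hW⟩ V e, ht, Ideal.map_span,
      Set.image_singleton]

/-- In the scheme-theoretic image of a quasi-compact morphism, the affine opens on which
`toImage` is injective on sections form a basis. -/
theorem exists_affine_toImage_app_injective {X P : Scheme.{u}} (j : X ⟶ P) [QuasiCompact j]
    (z : j.image) (O : j.image.Opens) (hz : z ∈ O) :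
    ∃ W : j.image.Opens, IsAffineOpen W ∧ z ∈ W ∧ W ≤ O ∧
      Function.Injective (j.toImage.app W) := by
  obtain ⟨O', hO', hOO'⟩ := j.imageι.isEmbedding.isInducing.isOpen_iff.mp O.isOpen
  have hzO' : j.imageι z ∈ O' := by
    have : z ∈ (j.imageι : j.image → P) ⁻¹' O' := by rw [hOO']; exact hz
    exact this
  obtain ⟨_, ⟨U', hU', rfl⟩, hzU', hU'O'⟩ :=
    (Scheme.isBasis_affineOpens P).exists_subset_of_mem_open hzO' hO'
  refine ⟨j.imageι ⁻¹ᵁ U', hU'.preimage j.imageι, hzU', ?_, j.toImage_app_injective ⟨U', hU'⟩⟩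
  intro y hy
  have : y ∈ (j.imageι : j.image → P) ⁻¹' O' := hU'O' hy
  rw [hOO'] at this
  exact this

theorem isEffCartierIdeal_comap_image {X P : Scheme.{u}} (I : X.IdealSheafData)
    (hI : BlowUp.IsEffCartierIdeal I) (U : P.Opens) [QuasiCompact U.ι] (h : P ⟶ X)
    (hU : U ≤ h ⁻¹ᵁ interior I) : BlowUp.IsEffCartierIdeal (I.comap (U.ι.imageι ≫ h)) := by
  refine isEffCartierIdeal_comap_of_app_injective I hI (U.ι.imageι ≫ h) U.ι.toImage
    (exists_affine_toImage_app_injective U.ι) ?_
  rw [Scheme.Hom.toImage_imageι_assoc]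
  rintro _ ⟨x, rfl⟩
  exact hU x.2

theorem isEffCartierIdeal_comap_of_dominant {X X' : Scheme.{u}} (I : X.IdealSheafData)
    (hI : BlowUp.IsEffCartierIdeal I) (f : X' ⟶ X)
    [IsSchemeTheoreticallyDominant (f ⁻¹ᵁ interior I).ι] :
    BlowUp.IsEffCartierIdeal (I.comap f) := by
  have := quasiCompact_preimage_interior_ι I hI f
  refine isEffCartierIdeal_comap_of_app_injective I hI f (f ⁻¹ᵁ interior I).ι ?_ ?_
  · intro z O hz
    obtain ⟨_, ⟨W, hW, rfl⟩, hzW, hWO⟩ :=
      (Scheme.isBasis_affineOpens X').exists_subset_of_mem_open hz O.isOpen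
    exact ⟨W, hW, hzW, hWO, (f ⁻¹ᵁ interior I).ι.app_injective W⟩
  · rintro _ ⟨x, rfl⟩
    exact x.2

theorem isSchemeTheoreticallyDominant_homOfLE {X X' : Scheme.{u}} (I : X.IdealSheafData)
    (hI : BlowUp.IsEffCartierIdeal I) (f : X' ⟶ X)
    [IsSchemeTheoreticallyDominant (f ⁻¹ᵁ interior I).ι] (W : X'.Opens) :
    IsSchemeTheoreticallyDominant
      (X'.homOfLE (inf_le_right : f ⁻¹ᵁ interior I ⊓ W ≤ W)) := by
  have := quasiCompact_preimage_interior_ι I hI f
  exact IsSchemeTheoreticallyDominant.of_isPullback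
    (isPullback_opens_inf (f ⁻¹ᵁ interior I) W)

section MinimalProduct

variable {S T X : Scheme.{u}} (IS : S.IdealSheafData) (IT : T.IdealSheafData)
  (IX : X.IdealSheafData) (p : X ⟶ S) (f : T ⟶ S)

theorem prodInterior_eq_fst (hp : IsAmbient IX IS p) (hf : IsMinimal IT IS f) :
    prodInterior p f IX IT = (pullback.fst p f) ⁻¹ᵁ interior IX := by
  unfold prodInterior
  rw [inf_eq_left]
  intro x hx
  have h1 : p (pullback.fst p f x) ∈ interior IS := interior_le_of_isAmbient hp hx
  rw [interior_eq_of_isMinimal hf]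
  change f (pullback.snd p f x) ∈ interior IS
  have h2 : f (pullback.snd p f x) = p (pullback.fst p f x) := by
    rw [← Scheme.Hom.comp_apply, ← Scheme.Hom.comp_apply, pullback.condition]
  rw [h2]
  exact h1

theorem quasiCompact_prodInterior_ι_fst (hX : BlowUp.IsEffCartierIdeal IX)
    (hp : IsAmbient IX IS p) (hf : IsMinimal IT IS f) :
    QuasiCompact (prodInterior p f IX IT).ι := by
  rw [prodInterior_eq_fst IS IT IX p f hp hf]
  exact quasiCompact_preimage_interior_ι IX hX _

theorem isEffCartierIdeal_comap_mprod_fst (hX : BlowUp.IsEffCartierIdeal IX)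
    (hp : IsAmbient IX IS p) (hf : IsMinimal IT IS f) :
    BlowUp.IsEffCartierIdeal (IX.comap (mprodι p f IX IT ≫ pullback.fst p f)) := by
  have := quasiCompact_prodInterior_ι_fst IS IT IX p f hX hp hf
  exact isEffCartierIdeal_comap_image IX hX (prodInterior p f IX IT) (pullback.fst p f)
    (le_of_eq (prodInterior_eq_fst IS IT IX p f hp hf))

theorem isAmbient_mprod_snd (hp : IsAmbient IX IS p) (hf : IsMinimal IT IS f) :
    IsAmbient (IX.comap (mprodι p f IX IT ≫ pullback.fst p f)) IT
      (mprodι p f IX IT ≫ pullback.snd p f) :=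
  isAmbient_of_square IS IX IT p f _ _
    (by simp only [Category.assoc, pullback.condition]) hp hf

theorem mprod_universal (hp : IsAmbient IX IS p) (hf : IsMinimal IT IS f)
    (W : Scheme.{u}) (IW : W.IdealSheafData) (hW : BlowUp.IsEffCartierIdeal IW)
    (a : W ⟶ T) (b : W ⟶ X) (ha : IsAmbient IW IT a) (hb : IsAmbient IW IX b)
    (hab : a ≫ f = b ≫ p) :
    ∃! c : W ⟶ mprod p f IX IT,
      c ≫ mprodι p f IX IT ≫ pullback.snd p f = a ∧
        c ≫ mprodι p f IX IT ≫ pullback.fst p f = b ∧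
        IsAmbient IW (IX.comap (mprodι p f IX IT ≫ pullback.fst p f)) c := by
  have hU := prodInterior_eq_fst IS IT IX p f hp hf
  let c₀ : W ⟶ pullback p f := pullback.lift b a hab.symm
  have hc₀1 : c₀ ≫ pullback.fst p f = b := pullback.lift_fst _ _ _
  have hc₀2 : c₀ ≫ pullback.snd p f = a := pullback.lift_snd _ _ _
  have hrange : Set.range ((interior IW).ι ≫ c₀) ⊆ Set.range (prodInterior p f IX IT).ι := by
    rintro _ ⟨w, rfl⟩
    rw [Scheme.Opens.range_ι, hU]
    change (pullback.fst p f) (((interior IW).ι ≫ c₀) w) ∈ interior IX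
    rw [← Scheme.Hom.comp_apply, Category.assoc, hc₀1]
    exact interior_le_of_isAmbient hb w.2
  let m := IsOpenImmersion.lift (prodInterior p f IX IT).ι ((interior IW).ι ≫ c₀) hrange
  have hm : m ≫ (prodInterior p f IX IT).ι = (interior IW).ι ≫ c₀ :=
    IsOpenImmersion.lift_fac _ _ _
  have hker : (prodInterior p f IX IT).ι.ker ≤ c₀.ker := by
    rw [← Groth.Agent.Lib.BlowUp.CartierCompl.ker_ι_comp (interior IW) rfl hW c₀, ← hm]
    exact Scheme.Hom.le_ker_comp _ _
  let c : W ⟶ mprod p f IX IT := c₀.toImage ≫ Scheme.IdealSheafData.inclusion hker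
  have hc : c ≫ mprodι p f IX IT = c₀ := by
    simp only [c, Category.assoc]
    rw [Scheme.IdealSheafData.inclusion_subschemeι]
    exact c₀.toImage_imageι
  refine ⟨c, ⟨?_, ?_, ?_⟩, ?_⟩
  · rw [← Category.assoc, hc, hc₀2]
  · rw [← Category.assoc, hc, hc₀1]
  · change IW ≤ _
    rw [← Scheme.IdealSheafData.comap_comp, ← Category.assoc, hc, hc₀1]
    exact hb
  · rintro c' ⟨h1, h2, -⟩
    rw [← cancel_mono (mprodι p f IX IT), hc]
    apply pullback.hom_ext
    · rw [Category.assoc, h2, hc₀1]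
    · rw [Category.assoc, h1, hc₀2]

theorem isSchemeTheoreticallyDominant_prodInterior_ι (hX : BlowUp.IsEffCartierIdeal IX)
    (hp : IsAmbient IX IS p) (hf : IsMinimal IT IS f) [Flat f] :
    IsSchemeTheoreticallyDominant (prodInterior p f IX IT).ι := by
  rw [prodInterior_eq_fst IS IT IX p f hp hf]
  have hW : IsAffineHom (interior IX).ι :=
    Groth.Agent.Lib.BlowUp.CartierCompl.isAffineHom_ι (interior IX) rfl hX
  have h1 : QuasiCompact (interior IX).ι := inferInstance
  have h2 : IsSchemeTheoreticallyDominant (interior IX).ι :=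
    ⟨Groth.Agent.Lib.BlowUp.CartierCompl.ker_ι (interior IX) rfl hX⟩
  exact IsSchemeTheoreticallyDominant.of_isPullback
    (isPullback_morphismRestrict (pullback.fst p f) (interior IX))

end MinimalProduct

end Groth.Agent.Lib.Helper56.ModPairDense
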