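import Groth.Agent.Lib.Helper56.ModPairColon
import Groth.Agent.Lib.Helper56.ModPairAmbProper
import Groth.Agent.Lib.Helper56.RqfhLocal
import Groth.Agent.S19330

/-!
# Modulus pairs local for Zariski coverings and admissible blow-ups (helper56)

ns `Groth.Agent.Lib.Helper56.LocalPair`.
-/

set_option autoImplicit false
universe u
open CategoryTheory CategoryTheory.Limits AlgebraicGeometry TopologicalSpace
open ModPair

namespace Groth.Agent.Lib.Helper56.LocalPair

open Groth.Agent.Lib.Helper56.ModPairBase Groth.Agent.Lib.Helper56.ModPairSplit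

variable (P : ModPair.Pair.{u})

/-- locality for Zariski coverings of modulus pairs -/
def ZarLocal : Prop :=
  ∀ (X : ModPair.Pair.{u}) (ι : Type u) (U : ι → ModPair.Pair.{u}) (v : ∀ i, U i ⟶ X),
    (∀ i, ModPair.IsMinimal (U i).mod X.mod (v i).hom ∧ IsOpenImmersion (v i).hom ∧
      QuasiCompact (v i).hom) →
    (∀ x : X.total, ∃ (i : ι) (y : (U i).total), (v i).hom.base y = x) →
    ∀ g : P ⟶ X, ∃ (i : ι) (h : P ⟶ U i), h ≫ v i = g

/-- locality for abstract admissible blow-ups -/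
def BlLocal : Prop :=
  ∀ (Q X : ModPair.Pair.{u}) (q : Q ⟶ X), ModPair.Pair.admBlowup q →
    ∀ g : P ⟶ X, ∃ h : P ⟶ Q, h ≫ q = g

variable {P}

/-- restriction of a modulus pair to an open subscheme -/
noncomputable def restrict (P : ModPair.Pair.{u}) (W : P.total.Opens) : ModPair.Pair.{u} :=
  ⟨W, P.mod.comap W.ι,
    Groth.Agent.Lib.BlowUp.isEffCartierIdeal_comap_of_flat W.ι P.mod P.isEffCartier⟩

noncomputable def restrictι (P : ModPair.Pair.{u}) (W : P.total.Opens) : restrict P W ⟶ P :=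
  ⟨W.ι, le_rfl⟩

theorem comp_hom {A B C : ModPair.Pair.{u}} (f : A ⟶ B) (g : B ⟶ C) :
    (f ≫ g).hom = f.hom ≫ g.hom := rfl

theorem id_hom (A : ModPair.Pair.{u}) : (𝟙 A : A ⟶ A).hom = 𝟙 A.total := rfl

theorem isAffine_of_zarLocal [QuasiSeparatedSpace P.total] (hZ : ZarLocal P) :
    IsAffine P.total := by
  obtain ⟨W, h, hw⟩ := hZ P P.total.affineOpens (fun W => restrict P W.1)
    (fun W => restrictι P W.1)
    (fun W => by
      have : IsAffine ((W.1 : P.total.Opens) : Scheme.{u}) := W.2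
      exact ⟨rfl, (inferInstance : IsOpenImmersion W.1.ι), (inferInstance : QuasiCompact W.1.ι)⟩)
    (fun x => by
      obtain ⟨_, ⟨U, hU, rfl⟩, hxU, -⟩ :=
        (Scheme.isBasis_affineOpens P.total).exists_subset_of_mem_open (Set.mem_univ x)
          isOpen_univ
      exact ⟨⟨U, hU⟩, ⟨x, hxU⟩, rfl⟩)
    (𝟙 P)
  have hw' : h.hom ≫ W.1.ι = 𝟙 P.total := congrArg ModPair.Pair.Hom.hom hw
  have : IsAffine ((W.1 : P.total.Opens) : Scheme.{u}) := W.2
  have : IsSplitEpi W.1.ι := IsSplitEpi.mk' ⟨h.hom, hw'⟩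
  have : IsIso W.1.ι := isIso_of_mono_of_isSplitEpi _
  exact IsAffine.of_isIso (inv W.1.ι)

theorem nonempty_of_zarLocal (hZ : ZarLocal P) : Nonempty P.total := by
  by_contra hne
  rw [not_nonempty_iff] at hne
  obtain ⟨i, -, -⟩ := hZ P PEmpty (fun i => i.elim) (fun i => i.elim) (fun i => i.elim)
    (fun x => (hne.false x).elim) (𝟙 P)
  exact i.elim

theorem isLocalRing_of_zarLocal [QuasiSeparatedSpace P.total] (hZ : ZarLocal P) :
    IsLocalRing Γ(P.total, ⊤) := by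
  have hne := nonempty_of_zarLocal hZ
  have haff := isAffine_of_zarLocal hZ
  have : Nonempty (⊤ : P.total.Opens) := ⟨⟨hne.some, trivial⟩⟩
  have : Nontrivial Γ(P.total, ⊤) := Scheme.component_nontrivial P.total ⊤
  refine IsLocalRing.of_isUnit_or_isUnit_one_sub_self (fun a => ?_)
  let W : ULift.{u} Bool → P.total.Opens := fun b => P.total.basicOpen (if b.down then a else 1 - a)
  obtain ⟨b, h, hw⟩ := hZ P (ULift.{u} Bool) (fun b => restrict P (W b)) (fun b => restrictι P (W b))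
    (fun b => by
      have : IsAffine ((W b : P.total.Opens) : Scheme.{u}) :=
        (isAffineOpen_top P.total).basicOpen _
      exact ⟨rfl, (inferInstance : IsOpenImmersion (W b).ι), (inferInstance : QuasiCompact (W b).ι)⟩)
    (fun x => by
      have h1 : IsUnit (P.total.presheaf.germ ⊤ x trivial a +
          P.total.presheaf.germ ⊤ x trivial (1 - a)) := by
        rw [← map_add]
        simp
      rcases IsLocalRing.isUnit_or_isUnit_of_isUnit_add h1 with h | h
      · exact ⟨⟨true⟩, ⟨x, (P.total.mem_basicOpen (U := ⊤) _ x (Set.mem_univ x)).mpr h⟩, rfl⟩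
      · exact ⟨⟨false⟩, ⟨x, (P.total.mem_basicOpen (U := ⊤) _ x (Set.mem_univ x)).mpr h⟩, rfl⟩)
    (𝟙 P)
  let h' : P.total ⟶ ((W b : P.total.Opens) : Scheme.{u}) := h.hom
  have hw' : h' ≫ (W b).ι = 𝟙 P.total := congrArg ModPair.Pair.Hom.hom hw
  have hle : (⊤ : P.total.Opens) ≤ W b := by
    intro x _
    have : x = (W b).ι (h' x) := by
      rw [← Scheme.Hom.comp_apply, hw']
      rfl
    rw [this]
    exact (h' x).2
  have hu := isUnit_of_le_basicOpen _ hle
  obtain ⟨b⟩ := b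
  cases b
  · exact Or.inr hu
  · exact Or.inl hu

section affineLocal

/-- the closed point of an affine scheme with local ring of global sections -/
noncomputable def closedPt (X : Scheme.{u}) [IsAffine X] [IsLocalRing Γ(X, ⊤)] : X :=
  X.isoSpec.inv (IsLocalRing.closedPoint Γ(X, ⊤))

theorem specializes_closedPt (X : Scheme.{u}) [IsAffine X] [IsLocalRing Γ(X, ⊤)] (y : X) :
    y ⤳ closedPt X := by
  have h1 : X.isoSpec.hom y ⤳ IsLocalRing.closedPoint Γ(X, ⊤) :=
    IsLocalRing.specializes_closedPoint _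
  have h2 := h1.map X.isoSpec.inv.continuous
  have h3 : X.isoSpec.inv (X.isoSpec.hom y) = y := by
    rw [← Scheme.Hom.comp_apply, Iso.hom_inv_id]
    rfl
  rwa [h3] at h2

theorem eq_top_of_closedPt_mem (X : Scheme.{u}) [IsAffine X] [IsLocalRing Γ(X, ⊤)]
    (W : X.Opens) (h : closedPt X ∈ W) : W = ⊤ := by
  rw [eq_top_iff]
  intro y _
  exact (specializes_closedPt X y).mem_open W.isOpen h

theorem eq_closedPt_of_isClosed (X : Scheme.{u}) [IsAffine X] [IsLocalRing Γ(X, ⊤)] (p : X)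
    (hp : IsClosed ({p} : Set X)) : p = closedPt X := by
  have h1 := specializes_closedPt X p
  have h2 : closedPt X ∈ closure ({p} : Set X) := specializes_iff_mem_closure.mp h1
  rw [hp.closure_eq] at h2
  exact h2.symm

variable (P) in
theorem exists_generator [IsAffine P.total] [IsLocalRing Γ(P.total, ⊤)] :
    ∃ f : Γ(P.total, ⊤), f ∈ nonZeroDivisors Γ(P.total, ⊤) ∧
      P.mod.ideal ⟨⊤, isAffineOpen_top P.total⟩ = Ideal.span {f} ∧
      interior P.mod = P.total.basicOpen f := by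
  obtain ⟨W, hxW, t, ht, hW⟩ := P.isEffCartier (closedPt P.total)
  have hWtop : W.1 = ⊤ := eq_top_of_closedPt_mem P.total W.1 hxW
  obtain ⟨W1, W2⟩ := W
  dsimp only at hWtop
  subst hWtop
  refine ⟨t, ht, hW, ?_⟩
  have := Groth.Agent.Lib.BlowUp.CartierCompl.inf_eq_basicOpen P.mod (interior P.mod) rfl
    ⟨⊤, W2⟩ t hW
  rwa [inf_top_eq] at this

theorem dvd_or_dvd_of_span_pair_eq {A : Type*} [CommRing A] [IsLocalRing A] (x y d : A)
    (hy : y ∈ nonZeroDivisors A) (h : Ideal.span {x, y} = Ideal.span {d}) : x ∣ y ∨ y ∣ x := by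
  have hx' : x ∈ Ideal.span {d} := h ▸ Ideal.subset_span (by simp)
  have hy' : y ∈ Ideal.span {d} := h ▸ Ideal.subset_span (by simp)
  have hd' : d ∈ Ideal.span {x, y} := h ▸ Ideal.mem_span_singleton_self d
  obtain ⟨x', hx'⟩ := Ideal.mem_span_singleton'.mp hx'
  obtain ⟨y', hy''⟩ := Ideal.mem_span_singleton'.mp hy'
  obtain ⟨u, v, huv⟩ := Ideal.mem_span_pair.mp hd'
  have hdnzd : d ∈ nonZeroDivisors A := by
    rw [← hy''] at hy
    exact (mul_mem_nonZeroDivisors.mp hy).2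
  have h1 : (u * x' + v * y' - 1) * d = 0 := by
    rw [sub_mul, add_mul, one_mul, mul_assoc, mul_assoc, hx', hy'', huv, sub_self]
  have h2 : u * x' + v * y' = 1 := sub_eq_zero.mp ((mem_nonZeroDivisors_iff_right.mp hdnzd) _ h1)
  have h3 : IsUnit (u * x' + v * y') := h2 ▸ isUnit_one
  rcases IsLocalRing.isUnit_or_isUnit_of_isUnit_add h3 with hu | hu
  · left
    have hxu : IsUnit x' := isUnit_of_mul_isUnit_right hu
    obtain ⟨w, hw⟩ := hxu.exists_left_inv
    refine ⟨y' * w, ?_⟩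
    rw [← hx', ← hy'']
    calc y' * d = y' * (w * x') * d := by rw [hw, mul_one]
      _ = x' * d * (y' * w) := by ring
  · right
    have hyu : IsUnit y' := isUnit_of_mul_isUnit_right hu
    obtain ⟨w, hw⟩ := hyu.exists_left_inv
    refine ⟨x' * w, ?_⟩
    rw [← hx', ← hy'']
    calc x' * d = x' * (w * y') * d := by rw [hw, mul_one]
      _ = y' * d * (x' * w) := by ring

variable (P) in
theorem mem_nonZeroDivisors_of_interior_le [IsAffine P.total] (y : Γ(P.total, ⊤))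
    (hy : interior P.mod ≤ P.total.basicOpen y) : y ∈ nonZeroDivisors Γ(P.total, ⊤) := by
  have haffι : IsAffineHom (interior P.mod).ι :=
    Groth.Agent.Lib.BlowUp.CartierCompl.isAffineHom_ι (interior P.mod) rfl P.isEffCartier
  have hker := Groth.Agent.Lib.BlowUp.CartierCompl.ker_ι (interior P.mod) rfl P.isEffCartier
  refine mem_nonZeroDivisors_of_injective_of_isUnit (interior P.mod).ι ⊤ y ?_ ?_
  · have h1 := Scheme.Hom.ker_apply (interior P.mod).ι ⟨⊤, isAffineOpen_top P.total⟩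
    rw [hker] at h1
    rw [RingHom.injective_iff_ker_eq_bot]
    exact h1.symm
  · apply isUnit_of_le_basicOpen
    rw [← Scheme.preimage_basicOpen]
    intro z _
    exact hy z.2

theorem dvd_or_dvd_of_blLocal [IsAffine P.total] [IsLocalRing Γ(P.total, ⊤)] (hB : BlLocal P)
    (x y : Γ(P.total, ⊤)) (hy : interior P.mod ≤ P.total.basicOpen y) : x ∣ y ∨ y ∣ x := by
  let 𝓘 : P.total.IdealSheafData := Scheme.IdealSheafData.ofIdealTop (Ideal.span {x, y})
  have hsupp : ∀ z ∈ interior P.mod, z ∉ 𝓘.support := by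
    intro z hz hzs
    have h1 : z ∈ (𝓘.support : Set P.total) := hzs
    rw [Scheme.IdealSheafData.coe_support_ofIdealTop, Scheme.mem_zeroLocus_iff] at h1
    exact h1 y (Ideal.subset_span (by simp)) (hy hz)
  obtain ⟨Y, b, hb⟩ := Groth.Agent.Lib.BlowUp.Exists.exists_isBlowUp P.total 𝓘
  have hle : interior P.mod ≤ interior 𝓘 := fun z hz => hsupp z hz
  have haffι : IsAffineHom (interior P.mod).ι :=
    Groth.Agent.Lib.BlowUp.CartierCompl.isAffineHom_ι (interior P.mod) rfl P.isEffCartier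
  have hdom : IsSchemeTheoreticallyDominant (interior P.mod).ι :=
    ⟨Groth.Agent.Lib.BlowUp.CartierCompl.ker_ι (interior P.mod) rfl P.isEffCartier⟩
  have hdomY := Groth.Agent.Lib.Helper56.ModPairAmbProd.isSchemeTheoreticallyDominant_preimage_of_isBlowUp
    b 𝓘 hb (interior P.mod) hle
  have heff : BlowUp.IsEffCartierIdeal (P.mod.comap b) :=
    Groth.Agent.Lib.Helper56.ModPairDense.isEffCartierIdeal_comap_of_dominant P.mod
      P.isEffCartier b
  let Q : ModPair.Pair.{u} := ⟨Y, P.mod.comap b, heff⟩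
  let q : Q ⟶ P := ⟨b, le_rfl⟩
  have hadm : ModPair.Pair.admBlowup q := by
    refine ⟨rfl, ?_, ?_⟩
    · refine Groth.Agent.Lib.Helper56.BlowUpProper.isProper_of_isBlowUp b 𝓘 hb (fun z =>
        ⟨⟨⊤, isAffineOpen_top P.total⟩, trivial, ?_⟩)
      rw [Scheme.IdealSheafData.ofIdealTop_ideal]
      exact Ideal.FG.map (Submodule.fg_span (Set.toFinite ({x, y} : Set Γ(P.total, ⊤)))) _
    · exact Groth.Agent.Lib.BlowUp.isIso_morphismRestrict_of_isBlowUp 𝓘 b hb (interior P.mod)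
        hsupp
  obtain ⟨h, hh⟩ := hB Q P q hadm (𝟙 P)
  let h' : P.total ⟶ Y := h.hom
  have hh' : h' ≫ b = 𝟙 P.total := congrArg ModPair.Pair.Hom.hom hh
  obtain ⟨V, hV, d, hd, hIV⟩ := hb.1 (h' (closedPt P.total))
  have htop : h' ⁻¹ᵁ V.1 = ⊤ := eq_top_of_closedPt_mem P.total _ hV
  have e : (⊤ : P.total.Opens) ≤ h' ⁻¹ᵁ V.1 := le_of_eq htop.symm
  have h1 : ((𝓘.comap b).comap h').ideal ⟨⊤, isAffineOpen_top P.total⟩ =
      Ideal.span {(h'.appLE V.1 ⊤ e).hom d} := by
    rw [Groth.Agent.Lib.Helper20.ideal_comap h' (𝓘.comap b) ⟨⊤, isAffineOpen_top P.total⟩ V e,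
      hIV, Ideal.map_span, Set.image_singleton]
  have h2 : (𝓘.comap b).comap h' = 𝓘 := by
    rw [← Scheme.IdealSheafData.comap_comp, hh', Scheme.IdealSheafData.comap_id]
  have h3 : 𝓘.ideal ⟨⊤, isAffineOpen_top P.total⟩ = Ideal.span {x, y} := by
    rw [Scheme.IdealSheafData.ofIdealTop_ideal]
    have : (homOfLE (le_top : (⊤ : P.total.Opens) ≤ ⊤)).op = 𝟙 _ := Subsingleton.elim _ _
    rw [this, CategoryTheory.Functor.map_id]
    exact Ideal.map_id _
  rw [h2, h3] at h1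
  exact dvd_or_dvd_of_span_pair_eq x y _ (mem_nonZeroDivisors_of_interior_le P y hy) h1

theorem exists_pow_mul_eq_res {X : Scheme.{u}} [IsAffine X] (f : Γ(X, ⊤)) (O : X.Opens)
    (hO : O = X.basicOpen f) (a : Γ(X, O)) :
    ∃ (n : ℕ) (c : Γ(X, ⊤)),
      ((X.presheaf.map (homOfLE (le_top : O ≤ ⊤)).op).hom f) ^ n * a =
        (X.presheaf.map (homOfLE (le_top : O ≤ ⊤)).op).hom c := by
  subst hO
  obtain ⟨n, c, h⟩ := exists_eq_pow_mul_of_isAffineOpen X ⊤ (isAffineOpen_top X) f a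
  exact ⟨n, c, h.symm⟩

section forward

variable [IsAffine P.total] [IsLocalRing Γ(P.total, ⊤)]

/-- the restriction map to the interior -/
noncomputable abbrev ρ (P : ModPair.Pair.{u}) :
    Γ(P.total, ⊤) ⟶ Γ((interior P.mod : Scheme.{u}), ⊤) := (interior P.mod).ι.appTop

theorem isUnit_ρ_of_interior_le (s : Γ(P.total, ⊤)) (hs : interior P.mod ≤ P.total.basicOpen s) :
    IsUnit ((ρ P).hom s) := by
  apply isUnit_of_le_basicOpen
  show (⊤ : (interior P.mod : Scheme.{u}).Opens) ≤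
    (interior P.mod : Scheme.{u}).basicOpen (((interior P.mod).ι.app ⊤).hom s)
  rw [← Scheme.preimage_basicOpen]
  intro z _
  exact hs z.2

theorem ρ_injective : Function.Injective (ρ P).hom := by
  have haffι : IsAffineHom (interior P.mod).ι :=
    Groth.Agent.Lib.BlowUp.CartierCompl.isAffineHom_ι (interior P.mod) rfl P.isEffCartier
  have hker := Groth.Agent.Lib.BlowUp.CartierCompl.ker_ι (interior P.mod) rfl P.isEffCartier
  have h1 := Scheme.Hom.ker_apply (interior P.mod).ι ⟨⊤, isAffineOpen_top P.total⟩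
  rw [hker] at h1
  rw [RingHom.injective_iff_ker_eq_bot]
  exact h1.symm

theorem mem_range_or_isUnit (hB : BlLocal P) (f : Γ(P.total, ⊤))
    (hUf : interior P.mod = P.total.basicOpen f) (a : Γ((interior P.mod : Scheme.{u}), ⊤)) :
    a ∈ Set.range (ρ P).hom ∨ IsUnit a := by
  have hO : (interior P.mod).ι ''ᵁ ⊤ = P.total.basicOpen f := by
    rw [Scheme.Opens.ι_image_top]; exact hUf
  obtain ⟨n, c, hnc⟩ := exists_pow_mul_eq_res f _ hO a
  have hnc' : ((ρ P).hom f) ^ n * a = (ρ P).hom c := hnc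
  have hfu : IsUnit ((ρ P).hom f) := isUnit_ρ_of_interior_le f (le_of_eq hUf)
  have hle : interior P.mod ≤ P.total.basicOpen (f ^ n) := by
    intro z hz
    rw [hUf] at hz
    rw [P.total.mem_basicOpen (U := ⊤) _ z (Set.mem_univ z)] at hz ⊢
    rw [map_pow]
    exact hz.pow n
  rcases dvd_or_dvd_of_blLocal hB c (f ^ n) hle with ⟨r, hr⟩ | ⟨r, hr⟩
  · right
    have h1 : (ρ P).hom c * (ρ P).hom r = ((ρ P).hom f) ^ n := by
      rw [← map_mul, ← hr, map_pow]
    have h2 : IsUnit ((ρ P).hom c) := isUnit_of_mul_isUnit_left (h1 ▸ hfu.pow n)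
    rw [← hnc'] at h2
    exact isUnit_of_mul_isUnit_right h2
  · left
    refine ⟨r, ?_⟩
    have h1 : ((ρ P).hom f) ^ n * a = ((ρ P).hom f) ^ n * (ρ P).hom r := by
      rw [hnc', hr, map_mul, map_pow]
    exact ((hfu.pow n).mul_right_inj.mp h1).symm

theorem isAffine_interior (f : Γ(P.total, ⊤)) (hUf : interior P.mod = P.total.basicOpen f) :
    IsAffine (interior P.mod : Scheme.{u}) := by
  have : IsAffineOpen (interior P.mod) := by
    rw [hUf]; exact (isAffineOpen_top P.total).basicOpen f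
  exact this

theorem isLocalRing_interior (hB : BlLocal P) (f : Γ(P.total, ⊤))
    (hUf : interior P.mod = P.total.basicOpen f) :
    IsLocalRing Γ((interior P.mod : Scheme.{u}), ⊤) := by
  obtain ⟨u, hu, -⟩ := Groth.Agent.S19330.exists_specializes_of_isEffCartierIdeal P.mod
    P.isEffCartier (closedPt P.total)
  have : Nonempty (⊤ : (interior P.mod : Scheme.{u}).Opens) := ⟨⟨⟨u, hu⟩, trivial⟩⟩
  have : Nontrivial Γ((interior P.mod : Scheme.{u}), ⊤) :=
    Scheme.component_nontrivial (interior P.mod : Scheme.{u}) ⊤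
  refine IsLocalRing.of_isUnit_or_isUnit_one_sub_self (fun a => ?_)
  rcases mem_range_or_isUnit hB f hUf a with ⟨r, rfl⟩ | ha
  · rcases IsLocalRing.isUnit_or_isUnit_one_sub_self r with hr | hr
    · exact Or.inl (hr.map (ρ P).hom)
    · right
      have := hr.map (ρ P).hom
      rwa [map_sub, map_one] at this
  · exact Or.inl ha

end forward

section closedPoint

variable [IsAffine P.total] [IsLocalRing Γ(P.total, ⊤)]
  [IsAffine (interior P.mod : Scheme.{u})] [IsLocalRing Γ((interior P.mod : Scheme.{u}), ⊤)]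

theorem interior_le_basicOpen_of_notMem (p : (interior P.mod : Scheme.{u}))
    (hp : IsClosed ({p} : Set (interior P.mod : Scheme.{u}))) (s : Γ(P.total, ⊤))
    (hs : s ∉ (P.total.toSpecΓ.base ((interior P.mod).ι.base p)).asIdeal) :
    interior P.mod ≤ P.total.basicOpen s := by
  have hp' := eq_closedPt_of_isClosed _ p hp
  have h1 : (interior P.mod).ι p ∈ P.total.basicOpen s := by
    rw [← Scheme.toSpecΓ_preimage_basicOpen]
    exact hs
  intro z hz
  have h2 := specializes_closedPt (interior P.mod : Scheme.{u}) ⟨z, hz⟩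
  rw [← hp'] at h2
  have h3 := h2.map (interior P.mod).ι.continuous
  exact h3.mem_open (P.total.basicOpen s).isOpen h1

theorem valuationRing_quotient (hB : BlLocal P) (p : (interior P.mod : Scheme.{u}))
    (hp : IsClosed ({p} : Set (interior P.mod : Scheme.{u}))) :
    ValuationRing (Γ(P.total, ⊤) ⧸ (P.total.toSpecΓ.base ((interior P.mod).ι.base p)).asIdeal) := by
  have hpre : PreValuationRing
      (Γ(P.total, ⊤) ⧸ (P.total.toSpecΓ.base ((interior P.mod).ι.base p)).asIdeal) := by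
    refine ⟨fun a b => ?_⟩
    obtain ⟨x, rfl⟩ := Ideal.Quotient.mk_surjective a
    obtain ⟨y, rfl⟩ := Ideal.Quotient.mk_surjective b
    by_cases hy : y ∈ (P.total.toSpecΓ.base ((interior P.mod).ι.base p)).asIdeal
    · refine ⟨0, Or.inl ?_⟩
      rw [mul_zero, eq_comm, Ideal.Quotient.eq_zero_iff_mem]
      exact hy
    · rcases dvd_or_dvd_of_blLocal hB x y (interior_le_basicOpen_of_notMem p hp y hy) with
        ⟨c, hc⟩ | ⟨c, hc⟩
      · exact ⟨Ideal.Quotient.mk _ c, Or.inl (by rw [← map_mul, ← hc])⟩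
      · exact ⟨Ideal.Quotient.mk _ c, Or.inr (by rw [← map_mul, ← hc])⟩
  exact {}

theorem bijOn_localization (hB : BlLocal P) (p : (interior P.mod : Scheme.{u}))
    (hp : IsClosed ({p} : Set (interior P.mod : Scheme.{u}))) :
    Set.BijOn (algebraMap Γ(P.total, ⊤) (Localization.AtPrime
        (P.total.toSpecΓ.base ((interior P.mod).ι.base p)).asIdeal))
      ((P.total.toSpecΓ.base ((interior P.mod).ι.base p)).asIdeal : Set Γ(P.total, ⊤))
      (IsLocalRing.maximalIdeal (Localization.AtPrime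
        (P.total.toSpecΓ.base ((interior P.mod).ι.base p)).asIdeal) :
        Set (Localization.AtPrime
          (P.total.toSpecΓ.base ((interior P.mod).ι.base p)).asIdeal)) := by
  set 𝔮 := (P.total.toSpecΓ.base ((interior P.mod).ι.base p)).asIdeal with h𝔮
  refine ⟨?_, ?_, ?_⟩
  · intro a ha
    exact (IsLocalization.AtPrime.to_map_mem_maximal_iff _ 𝔮 a).mpr ha
  · intro a ha a' ha' haa'
    obtain ⟨s, hs⟩ := (IsLocalization.eq_iff_exists 𝔮.primeCompl _).mp haa'
    have hsnzd := mem_nonZeroDivisors_of_interior_le P s.1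
      (interior_le_basicOpen_of_notMem p hp s.1 s.2)
    have h1 : (a - a') * s.1 = 0 := by rw [sub_mul, mul_comm a, mul_comm a', hs, sub_self]
    exact sub_eq_zero.mp ((mem_nonZeroDivisors_iff_right.mp hsnzd) _ h1)
  · intro m hm
    obtain ⟨a, s, rfl⟩ := IsLocalization.exists_mk'_eq 𝔮.primeCompl m
    have ha : a ∈ 𝔮 := (IsLocalization.AtPrime.mk'_mem_maximal_iff _ 𝔮 a s).mp hm
    rcases dvd_or_dvd_of_blLocal hB a s.1 (interior_le_basicOpen_of_notMem p hp s.1 s.2) with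
      ⟨c, hc⟩ | ⟨c, hc⟩
    · exact absurd (hc ▸ 𝔮.mul_mem_right c ha) s.2
    · have hc𝔮 : c ∈ 𝔮 := by
        have h𝔮p : 𝔮.IsPrime := (P.total.toSpecΓ.base ((interior P.mod).ι.base p)).isPrime
        rcases h𝔮p.mem_or_mem (hc ▸ ha : s.1 * c ∈ 𝔮) with h | h
        · exact absurd h s.2
        · exact h
      refine ⟨c, hc𝔮, ?_⟩
      rw [IsLocalization.eq_mk'_iff_mul_eq, ← map_mul, hc, mul_comm]

end closedPoint

/-- algebra behind the gluing: an element of `A°` whose residue lies in `A/𝔮` comes from `A`. -/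
theorem mem_range_of_residue_mem {A A' K : Type u} [CommRing A] [CommRing A'] [Field K]
    (𝔮 : Ideal A) [𝔮.IsPrime] (ρ : A →+* A') (θ : A' →+* K) (incl : A ⧸ 𝔮 →+* K)
    (hincl : Function.Injective incl) (hθρ : θ.comp ρ = incl.comp (Ideal.Quotient.mk 𝔮))
    (f : A) (hfu : IsUnit (ρ f)) (hL : ∀ a : A', ∃ (n : ℕ) (c : A), ρ f ^ n * a = ρ c)
    (hunit : ∀ s : A, s ∉ 𝔮 → IsUnit (ρ s))
    (hsurj : Set.SurjOn (algebraMap A (Localization.AtPrime 𝔮)) (𝔮 : Set A)
      (IsLocalRing.maximalIdeal (Localization.AtPrime 𝔮) : Set (Localization.AtPrime 𝔮)))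
    (u : A') (hu : θ u ∈ Set.range incl) : u ∈ Set.range ρ := by
  have hf𝔮 : f ∉ 𝔮 := by
    intro hf
    have h1 : θ (ρ f) = 0 := by
      have := congrArg (fun k => k f) hθρ
      simp only [RingHom.comp_apply] at this
      rw [this, Ideal.Quotient.eq_zero_iff_mem.mpr hf, map_zero]
    exact (hfu.map θ).ne_zero h1
  -- kernel of θ lies in ρ(𝔮)
  have hker : ∀ m : A', θ m = 0 → m ∈ Set.range ρ := by
    intro m hm
    obtain ⟨n, a, hna⟩ := hL m
    have ha : a ∈ 𝔮 := by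
      have h1 : θ (ρ a) = 0 := by rw [← hna, map_mul, hm, mul_zero]
      have h2 := congrArg (fun k => k a) hθρ
      simp only [RingHom.comp_apply] at h2
      rw [h2] at h1
      have h3 : (Ideal.Quotient.mk 𝔮) a = 0 := hincl (by rw [h1, map_zero])
      exact Ideal.Quotient.eq_zero_iff_mem.mp h3
    let s : 𝔮.primeCompl := ⟨f ^ n, fun h => hf𝔮 (Ideal.IsPrime.mem_of_pow_mem inferInstance n h)⟩
    have hmem : IsLocalization.mk' (Localization.AtPrime 𝔮) a s ∈
        IsLocalRing.maximalIdeal (Localization.AtPrime 𝔮) :=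
      (IsLocalization.AtPrime.mk'_mem_maximal_iff _ 𝔮 a s).mpr ha
    obtain ⟨a₀, -, ha₀⟩ := hsurj hmem
    rw [IsLocalization.eq_mk'_iff_mul_eq, ← map_mul] at ha₀
    obtain ⟨t, ht⟩ := (IsLocalization.eq_iff_exists 𝔮.primeCompl _).mp ha₀
    have htu : IsUnit (ρ t.1) := hunit t.1 t.2
    have h4 : ρ t.1 * (ρ a₀ * ρ f ^ n) = ρ t.1 * (ρ f ^ n * m) := by
      rw [hna, ← map_pow, ← map_mul, ← map_mul, ← map_mul]
      exact congrArg ρ ht
    have h5 := htu.mul_right_inj.mp h4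
    rw [mul_comm (ρ a₀)] at h5
    exact ⟨a₀, (hfu.pow n).mul_right_inj.mp h5⟩
  obtain ⟨cbar, hc⟩ := hu
  obtain ⟨c, rfl⟩ := Ideal.Quotient.mk_surjective cbar
  have h6 : θ (u - ρ c) = 0 := by
    have := congrArg (fun k => k c) hθρ
    simp only [RingHom.comp_apply] at this
    rw [map_sub, this, hc, sub_self]
  obtain ⟨a₁, ha₁⟩ := hker _ h6
  exact ⟨a₁ + c, by rw [map_add, ha₁, sub_add_cancel]⟩

theorem zarLocal_of_isLocalRing [IsAffine P.total] [IsLocalRing Γ(P.total, ⊤)] : ZarLocal P := by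
  intro X ι U v hv hsurj g
  obtain ⟨i, y, hy⟩ := hsurj (g.hom (closedPt P.total))
  obtain ⟨hmin, hopen, -⟩ := hv i
  have hrange : Set.range g.hom ⊆ Set.range (v i).hom := by
    rintro _ ⟨z, rfl⟩
    have h3 := (specializes_closedPt P.total z).map g.hom.continuous
    exact h3.mem_open (v i).hom.isOpenEmbedding.isOpen_range ⟨y, hy⟩
  let h₀ := IsOpenImmersion.lift (v i).hom g.hom hrange
  have hfac : h₀ ≫ (v i).hom = g.hom := IsOpenImmersion.lift_fac _ _ _
  refine ⟨i, ⟨h₀, ?_⟩, ModPair.Pair.Hom.ext hfac⟩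
  show P.mod ≤ (U i).mod.comap h₀
  have hmin' : (U i).mod = X.mod.comap (v i).hom := hmin
  rw [hmin', ← Scheme.IdealSheafData.comap_comp, hfac]
  exact g.cond

theorem appLE_congr_hom {X Y : Scheme.{u}} {f g : X ⟶ Y} (h : f = g) (U : Y.Opens) (V : X.Opens)
    (e : V ≤ f ⁻¹ᵁ U) : f.appLE U V e = g.appLE U V (h ▸ e) := by
  subst h; rfl

theorem appLE_top_top {X Y : Scheme.{u}} (f : X ⟶ Y) (e : (⊤ : X.Opens) ≤ f ⁻¹ᵁ ⊤) :
    f.appLE ⊤ ⊤ e = f.appTop := by
  simp [Scheme.Hom.appLE, Scheme.Hom.appTop]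

section glue

variable [IsAffine P.total] [IsLocalRing Γ(P.total, ⊤)]
  [IsAffine (interior P.mod : Scheme.{u})] [IsLocalRing Γ((interior P.mod : Scheme.{u}), ⊤)]

/-- the prime ideal of a point of the interior -/
noncomputable def qI (P : ModPair.Pair.{u}) (p : (interior P.mod : Scheme.{u})) :
    Ideal Γ(P.total, ⊤) := (P.total.toSpecΓ.base ((interior P.mod).ι.base p)).asIdeal

instance (p : (interior P.mod : Scheme.{u})) : (qI P p).IsPrime :=
  (P.total.toSpecΓ.base ((interior P.mod).ι.base p)).isPrime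

/-- the map `A → A/𝔮 → Frac (A/𝔮)` -/
noncomputable def φK (P : ModPair.Pair.{u}) (p : (interior P.mod : Scheme.{u})) :
    Γ(P.total, ⊤) ⟶ CommRingCat.of (FractionRing (Γ(P.total, ⊤) ⧸ qI P p)) :=
  CommRingCat.ofHom ((algebraMap (Γ(P.total, ⊤) ⧸ qI P p)
    (FractionRing (Γ(P.total, ⊤) ⧸ qI P p))).comp (Ideal.Quotient.mk (qI P p)))

theorem ker_φK (p : (interior P.mod : Scheme.{u})) : RingHom.ker (φK P p).hom = qI P p := by
  ext a
  rw [RingHom.mem_ker]
  show (algebraMap (Γ(P.total, ⊤) ⧸ qI P p) (FractionRing (Γ(P.total, ⊤) ⧸ qI P p)))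
    ((Ideal.Quotient.mk (qI P p)) a) = 0 ↔ _
  rw [map_eq_zero_iff _ (IsFractionRing.injective _ _), Ideal.Quotient.eq_zero_iff_mem]

/-- the point of the fraction field maps to `p` -/
theorem SpecMap_φK_isoSpec_inv_apply (p : (interior P.mod : Scheme.{u}))
    (w : Spec (CommRingCat.of (FractionRing (Γ(P.total, ⊤) ⧸ qI P p)))) :
    (Spec.map (φK P p) ≫ P.total.isoSpec.inv) w = (interior P.mod).ι p := by
  have h1 : Spec.map (φK P p) w = P.total.isoSpec.hom ((interior P.mod).ι p) := by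
    apply PrimeSpectrum.ext
    show Ideal.comap (φK P p).hom w.asIdeal = qI P p
    have hw : w.asIdeal = ⊥ := by
      have := w.isPrime
      exact (Ideal.eq_bot_or_top w.asIdeal).resolve_right this.ne_top
    rw [hw, ← RingHom.ker_eq_comap_bot, ker_φK]
  rw [Scheme.Hom.comp_apply, h1, ← Scheme.Hom.comp_apply, Iso.hom_inv_id]
  rfl

theorem exists_glue (p : (interior P.mod : Scheme.{u}))
    (hp : IsClosed ({p} : Set (interior P.mod : Scheme.{u})))
    [hval : ValuationRing (Γ(P.total, ⊤) ⧸ qI P p)]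
    (hsurj : Set.SurjOn (algebraMap Γ(P.total, ⊤) (Localization.AtPrime (qI P p)))
      (qI P p : Set Γ(P.total, ⊤))
      (IsLocalRing.maximalIdeal (Localization.AtPrime (qI P p)) :
        Set (Localization.AtPrime (qI P p))))
    {T : Scheme.{u}} (σ₀ : (interior P.mod : Scheme.{u}) ⟶ T)
    (ℓ : Spec (CommRingCat.of (Γ(P.total, ⊤) ⧸ qI P p)) ⟶ T)
    (j₁ : Spec (CommRingCat.of (FractionRing (Γ(P.total, ⊤) ⧸ qI P p))) ⟶
      (interior P.mod : Scheme.{u}))
    (hj₁ : j₁ ≫ (interior P.mod).ι = Spec.map (φK P p) ≫ P.total.isoSpec.inv)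
    (hcompat : Spec.map (CommRingCat.ofHom (algebraMap (Γ(P.total, ⊤) ⧸ qI P p)
      (FractionRing (Γ(P.total, ⊤) ⧸ qI P p)))) ≫ ℓ = j₁ ≫ σ₀) :
    ∃ σ : P.total ⟶ T, (interior P.mod).ι ≫ σ = σ₀ := by
  have hp' := eq_closedPt_of_isClosed _ p hp
  -- an affine neighbourhood of the image of the closed point of `Spec (A/𝔮)`
  let c₀ : Spec (CommRingCat.of (Γ(P.total, ⊤) ⧸ qI P p)) :=
    IsLocalRing.closedPoint (Γ(P.total, ⊤) ⧸ qI P p)
  obtain ⟨_, ⟨V, hV, rfl⟩, hc₀V, -⟩ :=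
    (Scheme.isBasis_affineOpens T).exists_subset_of_mem_open (Set.mem_univ (ℓ c₀)) isOpen_univ
  have hℓtop : ℓ ⁻¹ᵁ V = ⊤ := (IsLocalRing.closedPoint_mem_iff (ℓ ⁻¹ᵁ V)).mp hc₀V
  let w : Spec (CommRingCat.of (FractionRing (Γ(P.total, ⊤) ⧸ qI P p))) :=
    (⟨⊥, Ideal.isPrime_bot⟩ : PrimeSpectrum (FractionRing (Γ(P.total, ⊤) ⧸ qI P p)))
  have hj₁w : j₁ w = p := by
    apply (interior P.mod).ι.isOpenEmbedding.injective
    rw [← Scheme.Hom.comp_apply, hj₁]
    exact SpecMap_φK_isoSpec_inv_apply p w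
  have hσp : σ₀ p ∈ V := by
    have h1 : (Spec.map (CommRingCat.ofHom (algebraMap (Γ(P.total, ⊤) ⧸ qI P p)
        (FractionRing (Γ(P.total, ⊤) ⧸ qI P p)))) ≫ ℓ) w ∈ V := by
      rw [Scheme.Hom.comp_apply]
      have : (Spec.map (CommRingCat.ofHom (algebraMap (Γ(P.total, ⊤) ⧸ qI P p)
        (FractionRing (Γ(P.total, ⊤) ⧸ qI P p))))) w ∈ ℓ ⁻¹ᵁ V := by rw [hℓtop]; trivial
      exact this
    rw [hcompat, Scheme.Hom.comp_apply, hj₁w] at h1
    exact h1
  have hσtop : σ₀ ⁻¹ᵁ V = ⊤ :=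
    eq_top_of_closedPt_mem (interior P.mod : Scheme.{u}) _ (hp' ▸ hσp)
  have eσ : (⊤ : (interior P.mod : Scheme.{u}).Opens) ≤ σ₀ ⁻¹ᵁ V := le_of_eq hσtop.symm
  have eℓ : (⊤ : (Spec (CommRingCat.of (Γ(P.total, ⊤) ⧸ qI P p))).Opens) ≤ ℓ ⁻¹ᵁ V :=
    le_of_eq hℓtop.symm
  let ψ : Γ(T, V) ⟶ Γ((interior P.mod : Scheme.{u}), ⊤) := σ₀.appLE V ⊤ eσ
  let lam : Γ(T, V) ⟶ CommRingCat.of (Γ(P.total, ⊤) ⧸ qI P p) :=
    ℓ.appLE V ⊤ eℓ ≫ (Scheme.ΓSpecIso _).hom
  let θ : Γ((interior P.mod : Scheme.{u}), ⊤) ⟶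
      CommRingCat.of (FractionRing (Γ(P.total, ⊤) ⧸ qI P p)) :=
    j₁.appTop ≫ (Scheme.ΓSpecIso _).hom
  -- compatibility on rings
  have hθρ : ρ P ≫ θ = φK P p := by
    have h1 : j₁ ≫ (interior P.mod).ι ≫ P.total.toSpecΓ = Spec.map (φK P p) := by
      rw [← Category.assoc, hj₁, Category.assoc, ← Scheme.isoSpec_hom, Iso.inv_hom_id,
        Category.comp_id]
    have h2 := congrArg Scheme.Hom.appTop h1
    rw [Scheme.Hom.comp_appTop, Scheme.Hom.comp_appTop, Scheme.toSpecΓ_appTop] at h2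
    have h3 : (Scheme.ΓSpecIso Γ(P.total, ⊤)).hom ≫ (ρ P ≫ θ) =
        (Scheme.ΓSpecIso Γ(P.total, ⊤)).hom ≫ φK P p := by
      calc (Scheme.ΓSpecIso Γ(P.total, ⊤)).hom ≫ (ρ P ≫ θ)
          = (((Scheme.ΓSpecIso Γ(P.total, ⊤)).hom ≫ (interior P.mod).ι.appTop) ≫ j₁.appTop) ≫
              (Scheme.ΓSpecIso _).hom := by simp only [Category.assoc, θ]
        _ = (Spec.map (φK P p)).appTop ≫ (Scheme.ΓSpecIso _).hom := by rw [h2]
        _ = (Scheme.ΓSpecIso Γ(P.total, ⊤)).hom ≫ φK P p := Scheme.ΓSpecIso_naturality _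
    exact (cancel_epi _).mp h3
  have hψθ : ψ ≫ θ = lam ≫ CommRingCat.ofHom (algebraMap (Γ(P.total, ⊤) ⧸ qI P p)
      (FractionRing (Γ(P.total, ⊤) ⧸ qI P p))) := by
    have e₁ : (⊤ : (Spec (CommRingCat.of (FractionRing (Γ(P.total, ⊤) ⧸ qI P p)))).Opens) ≤
        (Spec.map (CommRingCat.ofHom (algebraMap (Γ(P.total, ⊤) ⧸ qI P p)
          (FractionRing (Γ(P.total, ⊤) ⧸ qI P p)))) ≫ ℓ) ⁻¹ᵁ V := by
      rw [Scheme.Hom.comp_preimage, hℓtop]; exact le_rfl
    have h1 := appLE_congr_hom hcompat V ⊤ e₁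
    rw [← Scheme.Hom.appLE_comp_appLE _ _ V ⊤ ⊤ eℓ le_top,
      ← Scheme.Hom.appLE_comp_appLE _ _ V ⊤ ⊤ eσ le_top, appLE_top_top, appLE_top_top] at h1
    calc ψ ≫ θ = (σ₀.appLE V ⊤ eσ ≫ j₁.appTop) ≫ (Scheme.ΓSpecIso _).hom := by
          simp only [Category.assoc, ψ, θ]
      _ = (ℓ.appLE V ⊤ eℓ ≫ (Spec.map (CommRingCat.ofHom (algebraMap (Γ(P.total, ⊤) ⧸ qI P p)
          (FractionRing (Γ(P.total, ⊤) ⧸ qI P p))))).appTop) ≫ (Scheme.ΓSpecIso _).hom := by
          rw [h1]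
      _ = _ := by
          rw [Category.assoc, Scheme.ΓSpecIso_naturality]
          simp only [Category.assoc, lam]
  -- every `ψ b` comes from `A`
  obtain ⟨f, -, -, hUf⟩ := exists_generator P
  have hO : (interior P.mod).ι ''ᵁ ⊤ = P.total.basicOpen f := by
    rw [Scheme.Opens.ι_image_top]; exact hUf
  have hrange : ∀ b : Γ(T, V), ψ.hom b ∈ (ρ P).hom.range := by
    intro b
    refine mem_range_of_residue_mem (qI P p) (ρ P).hom θ.hom
      (algebraMap (Γ(P.total, ⊤) ⧸ qI P p) (FractionRing (Γ(P.total, ⊤) ⧸ qI P p)))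
      (IsFractionRing.injective _ _) ?_ f (isUnit_ρ_of_interior_le f (le_of_eq hUf))
      (fun a => exists_pow_mul_eq_res f _ hO a)
      (fun s hs => isUnit_ρ_of_interior_le s (interior_le_basicOpen_of_notMem p hp s hs))
      hsurj (ψ.hom b) ⟨lam.hom b, ?_⟩
    · have := congrArg CommRingCat.Hom.hom hθρ
      exact this
    · have := congrArg (fun k => k.hom b) hψθ
      exact this.symm
  let e : Γ(P.total, ⊤) ≃+* (ρ P).hom.range :=
    RingEquiv.ofBijective (ρ P).hom.rangeRestrict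
      ⟨fun a b h => ρ_injective (congrArg Subtype.val h), (ρ P).hom.rangeRestrict_surjective⟩
  let ψ' : Γ(T, V) ⟶ Γ(P.total, ⊤) :=
    CommRingCat.ofHom ((e.symm : (ρ P).hom.range →+* Γ(P.total, ⊤)).comp
      (ψ.hom.codRestrict (ρ P).hom.range hrange))
  have hψ' : ψ' ≫ ρ P = ψ := by
    ext b
    show (ρ P).hom (e.symm ⟨ψ.hom b, hrange b⟩) = ψ.hom b
    have h1 : e (e.symm ⟨ψ.hom b, hrange b⟩) = ⟨ψ.hom b, hrange b⟩ := e.apply_symm_apply _
    exact congrArg Subtype.val h1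
  have hV' : IsAffineOpen V := hV
  refine ⟨P.total.isoSpec.hom ≫ Spec.map ψ' ≫ hV'.fromSpec, ?_⟩
  have h2 : Spec.map ψ ≫ hV'.fromSpec =
      (interior P.mod : Scheme.{u}).isoSpec.inv ≫ σ₀ := by
    have := IsAffineOpen.SpecMap_appLE_fromSpec σ₀ hV'
      (isAffineOpen_top (interior P.mod : Scheme.{u})) eσ
    rw [IsAffineOpen.fromSpec_top] at this
    exact this
  have h3 : (interior P.mod).ι ≫ P.total.isoSpec.hom =
      (interior P.mod : Scheme.{u}).isoSpec.hom ≫ Spec.map (ρ P) :=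
    (Scheme.isoSpec_hom_naturality (interior P.mod).ι).symm
  rw [← Category.assoc, h3, Category.assoc, ← Spec.map_comp_assoc,
    hψ', h2, Iso.hom_inv_id_assoc]

theorem isClosed_singleton_closedPt (X : Scheme.{u}) [IsAffine X] [IsLocalRing Γ(X, ⊤)] :
    IsClosed ({closedPt X} : Set X) := by
  have h1 : IsClosed ({IsLocalRing.closedPoint Γ(X, ⊤)} : Set (PrimeSpectrum Γ(X, ⊤))) :=
    IsLocalRing.isClosed_singleton_closedPoint _
  have h2 := X.isoSpec.inv.isClosedEmbedding.isClosedMap _ h1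
  have h3 : ({closedPt X} : Set X) =
      X.isoSpec.inv '' ({IsLocalRing.closedPoint Γ(X, ⊤)} : Set (PrimeSpectrum Γ(X, ⊤))) :=
    (Set.image_singleton).symm
  rw [h3]
  exact h2

theorem blLocal_of_conditions
    (h : ∀ p : (interior P.mod : Scheme.{u}),
      IsClosed ({p} : Set (interior P.mod : Scheme.{u})) →
      ValuationRing (Γ(P.total, ⊤) ⧸ qI P p) ∧
      Set.BijOn (algebraMap Γ(P.total, ⊤) (Localization.AtPrime (qI P p)))
        (qI P p : Set Γ(P.total, ⊤))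
        (IsLocalRing.maximalIdeal (Localization.AtPrime (qI P p)) :
          Set (Localization.AtPrime (qI P p)))) :
    BlLocal P := by
  intro Q X q hq g
  obtain ⟨hmin, hproper, hiso⟩ := hq
  have hmin' : Q.mod = X.mod.comap q.hom := hmin
  let p : (interior P.mod : Scheme.{u}) := closedPt (interior P.mod : Scheme.{u})
  have hp : IsClosed ({p} : Set (interior P.mod : Scheme.{u})) := isClosed_singleton_closedPt _
  obtain ⟨hval, hbij⟩ := h p hp
  -- the map on interiors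
  have hgint : interior P.mod ≤ g.hom ⁻¹ᵁ interior X.mod := interior_le_of_isAmbient g.cond
  let g₀ : (interior P.mod : Scheme.{u}) ⟶ (interior X.mod : Scheme.{u}) :=
    IsOpenImmersion.lift (interior X.mod).ι ((interior P.mod).ι ≫ g.hom) (by
      rw [Scheme.Opens.range_ι]
      rintro _ ⟨z, rfl⟩
      exact hgint z.2)
  have hg₀ : g₀ ≫ (interior X.mod).ι = (interior P.mod).ι ≫ g.hom :=
    IsOpenImmersion.lift_fac _ _ _
  -- the section over the interior
  let s₀ : (interior P.mod : Scheme.{u}) ⟶ Q.total :=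
    g₀ ≫ inv (q.hom ∣_ interior X.mod) ≫ (q.hom ⁻¹ᵁ interior X.mod).ι
  have hs₀ : s₀ ≫ q.hom = (interior P.mod).ι ≫ g.hom := by
    simp only [s₀, Category.assoc]
    rw [← morphismRestrict_ι, IsIso.inv_hom_id_assoc, hg₀]
  let σ₀ : (interior P.mod : Scheme.{u}) ⟶ pullback q.hom g.hom :=
    pullback.lift s₀ (interior P.mod).ι hs₀
  have hσ₀snd : σ₀ ≫ pullback.snd q.hom g.hom = (interior P.mod).ι := pullback.lift_snd _ _ _
  -- the generic point of the closure of `p`
  let j₁ : Spec (CommRingCat.of (FractionRing (Γ(P.total, ⊤) ⧸ qI P p))) ⟶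
      (interior P.mod : Scheme.{u}) :=
    IsOpenImmersion.lift (interior P.mod).ι (Spec.map (φK P p) ≫ P.total.isoSpec.inv) (by
      rintro _ ⟨w, rfl⟩
      exact ⟨p, (SpecMap_φK_isoSpec_inv_apply p w).symm⟩)
  have hj₁ : j₁ ≫ (interior P.mod).ι = Spec.map (φK P p) ≫ P.total.isoSpec.inv :=
    IsOpenImmersion.lift_fac _ _ _
  let i₂ : Spec (CommRingCat.of (Γ(P.total, ⊤) ⧸ qI P p)) ⟶ P.total :=
    Spec.map (CommRingCat.ofHom (Ideal.Quotient.mk (qI P p))) ≫ P.total.isoSpec.inv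
  haveI : IsProper q.hom := hproper
  have hE : ValuativeCriterion.Existence (pullback.snd q.hom g.hom) := by
    have h1 : UniversallyClosed (pullback.snd q.hom g.hom) := inferInstance
    rw [UniversallyClosed.eq_valuativeCriterion] at h1
    exact h1.1
  have hφK : φK P p = CommRingCat.ofHom (Ideal.Quotient.mk (qI P p)) ≫
      CommRingCat.ofHom (algebraMap (Γ(P.total, ⊤) ⧸ qI P p)
        (FractionRing (Γ(P.total, ⊤) ⧸ qI P p))) := rfl
  let S : ValuativeCommSq (pullback.snd q.hom g.hom) :=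
    { R := Γ(P.total, ⊤) ⧸ qI P p
      K := FractionRing (Γ(P.total, ⊤) ⧸ qI P p)
      i₁ := j₁ ≫ σ₀
      i₂ := i₂
      commSq := ⟨by
        rw [Category.assoc, hσ₀snd, hj₁, hφK, Spec.map_comp, Category.assoc]⟩ }
  obtain ⟨⟨ℓ, hℓ₁, hℓ₂⟩⟩ := (hE S).exists_lift
  obtain ⟨σ', hσ'⟩ := exists_glue p hp hbij.surjOn σ₀ ℓ j₁ hj₁ hℓ₁
  have hsec : σ' ≫ pullback.snd q.hom g.hom = 𝟙 P.total := by
    refine Groth.Agent.Lib.Helper56.ModPairFrac.ext_of_ker_eq_bot_of_isSeparated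
      (terminal.from P.total) (terminal.hom_ext _ _) (interior P.mod).ι
      (Groth.Agent.Lib.BlowUp.CartierCompl.ker_ι (interior P.mod) rfl P.isEffCartier) ?_
    rw [← Category.assoc, hσ', hσ₀snd, Category.comp_id]
  have hcomm : (σ' ≫ pullback.fst q.hom g.hom) ≫ q.hom = g.hom := by
    rw [Category.assoc, pullback.condition, ← Category.assoc, hsec, Category.id_comp]
  refine ⟨⟨σ' ≫ pullback.fst q.hom g.hom, ?_⟩, ?_⟩
  · show P.mod ≤ Q.mod.comap (σ' ≫ pullback.fst q.hom g.hom)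
    rw [hmin', ← Scheme.IdealSheafData.comap_comp, hcomm]
    exact g.cond
  · exact ModPair.Pair.Hom.ext hcomm

end glue

end affineLocal

end Groth.Agent.Lib.Helper56.LocalPair
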