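import Groth.Agent.Lib.Helper56.LocalPairFin
import Groth.Agent.Lib.Helper37.HenselEtale

/-!
# Modulus pairs local for étale coverings (helper56)

ns `Groth.Agent.Lib.Helper56.LocalPairEt`.
-/

set_option autoImplicit false
universe u
open CategoryTheory CategoryTheory.Limits AlgebraicGeometry TopologicalSpace
open ModPair TensorProduct

namespace Groth.Agent.Lib.Helper56.LocalPairEt

open Groth.Agent.Lib.Helper56.LocalPair Groth.Agent.Lib.Helper56.LocalPairFin

section algebra

/-- over a strictly henselian local ring, an étale algebra with a prime over the maximal ideal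
has a retraction -/
theorem exists_algHom_of_etale_of_strictlyHenselian (A : Type u) [CommRing A]
    [HenselianLocalRing A] [IsSepClosed (IsLocalRing.ResidueField A)]
    (S : Type u) [CommRing S] [Algebra A S] [Algebra.Etale A S]
    (q : Ideal S) [q.IsPrime]
    (hq : IsLocalRing.maximalIdeal A ≤ q.comap (algebraMap A S)) :
    Nonempty (S →ₐ[A] A) := by
  have hnt : Nontrivial (IsLocalRing.ResidueField A ⊗[A] S) := by
    let f₁ : IsLocalRing.ResidueField A →ₐ[A] S ⧸ q :=
      Ideal.Quotient.liftₐ (IsLocalRing.maximalIdeal A) (Algebra.ofId A (S ⧸ q)) (fun a ha => by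
        show algebraMap A (S ⧸ q) a = 0
        rw [IsScalarTower.algebraMap_apply A S (S ⧸ q), Ideal.Quotient.algebraMap_eq,
          Ideal.Quotient.eq_zero_iff_mem]
        exact hq ha)
    let f₂ : S →ₐ[A] S ⧸ q := Ideal.Quotient.mkₐ A q
    let f : IsLocalRing.ResidueField A ⊗[A] S →ₐ[A] S ⧸ q :=
      Algebra.TensorProduct.productMap f₁ f₂
    exact f.toRingHom.domain_nontrivial
  obtain ⟨p⟩ : Nonempty (PrimeSpectrum (IsLocalRing.ResidueField A ⊗[A] S)) := inferInstance
  let χ : IsLocalRing.ResidueField A ⊗[A] S →ₐ[IsLocalRing.ResidueField A]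
      IsLocalRing.ResidueField A :=
    (Pi.evalAlgHom (IsLocalRing.ResidueField A) (fun _ => IsLocalRing.ResidueField A) p).comp
      (Algebra.FormallyEtale.equivPiOfIsSepClosed (IsLocalRing.ResidueField A)
        (IsLocalRing.ResidueField A ⊗[A] S)).toAlgHom
  let σ : S →ₐ[A] A ⧸ IsLocalRing.maximalIdeal A :=
    (χ.restrictScalars A).comp Algebra.TensorProduct.includeRight
  obtain ⟨τ, -⟩ := Groth.Agent.Lib.Helper37.exists_lift_of_etale (IsLocalRing.maximalIdeal A) σ
  exact ⟨τ⟩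

end algebra

variable (P : ModPair.Pair.{u})

/-- locality for étale coverings of modulus pairs -/
def EtLocal : Prop :=
  ∀ (X : ModPair.Pair.{u}) (ι : Type u) (U : ι → ModPair.Pair.{u}) (v : ∀ i, U i ⟶ X),
    (∀ i, ModPair.IsMinimal (U i).mod X.mod (v i).hom ∧ Etale (v i).hom ∧
      QuasiCompact (v i).hom ∧ QuasiSeparated (v i).hom) →
    (∀ x : X.total, ∃ (i : ι) (y : (U i).total), (v i).hom.base y = x) →
    ∀ g : P ⟶ X, ∃ (i : ι) (h : P ⟶ U i), h ≫ v i = g

variable {P}

theorem zarLocal_of_etLocal (hE : EtLocal P) : ZarLocal P := by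
  intro X ι U v hv hsurj g
  refine hE X ι U v (fun i => ?_) hsurj g
  obtain ⟨hmin, hopen, hqc⟩ := hv i
  haveI := hopen
  exact ⟨hmin, inferInstance, hqc, inferInstance⟩

/-- étale-local pairs: every étale algebra over `Γ(P̄)` with a prime over the maximal ideal has a
retraction -/
theorem exists_retraction_of_etLocal [IsAffine P.total] [IsLocalRing Γ(P.total, ⊤)]
    (hE : EtLocal P) (S : Type u) [CommRing S] [Algebra Γ(P.total, ⊤) S]
    [Algebra.Etale Γ(P.total, ⊤) S] (q : Ideal S) [q.IsPrime]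
    (hq : q.comap (algebraMap Γ(P.total, ⊤) S) = IsLocalRing.maximalIdeal Γ(P.total, ⊤)) :
    Nonempty (S →ₐ[Γ(P.total, ⊤)] Γ(P.total, ⊤)) := by
  let ψ : Γ(P.total, ⊤) ⟶ CommRingCat.of S := CommRingCat.ofHom (algebraMap Γ(P.total, ⊤) S)
  have hψet : Etale (Spec.map ψ) := by
    rw [HasRingHomProperty.Spec_iff (P := @Etale)]
    show RingHom.Etale (algebraMap Γ(P.total, ⊤) S)
    rw [RingHom.etale_algebraMap]
    infer_instance
  have hopen : IsOpen (Set.range (Spec.map ψ)) := (Spec.map ψ).isOpenMap.isOpen_range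
  have hc : IsLocalRing.closedPoint Γ(P.total, ⊤) ∈ Set.range (Spec.map ψ) := by
    refine ⟨(⟨q, inferInstance⟩ : PrimeSpectrum S), ?_⟩
    apply PrimeSpectrum.ext
    exact hq
  have hsurj : ∀ x : Spec Γ(P.total, ⊤), x ∈ Set.range (Spec.map ψ) := by
    intro x
    exact (IsLocalRing.specializes_closedPoint x).mem_open hopen hc
  obtain ⟨-, h, hw⟩ := hE (triv (Spec Γ(P.total, ⊤))) PUnit.{u + 1}
    (fun _ => triv (Spec (CommRingCat.of S)))
    (fun _ => trivMap (Spec.map ψ))
    (fun _ => ⟨(Scheme.IdealSheafData.comap_top _).symm, hψet,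
      (inferInstance : QuasiCompact (Spec.map ψ)), (inferInstance : QuasiSeparated (Spec.map ψ))⟩)
    (fun x => by
      obtain ⟨y, hy⟩ := hsurj x
      exact ⟨PUnit.unit, y, hy⟩)
    (toTriv P.total.isoSpec.hom)
  let h' : P.total ⟶ Spec (CommRingCat.of S) := h.hom
  have hw' : h' ≫ Spec.map ψ = P.total.isoSpec.hom := congrArg ModPair.Pair.Hom.hom hw
  let φ : CommRingCat.of S ⟶ Γ(P.total, ⊤) := Spec.preimage (P.total.isoSpec.inv ≫ h')
  have hφ : ψ ≫ φ = 𝟙 _ := by
    apply Spec.map_injective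
    rw [Spec.map_comp, Spec.map_preimage, Category.assoc, hw', Iso.inv_hom_id, Spec.map_id]
  refine ⟨{ toRingHom := φ.hom, commutes' := fun a => ?_ }⟩
  have := congrArg (fun k => k.hom a) hφ
  exact this

theorem etLocal_of_strictlyHenselian [IsAffine P.total] [HenselianLocalRing Γ(P.total, ⊤)]
    [IsSepClosed (IsLocalRing.ResidueField Γ(P.total, ⊤))] : EtLocal P := by
  intro X ι U v hv hsurj g
  obtain ⟨i, y, hy⟩ := hsurj (g.hom (closedPt P.total))
  obtain ⟨hmin, het, -, -⟩ := hv i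
  haveI := het
  obtain ⟨t, ht1, ht2⟩ := Scheme.Pullback.exists_preimage_pullback (f := (v i).hom)
    (g := g.hom) y (closedPt P.total) hy
  obtain ⟨_, ⟨W, hW, rfl⟩, htW, -⟩ :=
    (Scheme.isBasis_affineOpens (pullback (v i).hom g.hom)).exists_subset_of_mem_open
      (Set.mem_univ t) isOpen_univ
  have hW' : IsAffineOpen W := hW
  have e : W ≤ (pullback.snd (v i).hom g.hom) ⁻¹ᵁ ⊤ := le_top
  let φ₀ : Γ(P.total, ⊤) ⟶ Γ(pullback (v i).hom g.hom, W) :=
    (pullback.snd (v i).hom g.hom).appLE ⊤ W e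
  have hφ₀ : φ₀.hom.Etale :=
    Etale.etale_appLE (pullback.snd (v i).hom g.hom) (isAffineOpen_top _) hW' e
  letI : Algebra Γ(P.total, ⊤) Γ(pullback (v i).hom g.hom, W) := φ₀.hom.toAlgebra
  haveI : Algebra.Etale Γ(P.total, ⊤) Γ(pullback (v i).hom g.hom, W) := hφ₀
  have htW' : t ∈ W := htW
  have hq : IsLocalRing.maximalIdeal Γ(P.total, ⊤) ≤
      (hW'.primeIdealOf ⟨t, htW'⟩).asIdeal.comap
        (algebraMap Γ(P.total, ⊤) Γ(pullback (v i).hom g.hom, W)) := by
    have h1 := IsAffineOpen.comap_primeIdealOf_appLE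
      (f := pullback.snd (v i).hom g.hom) ⊤ (isAffineOpen_top _) W hW' e htW'
    have h2 : ((isAffineOpen_top P.total).primeIdealOf
        ⟨pullback.snd (v i).hom g.hom t, e htW'⟩).asIdeal.IsMaximal := by
      apply IsAffineOpen.primeIdealOf_isMaximal_of_isClosed
      show IsClosed ({pullback.snd (v i).hom g.hom t} : Set P.total)
      rw [ht2]
      exact isClosed_singleton_closedPt _
    have h3 := IsLocalRing.eq_maximalIdeal h2
    rw [← h3, ← h1]
    exact le_rfl
  obtain ⟨τ⟩ := exists_algHom_of_etale_of_strictlyHenselian Γ(P.total, ⊤)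
    Γ(pullback (v i).hom g.hom, W) (hW'.primeIdealOf ⟨t, htW'⟩).asIdeal hq
  let τ' : Γ(pullback (v i).hom g.hom, W) ⟶ Γ(P.total, ⊤) := CommRingCat.ofHom τ.toRingHom
  have hτ' : φ₀ ≫ τ' = 𝟙 _ := by
    ext a
    exact τ.commutes a
  let s : P.total ⟶ pullback (v i).hom g.hom :=
    P.total.isoSpec.hom ≫ Spec.map τ' ≫ hW'.fromSpec
  have hs : s ≫ pullback.snd (v i).hom g.hom = 𝟙 P.total := by
    have h1 := IsAffineOpen.SpecMap_appLE_fromSpec (pullback.snd (v i).hom g.hom)
      (isAffineOpen_top P.total) hW' e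
    rw [IsAffineOpen.fromSpec_top] at h1
    simp only [s, Category.assoc]
    rw [← h1, ← Spec.map_comp_assoc, hτ', Spec.map_id, Category.id_comp, Iso.hom_inv_id]
  have hfac : (s ≫ pullback.fst (v i).hom g.hom) ≫ (v i).hom = g.hom := by
    rw [Category.assoc, pullback.condition, ← Category.assoc, hs, Category.id_comp]
  refine ⟨i, ⟨s ≫ pullback.fst (v i).hom g.hom, ?_⟩, ModPair.Pair.Hom.ext hfac⟩
  show P.mod ≤ (U i).mod.comap (s ≫ pullback.fst (v i).hom g.hom)
  have hmin' : (U i).mod = X.mod.comap (v i).hom := hmin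
  rw [hmin', ← Scheme.IdealSheafData.comap_comp, hfac]
  exact g.cond

end Groth.Agent.Lib.Helper56.LocalPairEt
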