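import Groth.Agent.Lib.Helper56.LocalPairEt
import Groth.Agent.Lib.Helper37.HenselLocal
import Groth.Agent.Lib.Helper37.Hensel
import Groth.Agent.Lib.Helper9.HenselLift
import Groth.Prelude.Def_EtBase

/-!
# Modulus pairs local for étale coverings: the henselian algebra (helper56)

ns `Groth.Agent.Lib.Helper56.LocalPairEt2`.
-/

set_option autoImplicit false
universe u
open CategoryTheory CategoryTheory.Limits AlgebraicGeometry TopologicalSpace
open ModPair TensorProduct

namespace Groth.Agent.Lib.Helper56.LocalPairEt2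

open Groth.Agent.Lib.Helper56.LocalPair Groth.Agent.Lib.Helper56.LocalPairFin
  Groth.Agent.Lib.Helper56.LocalPairEt

section algebra

theorem henselianLocalRing_of_henselianRing (R : Type*) [CommRing R] [IsLocalRing R]
    (h : HenselianRing R (IsLocalRing.maximalIdeal R)) : HenselianLocalRing R where
  is_henselian f hf a₀ h₁ h₂ := h.is_henselian f hf a₀ h₁ (h₂.map (Ideal.Quotient.mk _))

theorem isSepClosed_of_ringEquiv {k k' : Type*} [Field k] [Field k'] (e : k ≃+* k')
    [IsSepClosed k] : IsSepClosed k' := by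
  refine IsSepClosed.of_exists_root _ (fun p hp hirr hsep => ?_)
  have hsep' : (p.map (e.symm : k' →+* k)).Separable := hsep.map
  have hdeg : (p.map (e.symm : k' →+* k)).degree ≠ 0 := by
    rw [Polynomial.degree_map]
    exact (Polynomial.degree_pos_of_irreducible hirr).ne'
  obtain ⟨x, hx⟩ := IsSepClosed.exists_root _ hdeg hsep'
  refine ⟨e x, ?_⟩
  rw [Polynomial.IsRoot.def, Polynomial.eval_map] at hx
  have h2 := congrArg (e : k →+* k') hx
  rw [Polynomial.hom_eval₂, map_zero] at h2
  have h3 : (e : k →+* k').comp (e.symm : k' →+* k) = RingHom.id k' := by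
    ext y
    simp
  rw [h3, Polynomial.eval₂_id] at h2
  exact h2

/-- the quotient of a strictly henselian local ring by a proper ideal is strictly henselian -/
theorem isStrictlyHenselian_quotient (A : Type u) [CommRing A] [hH : HenselianLocalRing A]
    [hs : IsSepClosed (IsLocalRing.ResidueField A)] (q : Ideal A) (hq : q ≠ ⊤) :
    EtCoh.IsStrictlyHenselianLocalRing (A ⧸ q) := by
  have hnt : Nontrivial (A ⧸ q) := Ideal.Quotient.nontrivial_iff.mpr hq
  have hloc : IsLocalRing (A ⧸ q) :=
    IsLocalRing.of_surjective' (Ideal.Quotient.mk q) Ideal.Quotient.mk_surjective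
  have hlh : IsLocalHom (Ideal.Quotient.mk q) :=
    IsLocalHom.of_surjective (Ideal.Quotient.mk q) Ideal.Quotient.mk_surjective
  have hmap : (IsLocalRing.maximalIdeal A).map (Ideal.Quotient.mk q) =
      IsLocalRing.maximalIdeal (A ⧸ q) := by
    ext x
    obtain ⟨x, rfl⟩ := Ideal.Quotient.mk_surjective x
    simp [sup_eq_left.mpr (IsLocalRing.le_maximalIdeal hq)]
  have h1 : HenselianRing (A ⧸ q) ((IsLocalRing.maximalIdeal A).map (Ideal.Quotient.mk q)) :=
    Groth.Agent.Lib.Helper37.henselianRing_quotient_of_le (IsLocalRing.le_maximalIdeal hq)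
  rw [hmap] at h1
  have hH' : HenselianLocalRing (A ⧸ q) := henselianLocalRing_of_henselianRing _ h1
  refine ⟨hH', ?_⟩
  let θ : IsLocalRing.ResidueField A →+* IsLocalRing.ResidueField (A ⧸ q) :=
    IsLocalRing.ResidueField.map (Ideal.Quotient.mk q)
  have hθ : Function.Bijective θ := by
    refine ⟨θ.injective, fun z => ?_⟩
    obtain ⟨y, rfl⟩ := IsLocalRing.residue_surjective z
    obtain ⟨x, rfl⟩ := Ideal.Quotient.mk_surjective y
    exact ⟨IsLocalRing.residue A x, IsLocalRing.ResidueField.map_residue _ _⟩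
  exact isSepClosed_of_ringEquiv (RingEquiv.ofBijective θ hθ)

open Polynomial in
/-- if all étale algebras with a point over the closed point have a retraction, the residue
field is separably closed -/
theorem isSepClosed_residueField_of_retractions (A : Type u) [CommRing A] [IsLocalRing A]
    (h : ∀ (S : Type u) [CommRing S] [Algebra A S] [Algebra.Etale A S] (q : Ideal S) [q.IsPrime],
      q.comap (algebraMap A S) = IsLocalRing.maximalIdeal A → Nonempty (S →ₐ[A] A)) :
    IsSepClosed (IsLocalRing.ResidueField A) := by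
  classical
  refine IsSepClosed.of_exists_root _ (fun p hp hirr hsep => ?_)
  obtain ⟨f, hf1, -, hf3⟩ := Polynomial.lifts_and_natDegree_eq_and_monic
    ((Polynomial.mem_lifts p).mpr
      (Polynomial.map_surjective _ IsLocalRing.residue_surjective p)) hp
  have hf1' : f.map (algebraMap A (IsLocalRing.ResidueField A)) = p := hf1
  let P : StandardEtalePair A := ⟨f, hf3, derivative f, ⟨1, 0, 1, by simp⟩⟩
  haveI : Fact (Irreducible p) := ⟨hirr⟩
  have hroot : aeval (AdjoinRoot.root p) p = 0 := by
    rw [AdjoinRoot.aeval_eq, AdjoinRoot.mk_self]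
  have hmap : P.HasMap (AdjoinRoot.root p) := by
    refine ⟨?_, ?_⟩
    · show aeval (AdjoinRoot.root p) f = 0
      rw [← Polynomial.aeval_map_algebraMap (IsLocalRing.ResidueField A), hf1', hroot]
    · show IsUnit (aeval (AdjoinRoot.root p) (derivative f))
      rw [← Polynomial.aeval_map_algebraMap (IsLocalRing.ResidueField A), ← derivative_map, hf1']
      exact (hsep.aeval_derivative_ne_zero hroot).isUnit
  let χ : P.Ring →ₐ[A] AdjoinRoot p := P.lift (AdjoinRoot.root p) hmap
  have hqprime : (RingHom.ker χ.toRingHom).IsPrime := RingHom.ker_isPrime _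
  have hcomap : (RingHom.ker χ.toRingHom).comap (algebraMap A P.Ring) =
      IsLocalRing.maximalIdeal A := by
    ext a
    rw [Ideal.mem_comap, RingHom.mem_ker]
    show χ (algebraMap A P.Ring a) = 0 ↔ _
    rw [χ.commutes, IsScalarTower.algebraMap_apply A (IsLocalRing.ResidueField A) (AdjoinRoot p),
      map_eq_zero_iff _ (algebraMap (IsLocalRing.ResidueField A) (AdjoinRoot p)).injective]
    exact IsLocalRing.residue_eq_zero_iff a
  obtain ⟨ρ⟩ := h P.Ring (RingHom.ker χ.toRingHom) hcomap
  have h1 : aeval (ρ P.X) f = 0 := (P.hasMap_X.map ρ).1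
  rw [Polynomial.coe_aeval_eq_eval] at h1
  refine ⟨IsLocalRing.residue A (ρ P.X), ?_⟩
  rw [← hf1]
  show (f.map (IsLocalRing.residue A)).eval (IsLocalRing.residue A (ρ P.X)) = 0
  rw [Polynomial.eval_map_apply, h1, map_zero]

end algebra

variable {P : ModPair.Pair.{u}}

theorem henselianLocalRing_of_etLocal [IsAffine P.total] [IsLocalRing Γ(P.total, ⊤)]
    (hE : EtLocal P) : HenselianLocalRing Γ(P.total, ⊤) :=
  Groth.Agent.Lib.Helper37.henselianLocalRing_of_etale_retraction _
    (fun S _ _ _ q _ hq _ => exists_retraction_of_etLocal hE S q hq.over.symm)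

theorem isSepClosed_of_etLocal [IsAffine P.total] [IsLocalRing Γ(P.total, ⊤)]
    (hE : EtLocal P) : IsSepClosed (IsLocalRing.ResidueField Γ(P.total, ⊤)) :=
  isSepClosed_residueField_of_retractions _
    (fun S _ _ _ q _ hq => exists_retraction_of_etLocal hE S q hq)

section interior

variable [IsAffine P.total] [hH : HenselianLocalRing Γ(P.total, ⊤)]
  [IsAffine (interior P.mod : Scheme.{u})] [IsLocalRing Γ((interior P.mod : Scheme.{u}), ⊤)]

theorem mem_qI_iff (p : (interior P.mod : Scheme.{u}))
    (hp : IsClosed ({p} : Set (interior P.mod : Scheme.{u}))) (a : Γ(P.total, ⊤)) :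
    a ∈ qI P p ↔ (ρ P).hom a ∈ IsLocalRing.maximalIdeal Γ((interior P.mod : Scheme.{u}), ⊤) := by
  rw [IsLocalRing.mem_maximalIdeal, mem_nonunits_iff]
  constructor
  · intro ha hu
    have h1 : (interior P.mod : Scheme.{u}).basicOpen ((ρ P).hom a) = ⊤ :=
      Scheme.basicOpen_of_isUnit _ hu
    have h2 : p ∈ (interior P.mod : Scheme.{u}).basicOpen ((ρ P).hom a) := by
      rw [h1]; trivial
    have h3 : p ∈ (interior P.mod).ι ⁻¹ᵁ P.total.basicOpen a := by
      rw [Scheme.preimage_basicOpen]
      exact h2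
    have h4 : (interior P.mod).ι p ∈ P.total.basicOpen a := h3
    rw [← Scheme.toSpecΓ_preimage_basicOpen] at h4
    exact h4 ha
  · intro hu
    by_contra ha
    exact hu (isUnit_ρ_of_interior_le a (interior_le_basicOpen_of_notMem p hp a ha))

theorem henselianLocalRing_interior (hB : BlLocal P) (f : Γ(P.total, ⊤))
    (hUf : interior P.mod = P.total.basicOpen f) :
    HenselianLocalRing Γ((interior P.mod : Scheme.{u}), ⊤) := by
  let p : (interior P.mod : Scheme.{u}) := closedPt (interior P.mod : Scheme.{u})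
  have hp : IsClosed ({p} : Set (interior P.mod : Scheme.{u})) := isClosed_singleton_closedPt _
  have hqne : qI P p ≠ ⊤ := (inferInstance : (qI P p).IsPrime).ne_top
  have hle : (qI P p).map (ρ P).hom ≤
      IsLocalRing.maximalIdeal Γ((interior P.mod : Scheme.{u}), ⊤) :=
    Ideal.map_le_iff_le_comap.mpr (fun a ha => (mem_qI_iff p hp a).mp ha)
  have hlift : ∀ b ∈ IsLocalRing.maximalIdeal Γ((interior P.mod : Scheme.{u}), ⊤),
      ∃ a ∈ qI P p, (ρ P).hom a = b := by
    intro b hb
    rcases mem_range_or_isUnit hB f hUf b with ⟨a, rfl⟩ | hu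
    · exact ⟨a, (mem_qI_iff p hp a).mpr hb, rfl⟩
    · exact absurd hu ((IsLocalRing.mem_maximalIdeal b).mp hb)
  have heq : (qI P p).map (ρ P).hom =
      IsLocalRing.maximalIdeal Γ((interior P.mod : Scheme.{u}), ⊤) := by
    refine le_antisymm hle (fun b hb => ?_)
    obtain ⟨a, ha, rfl⟩ := hlift b hb
    exact Ideal.mem_map_of_mem _ ha
  haveI h1 : HenselianRing Γ(P.total, ⊤) (qI P p) :=
    Groth.Agent.Lib.Helper37.henselianRing_of_le (IsLocalRing.le_maximalIdeal hqne)
  have h2 : HenselianRing Γ((interior P.mod : Scheme.{u}), ⊤) ((qI P p).map (ρ P).hom) := by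
    refine Groth.Agent.Lib.Helper9.henselianRing_map_of_lift (ρ P).hom (qI P p) ?_ ?_
    · rw [heq, IsLocalRing.jacobson_eq_maximalIdeal ⊥ bot_ne_top]
    · intro b hb
      exact hlift b (heq ▸ hb)
  rw [heq] at h2
  exact henselianLocalRing_of_henselianRing _ h2

end interior

end Groth.Agent.Lib.Helper56.LocalPairEt2
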