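import Groth.Agent.Lib.Helper56.LocalPair
import Groth.Agent.Lib.BlowUp.Helper18_Basic

/-!
# Modulus pairs local for finite coverings (helper56)

ns `Groth.Agent.Lib.Helper56.LocalPairFin`.
-/

set_option autoImplicit false
universe u
open CategoryTheory CategoryTheory.Limits AlgebraicGeometry TopologicalSpace
open ModPair

namespace Groth.Agent.Lib.Helper56.LocalPairFin

open Groth.Agent.Lib.Helper56.LocalPair

section algebra

/-- absolutely integrally closed rings are stable under "localisation" -/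
theorem isAIC_of_denominators {A S : Type*} [CommRing A] [CommRing S] (φ : A →+* S)
    (hA : Curves.IsAIC A) (h : ∀ s : S, ∃ b : A, IsUnit (φ b) ∧ φ b * s ∈ φ.range) :
    Curves.IsAIC S := by
  classical
  intro p hp hdeg
  choose b hb1 hb2 using h
  let d : A := ∏ i ∈ p.support, b (p.coeff i)
  have hd : IsUnit (φ d) := by
    rw [map_prod]
    exact IsUnit.prod_iff.mpr fun i _ => hb1 _
  have hcoef : ∀ i, φ d * p.coeff i ∈ φ.range := by
    intro i
    by_cases hi : i ∈ p.support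
    · have h1 : d = (∏ j ∈ p.support.erase i, b (p.coeff j)) * b (p.coeff i) :=
        (Finset.prod_erase_mul _ _ hi).symm
      rw [h1, map_mul, mul_assoc]
      exact φ.range.mul_mem ⟨_, rfl⟩ (hb2 _)
    · rw [Polynomial.notMem_support_iff.mp hi, mul_zero]
      exact φ.range.zero_mem
  have hdpow : ∀ k : ℕ, φ d ^ k ∈ φ.range := fun k => ⟨d ^ k, map_pow _ _ _⟩
  have hp' : (Polynomial.scaleRoots p (φ d)).Monic := (Polynomial.monic_scaleRoots_iff _).mpr hp
  have hlift : Polynomial.scaleRoots p (φ d) ∈ Polynomial.lifts φ := by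
    rw [Polynomial.lifts_iff_coeff_lifts]
    intro i
    rw [Polynomial.coeff_scaleRoots]
    show _ ∈ φ.range
    by_cases hi : i < p.natDegree
    · obtain ⟨k, hk⟩ : ∃ k, p.natDegree - i = k + 1 := ⟨p.natDegree - i - 1, by omega⟩
      have h2 : p.coeff i * φ d ^ (k + 1) = φ d ^ k * (φ d * p.coeff i) := by ring
      rw [hk, h2]
      exact φ.range.mul_mem (hdpow k) (hcoef i)
    · rcases eq_or_lt_of_le (not_lt.mp hi) with h | h
      · rw [← h, Nat.sub_self, pow_zero, mul_one, hp.coeff_natDegree]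
        exact φ.range.one_mem
      · rw [Polynomial.coeff_eq_zero_of_natDegree_lt h, zero_mul]
        exact φ.range.zero_mem
  obtain ⟨q, hq1, hq2, hq3⟩ := Polynomial.lifts_and_natDegree_eq_and_monic hlift hp'
  have hqdeg : 0 < q.natDegree := by
    rw [hq2, Polynomial.natDegree_scaleRoots]
    exact hdeg
  obtain ⟨r, hr⟩ := hA q hq3 hqdeg
  have h1 : (Polynomial.scaleRoots p (φ d)).eval (φ r) = 0 := by
    rw [← hq1, Polynomial.eval_map, Polynomial.eval₂_at_apply, hr, map_zero]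
  obtain ⟨u, hu⟩ := hd
  refine ⟨↑u⁻¹ * φ r, ?_⟩
  have h2 := Polynomial.scaleRoots_eval_mul p (↑u⁻¹ * φ r) (φ d)
  rw [← hu, ← mul_assoc, Units.mul_inv, one_mul, hu, h1] at h2
  have h3 : IsUnit (φ d ^ p.natDegree) := (hu ▸ u.isUnit).pow _
  exact (h3.mul_right_eq_zero).mp h2.symm

theorem isAIC_of_surjective {A B : Type*} [CommRing A] [CommRing B] (φ : A →+* B)
    (hφ : Function.Surjective φ) (hA : Curves.IsAIC A) : Curves.IsAIC B :=
  isAIC_of_denominators φ hA (fun s => ⟨1, by rw [map_one]; exact isUnit_one, by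
    rw [map_one, one_mul]; exact hφ s⟩)

theorem isDomain_of_denominators {A S : Type*} [CommRing A] [CommRing S] [IsDomain A]
    [Nontrivial S] (φ : A →+* S) (hinj : Function.Injective φ)
    (h : ∀ s : S, ∃ b : A, IsUnit (φ b) ∧ φ b * s ∈ φ.range) : IsDomain S := by
  have : NoZeroDivisors S := by
    refine ⟨fun {x y} hxy => ?_⟩
    obtain ⟨b, hb, c, hc⟩ := h x
    obtain ⟨b', hb', c', hc'⟩ := h y
    have h1 : φ (c * c') = 0 := by
      rw [map_mul, hc, hc']
      calc φ b * x * (φ b' * y) = φ b * φ b' * (x * y) := by ring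
        _ = 0 := by rw [hxy, mul_zero]
    have h2 : c * c' = 0 := hinj (h1.trans (map_zero φ).symm)
    rcases mul_eq_zero.mp h2 with h3 | h3
    · left
      rw [h3, map_zero] at hc
      exact (hb.mul_right_eq_zero).mp hc.symm
    · right
      rw [h3, map_zero] at hc'
      exact (hb'.mul_right_eq_zero).mp hc'.symm
  exact NoZeroDivisors.to_isDomain S

theorem isAlgClosed_fractionRing {R : Type*} [CommRing R] [IsDomain R] (hR : Curves.IsAIC R) :
    IsAlgClosed (FractionRing R) := by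
  have hK : Curves.IsAIC (FractionRing R) := by
    refine isAIC_of_denominators (algebraMap R (FractionRing R)) hR (fun z => ?_)
    obtain ⟨⟨x, y⟩, hxy⟩ := IsLocalization.surj (nonZeroDivisors R) z
    refine ⟨y, IsLocalization.map_units (FractionRing R) y, x, ?_⟩
    rw [mul_comm]
    exact hxy.symm
  exact IsAlgClosed.of_exists_root _ (fun p hp hirr => hK p hp hirr.natDegree_pos)

end algebra

variable (P : ModPair.Pair.{u})

/-- locality for finite coverings of modulus pairs -/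
def FinLocal : Prop :=
  ∀ (X : ModPair.Pair.{u}) (ι : Type u) (U : ι → ModPair.Pair.{u}) (v : ∀ i, U i ⟶ X),
    (∀ i, ModPair.IsMinimal (U i).mod X.mod (v i).hom ∧ IsFinite (v i).hom) →
    (∀ x : X.total, ∃ (i : ι) (y : (U i).total), (v i).hom.base y = x) →
    ∀ g : P ⟶ X, ∃ (i : ι) (h : P ⟶ U i), h ≫ v i = g

variable {P}

/-- a scheme with the trivial modulus -/
noncomputable def triv (Y : Scheme.{u}) : ModPair.Pair.{u} :=
  ⟨Y, ⊤, Groth.Agent.Lib.BlowUp.isEffCartierIdeal_top⟩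

noncomputable def trivMap {Y Z : Scheme.{u}} (f : Y ⟶ Z) : triv Y ⟶ triv Z :=
  ⟨f, by
    show (⊤ : Y.IdealSheafData) ≤ (⊤ : Z.IdealSheafData).comap f
    rw [Scheme.IdealSheafData.comap_top]⟩

noncomputable def toTriv {Z : Scheme.{u}} (f : P.total ⟶ Z) : P ⟶ triv Z :=
  ⟨f, by
    show P.mod ≤ (⊤ : Z.IdealSheafData).comap f
    rw [Scheme.IdealSheafData.comap_top]
    exact le_top⟩

theorem exists_retraction_of_finLocal [IsAffine P.total] (hF : FinLocal P) {ι : Type u}
    (B : ι → CommRingCat.{u}) (ψ : ∀ i, Γ(P.total, ⊤) ⟶ B i)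
    (hfin : ∀ i, IsFinite (Spec.map (ψ i)))
    (hsurj : ∀ x : Spec Γ(P.total, ⊤), ∃ i, x ∈ Set.range (Spec.map (ψ i))) :
    ∃ (i : ι) (φ : B i ⟶ Γ(P.total, ⊤)), ψ i ≫ φ = 𝟙 _ := by
  obtain ⟨i, h, hw⟩ := hF (triv (Spec Γ(P.total, ⊤))) ι (fun i => triv (Spec (B i)))
    (fun i => trivMap (Spec.map (ψ i)))
    (fun i => ⟨(Scheme.IdealSheafData.comap_top _).symm, hfin i⟩)
    (fun x => by
      obtain ⟨i, y, hy⟩ := hsurj x
      exact ⟨i, y, hy⟩)
    (toTriv P.total.isoSpec.hom)
  let h' : P.total ⟶ Spec (B i) := h.hom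
  have hw' : h' ≫ Spec.map (ψ i) = P.total.isoSpec.hom := congrArg ModPair.Pair.Hom.hom hw
  refine ⟨i, Spec.preimage (P.total.isoSpec.inv ≫ h'), ?_⟩
  apply Spec.map_injective
  rw [Spec.map_comp, Spec.map_preimage, Category.assoc, hw', Iso.inv_hom_id, Spec.map_id]

theorem isDomain_of_finLocal [IsAffine P.total] (hF : FinLocal P) : IsDomain Γ(P.total, ⊤) := by
  obtain ⟨p, φ, hφ⟩ := exists_retraction_of_finLocal hF
    (fun p : PrimeSpectrum Γ(P.total, ⊤) => CommRingCat.of (Γ(P.total, ⊤) ⧸ p.asIdeal))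
    (fun p => CommRingCat.ofHom (Ideal.Quotient.mk p.asIdeal))
    (fun p => by
      have := IsClosedImmersion.spec_of_surjective
        (CommRingCat.ofHom (Ideal.Quotient.mk p.asIdeal)) Ideal.Quotient.mk_surjective
      infer_instance)
    (fun x => by
      have hxp : x.asIdeal.IsPrime := x.isPrime
      have : IsDomain (Γ(P.total, ⊤) ⧸ x.asIdeal) := Ideal.Quotient.isDomain _
      refine ⟨x, ⟨(⟨⊥, Ideal.isPrime_bot⟩ : PrimeSpectrum (Γ(P.total, ⊤) ⧸ x.asIdeal)), ?_⟩⟩
      apply PrimeSpectrum.ext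
      show Ideal.comap (Ideal.Quotient.mk x.asIdeal) ⊥ = x.asIdeal
      rw [← RingHom.ker_eq_comap_bot, Ideal.mk_ker])
  have hbot : p.asIdeal = ⊥ := by
    rw [eq_bot_iff]
    intro a ha
    have h1 : (Ideal.Quotient.mk p.asIdeal) a = 0 := Ideal.Quotient.eq_zero_iff_mem.mpr ha
    have h2 : φ.hom ((Ideal.Quotient.mk p.asIdeal) a) = a := by
      have := congrArg (fun k => k.hom a) hφ
      simpa using this
    rw [h1, map_zero] at h2
    exact h2.symm
  have : (⊥ : Ideal Γ(P.total, ⊤)).IsPrime := hbot ▸ p.isPrime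
  exact IsDomain.of_bot_isPrime _

theorem isAIC_of_finLocal [IsAffine P.total] (hF : FinLocal P) :
    Curves.IsAIC Γ(P.total, ⊤) := by
  have hdom := isDomain_of_finLocal hF
  intro f hf hdeg
  have hinj : Function.Injective (AdjoinRoot.of f) := by
    apply AdjoinRoot.of.injective_of_degree_ne_zero
    rw [Polynomial.degree_eq_natDegree hf.ne_zero]
    exact_mod_cast hdeg.ne'
  have hfinite : (AdjoinRoot.of f).Finite := by
    have := hf.finite_adjoinRoot
    exact RingHom.finite_algebraMap.mpr this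
  obtain ⟨-, φ, hφ⟩ := exists_retraction_of_finLocal hF
    (fun _ : PUnit.{u + 1} => CommRingCat.of (AdjoinRoot f))
    (fun _ => CommRingCat.ofHom (AdjoinRoot.of f))
    (fun _ => (IsFinite.SpecMap_iff _).mpr hfinite)
    (fun x => ⟨PUnit.unit, hfinite.to_isIntegral.comap_surjective hinj x⟩)
  refine ⟨φ.hom (AdjoinRoot.root f), ?_⟩
  have h2 : ∀ a, φ.hom (AdjoinRoot.of f a) = a := by
    intro a
    have := congrArg (fun k => k.hom a) hφ
    simpa using this
  have h3 := congrArg φ.hom (AdjoinRoot.eval₂_root f)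
  rw [Polynomial.hom_eval₂, map_zero] at h3
  have h4 : φ.hom.comp (AdjoinRoot.of f) = RingHom.id _ := RingHom.ext h2
  rw [h4, Polynomial.eval₂_id] at h3
  exact h3

theorem finLocal_of_isAIC [IsAffine P.total] [IsDomain Γ(P.total, ⊤)]
    (hA : Curves.IsAIC Γ(P.total, ⊤)) : FinLocal P := by
  intro X ι U v hv hsurj g
  have hF := Groth.Agent.Lib.Helper56.RqfhLocal.finLocal_of_isAIC (P := P.total) hA
  have hmem : Presieve.ofArrows (fun i => (U i).total) (fun i => (v i).hom) ∈
      Scheme.precoverage @IsFinite X.total :=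
    (Scheme.ofArrows_mem_precoverage_iff (P := @IsFinite)).mpr
      ⟨fun x => by
        obtain ⟨i, y, hy⟩ := hsurj x
        exact ⟨i, y, hy⟩, fun i => (hv i).2⟩
  obtain ⟨Y, w, h, hR, hw⟩ := hF _ _ hmem g.hom
  obtain ⟨i⟩ := hR
  refine ⟨i, ⟨h, ?_⟩, ModPair.Pair.Hom.ext hw⟩
  show P.mod ≤ (U i).mod.comap h
  have hmin' : (U i).mod = X.mod.comap (v i).hom := (hv i).1
  rw [hmin', ← Scheme.IdealSheafData.comap_comp, hw]
  exact g.cond

section interior

variable [IsAffine P.total] [IsLocalRing Γ(P.total, ⊤)]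

theorem exists_denominator (f : Γ(P.total, ⊤)) (hUf : interior P.mod = P.total.basicOpen f)
    (a : Γ((interior P.mod : Scheme.{u}), ⊤)) :
    ∃ b : Γ(P.total, ⊤), IsUnit ((ρ P).hom b) ∧ (ρ P).hom b * a ∈ (ρ P).hom.range := by
  have hO : (interior P.mod).ι ''ᵁ ⊤ = P.total.basicOpen f := by
    rw [Scheme.Opens.ι_image_top]; exact hUf
  obtain ⟨n, c, hnc⟩ := exists_pow_mul_eq_res f _ hO a
  have hnc' : ((ρ P).hom f) ^ n * a = (ρ P).hom c := hnc
  have hfu : IsUnit ((ρ P).hom f) := isUnit_ρ_of_interior_le f (le_of_eq hUf)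
  refine ⟨f ^ n, ?_, c, ?_⟩
  · rw [map_pow]; exact hfu.pow n
  · rw [map_pow, hnc']

theorem isDomain_interior [IsDomain Γ(P.total, ⊤)]
    [Nontrivial Γ((interior P.mod : Scheme.{u}), ⊤)] (f : Γ(P.total, ⊤))
    (hUf : interior P.mod = P.total.basicOpen f) :
    IsDomain Γ((interior P.mod : Scheme.{u}), ⊤) :=
  isDomain_of_denominators (ρ P).hom ρ_injective (exists_denominator f hUf)

theorem isAIC_interior (hA : Curves.IsAIC Γ(P.total, ⊤)) (f : Γ(P.total, ⊤))
    (hUf : interior P.mod = P.total.basicOpen f) :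
    Curves.IsAIC Γ((interior P.mod : Scheme.{u}), ⊤) :=
  isAIC_of_denominators (ρ P).hom hA (exists_denominator f hUf)

end interior


end Groth.Agent.Lib.Helper56.LocalPairFin
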