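import Groth.Prelude.Def_EtMil
import Mathlib.LinearAlgebra.TensorProduct.Quotient
import Mathlib.RingTheory.Ideal.Quotient.Operations
import Mathlib.LinearAlgebra.TensorProduct.RightExactness
import Mathlib.RingTheory.Finiteness.Basic
import Mathlib.RingTheory.TensorProduct.Finite
import Mathlib.LinearAlgebra.TensorProduct.Finiteness

/-!
# Milnor squares `B' = B ×_A A'` with `A' → A` surjective: basic lemmas (helper56)
-/

set_option autoImplicit false
set_option linter.unusedSectionVars false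
universe u
open TensorProduct

namespace Groth.Agent.Lib.Helper56.Milnor

variable {B' B A' A : Type u} [CommRing B'] [CommRing B] [CommRing A'] [CommRing A]
  [Algebra B' B] [Algebra B' A'] [Algebra B A] [Algebra A' A] [Algebra B' A]
  [IsScalarTower B' B A] [IsScalarTower B' A' A]

theorem surjB (hsq : EtMil.IsFibreSquare B' B A' A) : Function.Surjective (algebraMap B' B) := by
  intro b
  obtain ⟨a', ha'⟩ := hsq.1 (algebraMap B A b)
  obtain ⟨b', ⟨hb', -⟩, -⟩ := hsq.2 b a' ha'.symm
  exact ⟨b', hb'⟩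

theorem compat (x : B') : algebraMap B A (algebraMap B' B x) = algebraMap A' A (algebraMap B' A' x) := by
  rw [← IsScalarTower.algebraMap_apply, ← IsScalarTower.algebraMap_apply]

theorem ext' (hsq : EtMil.IsFibreSquare B' B A' A) {x y : B'}
    (h1 : algebraMap B' B x = algebraMap B' B y) (h2 : algebraMap B' A' x = algebraMap B' A' y) :
    x = y := by
  obtain ⟨z, -, hz⟩ := hsq.2 (algebraMap B' B y) (algebraMap B' A' y) (compat (B := B) (A' := A') (A := A) y)
  rw [hz x ⟨h1, h2⟩, hz y ⟨rfl, rfl⟩]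

/-- For `j ∈ J = ker (B' → B)` and `a' : A'`, the element `a' · j` of `J`. -/
theorem exists_jm (hsq : EtMil.IsFibreSquare B' B A' A) (a' : A') (j : B')
    (hj : algebraMap B' B j = 0) :
    ∃ x : B', algebraMap B' B x = 0 ∧ algebraMap B' A' x = a' * algebraMap B' A' j := by
  have h : algebraMap B A 0 = algebraMap A' A (a' * algebraMap B' A' j) := by
    rw [map_zero, map_mul, ← compat (B := B) (A' := A') (A := A), hj, map_zero, mul_zero]
  obtain ⟨x, hx, -⟩ := hsq.2 0 _ h
  exact ⟨x, hx⟩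

/-- multiplication by `j ∈ J` as a `B'`-linear map `A' → B'`. -/
noncomputable def psi (hsq : EtMil.IsFibreSquare B' B A' A) (j : B')
    (hj : algebraMap B' B j = 0) : A' →ₗ[B'] B' where
  toFun a' := (exists_jm hsq a' j hj).choose
  map_add' x y := by
    apply ext' hsq
    · rw [(exists_jm hsq (x + y) j hj).choose_spec.1, map_add,
        (exists_jm hsq x j hj).choose_spec.1, (exists_jm hsq y j hj).choose_spec.1, add_zero]
    · rw [(exists_jm hsq (x + y) j hj).choose_spec.2, map_add,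
        (exists_jm hsq x j hj).choose_spec.2, (exists_jm hsq y j hj).choose_spec.2, add_mul]
  map_smul' c x := by
    apply ext' hsq
    · rw [(exists_jm hsq (c • x) j hj).choose_spec.1, RingHom.id_apply, smul_eq_mul, map_mul,
        (exists_jm hsq x j hj).choose_spec.1, mul_zero]
    · rw [(exists_jm hsq (c • x) j hj).choose_spec.2, RingHom.id_apply, smul_eq_mul, map_mul,
        (exists_jm hsq x j hj).choose_spec.2, Algebra.smul_def, mul_assoc]

theorem psi_B (hsq : EtMil.IsFibreSquare B' B A' A) (j : B') (hj : algebraMap B' B j = 0) (a' : A') :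
    algebraMap B' B (psi hsq j hj a') = 0 :=
  (exists_jm hsq a' j hj).choose_spec.1

theorem psi_A' (hsq : EtMil.IsFibreSquare B' B A' A) (j : B') (hj : algebraMap B' B j = 0) (a' : A') :
    algebraMap B' A' (psi hsq j hj a') = a' * algebraMap B' A' j :=
  (exists_jm hsq a' j hj).choose_spec.2

theorem psi_one (hsq : EtMil.IsFibreSquare B' B A' A) (j : B') (hj : algebraMap B' B j = 0) :
    psi hsq j hj 1 = j := by
  apply ext' hsq
  · rw [psi_B, hj]
  · rw [psi_A', one_mul]

variable (L' : Type u) [AddCommGroup L'] [Module B' L']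

/-- If `1 ⊗ l = 0` in `A' ⊗ L'` then `J l = 0`. -/
theorem smul_eq_zero_of_tmul_eq_zero (hsq : EtMil.IsFibreSquare B' B A' A) (l : L')
    (h2 : ((1 : A') ⊗ₜ[B'] l : A' ⊗[B'] L') = 0) (j : B') (hj : algebraMap B' B j = 0) :
    j • l = 0 := by
  let μ : A' ⊗[B'] L' →ₗ[B'] L' := TensorProduct.lift ((LinearMap.lsmul B' L').comp (psi hsq j hj))
  have : μ ((1 : A') ⊗ₜ[B'] l) = j • l := by
    simp [μ, psi_one]
  rw [← this, h2, map_zero]

/-- If `1 ⊗ l = 0` in `B ⊗ L'` then `l ∈ J L'`. -/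
theorem mem_smul_top_of_tmul_eq_zero (hsq : EtMil.IsFibreSquare B' B A' A) (l : L')
    (h1 : ((1 : B) ⊗ₜ[B'] l : B ⊗[B'] L') = 0) :
    l ∈ (RingHom.ker (algebraMap B' B)) • (⊤ : Submodule B' L') := by
  set J := RingHom.ker (algebraMap B' B)
  have hs : Function.Surjective (Algebra.ofId B' B) := surjB (A' := A') (A := A) hsq
  let e : (B' ⧸ J) ≃ₗ[B'] B := (Ideal.quotientKerAlgEquivOfSurjective hs).toLinearEquiv
  have he : e 1 = 1 := map_one (Ideal.quotientKerAlgEquivOfSurjective hs)
  have h3 : ((1 : B' ⧸ J) ⊗ₜ[B'] l : (B' ⧸ J) ⊗[B'] L') = 0 := by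
    apply (LinearEquiv.rTensor L' e).injective
    rw [map_zero, LinearEquiv.rTensor_tmul, he, h1]
  have h4 := congrArg (TensorProduct.quotTensorEquivQuotSMul L' J) h3
  rw [TensorProduct.quotTensorEquivQuotSMul_mk_one_tmul, map_zero,
    Submodule.Quotient.mk_eq_zero] at h4
  exact h4

/-- `S14949`: a module over a Milnor square whose two base changes vanish is zero. -/
theorem subsingleton_of_subsingleton (hsq : EtMil.IsFibreSquare B' B A' A)
    [Subsingleton (B ⊗[B'] L')] [Subsingleton (A' ⊗[B'] L')] : Subsingleton L' := by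
  have hJ : ∀ (l : L') (j : B'), algebraMap B' B j = 0 → j • l = 0 := fun l j hj =>
    smul_eq_zero_of_tmul_eq_zero L' hsq l (Subsingleton.elim _ _) j hj
  have hbot : (RingHom.ker (algebraMap B' B)) • (⊤ : Submodule B' L') = ⊥ := by
    rw [eq_bot_iff, Submodule.smul_le]
    intro j hj l _
    rw [Submodule.mem_bot]
    exact hJ l j hj
  refine ⟨fun x y => ?_⟩
  have hx := mem_smul_top_of_tmul_eq_zero L' hsq x (Subsingleton.elim _ _)
  have hy := mem_smul_top_of_tmul_eq_zero L' hsq y (Subsingleton.elim _ _)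
  rw [hbot, Submodule.mem_bot] at hx hy
  rw [hx, hy]

omit [Algebra B' B] [Algebra B A] [Algebra A' A] [Algebra B' A] [IsScalarTower B' B A]
  [IsScalarTower B' A' A] [CommRing B] [CommRing A] in
theorem subsingleton_tensor_quotient {L' : Type u} [AddCommGroup L'] [Module B' L']
    (N : Submodule B' L') (s : Set (A' ⊗[B'] L'))
    (hs : Submodule.span A' s = ⊤) (h : s ⊆ LinearMap.range (N.subtype.lTensor A')) :
    Subsingleton (A' ⊗[B'] (L' ⧸ N)) := by
  have hker : LinearMap.ker (N.mkQ.baseChange A') = ⊤ := by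
    rw [eq_top_iff, ← hs, Submodule.span_le]
    intro x hx
    obtain ⟨y, rfl⟩ := h hx
    rw [SetLike.mem_coe, LinearMap.mem_ker, LinearMap.baseChange_eq_ltensor,
      ← LinearMap.comp_apply, ← LinearMap.lTensor_comp]
    have : N.mkQ ∘ₗ N.subtype = 0 := by ext; simp
    rw [this, LinearMap.lTensor_zero]; rfl
  refine ⟨fun x y => ?_⟩
  obtain ⟨x', rfl⟩ := LinearMap.lTensor_surjective A' N.mkQ_surjective x
  obtain ⟨y', rfl⟩ := LinearMap.lTensor_surjective A' N.mkQ_surjective y
  have hx' : x' ∈ LinearMap.ker (N.mkQ.baseChange A') := by rw [hker]; trivial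
  have hy' : y' ∈ LinearMap.ker (N.mkQ.baseChange A') := by rw [hker]; trivial
  rw [LinearMap.mem_ker, LinearMap.baseChange_eq_ltensor] at hx' hy'
  rw [hx', hy']

/-- `S14953`. -/
theorem finite_of_finite (hsq : EtMil.IsFibreSquare B' B A' A)
    [Module.Finite B (B ⊗[B'] L')] [Module.Finite A' (A' ⊗[B'] L')] : Module.Finite B' L' := by
  classical
  obtain ⟨s₁, hs₁⟩ := (Module.finite_def.mp ‹Module.Finite B (B ⊗[B'] L')›)
  obtain ⟨s₂, hs₂⟩ := (Module.finite_def.mp ‹Module.Finite A' (A' ⊗[B'] L')›)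
  obtain ⟨N₁, hN₁, h₁⟩ := TensorProduct.exists_finite_submodule_right_of_setFinite
    (R := B') (M := B) (N := L') (s₁ : Set _) s₁.finite_toSet
  obtain ⟨N₂, hN₂, h₂⟩ := TensorProduct.exists_finite_submodule_right_of_setFinite
    (R := B') (M := A') (N := L') (s₂ : Set _) s₂.finite_toSet
  have hNfg : (N₁ ⊔ N₂).FG := Submodule.FG.sup (Module.Finite.iff_fg.mp hN₁) (Module.Finite.iff_fg.mp hN₂)
  have hle : ∀ {S : Type u} [CommRing S] [Algebra B' S] {N N' : Submodule B' L'} (hNN : N ≤ N'),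
      LinearMap.range (N.subtype.lTensor S) ≤ LinearMap.range (N'.subtype.lTensor S) := by
    intro S _ _ N N' hNN
    have : N.subtype = N'.subtype ∘ₗ Submodule.inclusion hNN := by ext; simp
    rw [this, LinearMap.lTensor_comp]
    exact LinearMap.range_comp_le_range _ _
  have hB : Subsingleton (B ⊗[B'] (L' ⧸ (N₁ ⊔ N₂))) :=
    subsingleton_tensor_quotient (N₁ ⊔ N₂) (s₁ : Set _) hs₁ (h₁.trans (hle le_sup_left))
  have hA : Subsingleton (A' ⊗[B'] (L' ⧸ (N₁ ⊔ N₂))) :=
    subsingleton_tensor_quotient (N₁ ⊔ N₂) (s₂ : Set _) hs₂ (h₂.trans (hle le_sup_right))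
  have hQ : Subsingleton (L' ⧸ (N₁ ⊔ N₂)) := subsingleton_of_subsingleton (L' ⧸ (N₁ ⊔ N₂)) hsq
  have htop : N₁ ⊔ N₂ = ⊤ := Submodule.Quotient.subsingleton_iff.mp hQ
  rw [Module.finite_def, ← htop]
  exact hNfg

end Groth.Agent.Lib.Helper56.Milnor
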