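import Groth.Agent.Lib.Helper56.MilnorRelFP

/-!
# Algebras over a Milnor square (helper56), part A: the two pushouts

For `B' = B ×_A A'`, `D' = D ×_C C'` with `C = A ⊗_B D = A ⊗_{A'} C'`:
`D = B ⊗_{B'} D'` and `C' = A' ⊗_{B'} D'`.
-/

set_option autoImplicit false
set_option linter.unusedSectionVars false
set_option maxHeartbeats 400000
universe u
open TensorProduct

namespace Groth.Agent.Lib.Helper56.MilnorAlg

open Groth.Agent.Lib.Helper56.Milnor

section pushouts

variable {B' B A' A : Type u} [CommRing B'] [CommRing B] [CommRing A'] [CommRing A]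
    [Algebra B' B] [Algebra B' A'] [Algebra B A] [Algebra A' A] [Algebra B' A]
    [IsScalarTower B' B A] [IsScalarTower B' A' A]
    (hsq : EtMil.IsFibreSquare B' B A' A)
    {D' D C' C : Type u} [CommRing D'] [CommRing D] [CommRing C'] [CommRing C]
    [Algebra D' D] [Algebra D' C'] [Algebra D C] [Algebra C' C] [Algebra D' C]
    [IsScalarTower D' D C] [IsScalarTower D' C' C]
    (hsq' : EtMil.IsFibreSquare D' D C' C)
    [Algebra B' D'] [Algebra B D] [Algebra A' C'] [Algebra A C]
    [Algebra B' D] [IsScalarTower B' B D] [IsScalarTower B' D' D]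
    [Algebra B' C'] [IsScalarTower B' A' C'] [IsScalarTower B' D' C']
    [Algebra B C] [IsScalarTower B A C] [IsScalarTower B D C]
    [Algebra A' C] [IsScalarTower A' A C] [IsScalarTower A' C' C]
    [Algebra.IsPushout B D A C] [Algebra.IsPushout A' C' A C]

variable (B A' A D C' C) in
/-- `A ⊗_B D ≅ C ≅ A ⊗_{A'} C'`. -/
noncomputable def phi : A ⊗[B] D ≃ₗ[A] A ⊗[A'] C' :=
  ((Algebra.IsPushout.symm (inferInstance : Algebra.IsPushout B D A C)).out.equiv) ≪≫ₗ
    ((Algebra.IsPushout.symm (inferInstance : Algebra.IsPushout A' C' A C)).out.equiv).symm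

theorem mem_glue_phi (x : D × C') :
    x ∈ EtMil.glue B' (phi B A' A D C' C) ↔ algebraMap D C x.1 = algebraMap C' C x.2 := by
  rw [mem_glue_iff]
  unfold phi
  rw [LinearEquiv.trans_apply, LinearEquiv.symm_apply_eq, IsBaseChange.equiv_tmul,
    IsBaseChange.equiv_tmul, one_smul, one_smul]
  rfl

include hsq' in
/-- `D' ≅ D ×_φ C'` as `B'`-modules. -/
theorem exists_equiv_glue :
    ∃ ψ : D' ≃ₗ[B'] EtMil.glue B' (phi B A' A D C' C),
      (∀ d', (ψ d').1.1 = algebraMap D' D d') ∧ (∀ d', (ψ d').1.2 = algebraMap D' C' d') := by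
  have hmem : ∀ d' : D', (algebraMap D' D d', algebraMap D' C' d') ∈
      EtMil.glue B' (phi B A' A D C' C) := by
    intro d'
    rw [mem_glue_phi]
    change algebraMap D C (algebraMap D' D d') = algebraMap C' C (algebraMap D' C' d')
    rw [← IsScalarTower.algebraMap_apply, ← IsScalarTower.algebraMap_apply]
  let ψ₀ : D' →ₗ[B'] EtMil.glue B' (phi B A' A D C' C) :=
    { toFun := fun d' => ⟨(algebraMap D' D d', algebraMap D' C' d'), hmem d'⟩
      map_add' := fun x y => Subtype.ext (by simp)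
      map_smul' := fun r x => Subtype.ext (by
        simp only [RingHom.id_apply, SetLike.val_smul, Prod.smul_mk]
        rw [Algebra.smul_def, map_mul, map_mul, ← IsScalarTower.algebraMap_apply,
          ← IsScalarTower.algebraMap_apply, Algebra.smul_def, Algebra.smul_def]) }
  have hbij : Function.Bijective ψ₀ := by
    constructor
    · intro x y hxy
      have h1 : algebraMap D' D x = algebraMap D' D y := congrArg (fun g => g.1.1) hxy
      have h2 : algebraMap D' C' x = algebraMap D' C' y := congrArg (fun g => g.1.2) hxy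
      have hc : algebraMap D C (algebraMap D' D y) = algebraMap C' C (algebraMap D' C' y) := by
        rw [← IsScalarTower.algebraMap_apply, ← IsScalarTower.algebraMap_apply]
      obtain ⟨z, _, hz⟩ := hsq'.2 _ _ hc
      rw [hz x ⟨h1, h2⟩, hz y ⟨rfl, rfl⟩]
    · rintro ⟨⟨d, c'⟩, hg⟩
      obtain ⟨z, ⟨hz1, hz2⟩, _⟩ := hsq'.2 d c' ((mem_glue_phi (B' := B') (d, c')).mp hg)
      exact ⟨z, Subtype.ext (Prod.ext hz1 hz2)⟩
  exact ⟨LinearEquiv.ofBijective ψ₀ hbij, fun _ => rfl, fun _ => rfl⟩

include hsq hsq' in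
theorem isPushout_fst : Algebra.IsPushout B' B D' D := by
  obtain ⟨ψ, hψ1, hψ2⟩ := exists_equiv_glue (B' := B') (B := B) (A' := A') (A := A) (C := C) hsq'
  let φ := phi B A' A D C' C
  have hb := glueFst_bijective (B' := B') φ hsq
  constructor
  let f : D' →ₗ[B'] D := (IsScalarTower.toAlgHom B' D' D).toLinearMap
  let e₀ : B ⊗[B'] D' ≃ₗ[B] D :=
    (LinearEquiv.baseChange B' B _ _ ψ) ≪≫ₗ
      LinearEquiv.ofBijective (LinearMap.liftBaseChange B (EtMil.glueFst B' φ)) hb
  refine IsBaseChange.of_equiv e₀ ?_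
  intro x
  change LinearMap.liftBaseChange B (EtMil.glueFst B' φ) ((LinearEquiv.baseChange B' B _ _ ψ) (1 ⊗ₜ x)) = _
  rw [LinearEquiv.baseChange_tmul, LinearMap.liftBaseChange_tmul, one_smul]
  exact hψ1 x

include hsq hsq' in
theorem isPushout_snd : Algebra.IsPushout B' A' D' C' := by
  obtain ⟨ψ, hψ1, hψ2⟩ := exists_equiv_glue (B' := B') (B := B) (A' := A') (A := A) (C := C) hsq'
  let φ := phi B A' A D C' C
  have hb := glueSnd_bijective (B' := B') φ hsq
  constructor
  let e₀ : A' ⊗[B'] D' ≃ₗ[A'] C' :=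
    (LinearEquiv.baseChange B' A' _ _ ψ) ≪≫ₗ
      LinearEquiv.ofBijective (LinearMap.liftBaseChange A' (EtMil.glueSnd B' φ)) hb
  refine IsBaseChange.of_equiv e₀ ?_
  intro x
  change LinearMap.liftBaseChange A' (EtMil.glueSnd B' φ) ((LinearEquiv.baseChange B' A' _ _ ψ) (1 ⊗ₜ x)) = _
  rw [LinearEquiv.baseChange_tmul, LinearMap.liftBaseChange_tmul, one_smul]
  exact hψ2 x

end pushouts

end Groth.Agent.Lib.Helper56.MilnorAlg
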