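import Groth.Agent.Lib.Helper56.MilnorAlgA

/-!
# Algebras over a Milnor square (helper56), part B: finite type and flatness
-/

set_option autoImplicit false
set_option linter.unusedSectionVars false
set_option maxHeartbeats 400000
universe u
open TensorProduct

namespace Groth.Agent.Lib.Helper56.MilnorAlg

open Groth.Agent.Lib.Helper56.Milnor

section generic

variable {R S : Type u} [CommRing R] [CommRing S] [Algebra R S]
  (D' M : Type u) [CommRing D'] [CommRing M] [Algebra R D'] [Algebra S M] [Algebra D' M]
  [Algebra R M] [IsScalarTower R S M] [IsScalarTower R D' M] [Algebra.IsPushout R S D' M]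

include R in
theorem span_range_eq_top : Submodule.span S (Set.range (algebraMap D' M)) = ⊤ := by
  have h : IsBaseChange S (IsScalarTower.toAlgHom R D' M).toLinearMap := Algebra.IsPushout.out
  rw [eq_top_iff]
  intro x _
  refine h.inductionOn x (fun x => x ∈ Submodule.span S (Set.range (algebraMap D' M)))
    (Submodule.zero_mem _) ?_ ?_ ?_
  · intro m
    exact Submodule.subset_span ⟨m, rfl⟩
  · intro s n hn
    exact Submodule.smul_mem _ s hn
  · intro a b ha hb
    exact Submodule.add_mem _ ha hb

include R in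
theorem exists_finset_mem_span (m : M) :
    ∃ t : Finset D', m ∈ Submodule.span S ((algebraMap D' M) '' (t : Set D')) := by
  classical
  have hm : m ∈ Submodule.span S (Set.range (algebraMap D' M)) := by
    rw [span_range_eq_top (R := R)]; trivial
  obtain ⟨T, hT, hmT⟩ := Submodule.mem_span_finite_of_mem_span hm
  rw [← Set.image_univ] at hT
  obtain ⟨t, -, rfl⟩ := Finset.subset_set_image_iff.mp hT
  refine ⟨t, ?_⟩
  rwa [Finset.coe_image] at hmT

theorem span_image_subalgebra (E : Subalgebra R D') :
    Submodule.span S ((algebraMap D' M) '' (E : Set D')) =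
      Subalgebra.toSubmodule (Algebra.adjoin S ((algebraMap D' M) '' (E : Set D'))) := by
  rw [Algebra.adjoin_eq_span]
  congr 1
  have : (algebraMap D' M) '' (E : Set D') =
      ((E.toSubsemiring.toSubmonoid.map (algebraMap D' M : D' →* M) : Submonoid M) : Set M) := by
    rw [Submonoid.coe_map]; rfl
  rw [this, Submonoid.closure_eq]

theorem exists_finset_span_eq_top [Algebra.FiniteType S M] :
    ∃ t : Finset D', ∀ E : Subalgebra R D', (t : Set D') ⊆ E →
      Submodule.span S ((algebraMap D' M) '' (E : Set D')) = ⊤ := by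
  classical
  obtain ⟨s, hs⟩ := (Algebra.FiniteType.out : (⊤ : Subalgebra S M).FG)
  choose t ht using exists_finset_mem_span (R := R) (S := S) D' M
  refine ⟨s.biUnion t, fun E hE => ?_⟩
  rw [span_image_subalgebra]
  have hsub : (s : Set M) ⊆ Algebra.adjoin S ((algebraMap D' M) '' (E : Set D')) := by
    intro m hm
    have h1 : m ∈ Submodule.span S ((algebraMap D' M) '' (E : Set D')) := by
      refine Submodule.span_mono (Set.image_mono ?_) (ht m)
      refine subset_trans ?_ hE
      intro x hx
      rw [Finset.coe_biUnion]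
      exact Set.mem_biUnion (Finset.mem_coe.mp hm) hx
    rw [span_image_subalgebra] at h1
    exact h1
  have : Algebra.adjoin S ((algebraMap D' M) '' (E : Set D')) = ⊤ := by
    rw [eq_top_iff, ← hs]
    exact Algebra.adjoin_le hsub
  rw [this, Algebra.top_toSubmodule]

theorem subsingleton_tensor_quot_subalgebra (E : Subalgebra R D')
    (hE : Submodule.span S ((algebraMap D' M) '' (E : Set D')) = ⊤) :
    Subsingleton (S ⊗[R] (D' ⧸ Subalgebra.toSubmodule E)) := by
  have h : IsBaseChange S (IsScalarTower.toAlgHom R D' M).toLinearMap := Algebra.IsPushout.out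
  refine subsingleton_tensor_quotient (B' := R) (A' := S) (Subalgebra.toSubmodule E)
    ((fun e : D' => ((1 : S) ⊗ₜ[R] e : S ⊗[R] D')) '' (E : Set D')) ?_ ?_
  · have h1 : (Submodule.span S ((fun e : D' => ((1 : S) ⊗ₜ[R] e : S ⊗[R] D')) '' (E : Set D'))).map
        (h.equiv : S ⊗[R] D' →ₗ[S] M) = ⊤ := by
      rw [Submodule.map_span, ← hE, Set.image_image]
      congr 2
      ext e
      rw [LinearEquiv.coe_coe, IsBaseChange.equiv_tmul, one_smul]
      rfl
    have h2 := congrArg (Submodule.comap (h.equiv : S ⊗[R] D' →ₗ[S] M)) h1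
    rwa [Submodule.comap_map_eq_of_injective h.equiv.injective, Submodule.comap_top] at h2
  · rintro _ ⟨e, he, rfl⟩
    exact ⟨(1 : S) ⊗ₜ[R] (⟨e, he⟩ : Subalgebra.toSubmodule E), rfl⟩

end generic

section rel

variable {B' B A' A : Type u} [CommRing B'] [CommRing B] [CommRing A'] [CommRing A]
    [Algebra B' B] [Algebra B' A'] [Algebra B A] [Algebra A' A] [Algebra B' A]
    [IsScalarTower B' B A] [IsScalarTower B' A' A]
    (hsq : EtMil.IsFibreSquare B' B A' A)
    (D' D C' : Type u) [CommRing D'] [CommRing D] [CommRing C']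
    [Algebra B' D'] [Algebra B D] [Algebra A' C']
    [Algebra D' D] [Algebra B' D] [IsScalarTower B' B D] [IsScalarTower B' D' D]
    [Algebra.IsPushout B' B D' D]
    [Algebra D' C'] [Algebra B' C'] [IsScalarTower B' A' C'] [IsScalarTower B' D' C']
    [Algebra.IsPushout B' A' D' C']

include hsq D C' in
theorem finiteType_of_finiteType [Algebra.FiniteType B D] [Algebra.FiniteType A' C'] :
    Algebra.FiniteType B' D' := by
  classical
  obtain ⟨t₁, ht₁⟩ := exists_finset_span_eq_top (R := B') (S := B) D' D
  obtain ⟨t₂, ht₂⟩ := exists_finset_span_eq_top (R := B') (S := A') D' C'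
  set E : Subalgebra B' D' := Algebra.adjoin B' ((t₁ ∪ t₂ : Finset D') : Set D') with hE
  have hsub : ((t₁ ∪ t₂ : Finset D') : Set D') ⊆ E := Algebra.subset_adjoin
  have h1 : Subsingleton (B ⊗[B'] (D' ⧸ Subalgebra.toSubmodule E)) :=
    subsingleton_tensor_quot_subalgebra D' D E
      (ht₁ E (subset_trans (by rw [Finset.coe_union]; exact Set.subset_union_left) hsub))
  have h2 : Subsingleton (A' ⊗[B'] (D' ⧸ Subalgebra.toSubmodule E)) :=
    subsingleton_tensor_quot_subalgebra D' C' E
      (ht₂ E (subset_trans (by rw [Finset.coe_union]; exact Set.subset_union_right) hsub))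
  have hQ : Subsingleton (D' ⧸ Subalgebra.toSubmodule E) :=
    subsingleton_of_subsingleton (D' ⧸ Subalgebra.toSubmodule E) hsq
  have htop : Subalgebra.toSubmodule E = ⊤ := Submodule.Quotient.subsingleton_iff.mp hQ
  refine ⟨⟨t₁ ∪ t₂, ?_⟩⟩
  rw [← hE]
  exact Subalgebra.toSubmodule_injective (htop.trans Algebra.top_toSubmodule.symm)

include hsq D C' in
theorem flat_of_flat_alg [Module.Flat B D] [Module.Flat A' C'] : Module.Flat B' D' := by
  have h1 : IsBaseChange B (IsScalarTower.toAlgHom B' D' D).toLinearMap := Algebra.IsPushout.out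
  have h2 : IsBaseChange A' (IsScalarTower.toAlgHom B' D' C').toLinearMap := Algebra.IsPushout.out
  haveI : Module.Flat B (B ⊗[B'] D') := Module.Flat.of_linearEquiv h1.equiv
  haveI : Module.Flat A' (A' ⊗[B'] D') := Module.Flat.of_linearEquiv h2.equiv
  exact flat_of_flat D' hsq

end rel

end Groth.Agent.Lib.Helper56.MilnorAlg
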