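import Groth.Agent.Lib.Helper56.MilnorAlgB
import Mathlib.RingTheory.TensorProduct.MvPolynomial
import Mathlib.RingTheory.FinitePresentation

/-!
# Algebras over a Milnor square (helper56), part C: finite presentation
-/

set_option autoImplicit false
set_option linter.unusedSectionVars false
set_option linter.style.haveILetI false
set_option maxHeartbeats 400000
universe u
open TensorProduct

namespace Groth.Agent.Lib.Helper56.MilnorAlg

open Groth.Agent.Lib.Helper56.Milnor

attribute [local instance] MvPolynomial.algebraMvPolynomial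

section fpgeneric

variable {R S : Type u} [CommRing R] [CommRing S] [Algebra R S]
  (D' M : Type u) [CommRing D'] [CommRing M] [Algebra R D'] [Algebra S M] [Algebra D' M]
  [Algebra R M] [IsScalarTower R S M] [IsScalarTower R D' M] [Algebra.IsPushout R S D' M]

include M in
theorem finite_tensor_ker [Module.Flat R D'] [Algebra.FinitePresentation S M] (n : ℕ)
    (π : MvPolynomial (Fin n) R →ₐ[R] D') (hπ : Function.Surjective π) :
    letI : Algebra (MvPolynomial (Fin n) R) D' := π.toRingHom.toAlgebra
    Module.Finite (MvPolynomial (Fin n) S)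
      (MvPolynomial (Fin n) S ⊗[MvPolynomial (Fin n) R]
        (LinearMap.ker (Algebra.linearMap (MvPolynomial (Fin n) R) D'))) := by
  letI : Algebra (MvPolynomial (Fin n) R) D' := π.toRingHom.toAlgebra
  haveI : IsScalarTower R (MvPolynomial (Fin n) R) D' :=
    IsScalarTower.of_algebraMap_eq (fun r => (π.commutes r).symm)
  have hπ' : Function.Surjective (Algebra.linearMap (MvPolynomial (Fin n) R) D') := hπ
  let e1 : MvPolynomial (Fin n) S ⊗[MvPolynomial (Fin n) R] D' ≃ₐ[S] S ⊗[R] D' :=
    Algebra.IsPushout.cancelBaseChangeAlg R S (MvPolynomial (Fin n) R) (MvPolynomial (Fin n) S) D'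
  let e2 : S ⊗[R] D' ≃ₐ[S] M := Algebra.IsPushout.equiv R S D' M
  haveI : Algebra.FinitePresentation S (MvPolynomial (Fin n) S ⊗[MvPolynomial (Fin n) R] D') :=
    Algebra.FinitePresentation.equiv (e1.trans e2).symm
  let g : MvPolynomial (Fin n) S →ₐ[S] MvPolynomial (Fin n) S ⊗[MvPolynomial (Fin n) R] D' :=
    IsScalarTower.toAlgHom S (MvPolynomial (Fin n) S) _
  have hg : Function.Surjective g := by
    intro z
    induction z using TensorProduct.induction_on with
    | zero => exact ⟨0, map_zero _⟩
    | tmul p d =>
      obtain ⟨q, rfl⟩ := hπ d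
      refine ⟨p * algebraMap _ _ q, ?_⟩
      change algebraMap _ _ (p * algebraMap _ _ q) = _
      rw [Algebra.TensorProduct.algebraMap_apply, Algebra.algebraMap_self, RingHom.id_apply,
        mul_comm, ← Algebra.smul_def, TensorProduct.smul_tmul, Algebra.smul_def, mul_one]
      rfl
    | add x y hx hy =>
      obtain ⟨a, rfl⟩ := hx
      obtain ⟨b, rfl⟩ := hy
      exact ⟨a + b, map_add _ _ _⟩
  have hfg : (RingHom.ker g.toRingHom).FG :=
    Algebra.FinitePresentation.ker_fG_of_surjective g hg
  haveI : Module.FinitePresentation (MvPolynomial (Fin n) S)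
      (MvPolynomial (Fin n) S ⊗[MvPolynomial (Fin n) R] D') := by
    refine Module.finitePresentation_of_surjective
      (Algebra.linearMap (MvPolynomial (Fin n) S) _) hg ?_
    have hk : LinearMap.ker (Algebra.linearMap (MvPolynomial (Fin n) S)
        (MvPolynomial (Fin n) S ⊗[MvPolynomial (Fin n) R] D')) = RingHom.ker g.toRingHom := by
      ext x; rfl
    rw [hk]; exact hfg
  exact rel_finite_baseChange_ker R S (MvPolynomial (Fin n) R) (MvPolynomial (Fin n) S)
    (Algebra.linearMap (MvPolynomial (Fin n) R) D') hπ'

end fpgeneric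

section rel

variable {B' B A' A : Type u} [CommRing B'] [CommRing B] [CommRing A'] [CommRing A]
    [Algebra B' B] [Algebra B' A'] [Algebra B A] [Algebra A' A] [Algebra B' A]
    [IsScalarTower B' B A] [IsScalarTower B' A' A]
    (hsq : EtMil.IsFibreSquare B' B A' A)
    (D' D C' : Type u) [CommRing D'] [CommRing D] [CommRing C']
    [Algebra B' D'] [Algebra B D] [Algebra A' C']
    [Algebra D' D] [Algebra B' D] [IsScalarTower B' B D] [IsScalarTower B' D' D]
    [Algebra.IsPushout B' B D' D]
    [Algebra D' C'] [Algebra B' C'] [IsScalarTower B' A' C'] [IsScalarTower B' D' C']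
    [Algebra.IsPushout B' A' D' C']

include hsq D C' in
theorem finitePresentation_of_flat_alg [Module.Flat B' D'] [Algebra.FiniteType B' D']
    [Algebra.FinitePresentation B D] [Algebra.FinitePresentation A' C'] :
    Algebra.FinitePresentation B' D' := by
  obtain ⟨n, π, hπ⟩ := Algebra.FiniteType.iff_quotient_mvPolynomial''.mp ‹Algebra.FiniteType B' D'›
  letI : Algebra (MvPolynomial (Fin n) B') D' := π.toRingHom.toAlgebra
  haveI : IsScalarTower B' (MvPolynomial (Fin n) B') D' :=
    IsScalarTower.of_algebraMap_eq (fun r => (π.commutes r).symm)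
  haveI h1 : Module.Finite (MvPolynomial (Fin n) B)
      (MvPolynomial (Fin n) B ⊗[MvPolynomial (Fin n) B']
        (LinearMap.ker (Algebra.linearMap (MvPolynomial (Fin n) B') D'))) :=
    finite_tensor_ker (R := B') (S := B) D' D n π hπ
  haveI h2 : Module.Finite (MvPolynomial (Fin n) A')
      (MvPolynomial (Fin n) A' ⊗[MvPolynomial (Fin n) B']
        (LinearMap.ker (Algebra.linearMap (MvPolynomial (Fin n) B') D'))) :=
    finite_tensor_ker (R := B') (S := A') D' C' n π hπ
  have hK : Module.Finite (MvPolynomial (Fin n) B')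
      (LinearMap.ker (Algebra.linearMap (MvPolynomial (Fin n) B') D')) :=
    finite_rel hsq (MvPolynomial (Fin n) B') (MvPolynomial (Fin n) B) (MvPolynomial (Fin n) A') _
  refine Algebra.FinitePresentation.of_surjective hπ ?_
  have hk : LinearMap.ker (Algebra.linearMap (MvPolynomial (Fin n) B') D') =
      RingHom.ker π.toRingHom := by
    ext x; rfl
  rw [← hk]
  exact Module.Finite.iff_fg.mp hK

end rel

end Groth.Agent.Lib.Helper56.MilnorAlg
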