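import Groth.Agent.Lib.Helper56.MilnorFlat
import Mathlib.RingTheory.Spectrum.Prime.Topology
import Mathlib.RingTheory.Spectrum.Prime.RingHom

/-!
# Prime spectra of Milnor squares (helper56)

For a Milnor square `B' = B ×_A A'` (with `A' → A` surjective):
* primes of `B'` not containing `J = ker (B' → B)` lift uniquely to `A'` (`liftIdeal`);
* `Spec B'` is the set-theoretic pushout, with the quotient topology (`isClosed_of_isClosed_preimage`).
-/

set_option autoImplicit false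
set_option linter.unusedSectionVars false
set_option linter.style.haveILetI false
set_option maxHeartbeats 400000
universe u
open TensorProduct

namespace Groth.Agent.Lib.Helper56.Milnor

open PrimeSpectrum

variable {B' B A' A : Type u} [CommRing B'] [CommRing B] [CommRing A'] [CommRing A]
  [Algebra B' B] [Algebra B' A'] [Algebra B A] [Algebra A' A] [Algebra B' A]
  [IsScalarTower B' B A] [IsScalarTower B' A' A]

section lift

variable (hsq : EtMil.IsFibreSquare B' B A' A) (j : B') (hj : algebraMap B' B j = 0)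

theorem psi_mul (c a : A') :
    psi hsq j hj (c * a) * j = psi hsq j hj c * psi hsq j hj a := by
  apply ext' hsq
  · rw [RingHom.map_mul, RingHom.map_mul, psi_B, psi_B, zero_mul, zero_mul]
  · rw [RingHom.map_mul, RingHom.map_mul, psi_A', psi_A', psi_A']; ring

theorem psi_algebraMap (b' : B') : psi hsq j hj (algebraMap B' A' b') = b' * j := by
  rw [Algebra.algebraMap_eq_smul_one, map_smul, psi_one, smul_eq_mul]

/-- the prime of `A'` above a prime `𝔭` of `B'` not containing `j ∈ J`. -/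
noncomputable def liftIdeal (𝔭 : Ideal B') [h𝔭 : 𝔭.IsPrime] (hj𝔭 : j ∉ 𝔭) : Ideal A' where
  carrier := {a' | psi hsq j hj a' ∈ 𝔭}
  add_mem' := fun {a b} ha hb => by
    simp only [Set.mem_setOf_eq, map_add] at *
    exact 𝔭.add_mem ha hb
  zero_mem' := by simp
  smul_mem' := fun c {a} ha => by
    simp only [Set.mem_setOf_eq, smul_eq_mul] at *
    have h : psi hsq j hj (c * a) * j ∈ 𝔭 := by rw [psi_mul]; exact 𝔭.mul_mem_left _ ha
    exact (h𝔭.mem_or_mem h).resolve_right hj𝔭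

variable (𝔭 : Ideal B') [h𝔭 : 𝔭.IsPrime] (hj𝔭 : j ∉ 𝔭)

theorem mem_liftIdeal (a' : A') : a' ∈ liftIdeal hsq j hj 𝔭 hj𝔭 ↔ psi hsq j hj a' ∈ 𝔭 := Iff.rfl

theorem liftIdeal_isPrime : (liftIdeal hsq j hj 𝔭 hj𝔭).IsPrime := by
  refine ⟨?_, ?_⟩
  · rw [Ideal.ne_top_iff_one, mem_liftIdeal, psi_one]; exact hj𝔭
  · intro a c hac
    rw [mem_liftIdeal] at hac
    have : psi hsq j hj a * psi hsq j hj c ∈ 𝔭 := by
      rw [← psi_mul]; exact 𝔭.mul_mem_right _ hac
    exact h𝔭.mem_or_mem this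

theorem comap_liftIdeal : (liftIdeal hsq j hj 𝔭 hj𝔭).comap (algebraMap B' A') = 𝔭 := by
  ext b'
  rw [Ideal.mem_comap, mem_liftIdeal, psi_algebraMap]
  constructor
  · intro h; exact (h𝔭.mem_or_mem h).resolve_right hj𝔭
  · intro h; exact 𝔭.mul_mem_right _ h

omit h𝔭 in
theorem eq_liftIdeal (𝔭' : Ideal A') [h𝔭' : 𝔭'.IsPrime]
    (hj𝔭' : j ∉ 𝔭'.comap (algebraMap B' A')) :
    𝔭' = liftIdeal hsq j hj (𝔭'.comap (algebraMap B' A')) hj𝔭' := by
  ext a'
  rw [mem_liftIdeal, Ideal.mem_comap, psi_A']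
  constructor
  · intro h; exact 𝔭'.mul_mem_right _ h
  · intro h; exact (h𝔭'.mem_or_mem h).resolve_right hj𝔭'

end lift

variable (hsq : EtMil.IsFibreSquare B' B A' A)
include hsq

theorem ker_le_comap_iff (𝔭' : Ideal A') :
    RingHom.ker (algebraMap B' B) ≤ 𝔭'.comap (algebraMap B' A') ↔
      RingHom.ker (algebraMap A' A) ≤ 𝔭' := by
  constructor
  · intro h i hi
    obtain ⟨j, hjB, hjA⟩ := exists_jOf hsq i (RingHom.mem_ker.mp hi)
    have := h (RingHom.mem_ker.mpr hjB)
    rw [Ideal.mem_comap, hjA] at this; exact this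
  · intro h j hj
    rw [Ideal.mem_comap]; apply h
    rw [RingHom.mem_ker, ← compat (B := B), RingHom.mem_ker.mp hj, map_zero]

omit hsq in
theorem spec_comm (x : PrimeSpectrum A) :
    comap (algebraMap B' B) (comap (algebraMap B A) x) =
      comap (algebraMap B' A') (comap (algebraMap A' A) x) := by
  apply PrimeSpectrum.ext
  ext b'
  simp only [comap_asIdeal, Ideal.mem_comap]
  rw [compat (B := B) (A' := A') (A := A) b']

/-- primes of `B'` containing `J` come from `Spec B`. -/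
theorem exists_comap_B_eq (𝔭 : PrimeSpectrum B')
    (h : RingHom.ker (algebraMap B' B) ≤ 𝔭.asIdeal) :
    ∃ 𝔮 : PrimeSpectrum B, comap (algebraMap B' B) 𝔮 = 𝔭 := by
  have : 𝔭 ∈ Set.range (comap (algebraMap B' B)) := by
    rw [range_comap_of_surjective _ _ (surjB (A' := A') (A := A) hsq)]
    exact h
  exact this

/-- primes of `B'` not containing `J` come from `Spec A'`. -/
theorem exists_comap_A'_eq (𝔭 : PrimeSpectrum B')
    (h : ¬ RingHom.ker (algebraMap B' B) ≤ 𝔭.asIdeal) :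
    ∃ 𝔭' : PrimeSpectrum A', comap (algebraMap B' A') 𝔭' = 𝔭 := by
  obtain ⟨j, hjJ, hj𝔭⟩ := SetLike.not_le_iff_exists.mp h
  have hj : algebraMap B' B j = 0 := RingHom.mem_ker.mp hjJ
  haveI := 𝔭.isPrime
  refine ⟨⟨liftIdeal hsq j hj 𝔭.asIdeal hj𝔭, liftIdeal_isPrime hsq j hj 𝔭.asIdeal hj𝔭⟩, ?_⟩
  apply PrimeSpectrum.ext
  exact comap_liftIdeal hsq j hj 𝔭.asIdeal hj𝔭

/-- `Spec A' → Spec B'` is injective away from `V(I)`. -/
theorem comap_A'_inj (x y : PrimeSpectrum A')
    (hx : ¬ RingHom.ker (algebraMap A' A) ≤ x.asIdeal)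
    (hxy : comap (algebraMap B' A') x = comap (algebraMap B' A') y) : x = y := by
  have hx' : ¬ RingHom.ker (algebraMap B' B) ≤ x.asIdeal.comap (algebraMap B' A') := by
    rwa [ker_le_comap_iff hsq]
  obtain ⟨j, hjJ, hj𝔭⟩ := SetLike.not_le_iff_exists.mp hx'
  have hj : algebraMap B' B j = 0 := RingHom.mem_ker.mp hjJ
  have hI : x.asIdeal.comap (algebraMap B' A') = y.asIdeal.comap (algebraMap B' A') :=
    congrArg PrimeSpectrum.asIdeal hxy
  have hj𝔭y : j ∉ y.asIdeal.comap (algebraMap B' A') := by rw [← hI]; exact hj𝔭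
  haveI := x.isPrime
  haveI := y.isPrime
  apply PrimeSpectrum.ext
  rw [eq_liftIdeal hsq j hj x.asIdeal hj𝔭, eq_liftIdeal hsq j hj y.asIdeal hj𝔭y]
  congr 1

/-- the set-theoretic pullback property. -/
theorem exists_of_comap_eq (𝔮 : PrimeSpectrum B) (𝔭' : PrimeSpectrum A')
    (h : comap (algebraMap B' B) 𝔮 = comap (algebraMap B' A') 𝔭') :
    ∃ 𝔯 : PrimeSpectrum A, comap (algebraMap B A) 𝔯 = 𝔮 ∧ comap (algebraMap A' A) 𝔯 = 𝔭' := by
  have h1 : RingHom.ker (algebraMap B' B) ≤ 𝔭'.asIdeal.comap (algebraMap B' A') := by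
    have : (comap (algebraMap B' A') 𝔭').asIdeal = (comap (algebraMap B' B) 𝔮).asIdeal := by rw [h]
    rw [← comap_asIdeal, this, comap_asIdeal]
    intro j hj
    rw [Ideal.mem_comap, RingHom.mem_ker.mp hj]
    exact zero_mem _
  have h2 : 𝔭' ∈ Set.range (comap (algebraMap A' A)) := by
    rw [range_comap_of_surjective _ _ hsq.1]
    exact (ker_le_comap_iff hsq _).mp h1
  obtain ⟨𝔯, rfl⟩ := h2
  refine ⟨𝔯, ?_, rfl⟩
  apply comap_injective_of_surjective _ (surjB (A' := A') (A := A) hsq)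
  rw [spec_comm (B := B) (A' := A') (A := A), h]

/-- the topology of `Spec B'` is the quotient topology. -/
theorem isClosed_of_isClosed_preimage (Z : Set (PrimeSpectrum B'))
    (hZB : IsClosed (comap (algebraMap B' B) ⁻¹' Z))
    (hZA : IsClosed (comap (algebraMap B' A') ⁻¹' Z)) : IsClosed Z := by
  obtain ⟨𝔞', h𝔞'⟩ := (isClosed_iff_zeroLocus_ideal _).mp hZA
  obtain ⟨𝔟, h𝔟⟩ := (isClosed_iff_zeroLocus_ideal _).mp hZB
  have hsurjB := surjB (A' := A') (A := A) hsq
  have hZeq : Z = comap (algebraMap B' B) '' (comap (algebraMap B' B) ⁻¹' Z) ∪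
      zeroLocus (𝔞'.comap (algebraMap B' A')) := by
    apply Set.Subset.antisymm
    · intro 𝔭 h𝔭
      by_cases hJ : RingHom.ker (algebraMap B' B) ≤ 𝔭.asIdeal
      · obtain ⟨𝔮, rfl⟩ := exists_comap_B_eq hsq 𝔭 hJ
        exact Or.inl ⟨𝔮, h𝔭, rfl⟩
      · obtain ⟨𝔭', rfl⟩ := exists_comap_A'_eq hsq 𝔭 hJ
        right
        have : 𝔭' ∈ zeroLocus (𝔞' : Set A') := by rw [← h𝔞']; exact h𝔭
        rw [mem_zeroLocus, SetLike.coe_subset_coe] at this ⊢
        exact Ideal.comap_mono this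
    · rintro 𝔭 (⟨𝔮, h𝔮, rfl⟩ | h𝔭)
      · exact h𝔮
      · rw [mem_zeroLocus, SetLike.coe_subset_coe] at h𝔭
        by_cases hJ : RingHom.ker (algebraMap B' B) ≤ 𝔭.asIdeal
        · obtain ⟨𝔮, rfl⟩ := exists_comap_B_eq hsq 𝔭 hJ
          change 𝔮 ∈ comap (algebraMap B' B) ⁻¹' Z
          rw [h𝔟, mem_zeroLocus, SetLike.coe_subset_coe]
          intro b hb
          -- `a = pB b` lies in the radical of `𝔞' A`
          have ha : algebraMap B A b ∈ (𝔞'.map (algebraMap A' A)).radical := by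
            rw [Ideal.radical_eq_sInf, Ideal.mem_sInf]
            rintro 𝔯 ⟨h𝔯le, h𝔯prime⟩
            let r : PrimeSpectrum A := ⟨𝔯, h𝔯prime⟩
            have h1 : comap (algebraMap A' A) r ∈ comap (algebraMap B' A') ⁻¹' Z := by
              rw [h𝔞', mem_zeroLocus, SetLike.coe_subset_coe, comap_asIdeal]
              exact Ideal.map_le_iff_le_comap.mp h𝔯le
            have h2 : comap (algebraMap B A) r ∈ comap (algebraMap B' B) ⁻¹' Z := by
              change comap (algebraMap B' B) (comap (algebraMap B A) r) ∈ Z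
              rw [spec_comm (B := B) (A' := A') (A := A)]; exact h1
            rw [h𝔟, mem_zeroLocus, SetLike.coe_subset_coe, comap_asIdeal] at h2
            exact h2 hb
          obtain ⟨n, hn⟩ := ha
          rw [Ideal.mem_map_iff_of_surjective _ hsq.1] at hn
          obtain ⟨x, hx𝔞, hx⟩ := hn
          obtain ⟨b'', ⟨hb''B, hb''A⟩, -⟩ := hsq.2 (b ^ n) x (by rw [map_pow, hx])
          have h3 : b'' ∈ (comap (algebraMap B' B) 𝔮).asIdeal := by
            apply h𝔭
            rw [Ideal.mem_comap, hb''A]; exact hx𝔞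
          rw [comap_asIdeal, Ideal.mem_comap, hb''B] at h3
          exact 𝔮.isPrime.mem_of_pow_mem n h3
        · obtain ⟨j, hjJ, hj𝔭⟩ := SetLike.not_le_iff_exists.mp hJ
          have hj : algebraMap B' B j = 0 := RingHom.mem_ker.mp hjJ
          haveI := 𝔭.isPrime
          let 𝔭' : PrimeSpectrum A' :=
            ⟨liftIdeal hsq j hj 𝔭.asIdeal hj𝔭, liftIdeal_isPrime hsq j hj 𝔭.asIdeal hj𝔭⟩
          have h𝔭' : comap (algebraMap B' A') 𝔭' = 𝔭 := by
            apply PrimeSpectrum.ext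
            exact comap_liftIdeal hsq j hj 𝔭.asIdeal hj𝔭
          have hmem : 𝔭' ∈ comap (algebraMap B' A') ⁻¹' Z := by
            rw [h𝔞', mem_zeroLocus, SetLike.coe_subset_coe]
            intro a' ha'
            change psi hsq j hj a' ∈ 𝔭.asIdeal
            apply h𝔭
            rw [Ideal.mem_comap, psi_A']
            exact 𝔞'.mul_mem_right _ ha'
          rw [← h𝔭']; exact hmem
  rw [hZeq]
  exact ((isClosedEmbedding_comap_of_surjective _ _ hsurjB).isClosedMap _ hZB).union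
    (isClosed_zeroLocus _)

end Groth.Agent.Lib.Helper56.Milnor
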