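import Groth.Agent.Lib.Helper56.MilnorAlgC
import Groth.Agent.Lib.Helper56.MilnorSpec
import Mathlib.RingTheory.Smooth.Fiber
import Mathlib.RingTheory.Etale.Descent

/-!
# Algebras over a Milnor square (helper56), part D: smooth and étale
-/

set_option autoImplicit false
set_option linter.unusedSectionVars false
set_option linter.style.haveILetI false
set_option maxHeartbeats 400000
universe u
open TensorProduct

namespace Groth.Agent.Lib.Helper56.MilnorAlg

open Groth.Agent.Lib.Helper56.Milnor

section fibre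

/-- If `T ⊗_R S` is smooth over `T` and `Q` is a prime of `T` over the prime `I` of `R`, then the
fibre of `S` at `I` is smooth. -/
theorem formallySmooth_fiber_of_smooth_baseChange {R S T : Type u} [CommRing R] [CommRing S]
    [CommRing T] [Algebra R S] [Algebra R T] [Algebra.Smooth T (T ⊗[R] S)]
    (I : Ideal R) [I.IsPrime] (Q : Ideal T) [Q.IsPrime]
    (hIQ : I = Q.comap (algebraMap R T)) :
    Algebra.FormallySmooth I.ResidueField (I.Fiber S) := by
  letI : Algebra I.ResidueField Q.ResidueField :=
    (Ideal.ResidueField.map I Q (algebraMap R T) hIQ).toAlgebra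
  haveI : IsScalarTower R I.ResidueField Q.ResidueField :=
    IsScalarTower.of_algebraMap_eq (fun r =>
      ((Ideal.ResidueField.map_algebraMap I Q (algebraMap R T) hIQ r).trans
        (IsScalarTower.algebraMap_apply R T Q.ResidueField r).symm).symm)
  let e1 : Q.ResidueField ⊗[T] (T ⊗[R] S) ≃ₐ[Q.ResidueField] Q.ResidueField ⊗[R] S :=
    Algebra.TensorProduct.cancelBaseChange R T Q.ResidueField Q.ResidueField S
  let e2 : Q.ResidueField ⊗[I.ResidueField] (I.ResidueField ⊗[R] S) ≃ₐ[Q.ResidueField]
      Q.ResidueField ⊗[R] S :=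
    Algebra.TensorProduct.cancelBaseChange R I.ResidueField Q.ResidueField Q.ResidueField S
  haveI : Algebra.Smooth Q.ResidueField
      (Q.ResidueField ⊗[I.ResidueField] (I.ResidueField ⊗[R] S)) :=
    Algebra.Smooth.of_equiv (e1.trans e2.symm)
  have : Algebra.Smooth I.ResidueField (I.ResidueField ⊗[R] S) :=
    Algebra.Smooth.of_smooth_tensorProduct_of_faithfullyFlat Q.ResidueField
  exact this.formallySmooth

end fibre

section rel

variable {B' B A' A : Type u} [CommRing B'] [CommRing B] [CommRing A'] [CommRing A]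
    [Algebra B' B] [Algebra B' A'] [Algebra B A] [Algebra A' A] [Algebra B' A]
    [IsScalarTower B' B A] [IsScalarTower B' A' A]
    (hsq : EtMil.IsFibreSquare B' B A' A)
    (D' D C' : Type u) [CommRing D'] [CommRing D] [CommRing C']
    [Algebra B' D'] [Algebra B D] [Algebra A' C']
    [Algebra D' D] [Algebra B' D] [IsScalarTower B' B D] [IsScalarTower B' D' D]
    [Algebra.IsPushout B' B D' D]
    [Algebra D' C'] [Algebra B' C'] [IsScalarTower B' A' C'] [IsScalarTower B' D' C']
    [Algebra.IsPushout B' A' D' C']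

include hsq D C' in
theorem smooth_of_smooth [Algebra.Smooth B D] [Algebra.Smooth A' C'] : Algebra.Smooth B' D' := by
  haveI : Module.Flat B' D' := flat_of_flat_alg hsq D' D C'
  haveI : Algebra.FiniteType B' D' := finiteType_of_finiteType hsq D' D C'
  haveI : Algebra.FinitePresentation B' D' := finitePresentation_of_flat_alg hsq D' D C'
  haveI : Algebra.Smooth B (B ⊗[B'] D') :=
    Algebra.Smooth.of_equiv (Algebra.IsPushout.equiv B' B D' D).symm
  haveI : Algebra.Smooth A' (A' ⊗[B'] D') :=
    Algebra.Smooth.of_equiv (Algebra.IsPushout.equiv B' A' D' C').symm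
  refine Algebra.Smooth.of_formallySmooth_fiber (fun I hI => ?_)
  by_cases h : RingHom.ker (algebraMap B' B) ≤ I
  · obtain ⟨𝔮, h𝔮⟩ := exists_comap_B_eq (A' := A') (A := A) hsq ⟨I, hI⟩ h
    haveI := 𝔮.isPrime
    exact formallySmooth_fiber_of_smooth_baseChange (T := B) I 𝔮.asIdeal
      (congrArg PrimeSpectrum.asIdeal h𝔮).symm
  · obtain ⟨𝔭', h𝔭'⟩ := exists_comap_A'_eq (B := B) (A := A) hsq ⟨I, hI⟩ h
    haveI := 𝔭'.isPrime
    exact formallySmooth_fiber_of_smooth_baseChange (T := A') I 𝔭'.asIdeal
      (congrArg PrimeSpectrum.asIdeal h𝔭').symm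

include hsq D C' in
theorem etale_of_etale [Algebra.Etale B D] [Algebra.Etale A' C'] : Algebra.Etale B' D' := by
  haveI : Algebra.Smooth B' D' := smooth_of_smooth hsq D' D C'
  haveI : Module.Flat B' D' := flat_of_flat_alg hsq D' D C'
  haveI : Subsingleton (B ⊗[B'] Ω[D'⁄B']) :=
    (KaehlerDifferential.tensorKaehlerEquivBase B' B D' D).toEquiv.subsingleton
  haveI : Subsingleton (A' ⊗[B'] Ω[D'⁄B']) :=
    (KaehlerDifferential.tensorKaehlerEquivBase B' A' D' C').toEquiv.subsingleton
  haveI : Subsingleton Ω[D'⁄B'] := subsingleton_of_subsingleton _ hsq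
  haveI : Algebra.FormallyUnramified B' D' := ⟨inferInstance⟩
  exact Algebra.Etale.of_formallyUnramified_of_flat

end rel

end Groth.Agent.Lib.Helper56.MilnorAlg
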