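import Groth.Agent.Lib.Helper56.MilnorFlat
import Groth.Agent.Lib.Helper46.Azumaya
import Mathlib.RingTheory.Flat.EquationalCriterion
import Mathlib.Algebra.Module.FinitePresentation

/-!
# Azumaya algebras over Milnor squares (helper56)

* `bcPsi_bijective` : the comparison map `S ⊗ (A ⊗ Aᵐᵒᵖ) → (S ⊗ A) ⊗_S (S ⊗ A)ᵐᵒᵖ` of helper46 is bijective.
* `projective_of_projective` : finite projective descends along a Milnor square.
* `bijective_of_bijective_baseChange` : a linear map into a projective module over a Milnor square
  is bijective as soon as both its base changes are.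
* `isAzumaya_of_isAzumaya` : Azumaya descends along a Milnor square.
-/

set_option autoImplicit false
set_option linter.unusedSectionVars false
set_option linter.style.haveILetI false
set_option maxHeartbeats 400000
universe u
open TensorProduct MulOpposite

namespace Groth.Agent.Lib.Helper56.Milnor

open Groth.Agent.Lib.Helper46.Azumaya

section bcPsi

variable (R : Type*) [CommRing R] (S : Type*) [CommRing S] [Algebra R S]
  (A : Type*) [Ring A] [Algebra R A]

/-- `S ⊗ Aᵐᵒᵖ ≃ (S ⊗ A)ᵐᵒᵖ`. -/
noncomputable def opBC : S ⊗[R] Aᵐᵒᵖ ≃ₗ[S] (S ⊗[R] A)ᵐᵒᵖ :=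
  (TensorProduct.AlgebraTensorModule.congr (LinearEquiv.refl S S) (opLinearEquiv R).symm) ≪≫ₗ
    opLinearEquiv S

lemma opBC_tmul (s : S) (a : Aᵐᵒᵖ) : opBC R S A (s ⊗ₜ a) = op (s ⊗ₜ[R] unop a) := rfl

/-- the comparison equivalence. -/
noncomputable def bcPsiEquiv : S ⊗[R] (A ⊗[R] Aᵐᵒᵖ) ≃ₗ[S] (S ⊗[R] A) ⊗[S] (S ⊗[R] A)ᵐᵒᵖ :=
  (TensorProduct.AlgebraTensorModule.distribBaseChange R S A Aᵐᵒᵖ) ≪≫ₗ
    TensorProduct.congr (LinearEquiv.refl S _) (opBC R S A)

lemma bcPsi_eq (z : S ⊗[R] (A ⊗[R] Aᵐᵒᵖ)) : bcPsi R S A z = bcPsiEquiv R S A z := by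
  induction z using TensorProduct.induction_on with
  | zero => simp
  | add x y hx hy => simp only [map_add, hx, hy]
  | tmul s y =>
    induction y using TensorProduct.induction_on with
    | zero => simp
    | add x y hx hy => simp only [tmul_add, map_add, hx, hy]
    | tmul a a' =>
      rw [bcPsi_tmul]
      simp only [bcPsiEquiv, LinearEquiv.trans_apply,
        TensorProduct.AlgebraTensorModule.distribBaseChange_tmul, TensorProduct.congr_tmul,
        LinearEquiv.refl_apply, opBC_tmul]
      rw [TensorProduct.smul_tmul', TensorProduct.smul_tmul', smul_eq_mul, mul_one]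

theorem bcPsi_bijective : Function.Bijective (bcPsi R S A) := by
  have : ⇑(bcPsi R S A) = ⇑(bcPsiEquiv R S A) := funext (bcPsi_eq R S A)
  rw [this]
  exact (bcPsiEquiv R S A).bijective

/-- If `S ⊗ A` is Azumaya over `S` and `A` is finite projective over `R`, then the base change
of `mulLeftRight R A` to `S` is bijective. -/
theorem baseChange_mulLeftRight_bijective [Module.Finite R A] [Module.Projective R A]
    [IsAzumaya S (S ⊗[R] A)] :
    Function.Bijective ((AlgHom.mulLeftRight R A).toLinearMap.baseChange S) := by
  have h1 : Function.Bijective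
      (fun z => AlgHom.mulLeftRight S (S ⊗[R] A) (bcPsi R S A z)) :=
    (IsAzumaya.bij (R := S) (A := S ⊗[R] A)).comp (bcPsi_bijective R S A)
  have hcomp : (fun z => AlgHom.mulLeftRight S (S ⊗[R] A) (bcPsi R S A z)) =
      (⇑(endBC R S A)) ∘ ⇑((AlgHom.mulLeftRight R A).toLinearMap.baseChange S) :=
    funext (mulLeftRight_bcPsi R S A)
  rw [hcomp] at h1
  exact (Function.Bijective.of_comp_iff' (endBC_bijective R S A) _).1 h1

end bcPsi

variable {B' B A' A : Type u} [CommRing B'] [CommRing B] [CommRing A'] [CommRing A]
  [Algebra B' B] [Algebra B' A'] [Algebra B A] [Algebra A' A] [Algebra B' A]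
  [IsScalarTower B' B A] [IsScalarTower B' A' A]

/-- finite projective descends along a Milnor square. -/
theorem projective_of_projective (hsq : EtMil.IsFibreSquare B' B A' A)
    (L' : Type u) [AddCommGroup L'] [Module B' L']
    [Module.Finite B (B ⊗[B'] L')] [Module.Projective B (B ⊗[B'] L')]
    [Module.Finite A' (A' ⊗[B'] L')] [Module.Projective A' (A' ⊗[B'] L')] :
    Module.Projective B' L' := by
  haveI : Module.FinitePresentation B (B ⊗[B'] L') := Module.finitePresentation_of_projective _ _
  haveI : Module.FinitePresentation A' (A' ⊗[B'] L') := Module.finitePresentation_of_projective _ _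
  haveI : Module.Flat B' L' := flat_of_flat L' hsq
  haveI : Module.FinitePresentation B' L' := finitePresentation_of_flat L' hsq
  exact Module.Flat.projective_of_finitePresentation

/-- faithfulness descends along a Milnor square. -/
theorem faithfulSMul_of_faithfulSMul (hsq : EtMil.IsFibreSquare B' B A' A)
    (L' : Type u) [AddCommGroup L'] [Module B' L']
    [FaithfulSMul B (B ⊗[B'] L')] [FaithfulSMul A' (A' ⊗[B'] L')] : FaithfulSMul B' L' := by
  refine ⟨fun {c₁ c₂} h => ?_⟩
  have key : ∀ (S : Type u) [CommRing S] [Algebra B' S] (x : S ⊗[B'] L'),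
      algebraMap B' S c₁ • x = algebraMap B' S c₂ • x := by
    intro S _ _ x
    rw [algebraMap_smul, algebraMap_smul]
    induction x using TensorProduct.induction_on with
    | zero => simp
    | tmul s l => rw [← TensorProduct.tmul_smul, ← TensorProduct.tmul_smul, h l]
    | add x y hx hy => rw [smul_add, smul_add, hx, hy]
  apply ext' hsq
  · exact FaithfulSMul.eq_of_smul_eq_smul (α := B ⊗[B'] L') (key B)
  · exact FaithfulSMul.eq_of_smul_eq_smul (α := A' ⊗[B'] L') (key A')

/-- A linear map into a projective module over a Milnor square is bijective as soon as both base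
changes are bijective. -/
theorem bijective_of_bijective_baseChange (hsq : EtMil.IsFibreSquare B' B A' A)
    {M N : Type u} [AddCommGroup M] [AddCommGroup N] [Module B' M] [Module B' N]
    [Module.Projective B' N] (f : M →ₗ[B'] N)
    (hB : Function.Bijective (f.baseChange B)) (hA : Function.Bijective (f.baseChange A')) :
    Function.Bijective f := by
  -- surjectivity
  have hsurj : Function.Surjective f := by
    have hC : ∀ (S : Type u) [CommRing S] [Algebra B' S],
        Function.Surjective (f.baseChange S) →
        Subsingleton (S ⊗[B'] (N ⧸ LinearMap.range f)) := by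
      intro S _ _ hS
      refine ⟨fun x y => ?_⟩
      have h0 : ∀ x : S ⊗[B'] (N ⧸ LinearMap.range f), x = 0 := by
        intro x
        obtain ⟨y, rfl⟩ := LinearMap.lTensor_surjective S (LinearMap.range f).mkQ_surjective x
        obtain ⟨z, rfl⟩ := hS y
        rw [LinearMap.baseChange_eq_ltensor, ← LinearMap.comp_apply, ← LinearMap.lTensor_comp]
        have : (LinearMap.range f).mkQ ∘ₗ f = 0 := by
          ext m; simp
        rw [this, LinearMap.lTensor_zero]; rfl
      rw [h0 x, h0 y]
    haveI := hC B hB.2
    haveI := hC A' hA.2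
    have hQ : Subsingleton (N ⧸ LinearMap.range f) :=
      subsingleton_of_subsingleton (N ⧸ LinearMap.range f) hsq
    rw [← LinearMap.range_eq_top]
    exact Submodule.Quotient.subsingleton_iff.mp hQ
  refine ⟨?_, hsurj⟩
  -- injectivity
  obtain ⟨s, hs⟩ := Module.projective_lifting_property f LinearMap.id hsurj
  let p : M →ₗ[B'] LinearMap.ker f :=
    LinearMap.codRestrict (LinearMap.ker f) (LinearMap.id - s ∘ₗ f) (by
      intro m
      have := LinearMap.congr_fun hs (f m)
      simp only [LinearMap.comp_apply, LinearMap.id_apply] at this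
      simp [this])
  have hp : p ∘ₗ (LinearMap.ker f).subtype = LinearMap.id := by
    ext ⟨k, hk⟩
    simp [p, LinearMap.mem_ker.mp hk]
  have hK : ∀ (S : Type u) [CommRing S] [Algebra B' S],
      Function.Injective (f.baseChange S) →
      Subsingleton (S ⊗[B'] (LinearMap.ker f)) := by
    intro S _ _ hS
    have h0 : ∀ y : S ⊗[B'] (LinearMap.ker f), y = 0 := by
      intro y
      have h1 : (LinearMap.ker f).subtype.lTensor S y = 0 := by
        apply hS
        rw [map_zero, LinearMap.baseChange_eq_ltensor, ← LinearMap.comp_apply,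
          ← LinearMap.lTensor_comp]
        have : f ∘ₗ (LinearMap.ker f).subtype = 0 := by
          ext ⟨k, hk⟩; simpa using hk
        rw [this, LinearMap.lTensor_zero]; rfl
      have h2 := congrArg (p.lTensor S) h1
      rw [← LinearMap.comp_apply, ← LinearMap.lTensor_comp, hp, LinearMap.lTensor_id,
        LinearMap.id_apply, map_zero] at h2
      exact h2
    exact ⟨fun x y => by rw [h0 x, h0 y]⟩
  haveI := hK B hB.1
  haveI := hK A' hA.1
  have hQ : Subsingleton (LinearMap.ker f) := subsingleton_of_subsingleton (LinearMap.ker f) hsq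
  rw [← LinearMap.ker_eq_bot]
  exact Submodule.subsingleton_iff_eq_bot.mp hQ

/-- Azumaya descends along a Milnor square. -/
theorem isAzumaya_of_isAzumaya (hsq : EtMil.IsFibreSquare B' B A' A)
    (D' : Type u) [Ring D'] [Algebra B' D']
    [hB : IsAzumaya B (B ⊗[B'] D')] [hA : IsAzumaya A' (A' ⊗[B'] D')] : IsAzumaya B' D' := by
  haveI : Module.Finite B' D' := finite_of_finite D' hsq
  haveI : Module.Projective B' D' := projective_of_projective hsq D'
  haveI : FaithfulSMul B' D' := faithfulSMul_of_faithfulSMul hsq D'
  haveI : Module.Projective B' (Module.End B' D') :=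
    Module.Projective.of_equiv (dualTensorHomEquiv B' D' D')
  refine { bij := ?_ }
  exact bijective_of_bijective_baseChange hsq (AlgHom.mulLeftRight B' D').toLinearMap
    (baseChange_mulLeftRight_bijective B' B D') (baseChange_mulLeftRight_bijective B' A' D')

end Groth.Agent.Lib.Helper56.Milnor
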