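import Groth.Agent.Lib.Helper56.Milnor
import Mathlib.RingTheory.Flat.Equalizer
import Mathlib.RingTheory.Flat.Tensor
import Mathlib.LinearAlgebra.TensorProduct.Prod

/-!
# Milnor squares of `R`-algebras: flatness of the corner and base change (helper56)
-/

set_option autoImplicit false
set_option maxHeartbeats 400000
set_option linter.unusedSectionVars false
universe u
open TensorProduct

namespace Groth.Agent.Lib.Helper56.Milnor

theorem flat_prod {R M N : Type*} [CommRing R] [AddCommGroup M] [AddCommGroup N] [Module R M]
    [Module R N] [Module.Flat R M] [Module.Flat R N] : Module.Flat R (M × N) := by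
  rw [Module.Flat.iff_lTensor_injective']
  intro I
  have h1 : Function.Injective (I.subtype.lTensor M) :=
    Module.Flat.lTensor_preserves_injective_linearMap _ I.injective_subtype
  have h2 : Function.Injective (I.subtype.lTensor N) :=
    Module.Flat.lTensor_preserves_injective_linearMap _ I.injective_subtype
  have hnat : ∀ z : (M × N) ⊗[R] I,
      TensorProduct.prodLeft R R M N R (I.subtype.lTensor (M × N) z) =
        (I.subtype.lTensor M ((TensorProduct.prodLeft R R M N I z).1),
          I.subtype.lTensor N ((TensorProduct.prodLeft R R M N I z).2)) := by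
    intro z
    induction z using TensorProduct.induction_on with
    | zero => simp only [map_zero, Prod.fst_zero, Prod.snd_zero]; rfl
    | tmul p i =>
      obtain ⟨m, n⟩ := p
      simp only [LinearMap.lTensor_tmul, TensorProduct.prodLeft_tmul, Submodule.subtype_apply]
    | add a b ha hb => simp only [map_add, ha, hb, Prod.fst_add, Prod.snd_add, Prod.mk_add_mk]
  intro a b hab
  have h := congrArg (TensorProduct.prodLeft R R M N R) hab
  rw [hnat, hnat] at h
  apply (TensorProduct.prodLeft R R M N I).injective
  exact Prod.ext (h1 (congrArg Prod.fst h)) (h2 (congrArg Prod.snd h))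

section

variable {R B' B A' A : Type u} [CommRing R] [CommRing B'] [CommRing B] [CommRing A'] [CommRing A]
  [Algebra B' B] [Algebra B' A'] [Algebra B A] [Algebra A' A] [Algebra B' A]
  [IsScalarTower B' B A] [IsScalarTower B' A' A]
  [Algebra R B'] [Algebra R B] [Algebra R A'] [Algebra R A]
  [IsScalarTower R B' B] [IsScalarTower R B' A'] [IsScalarTower R B' A] [IsScalarTower R B A]
  [IsScalarTower R A' A]

variable (R B' B A') in
/-- `B' → B × A'` as an `R`-linear map. -/
noncomputable def iR : B' →ₗ[R] B × A' :=
  (IsScalarTower.toAlgHom R B' B).toLinearMap.prod (IsScalarTower.toAlgHom R B' A').toLinearMap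

variable (R B A' A) in
/-- `B × A' → A`, `(b, a') ↦ b - a'`, as an `R`-linear map. -/
noncomputable def qR : B × A' →ₗ[R] A :=
  (IsScalarTower.toAlgHom R B A).toLinearMap.coprod (-(IsScalarTower.toAlgHom R A' A).toLinearMap)

theorem iR_apply (x : B') : iR R B' B A' x = (algebraMap B' B x, algebraMap B' A' x) := rfl

theorem qR_apply (p : B × A') : qR R B A' A p = algebraMap B A p.1 - algebraMap A' A p.2 := by
  simp [qR, sub_eq_add_neg]

theorem iR_injective (hsq : EtMil.IsFibreSquare B' B A' A) :
    Function.Injective (iR R B' B A') := by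
  intro x y hxy
  rw [iR_apply, iR_apply] at hxy
  exact ext' hsq (congrArg Prod.fst hxy) (congrArg Prod.snd hxy)

theorem qR_surjective (hsq : EtMil.IsFibreSquare B' B A' A) :
    Function.Surjective (qR R B A' A) := by
  intro a
  obtain ⟨a', ha'⟩ := hsq.1 a
  exact ⟨(0, -a'), by rw [qR_apply]; simp [ha']⟩

theorem exact_iR_qR (hsq : EtMil.IsFibreSquare B' B A' A) :
    Function.Exact (iR R B' B A') (qR R B A' A) := by
  rintro ⟨b, a'⟩
  rw [qR_apply]
  constructor
  · intro h
    obtain ⟨b', ⟨hb1, hb2⟩, -⟩ := hsq.2 b a' (sub_eq_zero.mp h)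
    exact ⟨b', by rw [iR_apply, hb1, hb2]⟩
  · rintro ⟨b', hb'⟩
    rw [iR_apply] at hb'
    have h1 := congrArg Prod.fst hb'
    have h2 := congrArg Prod.snd hb'
    simp only at h1 h2
    rw [← h1, ← h2, compat (B := B) (A' := A') (A := A), sub_self]

/-- `S17900`. -/
theorem flat_corner (hsq : EtMil.IsFibreSquare B' B A' A)
    [Module.Flat R B] [Module.Flat R A'] [Module.Flat R A] : Module.Flat R B' := by
  have : Module.Flat R (B × A') := flat_prod
  rw [Module.Flat.iff_lTensor_preserves_injective_linearMap]
  intro N N' _ _ _ _ f hf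
  have h1 : Function.Injective ((iR R B' B A').rTensor N) := by
    rw [← LinearMap.lTensor_inj_iff_rTensor_inj]
    exact LinearMap.lTensor_injective_of_exact_of_flat (qR R B A' A) (qR_surjective hsq)
      (iR R B' B A') (iR_injective hsq) (exact_iR_qR hsq) N
  have h2 : Function.Injective (f.lTensor (B × A')) :=
    Module.Flat.lTensor_preserves_injective_linearMap f hf
  have h3 : ((iR R B' B A').rTensor N') ∘ₗ (f.lTensor B') =
      (f.lTensor (B × A')) ∘ₗ ((iR R B' B A').rTensor N) := by
    ext x y
    simp
  have h4 : Function.Injective (((iR R B' B A').rTensor N') ∘ₗ (f.lTensor B')) := by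
    rw [h3]
    exact h2.comp h1
  exact Function.Injective.of_comp (f := (iR R B' B A').rTensor N')
    (by rw [← LinearMap.coe_comp]; exact h4)

theorem map_id_eq_lTensor {R' X Y : Type u} [CommRing R'] [Algebra R R'] [CommRing X] [CommRing Y]
    [Algebra R X] [Algebra R Y] (f : X →ₐ[R] Y) (z : R' ⊗[R] X) :
    Algebra.TensorProduct.map (AlgHom.id R R') f z = f.toLinearMap.lTensor R' z := by
  induction z using TensorProduct.induction_on with
  | zero => simp
  | tmul r x => simp
  | add a b ha hb => simp only [map_add, ha, hb]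

/-- `S17901`: base change of a Milnor square of flat `R`-algebras is a Milnor square. -/
theorem baseChange_fibreSquare (hsq : EtMil.IsFibreSquare B' B A' A)
    [Module.Flat R B] [Module.Flat R A'] [Module.Flat R A]
    (R' : Type u) [CommRing R'] [Algebra R R'] :
    Function.Surjective (Algebra.TensorProduct.map (AlgHom.id R R') (IsScalarTower.toAlgHom R A' A)) ∧
    ∀ (x : R' ⊗[R] B) (y : R' ⊗[R] A'),
      Algebra.TensorProduct.map (AlgHom.id R R') (IsScalarTower.toAlgHom R B A) x =
        Algebra.TensorProduct.map (AlgHom.id R R') (IsScalarTower.toAlgHom R A' A) y →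
      ∃! z : R' ⊗[R] B',
        Algebra.TensorProduct.map (AlgHom.id R R') (IsScalarTower.toAlgHom R B' B) z = x ∧
        Algebra.TensorProduct.map (AlgHom.id R R') (IsScalarTower.toAlgHom R B' A') z = y := by
  constructor
  · intro a
    obtain ⟨z, hz⟩ := LinearMap.lTensor_surjective R'
      (show Function.Surjective (IsScalarTower.toAlgHom R A' A).toLinearMap from hsq.1) a
    exact ⟨z, by rw [map_id_eq_lTensor, hz]⟩
  · intro x y hxy
    simp only [map_id_eq_lTensor] at hxy ⊢
    set tB := (IsScalarTower.toAlgHom R B A).toLinearMap with htB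
    set tA := (IsScalarTower.toAlgHom R A' A).toLinearMap with htA
    set sB := (IsScalarTower.toAlgHom R B' B).toLinearMap with hsB
    set sA := (IsScalarTower.toAlgHom R B' A').toLinearMap with hsA
    have hinj : Function.Injective ((iR R B' B A').lTensor R') :=
      LinearMap.lTensor_injective_of_exact_of_flat (qR R B A' A) (qR_surjective hsq)
        (iR R B' B A') (iR_injective hsq) (exact_iR_qR hsq) R'
    have hex := lTensor_exact R' (exact_iR_qR (R := R) hsq) (qR_surjective hsq)
    let w : R' ⊗[R] (B × A') :=
      (LinearMap.inl R B A').lTensor R' x + (LinearMap.inr R B A').lTensor R' y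
    have e1 : (qR R B A' A) ∘ₗ LinearMap.inl R B A' = tB := by
      ext b; simp [qR, htB]
    have e2 : (qR R B A' A) ∘ₗ LinearMap.inr R B A' = -tA := by
      ext a; simp [qR, htA]
    have hw : (qR R B A' A).lTensor R' w = 0 := by
      simp only [w, map_add, ← LinearMap.lTensor_comp_apply]
      rw [e1, e2, LinearMap.lTensor_neg, LinearMap.neg_apply, hxy, add_neg_cancel]
    obtain ⟨z, hz⟩ := (hex w).mp hw
    have f1 : LinearMap.fst R B A' ∘ₗ iR R B' B A' = sB := by ext b; rfl
    have f2 : LinearMap.snd R B A' ∘ₗ iR R B' B A' = sA := by ext b; rfl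
    have g1 : (LinearMap.fst R B A').lTensor R' w = x := by
      simp only [w, map_add, ← LinearMap.lTensor_comp_apply]
      have e1 : LinearMap.fst R B A' ∘ₗ LinearMap.inl R B A' = LinearMap.id := by ext b; simp
      have e2 : LinearMap.fst R B A' ∘ₗ LinearMap.inr R B A' = 0 := by ext a; simp
      rw [e1, e2, LinearMap.lTensor_id, LinearMap.lTensor_zero]
      simp
    have g2 : (LinearMap.snd R B A').lTensor R' w = y := by
      simp only [w, map_add, ← LinearMap.lTensor_comp_apply]
      have e1 : LinearMap.snd R B A' ∘ₗ LinearMap.inl R B A' = 0 := by ext b; simp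
      have e2 : LinearMap.snd R B A' ∘ₗ LinearMap.inr R B A' = LinearMap.id := by ext a; simp
      rw [e1, e2, LinearMap.lTensor_id, LinearMap.lTensor_zero]
      simp
    have k1 : ∀ z, sB.lTensor R' z = (LinearMap.fst R B A').lTensor R' ((iR R B' B A').lTensor R' z) := by
      intro z; rw [← LinearMap.lTensor_comp_apply, f1]
    have k2 : ∀ z, sA.lTensor R' z = (LinearMap.snd R B A').lTensor R' ((iR R B' B A').lTensor R' z) := by
      intro z; rw [← LinearMap.lTensor_comp_apply, f2]
    refine ⟨z, ⟨by rw [k1, hz, g1], by rw [k2, hz, g2]⟩, ?_⟩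
    rintro z' ⟨hz'1, hz'2⟩
    apply hinj
    rw [hz]
    -- an element of `R' ⊗ (B × A')` is determined by its two projections
    have hdet : ∀ v : R' ⊗[R] (B × A'),
        v = (LinearMap.inl R B A').lTensor R' ((LinearMap.fst R B A').lTensor R' v) +
          (LinearMap.inr R B A').lTensor R' ((LinearMap.snd R B A').lTensor R' v) := by
      intro v
      simp only [← LinearMap.lTensor_comp_apply, ← LinearMap.add_apply, ← LinearMap.lTensor_add]
      have : LinearMap.inl R B A' ∘ₗ LinearMap.fst R B A' +
          LinearMap.inr R B A' ∘ₗ LinearMap.snd R B A' = LinearMap.id := by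
        ext p <;> simp
      rw [this, LinearMap.lTensor_id, LinearMap.id_apply]
    rw [hdet ((iR R B' B A').lTensor R' z'), ← k1, ← k2, hz'1, hz'2]

end

end Groth.Agent.Lib.Helper56.Milnor
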