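import Groth.Agent.Lib.Helper56.Milnor
import Mathlib.RingTheory.Flat.Equalizer
import Mathlib.RingTheory.Flat.Tensor
import Mathlib.Algebra.Module.FinitePresentation
import Mathlib.RingTheory.Finiteness.Cardinality

/-!
# Descent of flatness along Milnor squares (helper56)
-/

set_option autoImplicit false
set_option maxHeartbeats 400000
set_option linter.unusedSectionVars false
universe u
open TensorProduct

namespace Groth.Agent.Lib.Helper56.Milnor

/-- Generalisation of `LinearMap.lTensor_injective_of_exact_of_flat`: `Tor₁(A, P) = 0`, computed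
with a flat cover `Q → A`, implies `A ⊗ M → A ⊗ N` injective for `0 → M → N → P → 0`. -/
theorem lTensor_injective_of_exact_of_rTensor_injective
    {R : Type*} [CommRing R] {M N P : Type*} [AddCommGroup M] [AddCommGroup N] [AddCommGroup P]
    [Module R M] [Module R N] [Module R P]
    (f : N →ₗ[R] P) (hf : Function.Surjective f) (g : M →ₗ[R] N) (hg : Function.Injective g)
    (H : Function.Exact g f) {A Q : Type*} [AddCommGroup A] [Module R A] [AddCommGroup Q] [Module R Q]
    [Module.Flat R Q] (π : Q →ₗ[R] A) (hπ : Function.Surjective π)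
    (hK : Function.Injective ((LinearMap.ker π).subtype.rTensor P)) :
    Function.Injective (g.lTensor A) := by
  let K := LinearMap.ker π
  have := SnakeLemma.exact_δ'_left (K.subtype.rTensor M) (K.subtype.rTensor N) (K.subtype.rTensor P)
    (g.lTensor K) (f.lTensor K) (lTensor_exact K H hf) (g.lTensor Q) (f.lTensor Q)
    (lTensor_exact Q H hf) (by simp) (by simp) (K₃ := Unit) 0
    (by simpa using hK)
    (π.rTensor M) (rTensor_exact _ (LinearMap.exact_subtype_ker_map π) hπ) (π.rTensor N)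
    (rTensor_exact _ (LinearMap.exact_subtype_ker_map π) hπ) (LinearMap.lTensor_surjective K hf)
    (Module.Flat.lTensor_preserves_injective_linearMap _ hg) (g.lTensor A)
    (by simp) (LinearMap.rTensor_surjective _ hπ)
  rw [Subsingleton.elim (SnakeLemma.δ' ..) 0] at this
  simpa using this

/-- If `S ⊗[R] L` is `S`-flat, then `- ⊗[R] L` preserves injectivity of `S`-linear maps. -/
theorem rTensor_injective_of_flat_baseChange {R S : Type*} [CommRing R] [CommRing S] [Algebra R S]
    (L : Type*) [AddCommGroup L] [Module R L] [Module.Flat S (S ⊗[R] L)]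
    {P₁ P₂ : Type*} [AddCommGroup P₁] [AddCommGroup P₂] [Module R P₁] [Module S P₁]
    [IsScalarTower R S P₁] [Module R P₂] [Module S P₂] [IsScalarTower R S P₂]
    (f : P₁ →ₗ[S] P₂) (hf : Function.Injective f) :
    Function.Injective ((f.restrictScalars R).rTensor L) := by
  have h1 : Function.Injective (f.rTensor (S ⊗[R] L)) :=
    Module.Flat.rTensor_preserves_injective_linearMap f hf
  let e₁ := TensorProduct.AlgebraTensorModule.cancelBaseChange R S S P₁ L
  let e₂ := TensorProduct.AlgebraTensorModule.cancelBaseChange R S S P₂ L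
  have hsq : ∀ x, (f.restrictScalars R).rTensor L (e₁ x) = e₂ (f.rTensor (S ⊗[R] L) x) := by
    intro x
    induction x using TensorProduct.induction_on with
    | zero => simp
    | tmul p y =>
      induction y using TensorProduct.induction_on with
      | zero => simp
      | tmul s l => simp [e₁, e₂]
      | add y₁ y₂ h₁ h₂ => simp only [tmul_add, map_add, h₁, h₂]
    | add x₁ x₂ h₁ h₂ => simp only [map_add, h₁, h₂]
  intro x y hxy
  have : f.rTensor (S ⊗[R] L) (e₁.symm x) = f.rTensor (S ⊗[R] L) (e₁.symm y) := by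
    apply e₂.injective
    rw [← hsq, ← hsq, LinearEquiv.apply_symm_apply, LinearEquiv.apply_symm_apply, hxy]
  exact e₁.symm.injective (h1 this)

section Milnor

variable {B' B A' A : Type u} [CommRing B'] [CommRing B] [CommRing A'] [CommRing A]
  [Algebra B' B] [Algebra B' A'] [Algebra B A] [Algebra A' A] [Algebra B' A]
  [IsScalarTower B' B A] [IsScalarTower B' A' A]

theorem exists_jOf (hsq : EtMil.IsFibreSquare B' B A' A) (c : A') (hc : algebraMap A' A c = 0) :
    ∃ x : B', algebraMap B' B x = 0 ∧ algebraMap B' A' x = c := by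
  have h : algebraMap B A 0 = algebraMap A' A c := by rw [map_zero, hc]
  obtain ⟨x, hx, -⟩ := hsq.2 0 c h
  exact ⟨x, hx⟩

/-- For an ideal `𝔠 ≤ I = ker (A' → A)`, the `B'`-linear map `𝔠 → B'` sending `c` to the unique
`j ∈ J = ker (B' → B)` with image `c` in `A'`. -/
noncomputable def gam (hsq : EtMil.IsFibreSquare B' B A' A) (𝔠 : Ideal A')
    (h𝔠 : 𝔠 ≤ RingHom.ker (algebraMap A' A)) : ↥𝔠 →ₗ[B'] B' where
  toFun c := (exists_jOf hsq c.1 (h𝔠 c.2)).choose
  map_add' x y := by
    apply ext' hsq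
    · rw [(exists_jOf hsq (x + y).1 (h𝔠 (x + y).2)).choose_spec.1, map_add,
        (exists_jOf hsq x.1 (h𝔠 x.2)).choose_spec.1, (exists_jOf hsq y.1 (h𝔠 y.2)).choose_spec.1,
        add_zero]
    · rw [(exists_jOf hsq (x + y).1 (h𝔠 (x + y).2)).choose_spec.2, map_add,
        (exists_jOf hsq x.1 (h𝔠 x.2)).choose_spec.2, (exists_jOf hsq y.1 (h𝔠 y.2)).choose_spec.2]
      rfl
  map_smul' r x := by
    apply ext' hsq
    · rw [(exists_jOf hsq (r • x).1 (h𝔠 (r • x).2)).choose_spec.1, RingHom.id_apply, smul_eq_mul,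
        map_mul, (exists_jOf hsq x.1 (h𝔠 x.2)).choose_spec.1, mul_zero]
    · rw [(exists_jOf hsq (r • x).1 (h𝔠 (r • x).2)).choose_spec.2, RingHom.id_apply, smul_eq_mul,
        map_mul, (exists_jOf hsq x.1 (h𝔠 x.2)).choose_spec.2, Submodule.coe_smul_of_tower,
        Algebra.smul_def]

theorem gam_B (hsq : EtMil.IsFibreSquare B' B A' A) (𝔠 : Ideal A')
    (h𝔠 : 𝔠 ≤ RingHom.ker (algebraMap A' A)) (c : 𝔠) : algebraMap B' B (gam hsq 𝔠 h𝔠 c) = 0 :=
  (exists_jOf hsq c.1 (h𝔠 c.2)).choose_spec.1

theorem gam_A' (hsq : EtMil.IsFibreSquare B' B A' A) (𝔠 : Ideal A')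
    (h𝔠 : 𝔠 ≤ RingHom.ker (algebraMap A' A)) (c : 𝔠) : algebraMap B' A' (gam hsq 𝔠 h𝔠 c) = c.1 :=
  (exists_jOf hsq c.1 (h𝔠 c.2)).choose_spec.2

variable (L' : Type u) [AddCommGroup L'] [Module B' L']

/-- `Tor₁^{B'}(B, L') = 0`: `J ⊗ L' → B' ⊗ L'` is injective when `A' ⊗ L'` is `A'`-flat. -/
theorem rTensor_ker_injective (hsq : EtMil.IsFibreSquare B' B A' A)
    [Module.Flat A' (A' ⊗[B'] L')] :
    Function.Injective ((LinearMap.ker (Algebra.linearMap B' B)).subtype.rTensor L') := by
  set I := RingHom.ker (algebraMap A' A) with hIdef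
  set J := LinearMap.ker (Algebra.linearMap B' B) with hJdef
  have hI : Function.Injective ((I.subtype.restrictScalars B').rTensor L') :=
    rTensor_injective_of_flat_baseChange (R := B') (S := A') L' I.subtype I.injective_subtype
  let γ := gam hsq I le_rfl
  have hγ : (Algebra.linearMap B' A') ∘ₗ γ = I.subtype.restrictScalars B' := by
    ext c; exact gam_A' hsq I le_rfl c
  have hγinj : Function.Injective (γ.rTensor L') := by
    have : Function.Injective (((Algebra.linearMap B' A') ∘ₗ γ).rTensor L') := by rw [hγ]; exact hI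
    rw [LinearMap.rTensor_comp, LinearMap.coe_comp] at this
    exact Function.Injective.of_comp this
  let γ' : ↥I →ₗ[B'] ↥J := LinearMap.codRestrict J γ (fun c => by
    rw [hJdef, LinearMap.mem_ker]; exact gam_B hsq I le_rfl c)
  have hγ'surj : Function.Surjective γ' := by
    rintro ⟨j, hj⟩
    have hj' : algebraMap B' B j = 0 := hj
    refine ⟨⟨algebraMap B' A' j, ?_⟩, ?_⟩
    · rw [hIdef, RingHom.mem_ker, ← compat (B := B), hj', map_zero]
    · apply Subtype.ext
      apply ext' hsq
      · change algebraMap B' B (gam hsq I le_rfl _) = _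
        rw [gam_B, hj']
      · change algebraMap B' A' (gam hsq I le_rfl _) = _
        rw [gam_A']
  have hcomp : J.subtype ∘ₗ γ' = γ := by ext; rfl
  intro x y hxy
  obtain ⟨x', rfl⟩ := LinearMap.rTensor_surjective L' hγ'surj x
  obtain ⟨y', rfl⟩ := LinearMap.rTensor_surjective L' hγ'surj y
  rw [← LinearMap.comp_apply, ← LinearMap.comp_apply, ← LinearMap.rTensor_comp, hcomp] at hxy
  rw [hγinj hxy]

section cover

variable {K F : Type u} [AddCommGroup K] [AddCommGroup F] [Module B' K] [Module B' F]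
  [Module.Flat B' F] (i : K →ₗ[B'] F) (π : F →ₗ[B'] L') (hi : Function.Injective i)
  (hπ : Function.Surjective π) (hex : Function.Exact i π)

include hi hπ hex

/-- `B ⊗ K → B ⊗ F` is injective, `0 → K → F → L' → 0` a flat cover. -/
theorem lTensor_B_ker_injective (hsq : EtMil.IsFibreSquare B' B A' A)
    [Module.Flat A' (A' ⊗[B'] L')] :
    Function.Injective (i.lTensor B) :=
  lTensor_injective_of_exact_of_rTensor_injective π hπ i hi hex (A := B) (Q := B')
    (Algebra.linearMap B' B) (surjB (A' := A') (A := A) hsq) (rTensor_ker_injective L' hsq)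

/-- `Tor₁^{B'}(P, L') = 0` for `B`-modules `P`, in the form `P ⊗ K → P ⊗ F` injective. -/
theorem lTensor_ker_injective_of_module (hsq : EtMil.IsFibreSquare B' B A' A)
    [Module.Flat A' (A' ⊗[B'] L')] [Module.Flat B (B ⊗[B'] L')]
    (P : Type u) [AddCommGroup P] [Module B' P] [Module B P] [IsScalarTower B' B P] :
    Function.Injective (i.lTensor P) := by
  let g : B ⊗[B'] K →ₗ[B] B ⊗[B'] F := i.baseChange B
  let f : B ⊗[B'] F →ₗ[B] B ⊗[B'] L' := π.baseChange B
  have hg : Function.Injective g := by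
    have := lTensor_B_ker_injective L' i π hi hπ hex hsq
    intro x y hxy
    apply this
    rw [← LinearMap.baseChange_eq_ltensor]
    exact hxy
  have hf : Function.Surjective f := by
    intro x
    obtain ⟨y, hy⟩ := LinearMap.lTensor_surjective B hπ x
    exact ⟨y, by rw [← hy, ← LinearMap.baseChange_eq_ltensor]⟩
  have H : Function.Exact g f := by
    have := lTensor_exact B hex hπ
    intro x
    exact this x
  have hinj : Function.Injective (g.lTensor P) :=
    LinearMap.lTensor_injective_of_exact_of_flat f hf g hg H P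
  let e₁ := TensorProduct.AlgebraTensorModule.cancelBaseChange B' B B P K
  let e₂ := TensorProduct.AlgebraTensorModule.cancelBaseChange B' B B P F
  have hsq' : ∀ x, i.lTensor P (e₁ x) = e₂ (g.lTensor P x) := by
    intro x
    induction x using TensorProduct.induction_on with
    | zero => simp
    | tmul p y =>
      induction y using TensorProduct.induction_on with
      | zero => simp
      | tmul b k => simp [e₁, e₂, g]
      | add y₁ y₂ h₁ h₂ => simp only [tmul_add, map_add, h₁, h₂]
    | add x₁ x₂ h₁ h₂ => simp only [map_add, h₁, h₂]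
  intro x y hxy
  have : g.lTensor P (e₁.symm x) = g.lTensor P (e₁.symm y) := by
    apply e₂.injective
    rw [← hsq', ← hsq', LinearEquiv.apply_symm_apply, LinearEquiv.apply_symm_apply, hxy]
  exact e₁.symm.injective (hinj this)

omit hi hπ hex [Module.Flat B' F] in
/-- A `B'`-module killed by `J` is isomorphic to its base change to `B`. -/
theorem mk_one_bijective_of_killed (hsq : EtMil.IsFibreSquare B' B A' A)
    (P₀ : Type u) [AddCommGroup P₀] [Module B' P₀]
    (hP : ∀ j : B', algebraMap B' B j = 0 → ∀ p : P₀, j • p = 0) :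
    Function.Bijective (TensorProduct.mk B' B P₀ 1) := by
  constructor
  · rw [← LinearMap.ker_eq_bot, eq_bot_iff]
    intro p hp
    rw [LinearMap.mem_ker, TensorProduct.mk_apply] at hp
    have := mem_smul_top_of_tmul_eq_zero P₀ hsq p hp
    have hbot : (RingHom.ker (algebraMap B' B)) • (⊤ : Submodule B' P₀) = ⊥ := by
      rw [eq_bot_iff, Submodule.smul_le]
      intro j hj l _
      rw [Submodule.mem_bot]
      exact hP j hj l
    rw [hbot] at this
    exact this
  · intro x
    induction x using TensorProduct.induction_on with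
    | zero => exact ⟨0, by simp⟩
    | tmul b p =>
      obtain ⟨b', rfl⟩ := surjB (A' := A') (A := A) hsq b
      refine ⟨b' • p, ?_⟩
      rw [TensorProduct.mk_apply, ← TensorProduct.smul_tmul, Algebra.smul_def, mul_one]
    | add x y hx hy =>
      obtain ⟨a, rfl⟩ := hx
      obtain ⟨b, rfl⟩ := hy
      exact ⟨a + b, map_add _ _ _⟩

theorem lTensor_ker_injective_of_killed (hsq : EtMil.IsFibreSquare B' B A' A)
    [Module.Flat A' (A' ⊗[B'] L')] [Module.Flat B (B ⊗[B'] L')]
    (P₀ : Type u) [AddCommGroup P₀] [Module B' P₀]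
    (hP : ∀ j : B', algebraMap B' B j = 0 → ∀ p : P₀, j • p = 0) :
    Function.Injective (i.lTensor P₀) := by
  let e : P₀ ≃ₗ[B'] B ⊗[B'] P₀ :=
    LinearEquiv.ofBijective (TensorProduct.mk B' B P₀ 1) (mk_one_bijective_of_killed hsq P₀ hP)
  have h3 := lTensor_ker_injective_of_module L' i π hi hπ hex hsq (B ⊗[B'] P₀)
  intro x y hxy
  have h1 : ∀ z, (e.toLinearMap.rTensor F) (i.lTensor P₀ z) =
      i.lTensor (B ⊗[B'] P₀) (e.toLinearMap.rTensor K z) := by
    intro z
    rw [← LinearMap.comp_apply, ← LinearMap.comp_apply, LinearMap.rTensor_comp_lTensor,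
      LinearMap.lTensor_comp_rTensor]
  have h2 : (e.toLinearMap.rTensor K) x = (e.toLinearMap.rTensor K) y := by
    apply h3
    rw [← h1, ← h1, hxy]
  exact (LinearEquiv.rTensor K e).injective h2

end cover

/-- `Tor₁^{B'}(L', P) = 0` for `P` killed by `J`: if `Q₁ ⊆ Q₂` with `J Q₂ ⊆ Q₁` then
`Q₁ ⊗ L' → Q₂ ⊗ L'` is injective. -/
theorem rTensor_injective_of_killed_coker (hsq : EtMil.IsFibreSquare B' B A' A)
    [Module.Flat A' (A' ⊗[B'] L')] [Module.Flat B (B ⊗[B'] L')]
    {Q₁ Q₂ : Type u} [AddCommGroup Q₁] [AddCommGroup Q₂] [Module B' Q₁] [Module B' Q₂]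
    (ι : Q₁ →ₗ[B'] Q₂) (hι : Function.Injective ι)
    (hJ : ∀ j : B', algebraMap B' B j = 0 → ∀ q : Q₂, j • q ∈ LinearMap.range ι) :
    Function.Injective (ι.rTensor L') := by
  rw [← LinearMap.lTensor_inj_iff_rTensor_inj]
  have hP : ∀ j : B', algebraMap B' B j = 0 → ∀ p : Q₂ ⧸ LinearMap.range ι, j • p = 0 := by
    intro j hj p
    obtain ⟨q, rfl⟩ := Submodule.mkQ_surjective _ p
    rw [← map_smul, Submodule.mkQ_apply, Submodule.Quotient.mk_eq_zero]
    exact hJ j hj q
  let π : (L' →₀ B') →ₗ[B'] L' := Finsupp.linearCombination B' (fun l : L' => l)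
  have hπ : Function.Surjective π := Finsupp.linearCombination_surjective _ Function.surjective_id
  have hK := lTensor_ker_injective_of_killed L' (K := LinearMap.ker π) (F := L' →₀ B')
    (LinearMap.ker π).subtype π
    (Submodule.injective_subtype _) hπ (LinearMap.exact_subtype_ker_map π) hsq
    (Q₂ ⧸ LinearMap.range ι) hP
  rw [LinearMap.lTensor_inj_iff_rTensor_inj] at hK
  exact lTensor_injective_of_exact_of_rTensor_injective (LinearMap.range ι).mkQ
    (Submodule.mkQ_surjective _) ι hι (LinearMap.exact_map_mkQ_range ι) (A := L') (Q := L' →₀ B')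
    π hπ hK

/-- **Descent of flatness along a Milnor square** (`S14952`). -/
theorem flat_of_flat (hsq : EtMil.IsFibreSquare B' B A' A)
    [Module.Flat B (B ⊗[B'] L')] [Module.Flat A' (A' ⊗[B'] L')] : Module.Flat B' L' := by
  rw [Module.Flat.iff_rTensor_injective']
  intro 𝔞
  rw [injective_iff_map_eq_zero]
  intro t ht
  have hsurjB : Function.Surjective (algebraMap B' B) := surjB (A' := A') (A := A) hsq
  -- step (i): reduce mod `J`
  set 𝔞B : Ideal B := Ideal.map (algebraMap B' B) 𝔞 with h𝔞B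
  let ρ : ↥𝔞 →ₗ[B'] ↥𝔞B :=
    { toFun := fun x => ⟨algebraMap B' B x.1, Ideal.mem_map_of_mem _ x.2⟩
      map_add' := fun x y => Subtype.ext (by simp)
      map_smul' := fun r x => Subtype.ext (by simp [Algebra.smul_def]) }
  have hρsurj : Function.Surjective ρ := by
    rintro ⟨y, hy⟩
    obtain ⟨x, hx, rfl⟩ := (Ideal.mem_map_iff_of_surjective _ hsurjB).mp hy
    exact ⟨⟨x, hx⟩, rfl⟩
  have hsq1 : (𝔞B.subtype.restrictScalars B') ∘ₗ ρ = (Algebra.linearMap B' B) ∘ₗ 𝔞.subtype := by
    ext x; rfl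
  have h1 : ρ.rTensor L' t = 0 := by
    apply rTensor_injective_of_flat_baseChange (R := B') (S := B) L' 𝔞B.subtype
      𝔞B.injective_subtype
    rw [map_zero, ← LinearMap.comp_apply, ← LinearMap.rTensor_comp, hsq1, LinearMap.rTensor_comp,
      LinearMap.comp_apply, ht, map_zero]
  obtain ⟨𝔞₁, h𝔞₁⟩ : ∃ N : Submodule B' ↥𝔞, N = LinearMap.ker ρ := ⟨_, rfl⟩
  have hex1 : Function.Exact 𝔞₁.subtype ρ := by
    rw [h𝔞₁]; exact LinearMap.exact_subtype_ker_map ρ
  obtain ⟨t₁, rfl⟩ := (rTensor_exact L' hex1 hρsurj t).mp h1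
  have hx0 : ∀ x : 𝔞₁, algebraMap B' B x.1.1 = 0 := by
    intro x
    have hx : x.1 ∈ LinearMap.ker ρ := h𝔞₁ ▸ x.2
    rw [LinearMap.mem_ker] at hx
    exact congrArg Subtype.val hx
  -- step (ii): the `A'`-ideal generated by `𝔞 ∩ J`
  set 𝔠 : Ideal A' := Ideal.span (Set.range fun x : 𝔞₁ => algebraMap B' A' x.1.1) with h𝔠
  have h𝔠I : 𝔠 ≤ RingHom.ker (algebraMap A' A) := by
    rw [h𝔠, Ideal.span_le]
    rintro _ ⟨x, rfl⟩
    rw [SetLike.mem_coe, RingHom.mem_ker, ← compat (B := B), hx0, map_zero]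
  let β' : ↥𝔞₁ →ₗ[B'] ↥𝔠 :=
    { toFun := fun x => ⟨algebraMap B' A' x.1.1, Ideal.subset_span ⟨x, rfl⟩⟩
      map_add' := fun x y => Subtype.ext (by simp)
      map_smul' := fun r x => Subtype.ext (by simp [Algebra.smul_def]) }
  have hsq2 : (𝔠.subtype.restrictScalars B') ∘ₗ β' =
      (Algebra.linearMap B' A') ∘ₗ 𝔞.subtype ∘ₗ 𝔞₁.subtype := by
    ext x; rfl
  have h2 : β'.rTensor L' t₁ = 0 := by
    apply rTensor_injective_of_flat_baseChange (R := B') (S := A') L' 𝔠.subtype
      𝔠.injective_subtype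
    rw [map_zero, ← LinearMap.comp_apply, ← LinearMap.rTensor_comp, hsq2, LinearMap.rTensor_comp,
      LinearMap.rTensor_comp, LinearMap.comp_apply, LinearMap.comp_apply, ht, map_zero]
  -- step (iii): enlarge `𝔞`
  let γ := gam hsq 𝔠 h𝔠I
  set 𝔟 : Ideal B' := 𝔞 ⊔ LinearMap.range γ with h𝔟
  let ι : ↥𝔞 →ₗ[B'] ↥𝔟 := Submodule.inclusion le_sup_left
  let γ𝔟 : ↥𝔠 →ₗ[B'] ↥𝔟 := LinearMap.codRestrict 𝔟 γ
    (fun c => Submodule.mem_sup_right (LinearMap.mem_range_self γ c))
  have hsq3 : ι ∘ₗ 𝔞₁.subtype = γ𝔟 ∘ₗ β' := by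
    ext x
    apply ext' hsq
    · change algebraMap B' B x.1.1 = algebraMap B' B (gam hsq 𝔠 h𝔠I (β' x))
      rw [gam_B, hx0]
    · change algebraMap B' A' x.1.1 = algebraMap B' A' (gam hsq 𝔠 h𝔠I (β' x))
      rw [gam_A']
      rfl
  have h3 : ι.rTensor L' (𝔞₁.subtype.rTensor L' t₁) = 0 := by
    rw [← LinearMap.comp_apply, ← LinearMap.rTensor_comp, hsq3, LinearMap.rTensor_comp,
      LinearMap.comp_apply, h2, map_zero]
  -- `J 𝔟 ⊆ 𝔞`
  have hkey : ∀ c' ∈ 𝔠, ∀ j : B', algebraMap B' B j = 0 →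
      ∃ z ∈ 𝔞, algebraMap B' B z = 0 ∧ algebraMap B' A' z = algebraMap B' A' j * c' := by
    intro c' hc'
    rw [h𝔠] at hc'
    induction hc' using Submodule.span_induction with
    | mem c hc =>
      obtain ⟨x, rfl⟩ := hc
      intro j hj
      exact ⟨j * x.1.1, 𝔞.mul_mem_left j x.1.2, by rw [map_mul, hj, zero_mul], by rw [map_mul]⟩
    | zero =>
      intro j hj
      exact ⟨0, 𝔞.zero_mem, map_zero _, by rw [map_zero, mul_zero]⟩
    | add c₁ c₂ _ _ ih₁ ih₂ =>
      intro j hj
      obtain ⟨z₁, hz₁, hz₁B, hz₁A⟩ := ih₁ j hj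
      obtain ⟨z₂, hz₂, hz₂B, hz₂A⟩ := ih₂ j hj
      exact ⟨z₁ + z₂, 𝔞.add_mem hz₁ hz₂, by rw [map_add, hz₁B, hz₂B, add_zero],
        by rw [map_add, hz₁A, hz₂A, mul_add]⟩
    | smul a' c _ ih =>
      intro j hj
      obtain ⟨z, hz, hzB, hzA⟩ := ih (psi hsq j hj a') (psi_B hsq j hj a')
      exact ⟨z, hz, hzB, by rw [hzA, psi_A', smul_eq_mul]; ring⟩
  have hJ𝔟 : ∀ j : B', algebraMap B' B j = 0 → ∀ q : ↥𝔟, j • q ∈ LinearMap.range ι := by
    rintro j hj ⟨y, hy⟩
    rw [h𝔟, Submodule.mem_sup] at hy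
    obtain ⟨a, ha, _, ⟨c, rfl⟩, rfl⟩ := hy
    obtain ⟨z, hz, hzB, hzA⟩ := hkey c.1 c.2 j hj
    have hjc : j * γ c = z := by
      apply ext' hsq
      · rw [map_mul, hj, zero_mul, hzB]
      · rw [map_mul, hzA]
        change _ * algebraMap B' A' (gam hsq 𝔠 h𝔠I c) = _
        rw [gam_A']
    refine ⟨⟨j * a + z, 𝔞.add_mem (𝔞.mul_mem_left j ha) hz⟩, ?_⟩
    apply Subtype.ext
    change j * a + z = j * (a + γ c)
    rw [mul_add, hjc]
  have hιinj : Function.Injective ι := Submodule.inclusion_injective _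
  exact rTensor_injective_of_killed_coker L' hsq ι hιinj hJ𝔟 (by rw [h3, map_zero])

/-- If `L` is flat and `0 → K → F → L → 0` with `F` finite, and `S ⊗ L` is finitely presented
over `S`, then `S ⊗ K` is a finite `S`-module. -/
theorem finite_baseChange_ker {R S : Type u} [CommRing R] [CommRing S] [Algebra R S]
    {F L : Type u} [AddCommGroup F] [AddCommGroup L] [Module R F] [Module R L]
    [Module.Finite R F] [Module.Flat R L] [Module.FinitePresentation S (S ⊗[R] L)]
    (π : F →ₗ[R] L) (hπ : Function.Surjective π) :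
    Module.Finite S (S ⊗[R] LinearMap.ker π) := by
  have hinj : Function.Injective ((LinearMap.ker π).subtype.baseChange S) := by
    have := LinearMap.lTensor_injective_of_exact_of_flat π hπ (LinearMap.ker π).subtype
      (Submodule.injective_subtype _) (LinearMap.exact_subtype_ker_map π) S
    intro x y hxy
    apply this
    rw [← LinearMap.baseChange_eq_ltensor]
    exact hxy
  have hsurj : Function.Surjective (π.baseChange S) := by
    intro x
    obtain ⟨y, hy⟩ := LinearMap.lTensor_surjective S hπ x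
    exact ⟨y, by rw [← hy, ← LinearMap.baseChange_eq_ltensor]⟩
  have hfg : (LinearMap.ker (π.baseChange S)).FG :=
    Module.FinitePresentation.fg_ker (π.baseChange S) hsurj
  have hrange : LinearMap.range ((LinearMap.ker π).subtype.baseChange S) =
      LinearMap.ker (π.baseChange S) := by
    have := lTensor_exact S (LinearMap.exact_subtype_ker_map π) hπ
    ext x
    rw [LinearMap.mem_range, LinearMap.mem_ker]
    exact (this x).symm
  have : Module.Finite S (LinearMap.range ((LinearMap.ker π).subtype.baseChange S)) := by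
    rw [hrange]; exact Module.Finite.iff_fg.mpr hfg
  exact Module.Finite.equiv (LinearEquiv.ofInjective _ hinj).symm

/-- `S14954`. -/
theorem finitePresentation_of_flat (hsq : EtMil.IsFibreSquare B' B A' A)
    [Module.Flat B (B ⊗[B'] L')] [Module.FinitePresentation B (B ⊗[B'] L')]
    [Module.Flat A' (A' ⊗[B'] L')] [Module.FinitePresentation A' (A' ⊗[B'] L')] :
    Module.FinitePresentation B' L' := by
  have : Module.Finite B' L' := finite_of_finite L' hsq
  have : Module.Flat B' L' := flat_of_flat L' hsq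
  obtain ⟨n, π, hπ⟩ := Module.Finite.exists_fin' B' L'
  have : Module.Finite B (B ⊗[B'] LinearMap.ker π) := finite_baseChange_ker π hπ
  have : Module.Finite A' (A' ⊗[B'] LinearMap.ker π) := finite_baseChange_ker π hπ
  have hK : Module.Finite B' (LinearMap.ker π) := finite_of_finite (LinearMap.ker π) hsq
  exact Module.finitePresentation_of_surjective π hπ (Module.Finite.iff_fg.mp hK)

end Milnor

end Groth.Agent.Lib.Helper56.Milnor
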