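import Groth.Agent.Lib.Helper56.MilnorFlat
import Mathlib.RingTheory.TensorProduct.Basic

/-!
# Glueing modules over a Milnor square (helper56)

`B ⊗ (N ×_φ M') ≅ N` and `A' ⊗ (N ×_φ M') ≅ M'`.
-/

set_option autoImplicit false
set_option maxHeartbeats 400000
set_option linter.unusedSectionVars false
universe u
open TensorProduct

namespace Groth.Agent.Lib.Helper56.Milnor

section general

variable {R S : Type*} [CommRing R] [CommRing S] [Algebra R S]

theorem exists_one_tmul_eq (hs : Function.Surjective (algebraMap R S)) {M : Type*}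
    [AddCommGroup M] [Module R M] (z : S ⊗[R] M) : ∃ m : M, (1 : S) ⊗ₜ[R] m = z := by
  induction z using TensorProduct.induction_on with
  | zero => exact ⟨0, by simp⟩
  | tmul s m =>
    obtain ⟨r, rfl⟩ := hs s
    exact ⟨r • m, by rw [← TensorProduct.smul_tmul, Algebra.smul_def, mul_one]⟩
  | add x y hx hy =>
    obtain ⟨a, rfl⟩ := hx
    obtain ⟨b, rfl⟩ := hy
    exact ⟨a + b, by rw [TensorProduct.tmul_add]⟩

theorem mem_smul_top_of_one_tmul_eq_zero (hs : Function.Surjective (algebraMap R S)) {M : Type*}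
    [AddCommGroup M] [Module R M] (m : M) (h : ((1 : S) ⊗ₜ[R] m : S ⊗[R] M) = 0) :
    m ∈ (RingHom.ker (algebraMap R S)) • (⊤ : Submodule R M) := by
  set J := RingHom.ker (algebraMap R S)
  have hs' : Function.Surjective (Algebra.ofId R S) := hs
  let e : (R ⧸ J) ≃ₗ[R] S := (Ideal.quotientKerAlgEquivOfSurjective hs').toLinearEquiv
  have he : e 1 = 1 := map_one (Ideal.quotientKerAlgEquivOfSurjective hs')
  have h3 : ((1 : R ⧸ J) ⊗ₜ[R] m : (R ⧸ J) ⊗[R] M) = 0 := by
    apply (LinearEquiv.rTensor M e).injective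
    rw [map_zero, LinearEquiv.rTensor_tmul, he, h]
  have h4 := congrArg (TensorProduct.quotTensorEquivQuotSMul M J) h3
  rw [TensorProduct.quotTensorEquivQuotSMul_mk_one_tmul, map_zero,
    Submodule.Quotient.mk_eq_zero] at h4
  exact h4

theorem one_tmul_eq_zero_of_mem_smul_top {M : Type*}
    [AddCommGroup M] [Module R M] (m : M)
    (hm : m ∈ (RingHom.ker (algebraMap R S)) • (⊤ : Submodule R M)) :
    ((1 : S) ⊗ₜ[R] m : S ⊗[R] M) = 0 := by
  refine Submodule.smul_induction_on hm ?_ ?_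
  · intro j hj m' _
    rw [← TensorProduct.smul_tmul, Algebra.smul_def, mul_one, (RingHom.mem_ker).mp hj, zero_tmul]
  · intro a b ha hb
    rw [tmul_add, ha, hb, add_zero]

end general

section glue

variable {B' B A' A : Type u} [CommRing B'] [CommRing B] [CommRing A'] [CommRing A]
  [Algebra B' B] [Algebra B' A'] [Algebra B A] [Algebra A' A] [Algebra B' A]
  [IsScalarTower B' B A] [IsScalarTower B' A' A]
variable {N M' : Type u} [AddCommGroup N] [Module B N] [Module B' N] [IsScalarTower B' B N]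
  [AddCommGroup M'] [Module A' M'] [Module B' M'] [IsScalarTower B' A' M']
  (φ : A ⊗[B] N ≃ₗ[A] A ⊗[A'] M')

theorem mem_glue_iff (x : N × M') :
    x ∈ EtMil.glue B' φ ↔ φ ((1 : A) ⊗ₜ[B] x.1) = (1 : A) ⊗ₜ[A'] x.2 := Iff.rfl

theorem exists_mem_glue_fst (hsq : EtMil.IsFibreSquare B' B A' A) (n : N) :
    ∃ m' : M', (n, m') ∈ EtMil.glue B' φ := by
  obtain ⟨m', hm'⟩ := exists_one_tmul_eq hsq.1 (φ ((1 : A) ⊗ₜ[B] n))
  exact ⟨m', hm'.symm⟩

theorem zero_mem_glue (x : M')
    (hx : x ∈ RingHom.ker (algebraMap A' A) • (⊤ : Submodule A' M')) :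
    ((0 : N), x) ∈ EtMil.glue B' φ := by
  rw [mem_glue_iff]
  simp only [tmul_zero, map_zero]
  exact (one_tmul_eq_zero_of_mem_smul_top x hx).symm

/-- the `A'`-span of the second components of the glued module. -/
abbrev sndSpan : Submodule A' M' :=
  Submodule.span A' (Set.range (fun g : EtMil.glue B' φ => g.1.2))

theorem exists_mem_span_tmul_eq (hsq : EtMil.IsFibreSquare B' B A' A) (z : A ⊗[B] N) :
    ∃ m' ∈ sndSpan (B' := B') φ, (1 : A) ⊗ₜ[A'] m' = φ z := by
  induction z using TensorProduct.induction_on with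
  | zero => exact ⟨0, zero_mem _, by simp⟩
  | tmul a n =>
    obtain ⟨a', rfl⟩ := hsq.1 a
    obtain ⟨m', hm'⟩ := exists_mem_glue_fst φ hsq n
    refine ⟨a' • m', Submodule.smul_mem _ _ (Submodule.subset_span ⟨⟨(n, m'), hm'⟩, rfl⟩), ?_⟩
    have h1 : (algebraMap A' A a') ⊗ₜ[B] n = algebraMap A' A a' • ((1 : A) ⊗ₜ[B] n) := by
      rw [TensorProduct.smul_tmul', smul_eq_mul, mul_one]
    rw [h1, map_smul, (mem_glue_iff φ (n, m')).mp hm', TensorProduct.smul_tmul', smul_eq_mul,
      mul_one, ← TensorProduct.smul_tmul, Algebra.smul_def, mul_one]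
  | add x y hx hy =>
    obtain ⟨a, ha, ha'⟩ := hx
    obtain ⟨b, hb, hb'⟩ := hy
    exact ⟨a + b, Submodule.add_mem _ ha hb, by rw [tmul_add, ha', hb', map_add]⟩

theorem sndSpan_eq_top (hsq : EtMil.IsFibreSquare B' B A' A) : sndSpan (B' := B') φ = ⊤ := by
  rw [eq_top_iff]
  intro m₀ _
  obtain ⟨m', hm', h⟩ := exists_mem_span_tmul_eq φ hsq (φ.symm ((1 : A) ⊗ₜ[A'] m₀))
  rw [LinearEquiv.apply_symm_apply] at h
  have hd : m₀ - m' ∈ RingHom.ker (algebraMap A' A) • (⊤ : Submodule A' M') :=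
    mem_smul_top_of_one_tmul_eq_zero hsq.1 _ (by rw [tmul_sub, h, sub_self])
  have h2 : m₀ - m' ∈ sndSpan (B' := B') φ :=
    Submodule.subset_span ⟨⟨(0, m₀ - m'), zero_mem_glue φ _ hd⟩, rfl⟩
  have := Submodule.add_mem _ h2 hm'
  simpa using this

theorem smul_fst (g : EtMil.glue B' φ) (j : B') (hj : algebraMap B' B j = 0) :
    (j • g).1.1 = 0 := by
  change j • g.1.1 = 0
  rw [← algebraMap_smul B j g.1.1, hj, zero_smul]

theorem smul_snd (g : EtMil.glue B' φ) (j : B') :
    (j • g).1.2 = algebraMap B' A' j • g.1.2 := by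
  change j • g.1.2 = _
  rw [algebraMap_smul]

theorem exists_smul_top_eq (hsq : EtMil.IsFibreSquare B' B A' A) (m₀ : M') :
    ∀ j : B', algebraMap B' B j = 0 →
      ∃ g ∈ (RingHom.ker (algebraMap B' B)) • (⊤ : Submodule B' (EtMil.glue B' φ)),
        g.1 = ((0 : N), algebraMap B' A' j • m₀) := by
  have hm₀ : m₀ ∈ sndSpan (B' := B') φ := by rw [sndSpan_eq_top φ hsq]; trivial
  induction hm₀ using Submodule.span_induction with
  | mem x hx =>
    obtain ⟨g₀, rfl⟩ := hx
    intro j hj
    refine ⟨j • g₀, Submodule.smul_mem_smul ((RingHom.mem_ker).mpr hj) trivial, ?_⟩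
    exact Prod.ext (smul_fst φ g₀ j hj) (smul_snd φ g₀ j)
  | zero =>
    intro j hj
    exact ⟨0, zero_mem _, by simp only [smul_zero, ZeroMemClass.coe_zero]; rfl⟩
  | add x y _ _ hx hy =>
    intro j hj
    obtain ⟨a, ha, ha'⟩ := hx j hj
    obtain ⟨b, hb, hb'⟩ := hy j hj
    refine ⟨a + b, Submodule.add_mem _ ha hb, ?_⟩
    rw [Submodule.coe_add, ha', hb', smul_add]
    simp
  | smul a' x _ hx =>
    intro j hj
    obtain ⟨g, hg, hg'⟩ := hx (psi hsq j hj a') (psi_B hsq j hj a')
    refine ⟨g, hg, ?_⟩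
    rw [hg', psi_A', smul_smul, mul_comm]

theorem exists_smul_top_eq' (hsq : EtMil.IsFibreSquare B' B A' A) (x : M')
    (hx : x ∈ RingHom.ker (algebraMap A' A) • (⊤ : Submodule A' M')) :
    ∃ g ∈ (RingHom.ker (algebraMap B' B)) • (⊤ : Submodule B' (EtMil.glue B' φ)),
        g.1 = ((0 : N), x) := by
  refine Submodule.smul_induction_on hx ?_ ?_
  · intro i hi m₀ _
    obtain ⟨j, hjB, hjA⟩ := exists_jOf hsq i ((RingHom.mem_ker).mp hi)
    obtain ⟨g, hg, hg'⟩ := exists_smul_top_eq φ hsq m₀ j hjB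
    exact ⟨g, hg, by rw [hg', hjA]⟩
  · rintro a b ⟨ga, hga, hga'⟩ ⟨gb, hgb, hgb'⟩
    refine ⟨ga + gb, Submodule.add_mem _ hga hgb, ?_⟩
    rw [Submodule.coe_add, hga', hgb']
    simp

/-- `B ⊗ (N ×_φ M') ≅ N`. -/
theorem glueFst_bijective (hsq : EtMil.IsFibreSquare B' B A' A) :
    Function.Bijective (LinearMap.liftBaseChange B (EtMil.glueFst B' φ)) := by
  constructor
  · rw [injective_iff_map_eq_zero]
    intro z hz
    obtain ⟨g, rfl⟩ := exists_one_tmul_eq (surjB (A' := A') (A := A) hsq) z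
    rw [LinearMap.liftBaseChange_tmul, one_smul] at hz
    have hg1 : g.1.1 = 0 := hz
    have hg2 : g.1.2 ∈ RingHom.ker (algebraMap A' A) • (⊤ : Submodule A' M') := by
      apply mem_smul_top_of_one_tmul_eq_zero hsq.1
      have := (mem_glue_iff φ g.1).mp g.2
      rw [← this, hg1, tmul_zero, map_zero]
    obtain ⟨g', hg', hg'eq⟩ := exists_smul_top_eq' φ hsq g.1.2 hg2
    have : g = g' := by
      apply Subtype.ext
      rw [hg'eq]
      exact Prod.ext hg1 rfl
    rw [this]
    exact one_tmul_eq_zero_of_mem_smul_top g' hg'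
  · intro n
    obtain ⟨m', hm'⟩ := exists_mem_glue_fst φ hsq n
    refine ⟨(1 : B) ⊗ₜ[B'] ⟨(n, m'), hm'⟩, ?_⟩
    rw [LinearMap.liftBaseChange_tmul, one_smul]
    rfl

/-- `A' ⊗ (N ×_φ M') ≅ M'`. -/
theorem glueSnd_bijective (hsq : EtMil.IsFibreSquare B' B A' A) :
    Function.Bijective (LinearMap.liftBaseChange A' (EtMil.glueSnd B' φ)) := by
  set q := LinearMap.liftBaseChange A' (EtMil.glueSnd B' φ) with hq
  have hq1 : ∀ g : EtMil.glue B' φ, q ((1 : A') ⊗ₜ[B'] g) = g.1.2 := by
    intro g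
    rw [hq, LinearMap.liftBaseChange_tmul, one_smul]; rfl
  constructor
  · rw [injective_iff_map_eq_zero]
    intro x hx
    -- the comparison `A ⊗[B'] G ≅ A ⊗[B] N`
    let u : B ⊗[B'] (EtMil.glue B' φ) ≃ₗ[B] N :=
      LinearEquiv.ofBijective (LinearMap.liftBaseChange B (EtMil.glueFst B' φ))
        (glueFst_bijective φ hsq)
    let c := TensorProduct.AlgebraTensorModule.cancelBaseChange B' B A A (EtMil.glue B' φ)
    let toA : A' →ₗ[B'] A := (IsScalarTower.toAlgHom B' A' A).toLinearMap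
    have htoA : Function.Surjective toA := hsq.1
    have hΨ : ∀ y : A' ⊗[B'] (EtMil.glue B' φ),
        φ ((LinearEquiv.lTensor A u) (c.symm (toA.rTensor _ y))) = (1 : A) ⊗ₜ[A'] (q y) := by
      intro y
      induction y using TensorProduct.induction_on with
      | zero => simp
      | tmul a' g =>
        have h1 : (LinearEquiv.lTensor A u) (c.symm (toA.rTensor _ (a' ⊗ₜ[B'] g))) =
            (algebraMap A' A a') ⊗ₜ[B] g.1.1 := by
          simp only [LinearMap.rTensor_tmul, c,
            TensorProduct.AlgebraTensorModule.cancelBaseChange_symm_tmul,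
            LinearEquiv.lTensor_tmul]
          congr 1
          change LinearMap.liftBaseChange B (EtMil.glueFst B' φ) _ = _
          rw [LinearMap.liftBaseChange_tmul, one_smul]; rfl
        have h2 : (algebraMap A' A a') ⊗ₜ[B] g.1.1 =
            algebraMap A' A a' • ((1 : A) ⊗ₜ[B] g.1.1) := by
          rw [TensorProduct.smul_tmul', smul_eq_mul, mul_one]
        rw [h1, h2, map_smul, (mem_glue_iff φ g.1).mp g.2, TensorProduct.smul_tmul', smul_eq_mul,
          mul_one, hq, LinearMap.liftBaseChange_tmul, ← TensorProduct.smul_tmul, Algebra.smul_def,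
          mul_one]
        rfl
      | add y₁ y₂ h₁ h₂ => simp only [map_add, h₁, h₂, tmul_add]
    have h0 : toA.rTensor _ x = 0 := by
      have := hΨ x
      rw [hx, tmul_zero] at this
      have h3 := φ.injective (this.trans (map_zero φ).symm)
      have h4 := (LinearEquiv.lTensor A u).injective (h3.trans (map_zero _).symm)
      exact c.symm.injective (h4.trans (map_zero _).symm)
    set I := RingHom.ker (algebraMap A' A) with hI
    have hex : Function.Exact (I.subtype.restrictScalars B') toA := by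
      intro a'
      constructor
      · intro h
        have h' : algebraMap A' A a' = 0 := h
        exact ⟨⟨a', (RingHom.mem_ker).mpr h'⟩, rfl⟩
      · rintro ⟨i, rfl⟩
        have h' : algebraMap A' A i.1 = 0 := (RingHom.mem_ker).mp i.2
        exact h'
    obtain ⟨y, rfl⟩ := (rTensor_exact (EtMil.glue B' φ) hex htoA x).mp h0
    let γ := gam hsq I le_rfl
    let θ : ↥I ⊗[B'] (EtMil.glue B' φ) →ₗ[B'] (EtMil.glue B' φ) :=
      TensorProduct.lift ((LinearMap.lsmul B' (EtMil.glue B' φ)).comp γ)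
    have hθ1 : ∀ y, (I.subtype.restrictScalars B').rTensor _ y = (1 : A') ⊗ₜ[B'] (θ y) := by
      intro y
      induction y using TensorProduct.induction_on with
      | zero => simp
      | tmul i g =>
        simp only [LinearMap.rTensor_tmul, θ, TensorProduct.lift.tmul, LinearMap.comp_apply,
          LinearMap.lsmul_apply]
        rw [← TensorProduct.smul_tmul, Algebra.smul_def, mul_one]
        congr 1
        exact (gam_A' hsq I le_rfl i).symm
      | add y₁ y₂ h₁ h₂ => simp only [map_add, h₁, h₂, tmul_add]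
    have hθ2 : ∀ y, (θ y).1.1 = 0 := by
      intro y
      induction y using TensorProduct.induction_on with
      | zero => simp
      | tmul i g =>
        simp only [θ, TensorProduct.lift.tmul, LinearMap.comp_apply, LinearMap.lsmul_apply]
        exact smul_fst φ g _ (gam_B hsq I le_rfl i)
      | add y₁ y₂ h₁ h₂ =>
        rw [map_add, Submodule.coe_add, Prod.fst_add, h₁, h₂, add_zero]
    rw [hθ1 y] at hx ⊢
    rw [hq1] at hx
    have : θ y = 0 := by
      apply Subtype.ext
      exact Prod.ext (hθ2 y) hx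
    rw [this, tmul_zero]
  · intro m
    have hm : m ∈ sndSpan (B' := B') φ := by rw [sndSpan_eq_top φ hsq]; trivial
    have hle : sndSpan (B' := B') φ ≤ LinearMap.range q := by
      rw [Submodule.span_le]
      rintro _ ⟨g, rfl⟩
      exact ⟨(1 : A') ⊗ₜ[B'] g, hq1 g⟩
    exact hle hm

end glue

end Groth.Agent.Lib.Helper56.Milnor
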