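import Groth.Agent.Lib.Helper56.MilnorGlue
import Groth.Agent.Lib.Helper56.MilnorBase
import Mathlib.RingTheory.IsTensorProduct

/-!
# Relative Milnor squares (helper56)

* `glue_finite_of_weak`: finiteness of the glued module over a "weak" fibre square
  (`B' → B ×_A A'` only surjective).
* `surjD`, `surjC`, `exists_of_pushout`: the base change `D' → D ×_C C'` of a Milnor square along
  `B' → D'` is a weak fibre square.
-/

set_option autoImplicit false
set_option linter.unusedSectionVars false
set_option linter.style.haveILetI false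
set_option maxHeartbeats 400000
universe u
open TensorProduct

namespace Groth.Agent.Lib.Helper56.Milnor

theorem algebraMap_smul' {R S T : Type*} [CommSemiring R] [CommSemiring S] [Semiring T]
    [Algebra R S] [Algebra R T] [Algebra S T] [IsScalarTower R S T] (r : R) (s : S) :
    algebraMap S T (r • s) = r • algebraMap S T s := by
  rw [Algebra.smul_def, map_mul, ← IsScalarTower.algebraMap_apply, Algebra.smul_def]

section weak

variable {B' B A' A : Type u} [CommRing B'] [CommRing B] [CommRing A'] [CommRing A]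
  [Algebra B' B] [Algebra B' A'] [Algebra B A] [Algebra A' A] [Algebra B' A]
  [IsScalarTower B' B A] [IsScalarTower B' A' A]
variable {N M' : Type u} [AddCommGroup N] [Module B N] [Module B' N] [IsScalarTower B' B N]
  [AddCommGroup M'] [Module A' M'] [Module B' M'] [IsScalarTower B' A' M']
  (φ : A ⊗[B] N ≃ₗ[A] A ⊗[A'] M')

theorem exists_mem_glue_fst' (hA : Function.Surjective (algebraMap A' A)) (n : N) :
    ∃ m' : M', (n, m') ∈ EtMil.glue B' φ := by
  obtain ⟨m', hm'⟩ := exists_one_tmul_eq hA (φ ((1 : A) ⊗ₜ[B] n))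
  exact ⟨m', hm'.symm⟩

theorem exists_mem_span_tmul_eq' (hA : Function.Surjective (algebraMap A' A)) (z : A ⊗[B] N) :
    ∃ m' ∈ sndSpan (B' := B') φ, (1 : A) ⊗ₜ[A'] m' = φ z := by
  induction z using TensorProduct.induction_on with
  | zero => exact ⟨0, zero_mem _, by simp⟩
  | tmul a n =>
    obtain ⟨a', rfl⟩ := hA a
    obtain ⟨m', hm'⟩ := exists_mem_glue_fst' (B' := B') φ hA n
    refine ⟨a' • m', Submodule.smul_mem _ _ (Submodule.subset_span ⟨⟨(n, m'), hm'⟩, rfl⟩), ?_⟩
    have h1 : (algebraMap A' A a') ⊗ₜ[B] n = algebraMap A' A a' • ((1 : A) ⊗ₜ[B] n) := by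
      rw [TensorProduct.smul_tmul', smul_eq_mul, mul_one]
    rw [h1, map_smul, (mem_glue_iff φ (n, m')).mp hm', TensorProduct.smul_tmul', smul_eq_mul,
      mul_one, ← TensorProduct.smul_tmul, Algebra.smul_def, mul_one]
  | add x y hx hy =>
    obtain ⟨a, ha, ha'⟩ := hx
    obtain ⟨b, hb, hb'⟩ := hy
    exact ⟨a + b, Submodule.add_mem _ ha hb, by rw [tmul_add, ha', hb', map_add]⟩

theorem sndSpan_eq_top' (hA : Function.Surjective (algebraMap A' A)) :
    sndSpan (B' := B') φ = ⊤ := by
  rw [eq_top_iff]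
  intro m₀ _
  obtain ⟨m', hm', h⟩ := exists_mem_span_tmul_eq' (B' := B') φ hA (φ.symm ((1 : A) ⊗ₜ[A'] m₀))
  rw [LinearEquiv.apply_symm_apply] at h
  have hd : m₀ - m' ∈ RingHom.ker (algebraMap A' A) • (⊤ : Submodule A' M') :=
    mem_smul_top_of_one_tmul_eq_zero hA _ (by rw [tmul_sub, h, sub_self])
  have h2 : m₀ - m' ∈ sndSpan (B' := B') φ :=
    Submodule.subset_span ⟨⟨(0, m₀ - m'), zero_mem_glue φ _ hd⟩, rfl⟩
  have := Submodule.add_mem _ h2 hm'
  simpa using this

/-- Finiteness of the glued module over a weak fibre square. -/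
theorem glue_finite_of_weak (hA : Function.Surjective (algebraMap A' A))
    (hB : Function.Surjective (algebraMap B' B))
    (hP : ∀ (b : B) (a' : A'), algebraMap B A b = algebraMap A' A a' →
      ∃ b' : B', algebraMap B' B b' = b ∧ algebraMap B' A' b' = a')
    [Module.Finite B N] [Module.Finite A' M'] : Module.Finite B' (EtMil.glue B' φ) := by
  classical
  let p : EtMil.glue B' φ →ₗ[B'] N := EtMil.glueFst B' φ
  let q : EtMil.glue B' φ →ₗ[B'] M' := EtMil.glueSnd B' φ
  have hp1 : ∀ g : EtMil.glue B' φ, p g = g.1.1 := fun _ => rfl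
  have hq1 : ∀ g : EtMil.glue B' φ, q g = g.1.2 := fun _ => rfl
  haveI : Module.Finite B' B := Module.Finite.of_surjective (Algebra.linearMap B' B) hB
  haveI : Module.Finite B' N := Module.Finite.trans B N
  obtain ⟨t, ht⟩ := (Module.finite_def.mp ‹Module.Finite B' N›)
  have hp : Function.Surjective p := by
    intro n
    obtain ⟨m', hm'⟩ := exists_mem_glue_fst' (B' := B') φ hA n
    exact ⟨⟨(n, m'), hm'⟩, rfl⟩
  obtain ⟨t', -, ht'⟩ := Finset.subset_set_image_iff.mp
    (show (↑t : Set N) ⊆ p '' Set.univ by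
      rw [Set.image_univ, Set.range_eq_univ.mpr hp]; exact Set.subset_univ _)
  have hfg : (sndSpan (B' := B') φ).FG := by
    rw [sndSpan_eq_top' φ hA]
    exact Module.Finite.fg_top
  obtain ⟨s', hs'sub, hs'span⟩ := (Submodule.fg_span_iff_fg_span_finset_subset _).mp hfg
  obtain ⟨s'', -, hs''⟩ := Finset.subset_set_image_iff.mp
    (show (↑s' : Set M') ⊆ (fun g : EtMil.glue B' φ => g.1.2) '' Set.univ by
      rw [Set.image_univ]; exact hs'sub)
  have hs'top : Submodule.span A' (↑s' : Set M') = ⊤ := by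
    rw [← hs'span]; exact sndSpan_eq_top' φ hA
  -- the submodule of second components of elements of `span s''` with zero first component
  let S₂ : Submodule B' (EtMil.glue B' φ) := Submodule.span B' (↑s'' : Set (EtMil.glue B' φ))
  let 𝒦 : Submodule B' M' := Submodule.map q (S₂ ⊓ LinearMap.ker p)
  have hgen : ∀ μ ∈ Submodule.span A' (↑s' : Set M'),
      ∀ κ ∈ RingHom.ker (algebraMap A' A), κ • μ ∈ 𝒦 := by
    intro μ hμ
    induction hμ using Submodule.span_induction with
    | mem x hx =>
      intro κ hκ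
      rw [← hs'', Finset.coe_image] at hx
      obtain ⟨g₀, hg₀, rfl⟩ := hx
      obtain ⟨x, hxB, hxA⟩ := hP 0 κ (by rw [map_zero, (RingHom.mem_ker).mp hκ])
      refine ⟨x • g₀, ⟨Submodule.smul_mem _ _ (Submodule.subset_span hg₀), ?_⟩, ?_⟩
      · change p (x • g₀) = 0
        rw [hp1]; exact smul_fst φ g₀ x hxB
      · rw [hq1, smul_snd φ g₀ x, hxA]
    | zero =>
      intro κ _
      rw [smul_zero]; exact zero_mem _
    | add x y _ _ hx hy =>
      intro κ hκ
      rw [smul_add]; exact Submodule.add_mem _ (hx κ hκ) (hy κ hκ)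
    | smul a' x _ hx =>
      intro κ hκ
      rw [smul_smul]
      exact hx (κ * a') (Ideal.mul_mem_right _ _ hκ)
  have hK : ∀ x ∈ RingHom.ker (algebraMap A' A) • (⊤ : Submodule A' M'), x ∈ 𝒦 := by
    intro x hx
    refine Submodule.smul_induction_on hx ?_ ?_
    · intro κ hκ μ _
      exact hgen μ (by rw [hs'top]; trivial) κ hκ
    · intro a b ha hb
      exact Submodule.add_mem _ ha hb
  rw [Module.finite_def]
  refine ⟨t' ∪ s'', ?_⟩
  rw [eq_top_iff]
  intro g _
  have h1 : p g ∈ Submodule.map p (Submodule.span B' (↑t' : Set (EtMil.glue B' φ))) := by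
    rw [Submodule.map_span, ← Finset.coe_image, ht', ht]; trivial
  obtain ⟨g₂, hg₂, hpg₂⟩ := h1
  have hk : (g - g₂).1.1 = 0 := by
    rw [← hp1, map_sub, hpg₂, sub_self]
  have hk2 : (g - g₂).1.2 ∈ RingHom.ker (algebraMap A' A) • (⊤ : Submodule A' M') := by
    apply mem_smul_top_of_one_tmul_eq_zero hA
    have := (mem_glue_iff φ (g - g₂).1).mp (g - g₂).2
    rw [← this, hk, tmul_zero, map_zero]
  obtain ⟨g', ⟨hg'S, hg'ker⟩, hg'q⟩ := hK _ hk2
  have hgg : g' = g - g₂ := by
    apply Subtype.ext
    apply Prod.ext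
    · rw [hk, ← hp1]; exact hg'ker
    · rw [← hq1, hg'q]
  have hmem : g - g₂ ∈ Submodule.span B' (↑(t' ∪ s'') : Set (EtMil.glue B' φ)) := by
    rw [← hgg]
    exact Submodule.span_mono (by rw [Finset.coe_union]; exact Set.subset_union_right) hg'S
  have hmem2 : g₂ ∈ Submodule.span B' (↑(t' ∪ s'') : Set (EtMil.glue B' φ)) :=
    Submodule.span_mono (by rw [Finset.coe_union]; exact Set.subset_union_left) hg₂
  have := Submodule.add_mem _ hmem hmem2
  rwa [sub_add_cancel] at this

end weak

section rel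

variable {B' B A' A : Type u} [CommRing B'] [CommRing B] [CommRing A'] [CommRing A]
    [Algebra B' B] [Algebra B' A'] [Algebra B A] [Algebra A' A] [Algebra B' A]
    [IsScalarTower B' B A] [IsScalarTower B' A' A]
    (hsq : EtMil.IsFibreSquare B' B A' A)
    (D' D C' C : Type u) [CommRing D'] [CommRing D] [CommRing C'] [CommRing C]
    [Algebra B' D'] [Algebra B D] [Algebra A' C'] [Algebra A C]
    [Algebra D' D] [Algebra B' D] [IsScalarTower B' B D] [IsScalarTower B' D' D]
    [Algebra.IsPushout B' B D' D]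
    [Algebra D' C'] [Algebra B' C'] [IsScalarTower B' A' C'] [IsScalarTower B' D' C']
    [Algebra.IsPushout B' A' D' C']
    [Algebra D' C] [Algebra B' C] [IsScalarTower B' A C] [IsScalarTower B' D' C]
    [Algebra.IsPushout B' A D' C]
    [Algebra D C] [IsScalarTower D' D C] [Algebra B C] [IsScalarTower B A C] [IsScalarTower B D C]
    [Algebra C' C] [IsScalarTower D' C' C] [Algebra A' C] [IsScalarTower A' A C]
    [IsScalarTower A' C' C]

include hsq D' D C' C

theorem surjD : Function.Surjective (algebraMap D' D) := by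
  intro x
  have hD : IsBaseChange B (IsScalarTower.toAlgHom B' D' D).toLinearMap :=
    Algebra.IsPushout.out
  refine hD.inductionOn x (fun x => x ∈ Set.range (algebraMap D' D)) ⟨0, map_zero _⟩ ?_ ?_ ?_
  · intro m; exact ⟨m, rfl⟩
  · rintro s n ⟨d', rfl⟩
    obtain ⟨b', rfl⟩ := surjB (A' := A') (A := A) hsq s
    exact ⟨b' • d', by rw [algebraMap_smul' (R := B'), algebraMap_smul]⟩
  · rintro _ _ ⟨a, rfl⟩ ⟨b, rfl⟩
    exact ⟨a + b, map_add _ _ _⟩

theorem surjC : Function.Surjective (algebraMap C' C) := by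
  intro x
  have hC : IsBaseChange A (IsScalarTower.toAlgHom B' D' C).toLinearMap :=
    Algebra.IsPushout.out
  refine hC.inductionOn x (fun x => x ∈ Set.range (algebraMap C' C)) ⟨0, map_zero _⟩ ?_ ?_ ?_
  · intro m
    exact ⟨algebraMap D' C' m, (IsScalarTower.algebraMap_apply D' C' C m).symm⟩
  · rintro s n ⟨c', rfl⟩
    obtain ⟨a', rfl⟩ := hsq.1 s
    exact ⟨a' • c', by rw [algebraMap_smul' (R := A'), algebraMap_smul]⟩
  · rintro _ _ ⟨a, rfl⟩ ⟨b, rfl⟩
    exact ⟨a + b, map_add _ _ _⟩

theorem exists_of_pushout (d : D) (c' : C') (h : algebraMap D C d = algebraMap C' C c') :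
    ∃ d' : D', algebraMap D' D d' = d ∧ algebraMap D' C' d' = c' := by
  have hD : IsBaseChange B (IsScalarTower.toAlgHom B' D' D).toLinearMap :=
    Algebra.IsPushout.out
  have hC' : IsBaseChange A' (IsScalarTower.toAlgHom B' D' C').toLinearMap :=
    Algebra.IsPushout.out
  have hC : IsBaseChange A (IsScalarTower.toAlgHom B' D' C).toLinearMap :=
    Algebra.IsPushout.out
  let toAB : B →ₗ[B'] A := (IsScalarTower.toAlgHom B' B A).toLinearMap
  let toAA : A' →ₗ[B'] A := (IsScalarTower.toAlgHom B' A' A).toLinearMap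
  -- naturality
  have N1 : ∀ u : B ⊗[B'] D', hC.equiv (toAB.rTensor D' u) = algebraMap D C (hD.equiv u) := by
    intro u
    induction u using TensorProduct.induction_on with
    | zero => simp
    | add x y hx hy => simp only [map_add, hx, hy]
    | tmul b d' =>
      rw [LinearMap.rTensor_tmul, IsBaseChange.equiv_tmul, IsBaseChange.equiv_tmul]
      change algebraMap B A b • algebraMap D' C d' = algebraMap D C (b • algebraMap D' D d')
      rw [algebraMap_smul, algebraMap_smul' (R := B), ← IsScalarTower.algebraMap_apply]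
  have N2 : ∀ v : A' ⊗[B'] D', hC.equiv (toAA.rTensor D' v) = algebraMap C' C (hC'.equiv v) := by
    intro v
    induction v using TensorProduct.induction_on with
    | zero => simp
    | add x y hx hy => simp only [map_add, hx, hy]
    | tmul a' d' =>
      rw [LinearMap.rTensor_tmul, IsBaseChange.equiv_tmul, IsBaseChange.equiv_tmul]
      change algebraMap A' A a' • algebraMap D' C d' = algebraMap C' C (a' • algebraMap D' C' d')
      rw [algebraMap_smul, algebraMap_smul' (R := A'), ← IsScalarTower.algebraMap_apply]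
  set u := hD.equiv.symm d with hu
  set v := hC'.equiv.symm c' with hv
  let w : (B × A') ⊗[B'] D' :=
    (LinearMap.inl B' B A').rTensor D' u + (LinearMap.inr B' B A').rTensor D' v
  have hqinl : (qR B' B A' A) ∘ₗ (LinearMap.inl B' B A') = toAB := by
    ext b; simp [qR_apply, toAB]
  have hqinr : (qR B' B A' A) ∘ₗ (LinearMap.inr B' B A') = -toAA := by
    ext a'; simp [qR_apply, toAA]
  have hw0 : (qR B' B A' A).rTensor D' w = 0 := by
    apply hC.equiv.injective
    rw [map_zero, map_add, ← LinearMap.comp_apply, ← LinearMap.comp_apply,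
      ← LinearMap.rTensor_comp, ← LinearMap.rTensor_comp, hqinl, hqinr, LinearMap.rTensor_neg,
      LinearMap.neg_apply, map_add, map_neg, N1, N2, hu, hv, LinearEquiv.apply_symm_apply,
      LinearEquiv.apply_symm_apply, h, add_neg_cancel]
  obtain ⟨z, hz⟩ := (rTensor_exact D' (exact_iR_qR hsq) (qR_surjective hsq) w).mp hw0
  obtain ⟨d', rfl⟩ : ∃ d' : D', (1 : B') ⊗ₜ[B'] d' = z :=
    ⟨TensorProduct.lid B' D' z, by
      rw [← TensorProduct.lid_symm_apply, LinearEquiv.symm_apply_apply]⟩
  rw [LinearMap.rTensor_tmul, iR_apply, map_one, map_one] at hz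
  refine ⟨d', ?_, ?_⟩
  · have h1 := congrArg ((LinearMap.fst B' B A').rTensor D') hz
    rw [LinearMap.rTensor_tmul, map_add, ← LinearMap.comp_apply, ← LinearMap.comp_apply,
      ← LinearMap.rTensor_comp, ← LinearMap.rTensor_comp, LinearMap.fst_comp_inl,
      LinearMap.fst_comp_inr, LinearMap.rTensor_id, LinearMap.rTensor_zero, LinearMap.id_apply,
      LinearMap.zero_apply, add_zero] at h1
    have h2 := congrArg hD.equiv h1
    rw [hu, LinearEquiv.apply_symm_apply, IsBaseChange.equiv_tmul] at h2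
    simpa using h2
  · have h1 := congrArg ((LinearMap.snd B' B A').rTensor D') hz
    rw [LinearMap.rTensor_tmul, map_add, ← LinearMap.comp_apply, ← LinearMap.comp_apply,
      ← LinearMap.rTensor_comp, ← LinearMap.rTensor_comp, LinearMap.snd_comp_inl,
      LinearMap.snd_comp_inr, LinearMap.rTensor_id, LinearMap.rTensor_zero, LinearMap.id_apply,
      LinearMap.zero_apply, zero_add] at h1
    have h2 := congrArg hC'.equiv h1
    rw [hv, LinearEquiv.apply_symm_apply, IsBaseChange.equiv_tmul] at h2
    simpa using h2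

end rel

end Groth.Agent.Lib.Helper56.Milnor
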