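import Groth.Agent.Lib.Helper56.MilnorRel

/-!
# Relative Milnor squares: finite presentation of the glued module (helper56)

* `cancel_symm_natural`: naturality of `Algebra.IsPushout.cancelBaseChange`.
* `rel_finite_baseChange_ker`, `finite_rel`, `finitePresentation_rel`: a `D'`-module flat over `B'`
  whose base changes to `D` and `C'` are finitely presented is finitely presented.
* `glue_finitePresentation_rel`: the relative glueing statement.
-/

set_option autoImplicit false
set_option linter.unusedSectionVars false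
set_option linter.style.haveILetI false
set_option maxHeartbeats 400000
universe u
open TensorProduct

namespace Groth.Agent.Lib.Helper56.Milnor

section cancel

variable (R S A B : Type u) [CommRing R] [CommRing S] [CommRing A] [CommRing B]
  [Algebra R S] [Algebra R A] [Algebra R B] [Algebra A B] [Algebra S B]
  [IsScalarTower R A B] [IsScalarTower R S B] [Algebra.IsPushout R S A B]

/-- Naturality of `IsPushout.cancelBaseChange` (inverse direction). -/
theorem cancel_symm_natural {M M₂ : Type u} [AddCommGroup M] [Module R M] [Module A M]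
    [IsScalarTower R A M] [AddCommGroup M₂] [Module R M₂] [Module A M₂] [IsScalarTower R A M₂]
    (f : M →ₗ[A] M₂) (z : S ⊗[R] M) :
    f.baseChange B ((Algebra.IsPushout.cancelBaseChange R S A B M).symm z) =
      (Algebra.IsPushout.cancelBaseChange R S A B M₂).symm
        ((f.restrictScalars R).lTensor S z) := by
  induction z using TensorProduct.induction_on with
  | zero => simp
  | tmul s m =>
    rw [Algebra.IsPushout.cancelBaseChange_symm_tmul, LinearMap.baseChange_tmul,
      LinearMap.lTensor_tmul, Algebra.IsPushout.cancelBaseChange_symm_tmul]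
    rfl
  | add x y hx hy => simp only [map_add, hx, hy]

include S in
/-- Relative version of `finite_baseChange_ker`. -/
theorem rel_finite_baseChange_ker {F L : Type u} [AddCommGroup F] [AddCommGroup L]
    [Module A F] [Module R F] [IsScalarTower R A F] [Module A L] [Module R L] [IsScalarTower R A L]
    [Module.Finite A F] [Module.Flat R L] [Module.FinitePresentation B (B ⊗[A] L)]
    (π : F →ₗ[A] L) (hπ : Function.Surjective π) :
    Module.Finite B (B ⊗[A] LinearMap.ker π) := by
  have hinj : Function.Injective ((LinearMap.ker π).subtype.baseChange B) := by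
    have h0 := LinearMap.lTensor_injective_of_exact_of_flat (π.restrictScalars R) hπ
      ((LinearMap.ker π).subtype.restrictScalars R)
      (Submodule.injective_subtype _) (LinearMap.exact_subtype_ker_map π) S
    intro x y hxy
    obtain ⟨x', rfl⟩ :=
      (Algebra.IsPushout.cancelBaseChange R S A B (LinearMap.ker π)).symm.surjective x
    obtain ⟨y', rfl⟩ :=
      (Algebra.IsPushout.cancelBaseChange R S A B (LinearMap.ker π)).symm.surjective y
    rw [cancel_symm_natural, cancel_symm_natural] at hxy
    have := h0 ((LinearEquiv.injective _) hxy)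
    rw [this]
  have hsurj : Function.Surjective (π.baseChange B) := by
    intro x
    obtain ⟨y, hy⟩ := LinearMap.lTensor_surjective B hπ x
    exact ⟨y, by rw [← hy, ← LinearMap.baseChange_eq_ltensor]⟩
  have hfg : (LinearMap.ker (π.baseChange B)).FG :=
    Module.FinitePresentation.fg_ker (π.baseChange B) hsurj
  have hrange : LinearMap.range ((LinearMap.ker π).subtype.baseChange B) =
      LinearMap.ker (π.baseChange B) := by
    have := lTensor_exact B (LinearMap.exact_subtype_ker_map π) hπ
    ext x
    rw [LinearMap.mem_range, LinearMap.mem_ker]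
    exact (this x).symm
  have : Module.Finite B (LinearMap.range ((LinearMap.ker π).subtype.baseChange B)) := by
    rw [hrange]; exact Module.Finite.iff_fg.mpr hfg
  exact Module.Finite.equiv (LinearEquiv.ofInjective _ hinj).symm

/-- Transfer of bijectivity of the comparison maps along `IsPushout.cancelBaseChange`. -/
theorem bijective_transfer {X X' T : Type u} [AddCommGroup X] [Module A X] [Module R X]
    [IsScalarTower R A X] [AddCommGroup X'] [Module R X'] (e : X ≃ₗ[R] X')
    [AddCommGroup T] [Module B T] [Module S T] [IsScalarTower S B T] [Module A T]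
    [IsScalarTower A B T] [Module R T] [IsScalarTower R S T]
    (g : X →ₗ[A] T) (g' : X' →ₗ[R] T) (hg : ∀ x, g' (e x) = g x)
    (h : Function.Bijective (LinearMap.liftBaseChange S g')) :
    Function.Bijective (LinearMap.liftBaseChange B g) := by
  have key : ∀ w : S ⊗[R] X, LinearMap.liftBaseChange S g' (LinearEquiv.lTensor S e w) =
      LinearMap.liftBaseChange B g ((Algebra.IsPushout.cancelBaseChange R S A B X).symm w) := by
    intro w
    induction w using TensorProduct.induction_on with
    | zero => simp
    | tmul s x =>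
      rw [LinearEquiv.lTensor_tmul, LinearMap.liftBaseChange_tmul,
        Algebra.IsPushout.cancelBaseChange_symm_tmul, LinearMap.liftBaseChange_tmul, hg,
        algebraMap_smul]
    | add x y hx hy => simp only [map_add, hx, hy]
  constructor
  · rw [injective_iff_map_eq_zero]
    intro z hz
    obtain ⟨w, rfl⟩ := (Algebra.IsPushout.cancelBaseChange R S A B X).symm.surjective z
    rw [← key] at hz
    have h1 : LinearEquiv.lTensor S e w = 0 := by
      apply h.1
      rw [hz, map_zero]
    have h2 : w = 0 := by
      apply (LinearEquiv.lTensor S e).injective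
      rw [h1, map_zero]
    rw [h2, map_zero]
  · intro t
    obtain ⟨w', rfl⟩ := h.2 t
    refine ⟨(Algebra.IsPushout.cancelBaseChange R S A B X).symm
      ((LinearEquiv.lTensor S e).symm w'), ?_⟩
    rw [← key, LinearEquiv.apply_symm_apply]

end cancel

section rel

variable {B' B A' A : Type u} [CommRing B'] [CommRing B] [CommRing A'] [CommRing A]
    [Algebra B' B] [Algebra B' A'] [Algebra B A] [Algebra A' A] [Algebra B' A]
    [IsScalarTower B' B A] [IsScalarTower B' A' A]
    (hsq : EtMil.IsFibreSquare B' B A' A)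
    (D' D C' : Type u) [CommRing D'] [CommRing D] [CommRing C']
    [Algebra B' D'] [Algebra B D] [Algebra A' C']
    [Algebra D' D] [Algebra B' D] [IsScalarTower B' B D] [IsScalarTower B' D' D]
    [Algebra.IsPushout B' B D' D]
    [Algebra D' C'] [Algebra B' C'] [IsScalarTower B' A' C'] [IsScalarTower B' D' C']
    [Algebra.IsPushout B' A' D' C']

include hsq in
/-- Relative version of `finite_of_finite`. -/
theorem finite_rel (X : Type u) [AddCommGroup X] [Module D' X] [Module B' X]
    [IsScalarTower B' D' X]
    [Module.Finite D (D ⊗[D'] X)] [Module.Finite C' (C' ⊗[D'] X)] : Module.Finite D' X := by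
  classical
  obtain ⟨s₁, hs₁⟩ := (Module.finite_def.mp ‹Module.Finite D (D ⊗[D'] X)›)
  obtain ⟨s₂, hs₂⟩ := (Module.finite_def.mp ‹Module.Finite C' (C' ⊗[D'] X)›)
  obtain ⟨N₁, hN₁, h₁⟩ := TensorProduct.exists_finite_submodule_right_of_setFinite
    (R := D') (M := D) (N := X) (s₁ : Set _) s₁.finite_toSet
  obtain ⟨N₂, hN₂, h₂⟩ := TensorProduct.exists_finite_submodule_right_of_setFinite
    (R := D') (M := C') (N := X) (s₂ : Set _) s₂.finite_toSet
  have hNfg : (N₁ ⊔ N₂).FG :=
    Submodule.FG.sup (Module.Finite.iff_fg.mp hN₁) (Module.Finite.iff_fg.mp hN₂)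
  have hle : ∀ {S : Type u} [CommRing S] [Algebra D' S] {N N' : Submodule D' X} (hNN : N ≤ N'),
      LinearMap.range (N.subtype.lTensor S) ≤ LinearMap.range (N'.subtype.lTensor S) := by
    intro S _ _ N N' hNN
    have : N.subtype = N'.subtype ∘ₗ Submodule.inclusion hNN := by ext; simp
    rw [this, LinearMap.lTensor_comp]
    exact LinearMap.range_comp_le_range _ _
  have hD : Subsingleton (D ⊗[D'] (X ⧸ (N₁ ⊔ N₂))) :=
    subsingleton_tensor_quotient (N₁ ⊔ N₂) (s₁ : Set _) hs₁ (h₁.trans (hle le_sup_left))
  have hC : Subsingleton (C' ⊗[D'] (X ⧸ (N₁ ⊔ N₂))) :=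
    subsingleton_tensor_quotient (N₁ ⊔ N₂) (s₂ : Set _) hs₂ (h₂.trans (hle le_sup_right))
  have hB : Subsingleton (B ⊗[B'] (X ⧸ (N₁ ⊔ N₂))) :=
    (Algebra.IsPushout.cancelBaseChange B' B D' D (X ⧸ (N₁ ⊔ N₂))).symm.toEquiv.subsingleton
  have hA : Subsingleton (A' ⊗[B'] (X ⧸ (N₁ ⊔ N₂))) :=
    (Algebra.IsPushout.cancelBaseChange B' A' D' C' (X ⧸ (N₁ ⊔ N₂))).symm.toEquiv.subsingleton
  have hQ : Subsingleton (X ⧸ (N₁ ⊔ N₂)) := subsingleton_of_subsingleton (X ⧸ (N₁ ⊔ N₂)) hsq
  have htop : N₁ ⊔ N₂ = ⊤ := Submodule.Quotient.subsingleton_iff.mp hQ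
  rw [Module.finite_def, ← htop]
  exact hNfg

include hsq in
/-- A `D'`-module, flat over `B'`, finite over `D'`, whose base changes to `D` and `C'` are finitely
presented, is finitely presented. -/
theorem finitePresentation_rel (X : Type u) [AddCommGroup X] [Module D' X] [Module B' X]
    [IsScalarTower B' D' X] [Module.Finite D' X] [Module.Flat B' X]
    [Module.FinitePresentation D (D ⊗[D'] X)] [Module.FinitePresentation C' (C' ⊗[D'] X)] :
    Module.FinitePresentation D' X := by
  obtain ⟨n, π, hπ⟩ := Module.Finite.exists_fin' D' X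
  have h1 : Module.Finite D (D ⊗[D'] LinearMap.ker π) :=
    rel_finite_baseChange_ker B' B D' D π hπ
  have h2 : Module.Finite C' (C' ⊗[D'] LinearMap.ker π) :=
    rel_finite_baseChange_ker B' A' D' C' π hπ
  have hK : Module.Finite D' (LinearMap.ker π) := finite_rel hsq D' D C' (LinearMap.ker π)
  exact Module.finitePresentation_of_surjective π hπ (Module.Finite.iff_fg.mp hK)

end rel

section relglue

variable {B' B A' A : Type u} [CommRing B'] [CommRing B] [CommRing A'] [CommRing A]
    [Algebra B' B] [Algebra B' A'] [Algebra B A] [Algebra A' A] [Algebra B' A]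
    [IsScalarTower B' B A] [IsScalarTower B' A' A]
    (hsq : EtMil.IsFibreSquare B' B A' A)
    (D' D C' C : Type u) [CommRing D'] [CommRing D] [CommRing C'] [CommRing C]
    [Algebra B' D'] [Algebra B D] [Algebra A' C'] [Algebra A C]
    [Algebra D' D] [Algebra B' D] [IsScalarTower B' B D] [IsScalarTower B' D' D]
    [Algebra.IsPushout B' B D' D]
    [Algebra D' C'] [Algebra B' C'] [IsScalarTower B' A' C'] [IsScalarTower B' D' C']
    [Algebra.IsPushout B' A' D' C']
    [Algebra D' C] [Algebra B' C] [IsScalarTower B' A C] [IsScalarTower B' D' C]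
    [Algebra.IsPushout B' A D' C]
    [Algebra D C] [IsScalarTower D' D C] [Algebra B C] [IsScalarTower B A C] [IsScalarTower B D C]
    [Algebra C' C] [IsScalarTower D' C' C] [Algebra A' C] [IsScalarTower A' A C]
    [IsScalarTower A' C' C]

include hsq in
/-- Relative Milnor glueing: the glued module is finitely presented over `D'`. -/
theorem glue_finitePresentation_rel
    {N M' : Type u} [AddCommGroup N] [Module D N] [Module D' N] [IsScalarTower D' D N]
    [AddCommGroup M'] [Module C' M'] [Module D' M'] [IsScalarTower D' C' M']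
    (φ : C ⊗[D] N ≃ₗ[C] C ⊗[C'] M')
    [Module B N] [IsScalarTower B D N] [Module A' M'] [IsScalarTower A' C' M']
    [Module.FinitePresentation D N] [Module.Flat B N] [Module.FinitePresentation C' M']
    [Module.Flat A' M'] :
    Module.FinitePresentation D' ↥(EtMil.glue D' φ) := by
  -- `B'`-structures
  letI iN : Module B' N := Module.compHom N (algebraMap B' D')
  letI iM : Module B' M' := Module.compHom M' (algebraMap B' D')
  have hN1 : ∀ (b : B') (n : N), b • n = algebraMap B' D' b • n := fun _ _ => rfl
  have hM1 : ∀ (b : B') (m : M'), b • m = algebraMap B' D' b • m := fun _ _ => rfl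
  haveI tN : IsScalarTower B' D' N := ⟨fun b d n => by
    rw [hN1, Algebra.smul_def, mul_smul]⟩
  haveI tM : IsScalarTower B' D' M' := ⟨fun b d m => by
    rw [hM1, Algebra.smul_def, mul_smul]⟩
  have hN2 : ∀ (b : B') (n : N), b • n = algebraMap B' B b • n := by
    intro b n
    rw [hN1, ← algebraMap_smul D (algebraMap B' D' b) n, ← algebraMap_smul D (algebraMap B' B b) n,
      ← IsScalarTower.algebraMap_apply, ← IsScalarTower.algebraMap_apply]
  have hM2 : ∀ (b : B') (m : M'), b • m = algebraMap B' A' b • m := by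
    intro b m
    rw [hM1, ← algebraMap_smul C' (algebraMap B' D' b) m,
      ← algebraMap_smul C' (algebraMap B' A' b) m,
      ← IsScalarTower.algebraMap_apply, ← IsScalarTower.algebraMap_apply]
  haveI tN' : IsScalarTower B' B N := ⟨fun b x n => by
    rw [hN2, Algebra.smul_def, mul_smul]⟩
  haveI tM' : IsScalarTower B' A' M' := ⟨fun b x m => by
    rw [hM2, Algebra.smul_def, mul_smul]⟩
  -- pushouts
  haveI : IsScalarTower B' D C := IsScalarTower.of_algebraMap_eq fun x => by
    rw [IsScalarTower.algebraMap_apply B' D' C, IsScalarTower.algebraMap_apply D' D C,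
      ← IsScalarTower.algebraMap_apply B' D' D]
  haveI : IsScalarTower B' C' C := IsScalarTower.of_algebraMap_eq fun x => by
    rw [IsScalarTower.algebraMap_apply B' D' C, IsScalarTower.algebraMap_apply D' C' C,
      ← IsScalarTower.algebraMap_apply B' D' C']
  haveI hpB : Algebra.IsPushout B A D C :=
    (Algebra.IsPushout.comp_iff B' B D' (S' := D) (T := A) (T' := C)).mp inferInstance
  haveI hpA : Algebra.IsPushout A' A C' C :=
    (Algebra.IsPushout.comp_iff B' A' D' (S' := C') (T := A) (T' := C)).mp inferInstance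
  -- the absolute glueing datum
  obtain ⟨ψ, hψ⟩ : ∃ ψ : A ⊗[B] N ≃ₗ[A] A ⊗[A'] M', ∀ (n : N) (m' : M'),
      ψ ((1 : A) ⊗ₜ[B] n) = (1 : A) ⊗ₜ[A'] m' ↔ φ ((1 : C) ⊗ₜ[D] n) = (1 : C) ⊗ₜ[C'] m' := by
    refine ⟨(Algebra.IsPushout.cancelBaseChange B A D C N).symm ≪≫ₗ (φ.restrictScalars A) ≪≫ₗ
      (Algebra.IsPushout.cancelBaseChange A' A C' C M'), fun n m' => ?_⟩
    rw [LinearEquiv.trans_apply, LinearEquiv.trans_apply,
      Algebra.IsPushout.cancelBaseChange_symm_tmul, map_one, LinearEquiv.restrictScalars_apply]
    constructor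
    · intro h
      have := congrArg (Algebra.IsPushout.cancelBaseChange A' A C' C M').symm h
      rw [LinearEquiv.symm_apply_apply, Algebra.IsPushout.cancelBaseChange_symm_tmul,
        map_one] at this
      exact this
    · intro h
      rw [h, Algebra.IsPushout.cancelBaseChange_tmul]
  have hPP : ∀ x : N × M', x ∈ EtMil.glue B' ψ ↔ x ∈ EtMil.glue D' φ := fun x => hψ x.1 x.2
  obtain ⟨eP, heP⟩ : ∃ eP : ↥(EtMil.glue D' φ) ≃ₗ[B'] ↥(EtMil.glue B' ψ),
      ∀ x, (eP x).1 = x.1 :=
    ⟨{ toFun := fun x => ⟨x.1, (hPP x.1).mpr x.2⟩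
       invFun := fun x => ⟨x.1, (hPP x.1).mp x.2⟩
       map_add' := fun _ _ => rfl
       map_smul' := fun _ _ => rfl
       left_inv := fun _ => rfl
       right_inv := fun _ => rfl }, fun _ => rfl⟩
  -- flatness over `B'`
  haveI : Module.Flat B (B ⊗[B'] ↥(EtMil.glue B' ψ)) :=
    Module.Flat.of_linearEquiv (LinearEquiv.ofBijective _ (glueFst_bijective ψ hsq))
  haveI : Module.Flat A' (A' ⊗[B'] ↥(EtMil.glue B' ψ)) :=
    Module.Flat.of_linearEquiv (LinearEquiv.ofBijective _ (glueSnd_bijective ψ hsq))
  haveI : Module.Flat B' ↥(EtMil.glue B' ψ) := flat_of_flat ↥(EtMil.glue B' ψ) hsq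
  haveI : Module.Flat B' ↥(EtMil.glue D' φ) := Module.Flat.of_linearEquiv eP
  -- finiteness
  haveI : Module.Finite D' ↥(EtMil.glue D' φ) :=
    glue_finite_of_weak φ (surjC hsq D' D C' C) (surjD hsq D' D C' C)
      (exists_of_pushout hsq D' D C' C)
  -- the base changes
  have b1 : Function.Bijective (LinearMap.liftBaseChange D (EtMil.glueFst D' φ)) :=
    bijective_transfer B' B D' D eP (EtMil.glueFst D' φ) (EtMil.glueFst B' ψ)
      (fun x => congrArg Prod.fst (heP x)) (glueFst_bijective ψ hsq)
  have b2 : Function.Bijective (LinearMap.liftBaseChange C' (EtMil.glueSnd D' φ)) :=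
    bijective_transfer B' A' D' C' eP (EtMil.glueSnd D' φ) (EtMil.glueSnd B' ψ)
      (fun x => congrArg Prod.snd (heP x)) (glueSnd_bijective ψ hsq)
  haveI : Module.FinitePresentation D (D ⊗[D'] ↥(EtMil.glue D' φ)) :=
    Module.FinitePresentation.of_equiv (LinearEquiv.ofBijective _ b1).symm
  haveI : Module.FinitePresentation C' (C' ⊗[D'] ↥(EtMil.glue D' φ)) :=
    Module.FinitePresentation.of_equiv (LinearEquiv.ofBijective _ b2).symm
  exact finitePresentation_rel hsq D' D C' ↥(EtMil.glue D' φ)

end relglue

end Groth.Agent.Lib.Helper56.Milnor
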