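import Groth.Agent.Lib.Helper56.ModPairAmbProd
import Groth.Agent.Lib.BlowUp.Exists

/-!
# Existence of ambient products of modulus pairs (helper56)

ns `Groth.Agent.Lib.Helper56.ModPairAmbExists`.
-/

set_option autoImplicit false
universe u

open CategoryTheory CategoryTheory.Limits AlgebraicGeometry TopologicalSpace
open ModPair

namespace Groth.Agent.Lib.Helper56.ModPairAmbExists

/-- algebra: if `I₁ + I₂ = (e)` then `(I₁ ∩ I₂)·(I₁ + I₂) = I₁·I₂`. -/
theorem ideal_inf_mul_sup {R : Type*} [CommRing R] (e : R) (I₁ I₂ : Ideal R)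
    (hsup : I₁ ⊔ I₂ = Ideal.span {e}) : (I₁ ⊓ I₂) * (I₁ ⊔ I₂) = I₁ * I₂ := by
  apply le_antisymm
  · rw [Ideal.mul_sup]
    refine sup_le ?_ ?_
    · rw [mul_comm]
      exact Ideal.mul_mono_right inf_le_right
    · exact Ideal.mul_mono_left inf_le_left
  · rw [Ideal.mul_le]
    intro a ha b hb
    have ha' : a ∈ Ideal.span {e} := hsup ▸ (le_sup_left : I₁ ≤ I₁ ⊔ I₂) ha
    have hb' : b ∈ Ideal.span {e} := hsup ▸ (le_sup_right : I₂ ≤ I₁ ⊔ I₂) hb
    obtain ⟨a', rfl⟩ := Ideal.mem_span_singleton'.mp ha'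
    obtain ⟨b', rfl⟩ := Ideal.mem_span_singleton'.mp hb'
    have h1 : a' * e * (b' * e) = (a' * e * b') * e := by ring
    rw [h1, hsup]
    refine Ideal.mul_mem_mul ⟨?_, ?_⟩ (Ideal.mem_span_singleton_self e)
    · exact I₁.mul_mem_right _ ha
    · have h2 : a' * e * b' = a' * (b' * e) := by ring
      rw [h2]
      exact I₂.mul_mem_left _ hb

theorem inf_mul_sup_eq_mul {Y : Scheme.{u}} (I₁ I₂ : Y.IdealSheafData)
    (hE : BlowUp.IsEffCartierIdeal (I₁ ⊔ I₂)) : (I₁ ⊓ I₂) * (I₁ ⊔ I₂) = I₁ * I₂ := by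
  choose W hyW e he heq using hE
  refine Scheme.IdealSheafData.ext_of_iSup_eq_top W ?_ (fun y => ?_)
  · rw [eq_top_iff]
    intro y _
    exact Opens.mem_iSup.mpr ⟨y, hyW y⟩
  · exact ideal_inf_mul_sup (e y) (I₁.ideal (W y)) (I₂.ideal (W y)) (heq y)

theorem exists_isAmbProd {S T X : Scheme.{u}} (J : T.IdealSheafData) (I : X.IdealSheafData)
    (f : X ⟶ S) (g : T ⟶ S) :
    ∃ (Y : Scheme.{u}) (π : Y ⟶ mprod f g I J) (K : Y.IdealSheafData),
      IsAmbProd f g I J π K := by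
  obtain ⟨Y, π, hπ⟩ := Groth.Agent.Lib.BlowUp.Exists.exists_isBlowUp (mprod f g I J)
    (prodCentre f g I J)
  have hE : BlowUp.IsEffCartierIdeal
      ((I.comap (mprodι f g I J ≫ pullback.fst f g)).comap π ⊔
        (J.comap (mprodι f g I J ≫ pullback.snd f g)).comap π) := by
    have h := hπ.1
    unfold prodCentre at h
    rw [Scheme.IdealSheafData.comap_sup] at h
    exact h
  refine ⟨Y, π, (I.comap (mprodι f g I J ≫ pullback.fst f g)).comap π ⊓
    (J.comap (mprodι f g I J ≫ pullback.snd f g)).comap π, hπ, ?_⟩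
  unfold prodCentre
  rw [Scheme.IdealSheafData.comap_sup]
  exact inf_mul_sup_eq_mul _ _ hE

end Groth.Agent.Lib.Helper56.ModPairAmbExists
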