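import Groth.Agent.Lib.Helper56.ModPairDense
import Groth.Agent.Lib.BlowUp.Helper18_Factor
import Groth.Agent.Lib.BlowUp.Helper18_Basic

/-!
# Ambient products of modulus pairs (helper56)

ns `Groth.Agent.Lib.Helper56.ModPairAmbProd`.
-/

set_option autoImplicit false
universe u

open CategoryTheory CategoryTheory.Limits AlgebraicGeometry TopologicalSpace
open ModPair

namespace Groth.Agent.Lib.Helper56.ModPairAmbProd

open Groth.Agent.Lib.Helper56.ModPairSplit Groth.Agent.Lib.Helper56.ModPairBase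
  Groth.Agent.Lib.Helper56.ModPairFrac Groth.Agent.Lib.Helper56.ModPairDense

/-- the canonical map to the scheme-theoretic image is scheme-theoretically dominant -/
theorem ker_toImage {X P : Scheme.{u}} (j : X ⟶ P) [QuasiCompact j] : j.toImage.ker = ⊥ := by
  refine Scheme.IdealSheafData.ext_of_iSup_eq_top (ι := P.affineOpens)
    (fun U' => ⟨j.imageι ⁻¹ᵁ U'.1, U'.2.preimage j.imageι⟩) ?_ (fun U' => ?_)
  · rw [eq_top_iff]
    intro z _
    obtain ⟨_, ⟨U', hU', rfl⟩, hz, -⟩ :=
      P.isBasis_affineOpens.exists_subset_of_mem_open (Set.mem_univ (j.imageι z)) isOpen_univ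
    exact Opens.mem_iSup.mpr ⟨⟨U', hU'⟩, hz⟩
  · rw [Scheme.Hom.ker_apply, Scheme.IdealSheafData.ideal_bot, Pi.bot_apply,
      ← RingHom.injective_iff_ker_eq_bot]
    exact j.toImage_app_injective U'

theorem range_toImage_ι {P : Scheme.{u}} (U : P.Opens) :
    Set.range U.ι.toImage = ((U.ι.imageι ⁻¹ᵁ U : U.ι.image.Opens) : Set U.ι.image) := by
  ext y
  constructor
  · rintro ⟨x, rfl⟩
    change U.ι.imageι (U.ι.toImage x) ∈ U
    rw [← Scheme.Hom.comp_apply, Scheme.Hom.toImage_imageι]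
    exact x.2
  · intro hy
    have hy' : U.ι.imageι y ∈ U := hy
    refine ⟨⟨_, hy'⟩, ?_⟩
    apply U.ι.imageι.isEmbedding.injective
    rw [← Scheme.Hom.comp_apply, Scheme.Hom.toImage_imageι]
    rfl

theorem isSchemeTheoreticallyDominant_preimage_imageι {P : Scheme.{u}} (U : P.Opens)
    [QuasiCompact U.ι] : IsSchemeTheoreticallyDominant (U.ι.imageι ⁻¹ᵁ U).ι := by
  let e := IsOpenImmersion.isoOfRangeEq U.ι.toImage (U.ι.imageι ⁻¹ᵁ U).ι
    (by rw [range_toImage_ι, Scheme.Opens.range_ι])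
  have he : e.hom ≫ (U.ι.imageι ⁻¹ᵁ U).ι = U.ι.toImage :=
    IsOpenImmersion.isoOfRangeEq_hom_fac _ _ _
  constructor
  rw [← Scheme.Hom.ker_comp_of_isIso e.hom, he, ker_toImage]

theorem quasiCompact_preimage_ι {X Y : Scheme.{u}} (f : X ⟶ Y) (U : Y.Opens) [QuasiCompact U.ι] :
    QuasiCompact (f ⁻¹ᵁ U).ι :=
  MorphismProperty.of_isPullback (P := @QuasiCompact) (isPullback_morphismRestrict f U)
    inferInstance

theorem quasiCompact_inf_ι {X : Scheme.{u}} (U₁ U₂ : X.Opens) [QuasiCompact U₁.ι]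
    [QuasiCompact U₂.ι] : QuasiCompact (U₁ ⊓ U₂).ι := by
  have h1 : QuasiCompact (X.homOfLE (inf_le_right : U₁ ⊓ U₂ ≤ U₂)) :=
    MorphismProperty.of_isPullback (P := @QuasiCompact) (isPullback_opens_inf U₁ U₂) inferInstance
  rw [← X.homOfLE_ι (inf_le_right : U₁ ⊓ U₂ ≤ U₂)]
  infer_instance

theorem quasiCompact_prodInterior_ι' {S T X : Scheme.{u}} (f : X ⟶ S) (g : T ⟶ S)
    (I : X.IdealSheafData) (J : T.IdealSheafData) (hI : BlowUp.IsEffCartierIdeal I)
    (hJ : BlowUp.IsEffCartierIdeal J) : QuasiCompact (prodInterior f g I J).ι := by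
  have h1 := quasiCompact_preimage_interior_ι I hI (pullback.fst f g)
  have h2 := quasiCompact_preimage_interior_ι J hJ (pullback.snd f g)
  exact quasiCompact_inf_ι _ _

theorem isSchemeTheoreticallyDominant_homOfLE_of_le {X : Scheme.{u}} {A B : X.Opens} (h : A ≤ B)
    [IsSchemeTheoreticallyDominant A.ι] [QuasiCompact A.ι] :
    IsSchemeTheoreticallyDominant (X.homOfLE h) := by
  have key : ∀ (A' : X.Opens) (h' : A' ≤ B), A' = A ⊓ B →
      IsSchemeTheoreticallyDominant (X.homOfLE h') := by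
    intro A' h' e
    subst e
    exact IsSchemeTheoreticallyDominant.of_isPullback (isPullback_opens_inf A B)
  exact key A h (inf_eq_left.mpr h).symm

theorem isSchemeTheoreticallyDominant_ι_of_le {X : Scheme.{u}} {A B : X.Opens} (h : A ≤ B)
    [IsSchemeTheoreticallyDominant A.ι] : IsSchemeTheoreticallyDominant B.ι := by
  constructor
  apply le_bot_iff.mp
  have h1 := Scheme.Hom.le_ker_comp (X.homOfLE h) B.ι
  rw [X.homOfLE_ι h, Scheme.Hom.ker_eq_bot A.ι] at h1
  exact h1

/-- The preimage under a blow-up of a scheme-theoretically dense open missing the centre is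
scheme-theoretically dense. -/
theorem isSchemeTheoreticallyDominant_preimage_of_isBlowUp {Y Y₀ : Scheme.{u}} (π : Y ⟶ Y₀)
    (C : Y₀.IdealSheafData) (hπ : BlowUp.IsBlowUp π C) (U₀ : Y₀.Opens)
    (hU₀ : U₀ ≤ interior C) [IsSchemeTheoreticallyDominant U₀.ι] [QuasiCompact U₀.ι] :
    IsSchemeTheoreticallyDominant (π ⁻¹ᵁ U₀).ι := by
  have h1 : IsSchemeTheoreticallyDominant (Y₀.homOfLE hU₀) :=
    isSchemeTheoreticallyDominant_homOfLE_of_le hU₀
  have hisoV : IsIso (π ∣_ interior C) :=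
    Groth.Agent.Lib.BlowUp.isIso_morphismRestrict_of_isBlowUp C π hπ (interior C)
      (fun x hx => hx)
  have hisoU : IsIso (π ∣_ U₀) :=
    Groth.Agent.Lib.BlowUp.isIso_morphismRestrict_of_isBlowUp C π hπ U₀ (fun x hx => hU₀ hx)
  have hle : π ⁻¹ᵁ U₀ ≤ π ⁻¹ᵁ interior C := fun y hy => hU₀ hy
  have comm : Y.homOfLE hle ≫ (π ∣_ interior C) = (π ∣_ U₀) ≫ Y₀.homOfLE hU₀ := by
    rw [← cancel_mono (interior C).ι]
    simp only [Category.assoc, morphismRestrict_ι, Scheme.homOfLE_ι]
    rw [← Category.assoc, Scheme.homOfLE_ι]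
  have h2 : IsSchemeTheoreticallyDominant (Y.homOfLE hle) := by
    have e : Y.homOfLE hle = (π ∣_ U₀) ≫ Y₀.homOfLE hU₀ ≫ inv (π ∣_ interior C) := by
      rw [← Category.assoc, ← comm, Category.assoc, IsIso.hom_inv_id, Category.comp_id]
    rw [e]
    infer_instance
  have hW : ((π ⁻¹ᵁ interior C : Y.Opens) : Set Y) = ((C.comap π).support : Set Y)ᶜ := by
    ext y
    rw [Scheme.IdealSheafData.support_comap]
    rfl
  have h3 : IsSchemeTheoreticallyDominant (π ⁻¹ᵁ interior C).ι :=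
    ⟨Groth.Agent.Lib.BlowUp.CartierCompl.ker_ι (π ⁻¹ᵁ interior C) hW hπ.1⟩
  rw [← Y.homOfLE_ι hle]
  infer_instance

/-- algebra: if `(e) = I₁ + I₂` with `e` a nonzerodivisor and `K·(e) = I₁·I₂` then `K ≤ I₁`. -/
theorem ideal_le_of_mul_span_eq {R : Type*} [CommRing R] (e : R) (he : e ∈ nonZeroDivisors R)
    (I₁ I₂ K : Ideal R) (hsup : I₁ ⊔ I₂ = Ideal.span {e}) (hmul : K * Ideal.span {e} = I₁ * I₂) :
    K ≤ I₁ := by
  intro k hk
  have h1 : k * e ∈ I₁ * I₂ := by
    rw [← hmul]
    exact Ideal.mul_mem_mul hk (Ideal.mem_span_singleton_self e)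
  have h2 : I₁ * I₂ ≤ Ideal.span {e} * I₁ := by
    rw [mul_comm (Ideal.span {e}) I₁]
    exact Ideal.mul_mono_right (hsup ▸ le_sup_right)
  obtain ⟨a, ha, hea⟩ := Ideal.mem_span_singleton_mul.mp (h2 h1)
  have h3 : (k - a) * e = 0 := by
    rw [sub_mul, ← hea, mul_comm a e, sub_self]
  have h4 : k - a = 0 := (mem_nonZeroDivisors_iff_right.mp he) _ h3
  rw [sub_eq_zero.mp h4]
  exact ha

theorem le_of_mul_eq_of_sup {Y : Scheme.{u}} (K I₁ I₂ : Y.IdealSheafData)
    (hE : BlowUp.IsEffCartierIdeal (I₁ ⊔ I₂)) (hmul : K * (I₁ ⊔ I₂) = I₁ * I₂) : K ≤ I₁ := by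
  choose W hyW e he heq using hE
  refine Scheme.IdealSheafData.le_of_iSup_eq_top W ?_ (fun y => ?_)
  · rw [eq_top_iff]
    intro y _
    exact Opens.mem_iSup.mpr ⟨y, hyW y⟩
  · have h1 : K.ideal (W y) * Ideal.span {e y} = I₁.ideal (W y) * I₂.ideal (W y) := by
      rw [← heq y]
      exact congrArg (fun L : Y.IdealSheafData => L.ideal (W y)) hmul
    exact ideal_le_of_mul_span_eq (e y) (he y) _ _ _ (heq y) h1

section AmbProd

variable {S T X Y : Scheme.{u}} (J : T.IdealSheafData) (I : X.IdealSheafData)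
  (hT : BlowUp.IsEffCartierIdeal J) (hX : BlowUp.IsEffCartierIdeal I)
  (f : X ⟶ S) (g : T ⟶ S) (π : Y ⟶ mprod f g I J) (K : Y.IdealSheafData)
  (hY : IsAmbProd f g I J π K)

include hT hX hY

theorem isSchemeTheoreticallyDominant_preimage_prodInterior :
    IsSchemeTheoreticallyDominant ((π ≫ mprodι f g I J) ⁻¹ᵁ prodInterior f g I J).ι ∧
      QuasiCompact ((π ≫ mprodι f g I J) ⁻¹ᵁ prodInterior f g I J).ι := by
  have hqc := quasiCompact_prodInterior_ι' f g I J hX hT
  have hqc0 : QuasiCompact ((mprodι f g I J) ⁻¹ᵁ prodInterior f g I J).ι :=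
    quasiCompact_preimage_ι _ _
  have hsd0 : IsSchemeTheoreticallyDominant ((mprodι f g I J) ⁻¹ᵁ prodInterior f g I J).ι :=
    isSchemeTheoreticallyDominant_preimage_imageι (prodInterior f g I J)
  have hU₀ : (mprodι f g I J) ⁻¹ᵁ prodInterior f g I J ≤ interior (prodCentre f g I J) := by
    intro y hy
    have hy1 : (pullback.fst f g) ((mprodι f g I J) y) ∈ interior I := hy.1
    have hy2 : y ∈ interior (I.comap (mprodι f g I J ≫ pullback.fst f g)) := by
      rw [interior_comap]; exact hy1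
    intro hy3
    have hy4 : y ∈ ((I.comap (mprodι f g I J ≫ pullback.fst f g)).support : Set _) := by
      have : (prodCentre f g I J).support ≤
          (I.comap (mprodι f g I J ≫ pullback.fst f g)).support := by
        unfold prodCentre
        rw [Scheme.IdealSheafData.support_sup]
        exact inf_le_left
      exact this hy3
    exact hy2 hy4
  refine ⟨?_, ?_⟩
  · exact isSchemeTheoreticallyDominant_preimage_of_isBlowUp π (prodCentre f g I J) hY.1 _ hU₀
  · exact quasiCompact_preimage_ι _ _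

theorem isEffCartierIdeal_comap_fst :
    BlowUp.IsEffCartierIdeal (I.comap (π ≫ mprodι f g I J ≫ pullback.fst f g)) := by
  obtain ⟨hsd, hqc⟩ := isSchemeTheoreticallyDominant_preimage_prodInterior J I hT hX f g π K hY
  have hle : (π ≫ mprodι f g I J) ⁻¹ᵁ prodInterior f g I J ≤
      (π ≫ mprodι f g I J ≫ pullback.fst f g) ⁻¹ᵁ interior I := fun y hy => hy.1
  have := isSchemeTheoreticallyDominant_ι_of_le hle
  exact isEffCartierIdeal_comap_of_dominant I hX _

theorem isEffCartierIdeal_comap_snd :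
    BlowUp.IsEffCartierIdeal (J.comap (π ≫ mprodι f g I J ≫ pullback.snd f g)) := by
  obtain ⟨hsd, hqc⟩ := isSchemeTheoreticallyDominant_preimage_prodInterior J I hT hX f g π K hY
  have hle : (π ≫ mprodι f g I J) ⁻¹ᵁ prodInterior f g I J ≤
      (π ≫ mprodι f g I J ≫ pullback.snd f g) ⁻¹ᵁ interior J := fun y hy => hy.2
  have := isSchemeTheoreticallyDominant_ι_of_le hle
  exact isEffCartierIdeal_comap_of_dominant J hT _

theorem mul_eq :
    K * (I.comap (π ≫ mprodι f g I J ≫ pullback.fst f g) ⊔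
        J.comap (π ≫ mprodι f g I J ≫ pullback.snd f g)) =
      I.comap (π ≫ mprodι f g I J ≫ pullback.fst f g) *
        J.comap (π ≫ mprodι f g I J ≫ pullback.snd f g) := by
  have h := hY.2
  unfold prodCentre at h
  rw [Scheme.IdealSheafData.comap_sup, ← Scheme.IdealSheafData.comap_comp,
    ← Scheme.IdealSheafData.comap_comp] at h
  exact h

theorem isEffCartierIdeal_sup :
    BlowUp.IsEffCartierIdeal (I.comap (π ≫ mprodι f g I J ≫ pullback.fst f g) ⊔
        J.comap (π ≫ mprodι f g I J ≫ pullback.snd f g)) := by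
  have h := hY.1.1
  unfold prodCentre at h
  rw [Scheme.IdealSheafData.comap_sup, ← Scheme.IdealSheafData.comap_comp,
    ← Scheme.IdealSheafData.comap_comp] at h
  exact h

theorem ambProd_main :
    BlowUp.IsEffCartierIdeal K ∧
      IsAmbient K I (π ≫ mprodι f g I J ≫ pullback.fst f g) ∧
      IsAmbient K J (π ≫ mprodι f g I J ≫ pullback.snd f g) ∧
      interior K = (π ≫ mprodι f g I J) ⁻¹ᵁ prodInterior f g I J := by
  have hI := isEffCartierIdeal_comap_fst J I hT hX f g π K hY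
  have hJ := isEffCartierIdeal_comap_snd J I hT hX f g π K hY
  have hmul := mul_eq J I hT hX f g π K hY
  have hsup := isEffCartierIdeal_sup J I hT hX f g π K hY
  have h1 : BlowUp.IsEffCartierIdeal K := by
    have h := Groth.Agent.Lib.BlowUp.isEffCartierIdeal_mul hI hJ
    rw [← hmul] at h
    exact Groth.Agent.Lib.BlowUp.isEffCartierIdeal_of_mul_left h
  have h2 : K ≤ I.comap (π ≫ mprodι f g I J ≫ pullback.fst f g) :=
    le_of_mul_eq_of_sup K _ _ hsup hmul
  have h3 : K ≤ J.comap (π ≫ mprodι f g I J ≫ pullback.snd f g) := by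
    refine le_of_mul_eq_of_sup K _ _ (by rw [sup_comm]; exact hsup) ?_
    rw [sup_comm, mul_comm (J.comap _)]
    exact hmul
  refine ⟨h1, h2, h3, ?_⟩
  ext y
  have hs : K.support = (I.comap (π ≫ mprodι f g I J ≫ pullback.fst f g)).support ⊔
      (J.comap (π ≫ mprodι f g I J ≫ pullback.snd f g)).support := by
    apply le_antisymm
    · have h4 := congrArg Scheme.IdealSheafData.support hmul
      rw [Scheme.IdealSheafData.support_mul, Scheme.IdealSheafData.support_mul] at h4
      rw [← h4]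
      exact le_sup_left
    · exact sup_le (Scheme.IdealSheafData.support_antitone h2)
        (Scheme.IdealSheafData.support_antitone h3)
  change y ∉ (K.support : Set Y) ↔ _
  rw [hs, Scheme.IdealSheafData.support_comap, Scheme.IdealSheafData.support_comap]
  change ¬ ((π ≫ mprodι f g I J ≫ pullback.fst f g) y ∈ (I.support : Set X) ∨
    (π ≫ mprodι f g I J ≫ pullback.snd f g) y ∈ (J.support : Set T)) ↔
    ((pullback.fst f g) ((π ≫ mprodι f g I J) y) ∈ interior I ∧
      (pullback.snd f g) ((π ≫ mprodι f g I J) y) ∈ interior J)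
  rw [not_or]
  rfl

end AmbProd

end Groth.Agent.Lib.Helper56.ModPairAmbProd
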