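import Groth.Agent.Lib.Helper56.ModPairSplit
import Mathlib.AlgebraicGeometry.Pullbacks

/-!
# Base change of an abstract admissible blow-up of modulus pairs (helper56)

ns `Groth.Agent.Lib.Helper56.ModPairBase`.
-/

set_option autoImplicit false
universe u

open CategoryTheory CategoryTheory.Limits AlgebraicGeometry TopologicalSpace
open ModPair

namespace Groth.Agent.Lib.Helper56.ModPairBase

open Groth.Agent.Lib.Helper56.ModPairSplit

theorem mem_interior_iff {X : Scheme.{u}} (I : X.IdealSheafData) (x : X) :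
    x ∈ interior I ↔ x ∉ (I.support : Set X) := Iff.rfl

theorem interior_comap {X Y : Scheme.{u}} (J : Y.IdealSheafData) (f : X ⟶ Y) :
    interior (J.comap f) = f ⁻¹ᵁ interior J := by
  ext x
  change x ∉ ((J.comap f).support : Set X) ↔ f x ∉ (J.support : Set Y)
  rw [Scheme.IdealSheafData.support_comap]
  rfl

theorem interior_mono {X : Scheme.{u}} {I J : X.IdealSheafData} (h : I ≤ J) :
    interior I ≤ interior J := by
  intro x hx
  change x ∉ (J.support : Set X)
  intro hx'
  exact hx (Scheme.IdealSheafData.support_antitone h hx')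

theorem interior_le_of_isAmbient {X Y : Scheme.{u}} {I : X.IdealSheafData} {J : Y.IdealSheafData}
    {f : X ⟶ Y} (h : IsAmbient I J f) : interior I ≤ f ⁻¹ᵁ interior J := by
  rw [← interior_comap]
  exact interior_mono h

theorem mem_nonZeroDivisors_of_injective_of_isUnit {Q M : Scheme.{u}} (m : M ⟶ Q) (W : Q.Opens)
    (x : Γ(Q, W)) (hinj : Function.Injective (m.app W)) (hunit : IsUnit (m.app W x)) :
    x ∈ nonZeroDivisors Γ(Q, W) := by
  rw [mem_nonZeroDivisors_iff_right]
  intro a ha
  apply hinj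
  rw [map_zero]
  have h1 : (m.app W) (a * x) = 0 := by rw [ha, map_zero]
  rw [map_mul] at h1
  exact (hunit.mul_left_eq_zero).mp h1

variable {S T X : Scheme.{u}} (IS : S.IdealSheafData) (IT : T.IdealSheafData)
  (IX : X.IdealSheafData) (g : T ⟶ S) (s : X ⟶ S)

theorem prodInterior_eq (hg : IsAmbient IT IS g) (hmin : IsMinimal IX IS s) :
    prodInterior s g IX IT = (pullback.snd s g) ⁻¹ᵁ interior IT := by
  unfold prodInterior
  rw [inf_eq_right]
  intro x hx
  have h1 : g (pullback.snd s g x) ∈ interior IS := interior_le_of_isAmbient hg hx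
  rw [hmin, interior_comap]
  change s (pullback.fst s g x) ∈ interior IS
  have h2 : s (pullback.fst s g x) = g (pullback.snd s g x) := by
    rw [← Scheme.Hom.comp_apply, ← Scheme.Hom.comp_apply, pullback.condition]
  rw [h2]
  exact h1

theorem quasiCompact_prodInterior_ι (hT : BlowUp.IsEffCartierIdeal IT) (hg : IsAmbient IT IS g)
    (hmin : IsMinimal IX IS s) : QuasiCompact (prodInterior s g IX IT).ι := by
  rw [prodInterior_eq IS IT IX g s hg hmin]
  have hW : IsAffineHom (interior IT).ι :=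
    Groth.Agent.Lib.BlowUp.CartierCompl.isAffineHom_ι (interior IT) rfl hT
  have h1 : QuasiCompact (interior IT).ι := inferInstance
  exact MorphismProperty.of_isPullback (P := @QuasiCompact)
    (isPullback_morphismRestrict (pullback.snd s g) (interior IT)) h1

theorem mono_prodInterior_ι_snd (hiso : IsIso (s ∣_ interior IS)) (hmin : IsMinimal IX IS s) :
    Mono ((prodInterior s g IX IT).ι ≫ pullback.snd s g) := by
  have hm : Mono ((s ⁻¹ᵁ interior IS).ι ≫ s) := by
    rw [← morphismRestrict_ι]; infer_instance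
  have hrange : Set.range ((prodInterior s g IX IT).ι ≫ pullback.fst s g) ⊆
      Set.range (s ⁻¹ᵁ interior IS).ι := by
    rintro _ ⟨x, rfl⟩
    rw [Scheme.Opens.range_ι]
    have h1 : (pullback.fst s g) x.1 ∈ interior IX := x.2.1
    have h0 : interior IX = s ⁻¹ᵁ interior IS := by
      have h00 : IX = IS.comap s := hmin
      rw [h00, interior_comap]
    exact (le_of_eq h0) h1
  let m := IsOpenImmersion.lift (s ⁻¹ᵁ interior IS).ι
    ((prodInterior s g IX IT).ι ≫ pullback.fst s g) hrange
  have hm' : m ≫ (s ⁻¹ᵁ interior IS).ι = (prodInterior s g IX IT).ι ≫ pullback.fst s g :=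
    IsOpenImmersion.lift_fac _ _ _
  constructor
  intro W a b hab
  rw [← cancel_mono (prodInterior s g IX IT).ι]
  apply pullback.hom_ext
  · have h3 : a ≫ m = b ≫ m := by
      rw [← cancel_mono ((s ⁻¹ᵁ interior IS).ι ≫ s)]
      calc (a ≫ m) ≫ (s ⁻¹ᵁ interior IS).ι ≫ s
          = a ≫ (m ≫ (s ⁻¹ᵁ interior IS).ι) ≫ s := by simp only [Category.assoc]
        _ = (a ≫ (prodInterior s g IX IT).ι ≫ pullback.snd s g) ≫ g := by
            rw [hm']; simp only [Category.assoc]; rw [pullback.condition]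
        _ = (b ≫ (prodInterior s g IX IT).ι ≫ pullback.snd s g) ≫ g := by rw [hab]
        _ = b ≫ (m ≫ (s ⁻¹ᵁ interior IS).ι) ≫ s := by
            rw [hm']; simp only [Category.assoc]; rw [pullback.condition]
        _ = (b ≫ m) ≫ (s ⁻¹ᵁ interior IS).ι ≫ s := by simp only [Category.assoc]
    calc (a ≫ (prodInterior s g IX IT).ι) ≫ pullback.fst s g
        = (a ≫ m) ≫ (s ⁻¹ᵁ interior IS).ι := by
          simp only [Category.assoc]; rw [hm']
      _ = (b ≫ m) ≫ (s ⁻¹ᵁ interior IS).ι := by rw [h3]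
      _ = (b ≫ (prodInterior s g IX IT).ι) ≫ pullback.fst s g := by
          simp only [Category.assoc]; rw [hm']
  · simpa only [Category.assoc] using hab

theorem isIso_restrict_mprod (hT : BlowUp.IsEffCartierIdeal IT) (hg : IsAmbient IT IS g)
    (hiso : IsIso (s ∣_ interior IS)) (hmin : IsMinimal IX IS s) :
    IsIso ((mprodι s g IX IT ≫ pullback.snd s g) ∣_ interior IT) := by
  have : QuasiCompact (prodInterior s g IX IT).ι :=
    quasiCompact_prodInterior_ι IS IT IX g s hT hg hmin
  have hU := prodInterior_eq IS IT IX g s hg hmin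
  have : Mono ((prodInterior s g IX IT).ι.toImage ≫ mprodι s g IX IT ≫ pullback.snd s g) := by
    rw [Scheme.Hom.toImage_imageι_assoc]
    exact mono_prodInterior_ι_snd IS IT IX g s hiso hmin
  -- the section
  let σ : (interior IS).toScheme ⟶ X := inv (s ∣_ interior IS) ≫ (s ⁻¹ᵁ interior IS).ι
  have hσ : σ ≫ s = (interior IS).ι := by
    simp only [σ, Category.assoc]
    rw [← morphismRestrict_ι, IsIso.inv_hom_id_assoc]
  have hle : interior IT ≤ g ⁻¹ᵁ interior IS := interior_le_of_isAmbient hg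
  let a : (interior IT).toScheme ⟶ (interior IS).toScheme := g.resLE _ _ hle
  have ha : a ≫ (interior IS).ι = (interior IT).ι ≫ g := Scheme.Hom.resLE_comp_ι _ _
  let τ : (interior IT).toScheme ⟶ pullback s g := pullback.lift (a ≫ σ) (interior IT).ι
    (by rw [Category.assoc, hσ, ha])
  have hτ : τ ≫ pullback.snd s g = (interior IT).ι := pullback.lift_snd _ _ _
  have hτr : Set.range τ ⊆ Set.range (prodInterior s g IX IT).ι := by
    rintro _ ⟨x, rfl⟩
    rw [Scheme.Opens.range_ι, hU]
    change (pullback.snd s g) (τ x) ∈ interior IT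
    rw [← Scheme.Hom.comp_apply, hτ]
    exact x.2
  let τ' := IsOpenImmersion.lift (prodInterior s g IX IT).ι τ hτr
  have hτ' : τ' ≫ (prodInterior s g IX IT).ι = τ := IsOpenImmersion.lift_fac _ _ _
  refine isIso_morphismRestrict_of_section (mprodι s g IX IT ≫ pullback.snd s g) (interior IT)
    (prodInterior s g IX IT).ι.toImage ?_ τ' ?_
  · intro y hy
    have hy' : (mprodι s g IX IT) y ∈ prodInterior s g IX IT := by
      rw [hU]; exact hy
    refine ⟨⟨_, hy'⟩, ?_⟩
    apply (mprodι s g IX IT).isEmbedding.injective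
    rw [← Scheme.Hom.comp_apply, Scheme.Hom.toImage_imageι]
    rfl
  · rw [Scheme.Hom.toImage_imageι_assoc, ← Category.assoc, hτ', hτ]

theorem isEffCartierIdeal_comap_mprod (hT : BlowUp.IsEffCartierIdeal IT) (hg : IsAmbient IT IS g)
    (hmin : IsMinimal IX IS s) :
    BlowUp.IsEffCartierIdeal (IT.comap (mprodι s g IX IT ≫ pullback.snd s g)) := by
  have : QuasiCompact (prodInterior s g IX IT).ι :=
    quasiCompact_prodInterior_ι IS IT IX g s hT hg hmin
  have hU := prodInterior_eq IS IT IX g s hg hmin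
  intro z
  obtain ⟨V, hzV, t, -, ht⟩ := hT ((mprodι s g IX IT ≫ pullback.snd s g) z)
  have hzV' : (mprodι s g IX IT) z ∈ (pullback.snd s g) ⁻¹ᵁ V.1 := hzV
  obtain ⟨_, ⟨U', hU', rfl⟩, hzU', hU'V⟩ :=
    (Scheme.isBasis_affineOpens (pullback s g)).exists_subset_of_mem_open hzV'
      ((pullback.snd s g) ⁻¹ᵁ V.1).isOpen
  have hW : IsAffineOpen ((mprodι s g IX IT) ⁻¹ᵁ U') := hU'.preimage (mprodι s g IX IT)
  have e : (mprodι s g IX IT) ⁻¹ᵁ U' ≤ (mprodι s g IX IT ≫ pullback.snd s g) ⁻¹ᵁ V.1 := by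
    intro y hy
    exact hU'V hy
  refine ⟨⟨(mprodι s g IX IT) ⁻¹ᵁ U', hW⟩, hzU',
    (mprodι s g IX IT ≫ pullback.snd s g).appLE V.1 ((mprodι s g IX IT) ⁻¹ᵁ U') e t, ?_, ?_⟩
  · refine mem_nonZeroDivisors_of_injective_of_isUnit (prodInterior s g IX IT).ι.toImage _ _
      ((prodInterior s g IX IT).ι.toImage_app_injective ⟨U', hU'⟩) ?_
    apply isUnit_of_le_basicOpen
    rw [← Scheme.preimage_basicOpen, Scheme.Hom.appLE, CommRingCat.comp_apply,
      Scheme.basicOpen_res, ← Scheme.preimage_basicOpen,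
      ← Groth.Agent.Lib.BlowUp.CartierCompl.inf_eq_basicOpen IT (interior IT) rfl V t ht]
    intro x hx
    refine ⟨hx, ?_, e hx⟩
    change (mprodι s g IX IT ≫ pullback.snd s g) ((prodInterior s g IX IT).ι.toImage x) ∈
      interior IT
    rw [← Scheme.Hom.comp_apply, Scheme.Hom.toImage_imageι_assoc]
    exact (le_of_eq hU) x.2
  · rw [Groth.Agent.Lib.Helper20.ideal_comap (mprodι s g IX IT ≫ pullback.snd s g) IT
      ⟨_, hW⟩ V e, ht, Ideal.map_span, Set.image_singleton]

theorem isAmbient_of_square {S T X Y : Scheme.{u}} (IS : S.IdealSheafData)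
    (IT : T.IdealSheafData) (IX : X.IdealSheafData) (g : T ⟶ S) (s : X ⟶ S) (q : Y ⟶ T)
    (r : Y ⟶ X) (hsq : r ≫ s = q ≫ g) (hg : IsAmbient IT IS g) (hmin : IsMinimal IX IS s) :
    IsAmbient (IT.comap q) IX r := by
  have hmin' : IX = IS.comap s := hmin
  subst hmin'
  change _ ≤ _
  rw [← Scheme.IdealSheafData.comap_comp, hsq, Scheme.IdealSheafData.comap_comp]
  exact Scheme.IdealSheafData.comap_mono _ hg

theorem isAmbient_mprod_fst (hg : IsAmbient IT IS g) (hmin : IsMinimal IX IS s) :
    IsAmbient (IT.comap (mprodι s g IX IT ≫ pullback.snd s g)) IX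
      (mprodι s g IX IT ≫ pullback.fst s g) :=
  isAmbient_of_square IS IT IX g s _ _
    (by simp only [Category.assoc, pullback.condition]) hg hmin

end Groth.Agent.Lib.Helper56.ModPairBase
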