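import Groth.Agent.Lib.Helper56.ModPairLocus
import Groth.Agent.Lib.BlowUp.Compose

/-!
# Colon ideal sheaves (helper56)

ns `Groth.Agent.Lib.Helper56.ModPairColon`.

* `map_colon` : colon ideals by a finitely generated ideal commute with localization.
* `isFiniteTypeIdeal_of_isEffCartierIdeal`.
* `colonSheaf N P hP` : the ideal sheaf `(N : P)` for `P` of finite type.
-/

set_option autoImplicit false
universe u
open CategoryTheory CategoryTheory.Limits AlgebraicGeometry TopologicalSpace
open ModPair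

namespace Groth.Agent.Lib.Helper56.ModPairColon

section algebra

variable {R S : Type*} [CommRing R] [CommRing S] [Algebra R S] (M : Submonoid R)
  [IsLocalization M S]

theorem map_colon_le (N P : Ideal R) :
    (N.colon (P : Set R)).map (algebraMap R S) ≤
      (N.map (algebraMap R S)).colon ((P.map (algebraMap R S) : Ideal S) : Set S) := by
  rw [Ideal.map_le_iff_le_comap]
  intro x hx
  rw [Ideal.mem_comap, Submodule.mem_colon]
  intro q hq
  refine Submodule.span_induction (p := fun q _ => algebraMap R S x • q ∈ N.map (algebraMap R S))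
    ?_ ?_ ?_ ?_ hq
  · rintro _ ⟨p, hp, rfl⟩
    rw [smul_eq_mul, ← map_mul]
    exact Ideal.mem_map_of_mem _ (Submodule.mem_colon.mp hx p hp)
  · simp
  · intro a b _ _ ha hb
    rw [smul_add]
    exact add_mem ha hb
  · intro a b _ hb
    rw [smul_eq_mul, smul_eq_mul, mul_left_comm]
    exact Ideal.mul_mem_left _ _ hb

include M in
theorem le_map_colon (N P : Ideal R) (hP : P.FG) :
    (N.map (algebraMap R S)).colon ((P.map (algebraMap R S) : Ideal S) : Set S) ≤
      (N.colon (P : Set R)).map (algebraMap R S) := by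
  classical
  obtain ⟨G, hG⟩ := hP
  intro y hy
  obtain ⟨x, m, rfl⟩ := IsLocalization.exists_mk'_eq M y
  rw [IsLocalization.mk'_mem_map_algebraMap_iff M]
  have h1 : ∀ g ∈ G, ∃ mg ∈ M, mg * (x * g) ∈ N := by
    intro g hg
    have hgP : g ∈ P := hG ▸ Ideal.subset_span hg
    have h2 := Submodule.mem_colon.mp hy (algebraMap R S g) (Ideal.mem_map_of_mem _ hgP)
    rw [smul_eq_mul] at h2
    have h3 : algebraMap R S (x * g) ∈ N.map (algebraMap R S) := by
      have : algebraMap R S (x * g) =
          algebraMap R S m * (IsLocalization.mk' S x m * algebraMap R S g) := by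
        rw [← mul_assoc, mul_comm (algebraMap R S m), IsLocalization.mk'_spec, map_mul]
      rw [this]
      exact Ideal.mul_mem_left _ _ h2
    exact (IsLocalization.algebraMap_mem_map_algebraMap_iff M S N (x * g)).mp h3
  choose! mg hmgM hmg using h1
  refine ⟨∏ g ∈ G, mg g, Submonoid.prod_mem M hmgM, ?_⟩
  rw [Submodule.mem_colon]
  intro p hp
  rw [← hG] at hp
  refine Submodule.span_induction
    (p := fun p _ => ((∏ g ∈ G, mg g) * x) • p ∈ N) ?_ ?_ ?_ ?_ hp
  · intro g hg
    have hgG : g ∈ G := hg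
    rw [smul_eq_mul, ← Finset.mul_prod_erase G mg hgG]
    have : mg g * (∏ x ∈ G.erase g, mg x) * x * g =
        (∏ x ∈ G.erase g, mg x) * (mg g * (x * g)) := by
      ring
    rw [this]
    exact Ideal.mul_mem_left _ _ (hmg g hgG)
  · simp
  · intro a b _ _ ha hb
    rw [smul_add]
    exact add_mem ha hb
  · intro a b _ hb
    rw [smul_eq_mul, smul_eq_mul, mul_left_comm]
    exact Ideal.mul_mem_left _ _ hb

include M in
theorem map_colon (N P : Ideal R) (hP : P.FG) :
    (N.colon (P : Set R)).map (algebraMap R S) =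
      (N.map (algebraMap R S)).colon ((P.map (algebraMap R S) : Ideal S) : Set S) :=
  le_antisymm (map_colon_le N P) (le_map_colon M N P hP)

end algebra

section chart

variable {A : Type*} [CommRing A]

theorem mem_colon_span_of_mul_mem (e x : A) (N : Ideal A) (h : x * e ∈ N) :
    x ∈ N.colon ((Ideal.span {e} : Ideal A) : Set A) := by
  rw [Submodule.mem_colon]
  intro p hp
  obtain ⟨r, rfl⟩ := Ideal.mem_span_singleton'.mp hp
  rw [smul_eq_mul, mul_left_comm]
  exact Ideal.mul_mem_left _ _ h

theorem colon_span_mul (e : A) (N : Ideal A) (hN : N ≤ Ideal.span {e}) :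
    N.colon ((Ideal.span {e} : Ideal A) : Set A) * Ideal.span {e} = N := by
  apply le_antisymm
  · rw [Ideal.mul_le]
    intro x hx y hy
    exact Submodule.mem_colon.mp hx y hy
  · intro a ha
    obtain ⟨a', rfl⟩ := Ideal.mem_span_singleton'.mp (hN ha)
    exact Ideal.mul_mem_mul (mem_colon_span_of_mul_mem e a' N ha)
      (Ideal.mem_span_singleton_self e)

theorem colon_span_span (e a' : A) (he : e ∈ nonZeroDivisors A) :
    (Ideal.span {a' * e}).colon ((Ideal.span {e} : Ideal A) : Set A) = Ideal.span {a'} := by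
  apply le_antisymm
  · intro x hx
    have h1 := Submodule.mem_colon.mp hx e (Ideal.mem_span_singleton_self e)
    rw [smul_eq_mul] at h1
    obtain ⟨r, hr⟩ := Ideal.mem_span_singleton'.mp h1
    have h2 : (x - r * a') * e = 0 := by rw [sub_mul, ← hr]; ring
    have h3 := (mem_nonZeroDivisors_iff_right.mp he) _ h2
    rw [sub_eq_zero.mp h3]
    exact Ideal.mul_mem_left _ _ (Ideal.mem_span_singleton_self a')
  · rw [Ideal.span_singleton_le_iff_mem]
    exact mem_colon_span_of_mul_mem e a' _ (Ideal.mem_span_singleton_self _)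

theorem colon_sup_colon_eq_top (e : A) (he : e ∈ nonZeroDivisors A) (N₁ N₂ : Ideal A)
    (h : N₁ ⊔ N₂ = Ideal.span {e}) :
    N₁.colon ((Ideal.span {e} : Ideal A) : Set A) ⊔
      N₂.colon ((Ideal.span {e} : Ideal A) : Set A) = ⊤ := by
  rw [Ideal.eq_top_iff_one]
  have h1 : e ∈ N₁ ⊔ N₂ := h ▸ Ideal.mem_span_singleton_self e
  obtain ⟨a, ha, b, hb, hab⟩ := Submodule.mem_sup.mp h1
  have ha' : a ∈ Ideal.span {e} := h ▸ (le_sup_left : N₁ ≤ N₁ ⊔ N₂) ha
  have hb' : b ∈ Ideal.span {e} := h ▸ (le_sup_right : N₂ ≤ N₁ ⊔ N₂) hb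
  obtain ⟨a', rfl⟩ := Ideal.mem_span_singleton'.mp ha'
  obtain ⟨b', rfl⟩ := Ideal.mem_span_singleton'.mp hb'
  have h2 : (a' + b' - 1) * e = 0 := by
    rw [sub_mul, add_mul, hab, one_mul, sub_self]
  have h3 := (mem_nonZeroDivisors_iff_right.mp he) _ h2
  have h4 : (1 : A) = a' + b' := (sub_eq_zero.mp h3).symm
  rw [h4]
  exact Submodule.add_mem_sup (mem_colon_span_of_mul_mem e a' N₁ ha)
    (mem_colon_span_of_mul_mem e b' N₂ hb)

end chart

section sheaf

variable {X : Scheme.{u}}

theorem isFiniteTypeIdeal_of_isEffCartierIdeal {E : X.IdealSheafData}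
    (hE : BlowUp.IsEffCartierIdeal E) : BlowUp.IsFiniteTypeIdeal E := by
  intro U
  refine Groth.Agent.Lib.BlowUp.Compose.fg_ideal_of_cover E U
    {r | (E.ideal (X.affineBasicOpen r)).FG} ?_ (fun r hr => hr)
  rw [← U.2.self_le_iSup_basicOpen_iff]
  intro x hxU
  obtain ⟨V, hxV, e, -, hEV⟩ := hE x
  obtain ⟨r, hr1, hr2⟩ := U.2.exists_basicOpen_le (V := V.1) ⟨x, hxV⟩ hxU
  refine Opens.mem_iSup.2 ⟨⟨r, ?_⟩, hr2⟩
  show (E.ideal (X.affineBasicOpen r)).FG
  rw [← E.map_ideal (U := X.affineBasicOpen r) (V := V) hr1, hEV, Ideal.map_span,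
    Set.image_singleton]
  exact Submodule.fg_span_singleton _

/-- the colon ideal sheaf `(N : P)` for `P` of finite type -/
noncomputable def colonSheaf (N P : X.IdealSheafData) (hP : BlowUp.IsFiniteTypeIdeal P) :
    X.IdealSheafData where
  ideal U := (N.ideal U).colon ((P.ideal U : Ideal Γ(X, U.1)) : Set Γ(X, U.1))
  map_ideal_basicOpen U f := by
    have := U.2.isLocalization_basicOpen f
    have h := map_colon (S := Γ(X, X.basicOpen f)) (Submonoid.powers f) (N.ideal U) (P.ideal U)
      (hP U)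
    have hN := N.map_ideal_basicOpen U f
    have hPb := P.map_ideal_basicOpen U f
    rw [← hN, ← hPb]
    exact h

@[simp]
theorem colonSheaf_ideal (N P : X.IdealSheafData) (hP : BlowUp.IsFiniteTypeIdeal P)
    (U : X.affineOpens) : (colonSheaf N P hP).ideal U =
      (N.ideal U).colon ((P.ideal U : Ideal Γ(X, U.1)) : Set Γ(X, U.1)) := rfl

end sheaf

end Groth.Agent.Lib.Helper56.ModPairColon
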