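import Groth.Agent.Lib.Helper56.ModPairBase
import Mathlib.AlgebraicGeometry.Morphisms.Separated
import Mathlib.CategoryTheory.Localization.CalculusOfFractions

/-!
# Right calculus of fractions for abstract admissible blow-ups of modulus pairs (helper56)

ns `Groth.Agent.Lib.Helper56.ModPairFrac`.
-/

set_option autoImplicit false
universe u

open CategoryTheory CategoryTheory.Limits AlgebraicGeometry TopologicalSpace
open ModPair

namespace Groth.Agent.Lib.Helper56.ModPairFrac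

open Groth.Agent.Lib.Helper56.ModPairSplit Groth.Agent.Lib.Helper56.ModPairBase

theorem isIso_of_isClosedImmersion_of_ker_eq_bot {X Y : Scheme.{u}} (e : X ⟶ Y)
    [IsClosedImmersion e] (h : e.ker = ⊥) : IsIso e := by
  have h1 : IsIso e.imageι := (Scheme.isIso_subschemeι_iff_eq_bot _).mpr h
  rw [← e.toImage_imageι]
  infer_instance

set_option backward.isDefEq.respectTransparency false in
/-- Two morphisms agreeing over a separated base and on a scheme-theoretically dense piece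
are equal. -/
theorem ext_of_ker_eq_bot_of_isSeparated {W X Y Z : Scheme.{u}} {f g : X ⟶ Y} (s : Y ⟶ Z)
    [IsSeparated s] (h : f ≫ s = g ≫ s) (ι : W ⟶ X) (hι : ι.ker = ⊥)
    (hU : ι ≫ f = ι ≫ g) : f = g := by
  let X' : Over Z := Over.mk (f ≫ s)
  let Y' : Over Z := Over.mk s
  let U' : Over Z := Over.mk (ι ≫ f ≫ s)
  let f' : X' ⟶ Y' := Over.homMk f
  let g' : X' ⟶ Y' := Over.homMk g
  let ι' : U' ⟶ X' := Over.homMk ι
  have : IsSeparated Y'.hom := ‹_›
  have hcond : ι' ≫ f' = ι' ≫ g' := by ext1; exact hU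
  have hl : (equalizer.lift ι' hcond).left ≫ (equalizer.ι f' g').left = ι := by
    rw [← Over.comp_left, equalizer.lift_ι]
    rfl
  have hk : (equalizer.ι f' g').left.ker = ⊥ := by
    apply le_bot_iff.mp
    have h2 := Scheme.Hom.le_ker_comp (equalizer.lift ι' hcond).left (equalizer.ι f' g').left
    rw [hl, hι] at h2
    exact h2
  have := isIso_of_isClosedImmersion_of_ker_eq_bot (equalizer.ι f' g').left hk
  rw [← cancel_epi (equalizer.ι f' g').left]
  exact congr($(equalizer.condition f' g').left)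

theorem interior_eq_of_isMinimal {X Y : Scheme.{u}} {I : X.IdealSheafData}
    {J : Y.IdealSheafData} {f : X ⟶ Y} (h : IsMinimal I J f) :
    interior I = f ⁻¹ᵁ interior J := by
  have h0 : I = J.comap f := h
  rw [h0, interior_comap]

theorem isAdmBlowup_id {X : Scheme.{u}} (I : X.IdealSheafData) : IsAdmBlowup I I (𝟙 X) :=
  ⟨(Scheme.IdealSheafData.comap_id I).symm, inferInstance, inferInstance⟩

theorem isAdmBlowup_comp {X Y Z : Scheme.{u}} {I : X.IdealSheafData} {J : Y.IdealSheafData}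
    {K : Z.IdealSheafData} {f : X ⟶ Y} {g : Y ⟶ Z} (hf : IsAdmBlowup I J f)
    (hg : IsAdmBlowup J K g) : IsAdmBlowup I K (f ≫ g) := by
  obtain ⟨hf1, hf2, hf3⟩ := hf
  obtain ⟨hg1, hg2, hg3⟩ := hg
  refine ⟨?_, inferInstance, ?_⟩
  · have h1 : I = J.comap f := hf1
    have h2 : J = K.comap g := hg1
    change I = K.comap (f ≫ g)
    rw [Scheme.IdealSheafData.comap_comp, ← h2, ← h1]
  · have h3 : IsIso (f ∣_ g ⁻¹ᵁ interior K) := by
      have hh := interior_eq_of_isMinimal hg1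
      rw [← hh]
      exact hf3
    rw [morphismRestrict_comp]
    exact IsIso.comp_isIso' h3 hg3

/-- Two ambient morphisms equalized by an abstract admissible blow-up are equal. -/
theorem hom_ext_of_isAdmBlowup {X Y Z : Scheme.{u}} {I : X.IdealSheafData}
    {J : Y.IdealSheafData} {K : Z.IdealSheafData} (hI : BlowUp.IsEffCartierIdeal I)
    {f₁ f₂ : X ⟶ Y} (h₁ : IsAmbient I J f₁) (h₂ : IsAmbient I J f₂) {s : Y ⟶ Z}
    (hs : IsAdmBlowup J K s) (h : f₁ ≫ s = f₂ ≫ s) : f₁ = f₂ := by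
  obtain ⟨hmin, hprop, hiso⟩ := hs
  have hm : Mono ((s ⁻¹ᵁ interior K).ι ≫ s) := by
    rw [← morphismRestrict_ι]; infer_instance
  have hJ : interior J = s ⁻¹ᵁ interior K := interior_eq_of_isMinimal hmin
  have hr : ∀ f : X ⟶ Y, IsAmbient I J f →
      Set.range ((interior I).ι ≫ f) ⊆ Set.range (s ⁻¹ᵁ interior K).ι := by
    intro f hf
    rintro _ ⟨x, rfl⟩
    rw [Scheme.Opens.range_ι, ← hJ]
    exact interior_le_of_isAmbient hf x.2
  let m₁ := IsOpenImmersion.lift (s ⁻¹ᵁ interior K).ι ((interior I).ι ≫ f₁) (hr f₁ h₁)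
  let m₂ := IsOpenImmersion.lift (s ⁻¹ᵁ interior K).ι ((interior I).ι ≫ f₂) (hr f₂ h₂)
  have hm₁ : m₁ ≫ (s ⁻¹ᵁ interior K).ι = (interior I).ι ≫ f₁ := IsOpenImmersion.lift_fac _ _ _
  have hm₂ : m₂ ≫ (s ⁻¹ᵁ interior K).ι = (interior I).ι ≫ f₂ := IsOpenImmersion.lift_fac _ _ _
  have h12 : m₁ = m₂ := by
    rw [← cancel_mono ((s ⁻¹ᵁ interior K).ι ≫ s), ← Category.assoc, ← Category.assoc, hm₁, hm₂,
      Category.assoc, Category.assoc, h]
  refine ext_of_ker_eq_bot_of_isSeparated s h (interior I).ι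
    (Groth.Agent.Lib.BlowUp.CartierCompl.ker_ι (interior I) rfl hI) ?_
  rw [← hm₁, ← hm₂, h12]

theorem hasRightCalculusOfFractions :
    (ModPair.Pair.admBlowup.{u}).HasRightCalculusOfFractions where
  id_mem X := isAdmBlowup_id X.mod
  comp_mem f g hf hg := isAdmBlowup_comp hf hg
  exists_rightFraction X Y φ := by
    have hs : IsAdmBlowup Y.mod φ.Y'.mod φ.s.hom := φ.hs
    obtain ⟨hmin, hprop, hiso⟩ := hs
    let P : Pair.{u} :=
      { total := mprod φ.s.hom φ.f.hom Y.mod X.mod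
        mod := X.mod.comap (mprodι φ.s.hom φ.f.hom Y.mod X.mod ≫ pullback.snd φ.s.hom φ.f.hom)
        isEffCartier := isEffCartierIdeal_comap_mprod φ.Y'.mod X.mod Y.mod φ.f.hom φ.s.hom
          X.isEffCartier φ.f.cond hmin }
    let t : P ⟶ X :=
      ⟨mprodι φ.s.hom φ.f.hom Y.mod X.mod ≫ pullback.snd φ.s.hom φ.f.hom, le_rfl⟩
    let r : P ⟶ Y :=
      ⟨mprodι φ.s.hom φ.f.hom Y.mod X.mod ≫ pullback.fst φ.s.hom φ.f.hom,
        isAmbient_mprod_fst φ.Y'.mod X.mod Y.mod φ.f.hom φ.s.hom φ.f.cond hmin⟩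
    have ht : Pair.admBlowup t :=
      ⟨rfl, inferInstance, isIso_restrict_mprod φ.Y'.mod X.mod Y.mod φ.f.hom φ.s.hom
        X.isEffCartier φ.f.cond hiso hmin⟩
    refine ⟨⟨t, ht, r⟩, ?_⟩
    apply Pair.Hom.ext
    change (mprodι φ.s.hom φ.f.hom Y.mod X.mod ≫ pullback.snd φ.s.hom φ.f.hom) ≫ φ.f.hom =
      (mprodι φ.s.hom φ.f.hom Y.mod X.mod ≫ pullback.fst φ.s.hom φ.f.hom) ≫ φ.s.hom
    simp only [Category.assoc, pullback.condition]
  ext X Y Z f₁ f₂ s hs h := by
    have h' : f₁.hom ≫ s.hom = f₂.hom ≫ s.hom := congrArg Pair.Hom.hom h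
    have h12 : f₁ = f₂ :=
      Pair.Hom.ext (hom_ext_of_isAdmBlowup X.isEffCartier f₁.cond f₂.cond hs h')
    exact ⟨X, 𝟙 X, isAdmBlowup_id X.mod, by rw [h12]⟩

end Groth.Agent.Lib.Helper56.ModPairFrac
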