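import Groth.Agent.S18747
import Groth.Agent.Lib.Helper56.ModPairFrac
import Groth.Agent.Lib.Helper56.LocCoprod

/-!
# Coproducts of modulus pairs and abstract admissible blow-ups (helper56)

ns `Groth.Agent.Lib.Helper56.ModPairCoprod`.  Uses helper81's coproduct of modulus pairs
(`Groth.Agent.S18747`).
-/

set_option autoImplicit false
universe u

open CategoryTheory CategoryTheory.Limits AlgebraicGeometry TopologicalSpace
open ModPair

namespace Groth.Agent.Lib.Helper56.ModPairCoprod

open Groth.Agent.Lib.Helper56.ModPairSplit Groth.Agent.Lib.Helper56.ModPairBase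
  Groth.Agent.Lib.Helper56.ModPairFrac
open Groth.Agent.S18747 (sigma_exists sigma_idx_eq K K_comap le_of_comap_le coprodPair inj cofan
  descHom isColimitCofan)

/-- isomorphism over a union of opens -/
theorem isIso_restrict_iSup {P X : Scheme.{u}} (p : P ⟶ X) {ι : Type u} (V : ι → X.Opens)
    (U : X.Opens) (h : ⨆ i, V i = U) (hV : ∀ i, IsIso (p ∣_ V i)) : IsIso (p ∣_ U) := by
  have hle : ∀ i, V i ≤ U := fun i => h ▸ le_iSup V i
  change (MorphismProperty.isomorphisms Scheme.{u}) (p ∣_ U)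
  apply IsZariskiLocalAtTarget.of_iSup_eq_top (P := MorphismProperty.isomorphisms Scheme.{u})
    (fun i => U.ι ⁻¹ᵁ V i)
  · rw [← Scheme.Hom.preimage_iSup, h]
    exact Scheme.Opens.ι_preimage_self U
  · intro i
    have e : U.ι ''ᵁ (U.ι ⁻¹ᵁ V i) = V i := by
      rw [Scheme.Hom.image_preimage_eq_opensRange_inf, Scheme.Opens.opensRange_ι]
      exact inf_eq_right.mpr (hle i)
    rw [(MorphismProperty.isomorphisms Scheme.{u}).arrow_mk_iso_iff
      (morphismRestrictRestrict p U (U.ι ⁻¹ᵁ V i) ≪≫ morphismRestrictEq p e)]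
    exact hV i

section SchemeLevel

variable {σ : Type u} {X Y : σ → Scheme.{u}} (g : ∀ i, X i ⟶ Y i)

lemma sigmaMap_apply (j : σ) (z : X j) :
    (Limits.Sigma.map g) (Sigma.ι X j z) = Sigma.ι Y j (g j z) := by
  rw [← Scheme.Hom.comp_apply, Limits.Sigma.ι_map, Scheme.Hom.comp_apply]

lemma isPullback_sigmaMap (i : σ) :
    IsPullback (g i) (Sigma.ι X i) (Sigma.ι Y i) (Limits.Sigma.map g) := by
  refine IsOpenImmersion.isPullback _ _ _ _ (Limits.Sigma.ι_map g i) ?_
  ext z
  constructor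
  · intro hz
    obtain ⟨j, z', rfl⟩ := sigma_exists z
    obtain ⟨x, hx⟩ := hz
    have h1 := sigmaMap_apply g j z'
    have hx' : Sigma.ι Y i x = Sigma.ι Y j (g j z') := hx.trans h1
    obtain rfl := sigma_idx_eq _ _ hx'
    exact ⟨z', rfl⟩
  · rintro ⟨z', rfl⟩
    exact ⟨g i z', (sigmaMap_apply g i z').symm⟩

lemma isProper_sigmaMap (hg : ∀ i, IsProper (g i)) : IsProper (Limits.Sigma.map g) := by
  rw [IsZariskiLocalAtTarget.iff_of_openCover (P := @IsProper) (sigmaOpenCover Y)]
  intro i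
  have sq := (isPullback_sigmaMap g i).flip
  have h := sq.isoPullback_hom_snd
  have h2 : pullback.snd (Limits.Sigma.map g) (Sigma.ι Y i) = sq.isoPullback.inv ≫ g i :=
    (Iso.eq_inv_comp _).mpr h
  change IsProper (pullback.snd (Limits.Sigma.map g) (Sigma.ι Y i))
  rw [h2]
  have := hg i
  infer_instance

lemma isIso_sigmaMap_restrict_image (i : σ) (V : (Y i).Opens) (hV : IsIso (g i ∣_ V)) :
    IsIso (Limits.Sigma.map g ∣_ (Sigma.ι Y i ''ᵁ V)) := by
  have hcomp : ((g i ⁻¹ᵁ V).ι ≫ Sigma.ι X i) ≫ Limits.Sigma.map g =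
      (g i ∣_ V) ≫ V.ι ≫ Sigma.ι Y i := by
    rw [Category.assoc, Limits.Sigma.ι_map, ← Category.assoc, ← morphismRestrict_ι, Category.assoc]
  have : Mono (((g i ⁻¹ᵁ V).ι ≫ Sigma.ι X i) ≫ Limits.Sigma.map g) := by
    rw [hcomp]; infer_instance
  refine isIso_morphismRestrict_of_section (Limits.Sigma.map g) (Sigma.ι Y i ''ᵁ V)
    ((g i ⁻¹ᵁ V).ι ≫ Sigma.ι X i) ?_ (((Sigma.ι Y i).isoImage V).inv ≫ inv (g i ∣_ V)) ?_
  · intro z hz
    obtain ⟨k, x, rfl⟩ := sigma_exists z
    have hz' : (Limits.Sigma.map g) (Sigma.ι X k x) ∈ Sigma.ι Y i ''ᵁ V := hz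
    rw [sigmaMap_apply] at hz'
    obtain ⟨v, hvV, hv⟩ := hz'
    obtain rfl := sigma_idx_eq _ _ hv
    have hv' : v = g i x := (Sigma.ι Y i).isOpenEmbedding.injective hv
    refine ⟨⟨x, ?_⟩, rfl⟩
    change g i x ∈ V
    rw [← hv']; exact hvV
  · rw [hcomp]
    simp only [Category.assoc, IsIso.inv_hom_id_assoc]
    exact (Sigma.ι Y i).isoImage_inv_ι V

end SchemeLevel

section PairLevel

variable {σ : Type u} (P Q : σ → Pair.{u}) (f : ∀ i, P i ⟶ Q i)

/-- the morphism of coproduct pairs induced by a family of morphisms -/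
noncomputable def coprodMap : coprodPair P ⟶ coprodPair Q :=
  descHom P (Cofan.mk (coprodPair Q) (fun i => f i ≫ inj Q i))

lemma coprodMap_hom : (coprodMap P Q f).hom =
    (Limits.Sigma.map (fun i => (f i).hom) :
      (∐ fun i => (P i).total) ⟶ ∐ fun i => (Q i).total) := by
  refine Sigma.hom_ext _ _ (fun i => ?_)
  have h1 : Sigma.ι (fun i => (P i).total) i ≫ (coprodMap P Q f).hom =
      (f i).hom ≫ Sigma.ι (fun i => (Q i).total) i := Sigma.ι_desc _ _
  have h2 := Limits.Sigma.ι_map (fun i => (f i).hom) i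
  exact h1.trans h2.symm

lemma interior_K :
    interior (K (fun i => (Q i).total) (fun i => (Q i).mod)) =
      ⨆ i, Sigma.ι (fun i => (Q i).total) i ''ᵁ interior (Q i).mod := by
  ext z
  obtain ⟨i, x, rfl⟩ := sigma_exists z
  have h1 : Sigma.ι (fun i => (Q i).total) i x ∈
      interior (K (fun i => (Q i).total) (fun i => (Q i).mod)) ↔ x ∈ interior (Q i).mod := by
    have := interior_comap (K (fun i => (Q i).total) (fun i => (Q i).mod))
      (Sigma.ι (fun i => (Q i).total) i)
    rw [K_comap] at this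
    rw [this]
    rfl
  rw [SetLike.mem_coe, h1, SetLike.mem_coe, Opens.mem_iSup]
  constructor
  · intro hx
    exact ⟨i, x, hx, rfl⟩
  · rintro ⟨k, v, hv, hvx⟩
    obtain rfl := sigma_idx_eq _ _ hvx
    have : v = x := (Sigma.ι (fun i => (Q i).total) k).isOpenEmbedding.injective hvx
    rw [← this]; exact hv

theorem admBlowup_coprodMap (hf : ∀ i, Pair.admBlowup (f i)) :
    Pair.admBlowup (coprodMap P Q f) := by
  change IsAdmBlowup _ _ (coprodMap P Q f).hom
  rw [coprodMap_hom]
  refine ⟨?_, isProper_sigmaMap _ (fun i => (hf i).2.1), ?_⟩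
  · change K (fun i => (P i).total) (fun i => (P i).mod) =
      (K (fun i => (Q i).total) (fun i => (Q i).mod)).comap (Limits.Sigma.map (fun i => (f i).hom))
    have hmin : ∀ i, (P i).mod = (Q i).mod.comap (f i).hom := fun i => (hf i).1
    apply le_antisymm
    · apply le_of_comap_le
      intro i
      rw [K_comap, ← Scheme.IdealSheafData.comap_comp, Limits.Sigma.ι_map,
        Scheme.IdealSheafData.comap_comp, K_comap]
      exact le_of_eq (hmin i)
    · apply le_of_comap_le
      intro i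
      rw [K_comap, ← Scheme.IdealSheafData.comap_comp, Limits.Sigma.ι_map,
        Scheme.IdealSheafData.comap_comp, K_comap]
      exact le_of_eq (hmin i).symm
  · refine isIso_restrict_iSup _ _ _ (interior_K Q).symm (fun i => ?_)
    exact isIso_sigmaMap_restrict_image (fun i => (f i).hom) i _ (hf i).2.2

lemma inj_coprodMap (i : σ) : inj P i ≫ coprodMap P Q f = f i ≫ inj Q i := by
  apply Pair.Hom.ext
  exact Sigma.ι_desc _ _

end PairLevel

theorem admBlowup_of_isIso {P Q : Pair.{u}} (f : P ⟶ Q) [IsIso f] : Pair.admBlowup f := by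
  have hiso : IsIso f.hom := by
    have : IsIso (Pair.forget.map f) := inferInstance
    exact this
  refine ⟨?_, inferInstance, inferInstance⟩
  apply le_antisymm f.cond
  have h1 : Q.mod ≤ P.mod.comap (inv f).hom := (inv f).cond
  have h2 : Q.mod.comap f.hom ≤ (P.mod.comap (inv f).hom).comap f.hom :=
    Scheme.IdealSheafData.comap_mono f.hom h1
  rw [← Scheme.IdealSheafData.comap_comp] at h2
  have h3 : f.hom ≫ (inv f).hom = 𝟙 _ := congrArg Pair.Hom.hom (IsIso.hom_inv_id f)
  rw [h3, Scheme.IdealSheafData.comap_id] at h2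
  exact h2

instance : (Pair.admBlowup.{u}).IsMultiplicative where
  id_mem X := isAdmBlowup_id X.mod
  comp_mem _ _ hf hg := isAdmBlowup_comp hf hg

instance : (Pair.admBlowup.{u}).RespectsIso :=
  MorphismProperty.respectsIso_of_isStableUnderComposition
    (fun _ _ f (hf : IsIso f) => admBlowup_of_isIso f)

section Binary

variable (X : WalkingPair → Pair.{u})

/-- helper81's coproduct, as a cofan on a family indexed by `WalkingPair`. -/
noncomputable def cofanDown : Cofan X :=
  Cofan.mk (coprodPair (fun i : ULift.{u} WalkingPair => X i.down))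
    (fun j => inj (fun i : ULift.{u} WalkingPair => X i.down) ⟨j⟩)

noncomputable def isColimitCofanDown : IsColimit (cofanDown X) :=
  Cofan.IsColimit.mk _
    (fun t => (isColimitCofan (fun i : ULift.{u} WalkingPair => X i.down)).desc
      (Cofan.mk t.pt (fun i => t.inj i.down)))
    (fun t j => (isColimitCofan (fun i : ULift.{u} WalkingPair => X i.down)).fac
      (Cofan.mk t.pt (fun i => t.inj i.down)) ⟨⟨j⟩⟩)
    (fun t m hm => (isColimitCofan (fun i : ULift.{u} WalkingPair => X i.down)).uniq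
      (Cofan.mk t.pt (fun i => t.inj i.down)) m (fun ⟨i⟩ => hm i.down))

end Binary

instance hasBinaryCoproducts_pair : HasColimitsOfShape (Discrete WalkingPair) Pair.{u} :=
  ⟨fun F => by
    have : HasColimit (Discrete.functor (F.obj ∘ Discrete.mk)) :=
      ⟨⟨⟨cofanDown _, isColimitCofanDown _⟩⟩⟩
    exact hasColimit_of_iso Discrete.natIsoFunctor⟩

instance : (Pair.admBlowup.{u}).IsStableUnderCoproductsOfShape WalkingPair := by
  apply MorphismProperty.IsStableUnderCoproductsOfShape.mk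
  intro X₁ X₂ _ _ f hf
  let φ := coprodMap (fun i : ULift.{u} WalkingPair => X₁ i.down)
    (fun i : ULift.{u} WalkingPair => X₂ i.down) (fun i => f i.down)
  have hφ : Pair.admBlowup φ := admBlowup_coprodMap _ _ _ (fun i => hf i.down)
  let e₁ := (isColimitCofanDown X₁).coconePointUniqueUpToIso
    (colimit.isColimit (Discrete.functor X₁))
  let e₂ := (isColimitCofanDown X₂).coconePointUniqueUpToIso
    (colimit.isColimit (Discrete.functor X₂))
  have h1 : ∀ j, (cofanDown X₁).inj j ≫ φ = f j ≫ (cofanDown X₂).inj j := fun j =>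
    inj_coprodMap (fun i : ULift.{u} WalkingPair => X₁ i.down)
      (fun i : ULift.{u} WalkingPair => X₂ i.down) (fun i => f i.down) (ULift.up j)
  have h2 : ∀ j, (cofanDown X₁).inj j ≫ e₁.hom = Sigma.ι X₁ j := fun j =>
    (isColimitCofanDown X₁).comp_coconePointUniqueUpToIso_hom
      (colimit.isColimit (Discrete.functor X₁)) ⟨j⟩
  have h3 : ∀ j, (cofanDown X₂).inj j ≫ e₂.hom = Sigma.ι X₂ j := fun j =>
    (isColimitCofanDown X₂).comp_coconePointUniqueUpToIso_hom
      (colimit.isColimit (Discrete.functor X₂)) ⟨j⟩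
  have h4 : ∀ j, Sigma.ι X₁ j ≫ Limits.Sigma.map f = f j ≫ Sigma.ι X₂ j := fun j =>
    Limits.Sigma.ι_map f j
  have hcomm : e₁.hom ≫ Limits.Sigma.map f = φ ≫ e₂.hom := by
    apply (isColimitCofanDown X₁).hom_ext
    rintro ⟨j⟩
    change (cofanDown X₁).inj j ≫ e₁.hom ≫ Limits.Sigma.map f =
      (cofanDown X₁).inj j ≫ φ ≫ e₂.hom
    calc (cofanDown X₁).inj j ≫ e₁.hom ≫ Limits.Sigma.map f
        = Sigma.ι X₁ j ≫ Limits.Sigma.map f := by rw [← Category.assoc, h2]
      _ = f j ≫ Sigma.ι X₂ j := h4 j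
      _ = f j ≫ (cofanDown X₂).inj j ≫ e₂.hom := by rw [h3]
      _ = ((cofanDown X₁).inj j ≫ φ) ≫ e₂.hom := by
          rw [h1]; exact (Category.assoc _ _ _).symm
      _ = (cofanDown X₁).inj j ≫ φ ≫ e₂.hom := Category.assoc _ _ _
  refine ((Pair.admBlowup.{u}).arrow_mk_iso_iff ?_).1 hφ
  exact Arrow.isoMk e₁ e₂ hcomm

theorem hasBinaryCoproducts_localization :
    HasBinaryCoproducts (Pair.admBlowup.{u}).Localization ∧
      PreservesColimitsOfShape (Discrete WalkingPair) (Pair.admBlowup.{u}).Q :=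
  ⟨Groth.Agent.Lib.Helper56.LocCoprod.hasCoproductsOfShape (Pair.admBlowup.{u}).Q
      (Pair.admBlowup.{u}) WalkingPair,
    Groth.Agent.Lib.Helper56.LocCoprod.preservesCoproductsOfShape (Pair.admBlowup.{u}).Q
      (Pair.admBlowup.{u}) WalkingPair⟩

end Groth.Agent.Lib.Helper56.ModPairCoprod
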