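import Groth.Agent.Lib.Helper56.ModPairDense

/-!
# The locus where two effective Cartier ideals agree (helper56)

ns `Groth.Agent.Lib.Helper56.ModPairLocus`.

* `mem_nonZeroDivisors_of_ideal_eq_span` : a generator of an effective Cartier ideal on an affine
  open is a nonzerodivisor.
* `isUnit_of_span_mul_eq` : `(c t) = (t)` with `t` a nonzerodivisor forces `c` to be a unit.
* `eqLocus J J'` : the open locus where `J` and `J'` agree, with `isAffineHom_eqLocus_ι`,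
  `comap_eqLocus_ι`, `range_subset_eqLocus`.
-/

set_option autoImplicit false
universe u
open CategoryTheory CategoryTheory.Limits AlgebraicGeometry TopologicalSpace
open ModPair

namespace Groth.Agent.Lib.Helper56.ModPairLocus

open Groth.Agent.Lib.Helper56.ModPairBase Groth.Agent.Lib.Helper56.ModPairSplit

theorem mem_nonZeroDivisors_of_ideal_eq_span {Y : Scheme.{u}} (K : Y.IdealSheafData)
    (hK : BlowUp.IsEffCartierIdeal K) (W : Y.affineOpens) (s : Γ(Y, W.1))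
    (hs : K.ideal W = Ideal.span {s}) : s ∈ nonZeroDivisors Γ(Y, W.1) := by
  have hker := Groth.Agent.Lib.BlowUp.CartierCompl.ker_ι (interior K) rfl hK
  have hqc : QuasiCompact (interior K).ι := by
    have := Groth.Agent.Lib.BlowUp.CartierCompl.isAffineHom_ι (interior K) rfl hK
    infer_instance
  refine mem_nonZeroDivisors_of_injective_of_isUnit (interior K).ι W.1 s ?_ ?_
  · rw [RingHom.injective_iff_ker_eq_bot, ← Scheme.Hom.ker_apply, hker]
    rfl
  · apply isUnit_of_le_basicOpen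
    rw [← Scheme.preimage_basicOpen,
      ← Groth.Agent.Lib.BlowUp.CartierCompl.inf_eq_basicOpen K (interior K) rfl W s hs]
    intro x hx
    exact ⟨x.2, hx⟩

theorem isUnit_of_span_mul_eq {R : Type*} [CommRing R] (c t : R) (ht : t ∈ nonZeroDivisors R)
    (h : Ideal.span {c * t} = Ideal.span {t}) : IsUnit c := by
  have h1 : t ∈ Ideal.span {c * t} := h ▸ Ideal.mem_span_singleton_self t
  obtain ⟨d, hd⟩ := Ideal.mem_span_singleton'.mp h1
  have h2 : (d * c - 1) * t = 0 := by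
    rw [sub_mul, one_mul, mul_assoc, hd, sub_self]
  have h3 : d * c - 1 = 0 := (mem_nonZeroDivisors_iff_right.mp ht) _ h2
  exact IsUnit.of_mul_eq_one d (by rw [mul_comm]; exact sub_eq_zero.mp h3)

section Locus

variable {Y : Scheme.{u}} (J J' : Y.IdealSheafData)

/-- the open locus where two ideal sheaves agree -/
noncomputable def eqLocus : Y.Opens :=
  ⨆ W : {W : Y.affineOpens // J.ideal W = J'.ideal W}, W.1.1

theorem mem_eqLocus_iff (y : Y) :
    y ∈ eqLocus J J' ↔ ∃ W : Y.affineOpens, y ∈ W.1 ∧ J.ideal W = J'.ideal W := by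
  unfold eqLocus
  rw [Opens.mem_iSup]
  constructor
  · rintro ⟨W, hy⟩
    exact ⟨W.1, hy, W.2⟩
  · rintro ⟨W, hy, hW⟩
    exact ⟨⟨W, hW⟩, hy⟩

theorem ideal_eq_of_le {W V : Y.affineOpens} (h : V.1 ≤ W.1) (hW : J.ideal W = J'.ideal W) :
    J.ideal V = J'.ideal V := by
  rw [← J.map_ideal (U := V) (V := W) h, ← J'.map_ideal (U := V) (V := W) h, hW]

variable {J J'}

/-- On a chart where `J = (c t)` and `J' = (t)` with `t` a nonzerodivisor, the locus of equality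
is `D(c)`. -/
theorem eqLocus_inf_eq_basicOpen (W : Y.affineOpens) (c t : Γ(Y, W.1))
    (ht : t ∈ nonZeroDivisors Γ(Y, W.1)) (hJ : J.ideal W = Ideal.span {c * t})
    (hJ' : J'.ideal W = Ideal.span {t}) : eqLocus J J' ⊓ W.1 = Y.basicOpen c := by
  apply le_antisymm
  · rintro z ⟨hz1, hz2⟩
    obtain ⟨W₂, hzW₂, hW₂⟩ := (mem_eqLocus_iff J J' z).mp hz1
    obtain ⟨_, ⟨V, hV, rfl⟩, hzV, hVle⟩ :=
      (Scheme.isBasis_affineOpens Y).exists_subset_of_mem_open
        (show z ∈ (W.1 ⊓ W₂.1 : Y.Opens) from ⟨hz2, hzW₂⟩) (W.1 ⊓ W₂.1).isOpen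
    have e1 : V ≤ W.1 := fun z hz => (hVle hz).1
    have e2 : V ≤ W₂.1 := fun z hz => (hVle hz).2
    have hVeq : J.ideal ⟨V, hV⟩ = J'.ideal ⟨V, hV⟩ := ideal_eq_of_le J J' e2 hW₂
    rw [← J.map_ideal (U := ⟨V, hV⟩) (V := W) e1, ← J'.map_ideal (U := ⟨V, hV⟩) (V := W) e1,
      hJ, hJ', Ideal.map_span, Ideal.map_span, Set.image_singleton, Set.image_singleton,
      map_mul] at hVeq
    have hu := isUnit_of_span_mul_eq _ _
      (Groth.Agent.Lib.BlowUp.res_mem_nonZeroDivisors W.2 e1 t ht) hVeq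
    have h3 : Y.basicOpen ((Y.presheaf.map (homOfLE e1).op).hom c) = V :=
      Y.basicOpen_of_isUnit hu
    have h4 : z ∈ Y.basicOpen ((Y.presheaf.map (homOfLE e1).op).hom c) := by
      rw [h3]; exact hzV
    rw [Scheme.basicOpen_res] at h4
    exact h4.2
  · intro z hz
    refine ⟨?_, Y.basicOpen_le c hz⟩
    refine (mem_eqLocus_iff J J' z).mpr ⟨Y.affineBasicOpen c, hz, ?_⟩
    rw [← J.map_ideal_basicOpen W c, ← J'.map_ideal_basicOpen W c, hJ, hJ', Ideal.map_span,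
      Ideal.map_span, Set.image_singleton, Set.image_singleton, map_mul]
    have hu : IsUnit ((Y.presheaf.map (homOfLE (Y.basicOpen_le c)).op).hom c) :=
      RingedSpace.isUnit_res_basicOpen Y.toRingedSpace c
    exact Ideal.span_singleton_mul_left_unit hu _

theorem exists_chart (hJ : BlowUp.IsEffCartierIdeal J) (hJ' : BlowUp.IsEffCartierIdeal J')
    (hle : J ≤ J') (y : Y) :
    ∃ (W : Y.affineOpens) (c t : Γ(Y, W.1)), y ∈ W.1 ∧ t ∈ nonZeroDivisors Γ(Y, W.1) ∧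
      J.ideal W = Ideal.span {c * t} ∧ J'.ideal W = Ideal.span {t} := by
  obtain ⟨W₀, hyW₀, t₀, ht₀, hJ'W₀⟩ := hJ' y
  obtain ⟨W, hyW, hWle, s, -, hJW⟩ :=
    Groth.Agent.Lib.BlowUp.exists_le_of_isEffCartierIdeal hJ y W₀.1 hyW₀
  have hJ'W : J'.ideal W = Ideal.span {(Y.presheaf.map (homOfLE hWle).op).hom t₀} := by
    rw [← J'.map_ideal (U := W) (V := W₀) hWle, hJ'W₀, Ideal.map_span, Set.image_singleton]
    rfl
  have hs : s ∈ J'.ideal W := hle W (hJW ▸ Ideal.mem_span_singleton_self s)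
  rw [hJ'W] at hs
  obtain ⟨c, hc⟩ := Ideal.mem_span_singleton'.mp hs
  exact ⟨W, c, _, hyW, Groth.Agent.Lib.BlowUp.res_mem_nonZeroDivisors W₀.2 hWle t₀ ht₀,
    by rw [hc]; exact hJW, hJ'W⟩

theorem isAffineHom_eqLocus_ι (hJ : BlowUp.IsEffCartierIdeal J) (hJ' : BlowUp.IsEffCartierIdeal J')
    (hle : J ≤ J') : IsAffineHom (eqLocus J J').ι := by
  refine isAffineHom_of_forall_exists_isAffineOpen _ (fun y => ?_)
  obtain ⟨W, c, t, hyW, ht, hJW, hJ'W⟩ := exists_chart hJ hJ' hle y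
  refine ⟨W.1, hyW, W.2, ?_⟩
  rw [← (eqLocus J J').ι.isAffineOpen_iff_of_isOpenImmersion,
    Scheme.Hom.image_preimage_eq_opensRange_inf, Scheme.Opens.opensRange_ι,
    eqLocus_inf_eq_basicOpen W c t ht hJW hJ'W]
  exact W.2.basicOpen c

theorem comap_eqLocus_ι (hJ : BlowUp.IsEffCartierIdeal J) (hJ' : BlowUp.IsEffCartierIdeal J')
    (hle : J ≤ J') : J.comap (eqLocus J J').ι = J'.comap (eqLocus J J').ι := by
  have haff := isAffineHom_eqLocus_ι hJ hJ' hle
  refine Scheme.IdealSheafData.ext_of_iSup_eq_top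
    (fun W : {W : Y.affineOpens // J.ideal W = J'.ideal W} =>
      (⟨(eqLocus J J').ι ⁻¹ᵁ W.1.1, W.1.2.preimage (eqLocus J J').ι⟩ :
        (eqLocus J J').toScheme.affineOpens)) ?_ (fun W => ?_)
  · rw [eq_top_iff]
    intro z _
    obtain ⟨W, hzW, hW⟩ := (mem_eqLocus_iff J J' z.1).mp z.2
    exact Opens.mem_iSup.mpr ⟨⟨W, hW⟩, hzW⟩
  · rw [Groth.Agent.Lib.Helper20.ideal_comap (eqLocus J J').ι J _ W.1 le_rfl,
      Groth.Agent.Lib.Helper20.ideal_comap (eqLocus J J').ι J' _ W.1 le_rfl, W.2]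

theorem range_subset_eqLocus (hJ : BlowUp.IsEffCartierIdeal J) (hJ' : BlowUp.IsEffCartierIdeal J')
    (hle : J ≤ J') {X : Scheme.{u}} (I : X.IdealSheafData) (hI : BlowUp.IsEffCartierIdeal I)
    (f : X ⟶ Y) (h1 : I = J.comap f) (h2 : I = J'.comap f) :
    Set.range f ⊆ (eqLocus J J' : Set Y) := by
  rintro _ ⟨x, rfl⟩
  obtain ⟨W, c, t, hyW, ht, hJW, hJ'W⟩ := exists_chart hJ hJ' hle (f x)
  obtain ⟨_, ⟨W', hW', rfl⟩, hxW', hW'le⟩ :=
    (Scheme.isBasis_affineOpens X).exists_subset_of_mem_open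
      (show x ∈ f ⁻¹ᵁ W.1 from hyW) (f ⁻¹ᵁ W.1).isOpen
  have e : W' ≤ f ⁻¹ᵁ W.1 := hW'le
  have hI1 : I.ideal ⟨W', hW'⟩ = Ideal.span {(f.appLE W.1 W' e).hom (c * t)} := by
    rw [h1, Groth.Agent.Lib.Helper20.ideal_comap f J ⟨W', hW'⟩ W e, hJW, Ideal.map_span,
      Set.image_singleton]
  have hI2 : I.ideal ⟨W', hW'⟩ = Ideal.span {(f.appLE W.1 W' e).hom t} := by
    rw [h2, Groth.Agent.Lib.Helper20.ideal_comap f J' ⟨W', hW'⟩ W e, hJ'W, Ideal.map_span,
      Set.image_singleton]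
  have hnzd := mem_nonZeroDivisors_of_ideal_eq_span I hI ⟨W', hW'⟩ _ hI2
  have hu : IsUnit ((f.appLE W.1 W' e).hom c) :=
    isUnit_of_span_mul_eq _ _ hnzd (by rw [← map_mul, ← hI1, hI2])
  have h3 : x ∈ X.basicOpen ((f.appLE W.1 W' e).hom c) := by
    rw [X.basicOpen_of_isUnit hu]; exact hxW'
  rw [Scheme.Hom.appLE, CommRingCat.comp_apply, Scheme.basicOpen_res,
    ← Scheme.preimage_basicOpen] at h3
  have h4 : f x ∈ Y.basicOpen c := h3.2
  rw [← eqLocus_inf_eq_basicOpen W c t ht hJW hJ'W] at h4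
  exact h4.1

end Locus

end Groth.Agent.Lib.Helper56.ModPairLocus
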