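import Groth.Agent.Lib.Helper56.ModPairAmbFun
import Groth.Agent.Lib.Helper56.ModPairAmbProper
import Groth.Agent.Lib.Helper56.ModPairAmbExists

/-!
# Geometric input for pullbacks in the localization of modulus pairs (helper56)

ns `Groth.Agent.Lib.Helper56.ModPairPullGeo`.
-/

set_option autoImplicit false
universe u

open CategoryTheory CategoryTheory.Limits AlgebraicGeometry TopologicalSpace
open ModPair

namespace Groth.Agent.Lib.Helper56.ModPairPullGeo

open Groth.Agent.Lib.Helper56.ModPairSplit Groth.Agent.Lib.Helper56.ModPairBase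
  Groth.Agent.Lib.Helper56.ModPairFrac Groth.Agent.Lib.Helper56.ModPairDense
  Groth.Agent.Lib.Helper56.ModPairAmbProd Groth.Agent.Lib.Helper56.ModPairAmbFun
  Groth.Agent.Lib.Helper56.ModPairAmbExists

/-- the sum of two pulled-back effective Cartier ideals is finitely generated on a cover -/
theorem sup_comap_fg {T X Z : Scheme.{u}} (J : T.IdealSheafData) (I : X.IdealSheafData)
    (hT : BlowUp.IsEffCartierIdeal J) (hX : BlowUp.IsEffCartierIdeal I) (p : Z ⟶ X) (q : Z ⟶ T)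
    (z : Z) : ∃ U : Z.affineOpens, z ∈ U.1 ∧ ((I.comap p ⊔ J.comap q).ideal U).FG := by
  obtain ⟨VX, hyVX, tX, -, htX⟩ := hX (p z)
  obtain ⟨VT, hyVT, tT, -, htT⟩ := hT (q z)
  have hy : z ∈ p ⁻¹ᵁ VX.1 ⊓ q ⁻¹ᵁ VT.1 := ⟨hyVX, hyVT⟩
  obtain ⟨_, ⟨V, hV, rfl⟩, hyV, hVle⟩ :=
    (Scheme.isBasis_affineOpens Z).exists_subset_of_mem_open hy (p ⁻¹ᵁ VX.1 ⊓ q ⁻¹ᵁ VT.1).isOpen
  have e1 : V ≤ p ⁻¹ᵁ VX.1 := fun z hz => (hVle hz).1
  have e2 : V ≤ q ⁻¹ᵁ VT.1 := fun z hz => (hVle hz).2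
  refine ⟨⟨V, hV⟩, hyV, ?_⟩
  have h1 : (I.comap p ⊔ J.comap q).ideal ⟨V, hV⟩ =
      (I.comap p).ideal ⟨V, hV⟩ ⊔ (J.comap q).ideal ⟨V, hV⟩ := rfl
  rw [h1, Groth.Agent.Lib.Helper20.ideal_comap _ I ⟨V, hV⟩ VX e1,
    Groth.Agent.Lib.Helper20.ideal_comap _ J ⟨V, hV⟩ VT e2, htX, htT, Ideal.map_span,
    Ideal.map_span, Set.image_singleton, Set.image_singleton]
  exact Submodule.FG.sup (Submodule.fg_span_singleton _) (Submodule.fg_span_singleton _)

/-- `K = I₁ ⊓ I₂` as soon as `K · (I₁ ⊔ I₂) = I₁ · I₂` with `I₁ ⊔ I₂` effective Cartier. -/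
theorem eq_inf_of_mul_sup_eq {Y : Scheme.{u}} (K I₁ I₂ : Y.IdealSheafData)
    (hE : BlowUp.IsEffCartierIdeal (I₁ ⊔ I₂)) (hmul : K * (I₁ ⊔ I₂) = I₁ * I₂) :
    K = I₁ ⊓ I₂ :=
  eq_of_mul_eq_mul_right _ _ _ hE (hmul.trans (inf_mul_sup_eq_mul I₁ I₂ hE).symm)

/-- Two morphisms into `Y` which agree after a separated `π : Y ⟶ Y₀`, and which send a
scheme-theoretically dense open into the locus where `π` is an isomorphism, are equal. -/
theorem hom_ext_of_isIso_restrict {Z Y Y₀ : Scheme.{u}} (π : Y ⟶ Y₀) [IsSeparated π]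
    (V : Y₀.Opens) (hV : IsIso (π ∣_ V)) (Z₀ : Z.Opens) (hZ₀ : Z₀.ι.ker = ⊥)
    (w₁ w₂ : Z ⟶ Y) (h₁ : Z₀ ≤ (w₁ ≫ π) ⁻¹ᵁ V) (h₂ : Z₀ ≤ (w₂ ≫ π) ⁻¹ᵁ V)
    (h : w₁ ≫ π = w₂ ≫ π) : w₁ = w₂ := by
  have hm : Mono ((π ⁻¹ᵁ V).ι ≫ π) := by
    rw [← morphismRestrict_ι]; infer_instance
  have hr : ∀ w : Z ⟶ Y, Z₀ ≤ (w ≫ π) ⁻¹ᵁ V →
      Set.range (Z₀.ι ≫ w) ⊆ Set.range (π ⁻¹ᵁ V).ι := by
    intro w hw
    rintro _ ⟨x, rfl⟩
    rw [Scheme.Opens.range_ι]
    exact hw x.2
  let m₁ := IsOpenImmersion.lift (π ⁻¹ᵁ V).ι (Z₀.ι ≫ w₁) (hr w₁ h₁)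
  let m₂ := IsOpenImmersion.lift (π ⁻¹ᵁ V).ι (Z₀.ι ≫ w₂) (hr w₂ h₂)
  have hm₁ : m₁ ≫ (π ⁻¹ᵁ V).ι = Z₀.ι ≫ w₁ := IsOpenImmersion.lift_fac _ _ _
  have hm₂ : m₂ ≫ (π ⁻¹ᵁ V).ι = Z₀.ι ≫ w₂ := IsOpenImmersion.lift_fac _ _ _
  have h12 : m₁ = m₂ := by
    rw [← cancel_mono ((π ⁻¹ᵁ V).ι ≫ π), ← Category.assoc, ← Category.assoc, hm₁, hm₂,
      Category.assoc, Category.assoc, h]
  refine ext_of_ker_eq_bot_of_isSeparated π h Z₀.ι hZ₀ ?_
  rw [← hm₁, ← hm₂, h12]

section

variable {S T X Y : Scheme.{u}} (J : T.IdealSheafData) (I : X.IdealSheafData)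
  (hT : BlowUp.IsEffCartierIdeal J) (hX : BlowUp.IsEffCartierIdeal I)
  (f : X ⟶ S) (g : T ⟶ S) (π : Y ⟶ mprod f g I J) (K : Y.IdealSheafData)
  (hY : IsAmbProd f g I J π K)

include hT hX hY

theorem preimage_prodInterior_le_interior_prodCentre :
    (mprodι f g I J) ⁻¹ᵁ prodInterior f g I J ≤ interior (prodCentre f g I J) := by
  intro y hy
  have hy1 : (pullback.fst f g) ((mprodι f g I J) y) ∈ interior I := hy.1
  have hy2 : y ∈ interior (I.comap (mprodι f g I J ≫ pullback.fst f g)) := by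
    rw [interior_comap]; exact hy1
  intro hy3
  have hy4 : y ∈ ((I.comap (mprodι f g I J ≫ pullback.fst f g)).support : Set _) := by
    have : (prodCentre f g I J).support ≤
        (I.comap (mprodι f g I J ≫ pullback.fst f g)).support := by
      unfold prodCentre
      rw [Scheme.IdealSheafData.support_sup]
      exact inf_le_left
    exact this hy3
  exact hy2 hy4

/-- uniqueness of lifts to an ambient product -/
theorem lift_unique {Z : Scheme.{u}} (M : Z.IdealSheafData) (hM : BlowUp.IsEffCartierIdeal M)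
    (w₁ w₂ : Z ⟶ Y) (hw₁ : IsAmbient M K w₁) (hw₂ : IsAmbient M K w₂)
    (h1 : w₁ ≫ π ≫ mprodι f g I J ≫ pullback.snd f g =
      w₂ ≫ π ≫ mprodι f g I J ≫ pullback.snd f g)
    (h2 : w₁ ≫ π ≫ mprodι f g I J ≫ pullback.fst f g =
      w₂ ≫ π ≫ mprodι f g I J ≫ pullback.fst f g) : w₁ = w₂ := by
  have hπ : IsProper π :=
    Groth.Agent.Lib.Helper56.ModPairAmbProper.isProper_π J I hT hX f g π K hY
  have h : w₁ ≫ π = w₂ ≫ π := by
    rw [← cancel_mono (mprodι f g I J)]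
    apply pullback.hom_ext
    · simpa only [Category.assoc] using h2
    · simpa only [Category.assoc] using h1
  have hiso : IsIso (π ∣_ interior (prodCentre f g I J)) :=
    Groth.Agent.Lib.BlowUp.isIso_morphismRestrict_of_isBlowUp (prodCentre f g I J) π hY.1
      (interior (prodCentre f g I J)) (fun x hx => hx)
  have hint := (ambProd_main J I hT hX f g π K hY).2.2.2
  have hle : ∀ w : Z ⟶ Y, IsAmbient M K w →
      interior M ≤ (w ≫ π) ⁻¹ᵁ interior (prodCentre f g I J) := by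
    intro w hw z hz
    have h3 : w z ∈ interior K := interior_le_of_isAmbient hw hz
    rw [hint] at h3
    exact preimage_prodInterior_le_interior_prodCentre J I hT hX f g π K hY h3
  exact hom_ext_of_isIso_restrict π _ hiso (interior M)
    (Groth.Agent.Lib.BlowUp.CartierCompl.ker_ι (interior M) rfl hM) w₁ w₂ (hle w₁ hw₁)
    (hle w₂ hw₂) h

/-- existence of lifts to an ambient product after an abstract admissible blow-up -/
theorem exists_lift {Z : Scheme.{u}} (M : Z.IdealSheafData) (hM : BlowUp.IsEffCartierIdeal M)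
    (a : Z ⟶ T) (b : Z ⟶ X) (ha : IsAmbient M J a) (hb : IsAmbient M I b)
    (hab : b ≫ f = a ≫ g) :
    ∃ (Z' : Scheme.{u}) (β : Z' ⟶ Z) (w : Z' ⟶ Y),
      BlowUp.IsEffCartierIdeal (M.comap β) ∧ IsAdmBlowup (M.comap β) M β ∧
      IsAmbient (M.comap β) K w ∧
      w ≫ π ≫ mprodι f g I J ≫ pullback.snd f g = β ≫ a ∧
      w ≫ π ≫ mprodι f g I J ≫ pullback.fst f g = β ≫ b := by
  -- the map to the fibre product and its factorization through the closure of the interior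
  let c₁ : Z ⟶ pullback f g := pullback.lift b a hab
  have hc₁1 : c₁ ≫ pullback.fst f g = b := pullback.lift_fst _ _ _
  have hc₁2 : c₁ ≫ pullback.snd f g = a := pullback.lift_snd _ _ _
  have hZU : interior M ≤ c₁ ⁻¹ᵁ prodInterior f g I J := by
    intro z hz
    refine ⟨?_, ?_⟩
    · change (pullback.fst f g) (c₁ z) ∈ interior I
      rw [← Scheme.Hom.comp_apply, hc₁1]
      exact interior_le_of_isAmbient hb hz
    · change (pullback.snd f g) (c₁ z) ∈ interior J
      rw [← Scheme.Hom.comp_apply, hc₁2]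
      exact interior_le_of_isAmbient ha hz
  have hker := Groth.Agent.Lib.BlowUp.CartierCompl.ker_ι (interior M) rfl hM
  obtain ⟨c₀, hc₀⟩ := exists_factor_image c₁ (prodInterior f g I J) (interior M) hker hZU
  have hc₀' : c₀ ≫ mprodι f g I J = c₁ := hc₀
  -- blow up the pulled-back centre
  obtain ⟨Z', β, hβ⟩ := Groth.Agent.Lib.BlowUp.Exists.exists_isBlowUp Z
    ((prodCentre f g I J).comap c₀)
  have hC' : (prodCentre f g I J).comap c₀ = I.comap b ⊔ J.comap a := by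
    unfold prodCentre
    rw [Scheme.IdealSheafData.comap_sup, ← Scheme.IdealSheafData.comap_comp,
      ← Scheme.IdealSheafData.comap_comp, ← Category.assoc, ← Category.assoc, hc₀', hc₁1, hc₁2]
  have hintC : interior M ≤ interior ((prodCentre f g I J).comap c₀) := by
    rw [hC']
    intro z hz hz'
    have h1 : (I.comap b ⊔ J.comap a).support ≤ (I.comap b).support := by
      rw [Scheme.IdealSheafData.support_sup]; exact inf_le_left
    have h2 : z ∈ interior (I.comap b) := interior_mono hb hz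
    exact h2 (h1 hz')
  have hprop : IsProper β := by
    refine Groth.Agent.Lib.Helper56.BlowUpProper.isProper_of_isBlowUp β _ hβ ?_
    intro z
    rw [hC']
    exact sup_comap_fg J I hT hX b a z
  have hiso : IsIso (β ∣_ interior M) :=
    Groth.Agent.Lib.BlowUp.isIso_morphismRestrict_of_isBlowUp _ β hβ (interior M)
      (fun x hx => hintC hx)
  have hWaff : IsAffineHom (interior M).ι :=
    Groth.Agent.Lib.BlowUp.CartierCompl.isAffineHom_ι (interior M) rfl hM
  have hqc : QuasiCompact (interior M).ι := inferInstance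
  have hsd : IsSchemeTheoreticallyDominant (interior M).ι := ⟨hker⟩
  have hsd' : IsSchemeTheoreticallyDominant (β ⁻¹ᵁ interior M).ι :=
    isSchemeTheoreticallyDominant_preimage_of_isBlowUp β _ hβ (interior M) hintC
  have hM' : BlowUp.IsEffCartierIdeal (M.comap β) :=
    isEffCartierIdeal_comap_of_dominant M hM β
  -- lift to the blow-up `Y`
  have hcart : BlowUp.IsEffCartierIdeal ((prodCentre f g I J).comap (β ≫ c₀)) := by
    rw [Scheme.IdealSheafData.comap_comp]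
    exact hβ.1
  obtain ⟨w, hw, -⟩ := hY.1.2 Z' (β ≫ c₀) hcart
  have hw' : w ≫ π = β ≫ c₀ := hw
  have hwfst : w ≫ π ≫ mprodι f g I J ≫ pullback.fst f g = β ≫ b := by
    rw [← Category.assoc, hw', Category.assoc, ← Category.assoc c₀, hc₀', hc₁1]
  have hwsnd : w ≫ π ≫ mprodι f g I J ≫ pullback.snd f g = β ≫ a := by
    rw [← Category.assoc, hw', Category.assoc, ← Category.assoc c₀, hc₀', hc₁2]
  refine ⟨Z', β, w, hM', ⟨rfl, hprop, hiso⟩, ?_, hwsnd, hwfst⟩
  -- the modulus condition for `w`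
  have hmul := mul_eq J I hT hX f g π K hY
  have hsup := isEffCartierIdeal_sup J I hT hX f g π K hY
  have hI : (I.comap (π ≫ mprodι f g I J ≫ pullback.fst f g)).comap w = I.comap (β ≫ b) := by
    rw [← Scheme.IdealSheafData.comap_comp, hwfst]
  have hJ : (J.comap (π ≫ mprodι f g I J ≫ pullback.snd f g)).comap w = J.comap (β ≫ a) := by
    rw [← Scheme.IdealSheafData.comap_comp, hwsnd]
  have hmul' := congrArg (fun L : Y.IdealSheafData => L.comap w) hmul
  simp only [Groth.Agent.Lib.Helper20.comap_mul, Scheme.IdealSheafData.comap_sup, hI, hJ]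
    at hmul'
  have hE' : BlowUp.IsEffCartierIdeal (I.comap (β ≫ b) ⊔ J.comap (β ≫ a)) := by
    have h := hβ.1
    rw [hC', Scheme.IdealSheafData.comap_sup, ← Scheme.IdealSheafData.comap_comp,
      ← Scheme.IdealSheafData.comap_comp] at h
    exact h
  have hKw : K.comap w = I.comap (β ≫ b) ⊓ J.comap (β ≫ a) :=
    eq_inf_of_mul_sup_eq _ _ _ hE' hmul'
  change M.comap β ≤ K.comap w
  rw [hKw]
  refine le_inf ?_ ?_
  · rw [Scheme.IdealSheafData.comap_comp]
    exact Scheme.IdealSheafData.comap_mono β hb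
  · rw [Scheme.IdealSheafData.comap_comp]
    exact Scheme.IdealSheafData.comap_mono β ha

end

end Groth.Agent.Lib.Helper56.ModPairPullGeo
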