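import Groth.Agent.Lib.Helper56.PhPair
import Groth.Agent.Lib.Helper56.BlowUpProper
import Groth.Agent.Lib.BlowUp.Helper18_Basic

/-!
# ph sheaves and blow-up squares (helper56)

ns `Groth.Agent.Lib.Helper56.PhBlowUp`.
-/

set_option autoImplicit false
universe u
open CategoryTheory CategoryTheory.Limits AlgebraicGeometry TopologicalSpace Opposite

namespace Groth.Agent.Lib.Helper56.PhBlowUp

open Groth.Agent.Lib.Helper56.PhPair

/-- the ideal of a closed immersion of finite presentation is of finite type -/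
theorem ker_ideal_fg {Z X : Scheme.{u}} (i : Z ⟶ X) [IsClosedImmersion i]
    [LocallyOfFinitePresentation i] (U : X.affineOpens) : (i.ker.ideal U).FG := by
  rw [Scheme.Hom.ker_apply]
  have hsurj := i.app_surjective U.1 U.2
  have hfp : (i.app U.1).hom.FinitePresentation := by
    have haff : IsAffineOpen (i ⁻¹ᵁ U.1) := U.2.preimage i
    have := i.finitePresentation_appLE U.2 haff le_rfl
    rwa [Scheme.Hom.appLE_eq_app] at this
  letI := (i.app U.1).hom.toAlgebra
  have : Algebra.FinitePresentation Γ(X, U.1) Γ(Z, i ⁻¹ᵁ U.1) := hfp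
  exact Algebra.FinitePresentation.ker_fG_of_surjective
    (Algebra.ofId Γ(X, U.1) Γ(Z, i ⁻¹ᵁ U.1)) hsurj

/-- a ph sheaf satisfies the sheaf condition for two-member proper jointly surjective families -/
theorem isSheafFor_bool (S : Scheme.{u}) (F : HTop.ShPh S) {X : Over S} (Y : Bool → Over S)
    (g : ∀ j, Y j ⟶ X) [∀ j, IsProper (g j).left]
    (hsurj : ∀ t : X.left, ∃ j, t ∈ Set.range (g j).left) :
    Presieve.IsSheafFor F.obj (Presieve.ofArrows Y g) := by
  have hF : Presieve.IsSheaf (HTop.Jph S) F.obj :=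
    (isSheaf_iff_isSheaf_of_type _ _).mp F.property
  have hmem : Sieve.ofArrows Y g ∈ HTop.Jph S X := by
    rw [GrothendieckTopology.mem_over_iff, Sieve.overEquiv_ofArrows]
    apply Precoverage.generate_mem_toGrothendieck
    exact (HTop.presieve₀_mem_phPrecoverage_iff _).mpr
      (isPhCover_bool (fun j => (Y j).left) (fun j => (g j).left) hsurj)
  have := hF _ hmem
  rwa [Sieve.ofArrows, ← Presieve.isSheafFor_iff_generate] at this

section geometry

variable {S : Scheme.{u}} {Z X' X : Over S} (b : X' ⟶ X) (i : Z ⟶ X)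
  [IsClosedImmersion i.left] [LocallyOfFinitePresentation i.left]

theorem isProper_blowUp (hb : BlowUp.IsBlowUp b.left i.left.ker) : IsProper b.left :=
  Groth.Agent.Lib.Helper56.BlowUpProper.isProper_of_isBlowUp b.left i.left.ker hb (fun x => by
    obtain ⟨_, ⟨U, hU, rfl⟩, hxU, -⟩ :=
      (Scheme.isBasis_affineOpens X.left).exists_subset_of_mem_open (Set.mem_univ x) isOpen_univ
    exact ⟨⟨U, hU⟩, hxU, ker_ideal_fg i.left ⟨U, hU⟩⟩)

/-- the open complement of the centre -/
noncomputable def compl : X.left.Opens :=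
  ⟨(Set.range i.left)ᶜ, i.left.isClosedEmbedding.isClosed_range.isOpen_compl⟩

theorem isIso_restrict_compl (hb : BlowUp.IsBlowUp b.left i.left.ker) :
    IsIso (b.left ∣_ compl i) := by
  have hsupp : (i.left.ker.support : Set X.left) = Set.range i.left := by
    rw [Scheme.Hom.support_ker, i.left.isClosedEmbedding.isClosed_range.closure_eq]
  refine Groth.Agent.Lib.BlowUp.isIso_morphismRestrict_of_isBlowUp i.left.ker b.left hb (compl i)
    (fun z hz hz' => ?_)
  have : z ∈ (i.left.ker.support : Set X.left) := hz'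
  rw [hsupp] at this
  exact hz this

theorem mem_range_of_notMem_range (hb : BlowUp.IsBlowUp b.left i.left.ker) (x : X.left)
    (hx : x ∉ Set.range i.left) : x ∈ Set.range b.left := by
  have hiso := isIso_restrict_compl b i hb
  have hxU : x ∈ compl i := hx
  let y := (inv (b.left ∣_ compl i)) ⟨x, hxU⟩
  have hy : (b.left ∣_ compl i) y = ⟨x, hxU⟩ := by
    show (b.left ∣_ compl i) ((inv (b.left ∣_ compl i)) ⟨x, hxU⟩) = _
    rw [← Scheme.Hom.comp_apply, IsIso.inv_hom_id]
    rfl
  refine ⟨y.1, ?_⟩
  rw [← morphismRestrict_base_coe, hy]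

theorem eq_of_comp_eq_of_notMem (hb : BlowUp.IsBlowUp b.left i.left.ker) {T : Scheme.{u}}
    (α₁ α₂ : T ⟶ X'.left) (h : α₁ ≫ b.left = α₂ ≫ b.left)
    (hT : ∀ t : T, (α₁ ≫ b.left) t ∉ Set.range i.left) : α₁ = α₂ := by
  have hiso := isIso_restrict_compl b i hb
  have hr : ∀ α : T ⟶ X'.left, α ≫ b.left = α₁ ≫ b.left →
      Set.range α ⊆ Set.range (b.left ⁻¹ᵁ compl i).ι := by
    intro α hα
    rintro _ ⟨t, rfl⟩
    rw [Scheme.Opens.range_ι]
    show b.left (α t) ∈ compl i
    rw [← Scheme.Hom.comp_apply, hα]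
    exact hT t
  let β₁ := IsOpenImmersion.lift (b.left ⁻¹ᵁ compl i).ι α₁ (hr α₁ rfl)
  let β₂ := IsOpenImmersion.lift (b.left ⁻¹ᵁ compl i).ι α₂ (hr α₂ h.symm)
  have hβ₁ : β₁ ≫ (b.left ⁻¹ᵁ compl i).ι = α₁ := IsOpenImmersion.lift_fac _ _ _
  have hβ₂ : β₂ ≫ (b.left ⁻¹ᵁ compl i).ι = α₂ := IsOpenImmersion.lift_fac _ _ _
  have h1 : β₁ ≫ (b.left ∣_ compl i) = β₂ ≫ (b.left ∣_ compl i) := by
    rw [← cancel_mono (compl i).ι, Category.assoc, Category.assoc, morphismRestrict_ι,
      ← Category.assoc, ← Category.assoc, hβ₁, hβ₂, h]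
  have h2 : β₁ = β₂ := (cancel_mono _).mp h1
  rw [← hβ₁, ← hβ₂, h2]

end geometry

section main

variable (S : Scheme.{u}) (F : HTop.ShPh S) {E Z X' X : Over S} (e : E ⟶ X') (π : E ⟶ Z)
  (b : X' ⟶ X) (i : Z ⟶ X) [IsClosedImmersion i.left] [LocallyOfFinitePresentation i.left]

omit [IsClosedImmersion i.left] [LocallyOfFinitePresentation i.left] in
theorem map_comp_apply' {A B C : Over S} (f : A ⟶ B) (g : B ⟶ C) (x : F.obj.obj (op C)) :
    F.obj.map (f ≫ g).op x = F.obj.map f.op (F.obj.map g.op x) := by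
  rw [op_comp, FunctorToTypes.map_comp_apply]

theorem cartesian (hb : BlowUp.IsBlowUp b.left i.left.ker)
    (hE : IsPullback e.left π.left b.left i.left)
    (t : F.obj.obj (op Z)) (s' : F.obj.obj (op X')) (hts : F.obj.map π.op t = F.obj.map e.op s') :
    ∃! s : F.obj.obj (op X), F.obj.map i.op s = t ∧ F.obj.map b.op s = s' := by
  haveI hbp : IsProper b.left := isProper_blowUp b i hb
  -- the kernel pair
  let P₂ : Over S := Over.mk (pullback.fst b.left b.left ≫ X'.hom)
  let p₁ : P₂ ⟶ X' := Over.homMk (pullback.fst b.left b.left) rfl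
  have hw₂ : pullback.snd b.left b.left ≫ X'.hom = pullback.fst b.left b.left ≫ X'.hom := by
    rw [← Over.w b, ← Category.assoc, ← Category.assoc, pullback.condition]
  let p₂ : P₂ ⟶ X' := Over.homMk (pullback.snd b.left b.left) hw₂
  have key : F.obj.map p₁.op s' = F.obj.map p₂.op s' := by
    let W₂ : Over S :=
      Over.mk (pullback.snd (pullback.fst b.left b.left ≫ b.left) i.left ≫ Z.hom)
    have hj₂w : pullback.fst (pullback.fst b.left b.left ≫ b.left) i.left ≫ P₂.hom = W₂.hom := by
      have h := pullback.condition (f := pullback.fst b.left b.left ≫ b.left) (g := i.left)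
      calc pullback.fst (pullback.fst b.left b.left ≫ b.left) i.left ≫
            (pullback.fst b.left b.left ≫ X'.hom)
          = (pullback.fst (pullback.fst b.left b.left ≫ b.left) i.left ≫
              (pullback.fst b.left b.left ≫ b.left)) ≫ X.hom := by
            rw [← Over.w b]
            simp only [Category.assoc]
        _ = (pullback.snd (pullback.fst b.left b.left ≫ b.left) i.left ≫ i.left) ≫ X.hom := by
            rw [h]
        _ = pullback.snd (pullback.fst b.left b.left ≫ b.left) i.left ≫ Z.hom := by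
            rw [Category.assoc, Over.w i]
    let j₂ : W₂ ⟶ P₂ :=
      Over.homMk (pullback.fst (pullback.fst b.left b.left ≫ b.left) i.left) hj₂w
    let ζ : W₂ ⟶ Z :=
      Over.homMk (pullback.snd (pullback.fst b.left b.left ≫ b.left) i.left) rfl
    have hΔw : pullback.diagonal b.left ≫ P₂.hom = X'.hom := by
      show _ ≫ (pullback.fst b.left b.left ≫ X'.hom) = _
      rw [← Category.assoc, pullback.diagonal_fst, Category.id_comp]
    let Δ : X' ⟶ P₂ := Over.homMk (pullback.diagonal b.left) hΔw
    let Y₂ : Bool → Over S := fun j => Bool.rec W₂ X' j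
    let g₂ : ∀ j, Y₂ j ⟶ P₂ :=
      fun j => Bool.rec (motive := fun j => (Bool.rec W₂ X' j : Over S) ⟶ P₂) j₂ Δ j
    haveI : ∀ j, IsProper (g₂ j).left := by
      intro j
      cases j
      · show IsProper (pullback.fst (pullback.fst b.left b.left ≫ b.left) i.left)
        infer_instance
      · show IsProper (pullback.diagonal b.left)
        infer_instance
    have hsurj₂ : ∀ w : P₂.left, ∃ j, w ∈ Set.range (g₂ j).left := by
      intro w
      by_cases hw : (pullback.fst b.left b.left ≫ b.left) w ∈ Set.range i.left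
      · obtain ⟨z, hz⟩ := hw
        obtain ⟨w', hw'1, -⟩ := Scheme.Pullback.exists_preimage_pullback
          (f := pullback.fst b.left b.left ≫ b.left) (g := i.left) w z hz.symm
        exact ⟨false, w', hw'1⟩
      · refine ⟨true, ?_⟩
        let O : (pullback b.left b.left).Opens :=
          (pullback.fst b.left b.left ≫ b.left) ⁻¹ᵁ compl i
        have hα : O.ι ≫ pullback.fst b.left b.left = O.ι ≫ pullback.snd b.left b.left := by
          apply eq_of_comp_eq_of_notMem b i hb
          · rw [Category.assoc, Category.assoc, pullback.condition]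
          · intro t
            rw [Category.assoc]
            exact t.2
        have hι : O.ι = (O.ι ≫ pullback.fst b.left b.left) ≫ pullback.diagonal b.left := by
          apply pullback.hom_ext
          · rw [Category.assoc, pullback.diagonal_fst, Category.comp_id]
          · rw [Category.assoc, pullback.diagonal_snd, Category.comp_id, hα]
        have hwO : w ∈ O := hw
        refine ⟨(O.ι ≫ pullback.fst b.left b.left) ⟨w, hwO⟩, ?_⟩
        show (pullback.diagonal b.left) ((O.ι ≫ pullback.fst b.left b.left) ⟨w, hwO⟩) = w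
        rw [← Scheme.Hom.comp_apply, ← hι]
        rfl
    have hsh₂ := isSheafFor_bool S F Y₂ g₂ hsurj₂
    apply hsh₂.isSeparatedFor.ext
    rintro _ _ ⟨j⟩
    cases j
    · show F.obj.map j₂.op (F.obj.map p₁.op s') = F.obj.map j₂.op (F.obj.map p₂.op s')
      have hc₁ : (j₂.left ≫ p₁.left) ≫ b.left = ζ.left ≫ i.left := by
        show (pullback.fst (pullback.fst b.left b.left ≫ b.left) i.left ≫
          pullback.fst b.left b.left) ≫ b.left =
          pullback.snd (pullback.fst b.left b.left ≫ b.left) i.left ≫ i.left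
        rw [Category.assoc]
        exact pullback.condition
      have hc₂ : (j₂.left ≫ p₂.left) ≫ b.left = ζ.left ≫ i.left := by
        have h : (j₂.left ≫ p₂.left) ≫ b.left = (j₂.left ≫ p₁.left) ≫ b.left := by
          show (pullback.fst (pullback.fst b.left b.left ≫ b.left) i.left ≫
            pullback.snd b.left b.left) ≫ b.left =
            (pullback.fst (pullback.fst b.left b.left ≫ b.left) i.left ≫
              pullback.fst b.left b.left) ≫ b.left
          rw [Category.assoc, Category.assoc, pullback.condition]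
        exact h.trans hc₁
      have hEw : ∀ (l : W₂.left ⟶ E.left), l ≫ π.left = ζ.left → l ≫ E.hom = W₂.hom := by
        intro l hl
        rw [← Over.w π, ← Category.assoc, hl]
        rfl
      let l₁ : W₂ ⟶ E := Over.homMk (hE.lift (j₂.left ≫ p₁.left) ζ.left hc₁)
        (hEw _ (hE.lift_snd _ _ _))
      let l₂ : W₂ ⟶ E := Over.homMk (hE.lift (j₂.left ≫ p₂.left) ζ.left hc₂)
        (hEw _ (hE.lift_snd _ _ _))
      have h₁e : l₁ ≫ e = j₂ ≫ p₁ := Over.OverMorphism.ext (hE.lift_fst _ _ _)
      have h₁π : l₁ ≫ π = ζ := Over.OverMorphism.ext (hE.lift_snd _ _ _)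
      have h₂e : l₂ ≫ e = j₂ ≫ p₂ := Over.OverMorphism.ext (hE.lift_fst _ _ _)
      have h₂π : l₂ ≫ π = ζ := Over.OverMorphism.ext (hE.lift_snd _ _ _)
      rw [← map_comp_apply', ← map_comp_apply', ← h₁e, ← h₂e, map_comp_apply', map_comp_apply',
        ← hts, ← map_comp_apply', ← map_comp_apply', h₁π, h₂π]
    · show F.obj.map Δ.op (F.obj.map p₁.op s') = F.obj.map Δ.op (F.obj.map p₂.op s')
      have h1 : Δ ≫ p₁ = 𝟙 X' := Over.OverMorphism.ext (pullback.diagonal_fst _)
      have h2 : Δ ≫ p₂ = 𝟙 X' := Over.OverMorphism.ext (pullback.diagonal_snd _)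
      rw [← map_comp_apply', ← map_comp_apply', h1, h2]
  -- the covering family of `X`
  let Y₁ : Bool → Over S := fun j => Bool.rec Z X' j
  let g₁ : ∀ j, Y₁ j ⟶ X :=
    fun j => Bool.rec (motive := fun j => (Bool.rec Z X' j : Over S) ⟶ X) i b j
  haveI : ∀ j, IsProper (g₁ j).left := by
    intro j
    cases j
    · show IsProper i.left
      infer_instance
    · exact hbp
  have hsurj₁ : ∀ x : X.left, ∃ j, x ∈ Set.range (g₁ j).left := by
    intro x
    by_cases hx : x ∈ Set.range i.left
    · exact ⟨false, hx⟩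
    · exact ⟨true, mem_range_of_notMem_range b i hb x hx⟩
  have hsh₁ := isSheafFor_bool S F Y₁ g₁ hsurj₁
  rw [Presieve.isSheafFor_arrows_iff] at hsh₁
  let x₁ : ∀ j, F.obj.obj (op (Y₁ j)) :=
    fun j => Bool.rec (motive := fun j => F.obj.obj (op (Bool.rec Z X' j : Over S))) t s' j
  have hmono : Mono i := by
    haveI : Mono i.left := inferInstance
    exact Over.mono_of_mono_left i
  have hcompat : Presieve.Arrows.Compatible F.obj g₁ x₁ := by
    intro j k W gj gk hjk
    have hEw : ∀ (l : W.left ⟶ E.left) (gZ : W ⟶ Z), l ≫ π.left = gZ.left →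
        l ≫ E.hom = W.hom := by
      intro l gZ hl
      rw [← Over.w π, ← Category.assoc, hl, Over.w]
    cases j <;> cases k
    · have : gj = gk := (cancel_mono i).mp hjk
      rw [this]
    · have hc : gk.left ≫ b.left = gj.left ≫ i.left := (congrArg CommaMorphism.left hjk).symm
      let l' : W ⟶ E := Over.homMk (hE.lift gk.left gj.left hc) (hEw _ gj (hE.lift_snd _ _ _))
      have he : l' ≫ e = gk := Over.OverMorphism.ext (hE.lift_fst _ _ _)
      have hπ : l' ≫ π = gj := Over.OverMorphism.ext (hE.lift_snd _ _ _)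
      show F.obj.map gj.op t = F.obj.map gk.op s'
      rw [← he, ← hπ, map_comp_apply', map_comp_apply', hts]
    · have hc : gj.left ≫ b.left = gk.left ≫ i.left := congrArg CommaMorphism.left hjk
      let l' : W ⟶ E := Over.homMk (hE.lift gj.left gk.left hc) (hEw _ gk (hE.lift_snd _ _ _))
      have he : l' ≫ e = gj := Over.OverMorphism.ext (hE.lift_fst _ _ _)
      have hπ : l' ≫ π = gk := Over.OverMorphism.ext (hE.lift_snd _ _ _)
      show F.obj.map gj.op s' = F.obj.map gk.op t
      rw [← he, ← hπ, map_comp_apply', map_comp_apply', hts]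
    · have hc : gj.left ≫ b.left = gk.left ≫ b.left := congrArg CommaMorphism.left hjk
      have hlw : pullback.lift gj.left gk.left hc ≫ P₂.hom = W.hom := by
        show _ ≫ (pullback.fst b.left b.left ≫ X'.hom) = _
        rw [← Category.assoc, pullback.lift_fst, Over.w]
      let l : W ⟶ P₂ := Over.homMk (pullback.lift gj.left gk.left hc) hlw
      have h1 : l ≫ p₁ = gj := Over.OverMorphism.ext (pullback.lift_fst _ _ _)
      have h2 : l ≫ p₂ = gk := Over.OverMorphism.ext (pullback.lift_snd _ _ _)
      show F.obj.map gj.op s' = F.obj.map gk.op s'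
      rw [← h1, ← h2, map_comp_apply', map_comp_apply', key]
  obtain ⟨s, hs, hs'⟩ := hsh₁ x₁ hcompat
  refine ⟨s, ⟨hs false, hs true⟩, ?_⟩
  rintro s₂ ⟨h₂i, h₂b⟩
  apply hs'
  intro j
  cases j
  · exact h₂i
  · exact h₂b

end main

end Groth.Agent.Lib.Helper56.PhBlowUp
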