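import Groth.Agent.Lib.Helper38.HTopSheaf
import Groth.Prelude.Def_HTop

/-!
# Two-member ph coverings by proper morphisms (helper56)

ns `Groth.Agent.Lib.Helper56.PhPair`.
-/

set_option autoImplicit false
universe u
open CategoryTheory CategoryTheory.Limits AlgebraicGeometry TopologicalSpace Opposite

namespace Groth.Agent.Lib.Helper56.PhPair

theorem isProper_coprodMap {X Y X' Y' : Scheme.{u}} (f : X ⟶ X') (g : Y ⟶ Y')
    [IsProper f] [IsProper g] : IsProper (coprod.map f g) := by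
  rw [IsZariskiLocalAtTarget.iff_of_openCover (P := @IsProper) (coprodOpenCover.{u, 0} X' Y')]
  rintro (⟨⟩ | ⟨⟩)
  · show IsProper (pullback.snd (coprod.map f g) coprod.inl)
    rw [← (isPullback_inl_inl_coprodMap f g).flip.isoPullback_inv_snd]
    infer_instance
  · show IsProper (pullback.snd (coprod.map f g) coprod.inr)
    rw [← (isPullback_inr_inr_coprodMap f g).flip.isoPullback_inv_snd]
    infer_instance

theorem isProper_coprodDesc {X Y T : Scheme.{u}} (f : X ⟶ T) (g : Y ⟶ T)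
    [IsProper f] [IsProper g] : IsProper (coprod.desc f g) := by
  have h : coprod.desc f g = coprod.map f g ≫ coprod.desc (𝟙 T) (𝟙 T) := by
    ext <;> simp
  rw [h]
  have := isProper_coprodMap f g
  infer_instance

theorem surjective_coprodDesc {X Y T : Scheme.{u}} (f : X ⟶ T) (g : Y ⟶ T)
    (h : ∀ t : T, t ∈ Set.range f ∨ t ∈ Set.range g) : Surjective (coprod.desc f g) := by
  refine ⟨fun t => ?_⟩
  rcases h t with ⟨x, rfl⟩ | ⟨y, rfl⟩
  · refine ⟨(coprod.inl : X ⟶ X ⨿ Y) x, ?_⟩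
    rw [← Scheme.Hom.comp_apply, coprod.inl_desc]
  · refine ⟨(coprod.inr : Y ⟶ X ⨿ Y) y, ?_⟩
    rw [← Scheme.Hom.comp_apply, coprod.inr_desc]

/-- a two-member family of proper, jointly surjective morphisms is a ph covering -/
theorem isPhCover_bool {T : Scheme.{u}} (Y : Bool → Scheme.{u}) (f : ∀ j, Y j ⟶ T)
    [hp : ∀ j, IsProper (f j)] (hsurj : ∀ t : T, ∃ j, t ∈ Set.range (f j)) :
    HTop.IsPhCover ({ I₀ := Bool, X := Y, f := f } : PreZeroHypercover.{0} T) := by
  refine ⟨fun j => inferInstanceAs (LocallyOfFiniteType (f j)), ?_⟩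
  intro U
  have hUaff : IsAffine ((U : T.Opens) : Scheme.{u}) := U.2
  have hc : ∀ j, IsCompact (((f j) ⁻¹ᵁ (U : T.Opens) : (Y j).Opens) : Set (Y j)) :=
    fun j => (f j).isCompact_preimage U.2.isCompact
  choose Us hUs hUf hUc using
    fun j => (Y j).isBasis_affineOpens.exists_finite_of_isCompact (hc j)
  have hfin : ∀ j, Finite (Us j) := fun j => (hUf j).to_subtype
  choose n hn using fun j => Finite.exists_equiv_fin (Us j)
  let e : ∀ j, Us j ≃ Fin (n j) := fun j => (hn j).some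
  have hle : ∀ (j : Bool) (k : Fin (n j)),
      (((e j).symm k).1 : (Y j).Opens) ≤ (f j) ⁻¹ᵁ (U : T.Opens) := by
    intro j k
    rw [hUc j]
    exact le_sSup ((e j).symm k).2
  let F : PreZeroHypercover.{0} ((U : T.Opens) : Scheme.{u}) :=
    { I₀ := Σ j : Bool, Fin (n j)
      X := fun jk => ((((e jk.1).symm jk.2).1 : (Y jk.1).Opens) : Scheme.{u})
      f := fun jk => (f jk.1).resLE (U : T.Opens) ((e jk.1).symm jk.2).1 (hle jk.1 jk.2) }
  let inj : ∀ j : Bool, (((f j) ⁻¹ᵁ (U : T.Opens) : (Y j).Opens) : Scheme.{u}) ⟶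
      ((((f true) ⁻¹ᵁ (U : T.Opens) : (Y true).Opens) : Scheme.{u}) ⨿
        (((f false) ⁻¹ᵁ (U : T.Opens) : (Y false).Opens) : Scheme.{u})) :=
    fun j => match j with
      | true => coprod.inl
      | false => coprod.inr
  have hinj : ∀ j, IsOpenImmersion (inj j) := by
    intro j
    cases j
    · dsimp only [inj]
      infer_instance
    · dsimp only [inj]
      infer_instance
  have hinjdesc : ∀ j, inj j ≫ coprod.desc ((f true) ∣_ (U : T.Opens)) ((f false) ∣_ (U : T.Opens)) =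
      (f j) ∣_ (U : T.Opens) := by
    intro j
    cases j
    · exact coprod.inr_desc _ _
    · exact coprod.inl_desc _ _
  refine ⟨F, ⟨hUaff, inferInstanceAs (Finite (Σ j : Bool, Fin (n j))),
    fun jk => hUs jk.1 ((e jk.1).symm jk.2).2, ?_⟩, ?_⟩
  · have hprop : IsProper (coprod.desc ((f true) ∣_ (U : T.Opens)) ((f false) ∣_ (U : T.Opens))) :=
      isProper_coprodDesc _ _
    have hsj : Surjective (coprod.desc ((f true) ∣_ (U : T.Opens)) ((f false) ∣_ (U : T.Opens))) := by
      apply surjective_coprodDesc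
      intro t
      obtain ⟨j, x, hx⟩ := hsurj t.1
      have hxU : x ∈ (f j) ⁻¹ᵁ (U : T.Opens) := by
        show f j x ∈ (U : T.Opens)
        rw [hx]; exact t.2
      have h1 : ((f j) ∣_ (U : T.Opens)) ⟨x, hxU⟩ = t :=
        Subtype.ext ((morphismRestrict_base_coe (f j) (U : T.Opens) ⟨x, hxU⟩).trans hx)
      cases j
      · exact Or.inr ⟨⟨x, hxU⟩, h1⟩
      · exact Or.inl ⟨⟨x, hxU⟩, h1⟩
    refine ⟨_, coprod.desc ((f true) ∣_ (U : T.Opens)) ((f false) ∣_ (U : T.Opens)),
      fun jk => (Y jk.1).homOfLE (hle jk.1 jk.2) ≫ inj jk.1, hprop, hsj, fun jk => ?_,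
      fun jk => ?_, ?_⟩
    · have := hinj jk.1
      infer_instance
    · rw [Category.assoc, hinjdesc]
      rfl
    · intro x
      obtain ⟨x | x, rfl⟩ := (coprodMk _ _).surjective x
      · obtain ⟨x, hx⟩ := x
        have hx' : x ∈ (f true) ⁻¹ᵁ (U : T.Opens) := hx
        rw [hUc true] at hx'
        obtain ⟨A, hA, hxA⟩ := TopologicalSpace.Opens.mem_sSup.mp hx'
        refine ⟨⟨true, e true ⟨A, hA⟩⟩, ?_⟩
        have hk : (((e true).symm (e true ⟨A, hA⟩)).1 : (Y true).Opens) = A := by simp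
        have hxA' : x ∈ (((e true).symm (e true ⟨A, hA⟩)).1 : (Y true).Opens) := by
          rw [hk]; exact hxA
        refine ⟨⟨x, hxA'⟩, ?_⟩
        rw [coprodMk_inl, Scheme.Hom.comp_apply]
        congr 1
        exact (Y true).homOfLE_apply' (hle true _) x hxA'
      · obtain ⟨x, hx⟩ := x
        have hx' : x ∈ (f false) ⁻¹ᵁ (U : T.Opens) := hx
        rw [hUc false] at hx'
        obtain ⟨A, hA, hxA⟩ := TopologicalSpace.Opens.mem_sSup.mp hx'
        refine ⟨⟨false, e false ⟨A, hA⟩⟩, ?_⟩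
        have hk : (((e false).symm (e false ⟨A, hA⟩)).1 : (Y false).Opens) = A := by simp
        have hxA' : x ∈ (((e false).symm (e false ⟨A, hA⟩)).1 : (Y false).Opens) := by
          rw [hk]; exact hxA
        refine ⟨⟨x, hxA'⟩, ?_⟩
        rw [coprodMk_inr, Scheme.Hom.comp_apply]
        congr 1
        exact (Y false).homOfLE_apply' (hle false _) x hxA'
  · intro jk
    refine ⟨jk.1, Scheme.Opens.ι (X := Y jk.1) ((e jk.1).symm jk.2).1, ?_⟩
    show _ ≫ f jk.1 = (f jk.1).resLE (U : T.Opens) ((e jk.1).symm jk.2).1 (hle jk.1 jk.2) ≫ _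
    rw [Scheme.Hom.resLE_comp_ι]

end Groth.Agent.Lib.Helper56.PhPair
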