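import Groth.Agent.Lib.Ample.Helper50_MulSec
import Groth.Agent.Lib.Proj.PullSec
import Groth.Agent.Lib.QCoh.Helper50_PullbackSections
import Groth.Agent.Lib.QCoh.TensorPic

universe u

open CategoryTheory MonoidalCategory Opposite TensorProduct AlgebraicGeometry TopologicalSpace

namespace Groth.Agent.Lib.Helper56.PullTensor

open Groth.Agent.Lib.QCoh Groth.Agent.Lib.Ample CohB1 Scheme.Modules Groth.Agent.Lib.Proj.PullSec

variable {X Y : Scheme.{u}} (f : X ⟶ Y) (L M : Y.Modules)

/-- the target `f^*L ⊗ f^*M` -/
noncomputable abbrev tgt : X.Modules :=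
  tensorMod ((Scheme.Modules.pullback f).obj L) ((Scheme.Modules.pullback f).obj M)

/-- `(l, m) ↦ η(l) ⊗ η(m)` on sections over `V` -/
noncomputable def preFun (V : Y.Opens) (l : Γ(L, V)) (m : Γ(M, V)) : Γ(tgt f L M, f ⁻¹ᵁ V) :=
  tmulSect _ _ (pullSecOn f L V l) (pullSecOn f M V m)

lemma preFun_add_left (V : Y.Opens) (l l' : Γ(L, V)) (m : Γ(M, V)) :
    preFun f L M V (l + l') m = preFun f L M V l m + preFun f L M V l' m := by
  unfold preFun
  rw [map_add, tmulSect_add_left]

lemma preFun_add_right (V : Y.Opens) (l : Γ(L, V)) (m m' : Γ(M, V)) :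
    preFun f L M V l (m + m') = preFun f L M V l m + preFun f L M V l m' := by
  unfold preFun
  rw [map_add, tmulSect_add_right]

lemma preFun_smul_left (V : Y.Opens) (a : Γ(Y, V)) (l : Γ(L, V)) (m : Γ(M, V)) :
    preFun f L M V (a • l) m = (f.app V).hom a • preFun f L M V l m := by
  unfold preFun
  rw [pullSecOn_smul, tmulSect_smul_left]

lemma preFun_smul_right (V : Y.Opens) (a : Γ(Y, V)) (l : Γ(L, V)) (m : Γ(M, V)) :
    preFun f L M V l (a • m) = (f.app V).hom a • preFun f L M V l m := by
  unfold preFun
  rw [pullSecOn_smul, tmulSect_smul_right]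

lemma preFun_res {V W : Y.Opens} (h : W ≤ V) (l : Γ(L, V)) (m : Γ(M, V)) :
    resSec (tgt f L M) ((Opens.map f.base).map (homOfLE h)).le (preFun f L M V l m) =
      preFun f L M W (resSec L h l) (resSec M h m) := by
  unfold preFun
  rw [← pullSecOn_res, ← pullSecOn_res]
  exact tmulSect_res _ _ _


/-- the target presheaf of modules -/
noncomputable abbrev tgtPre : PM Y := (incl Y).obj ((pushforward f).obj (tgt f L M))

/-- the component over `V` of the bilinear comparison -/
noncomputable def preApp (V : Y.Opens) :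
    (preTensor L M).obj (op V) ⟶ (tgtPre f L M).obj (op V) :=
  ModuleCat.MonoidalCategory.tensorLift
    (M₁ := ((incl Y).obj L).obj (op V)) (M₂ := ((incl Y).obj M).obj (op V))
    (M₃ := (tgtPre f L M).obj (op V))
    (fun l m => preFun f L M V l m)
    (fun l l' m => preFun_add_left f L M V l l' m)
    (fun a l m => preFun_smul_left f L M V a l m)
    (fun l m m' => preFun_add_right f L M V l m m')
    (fun a l m => preFun_smul_right f L M V a l m)

lemma preApp_tmul (V : Y.Opens) (l : Γ(L, V)) (m : Γ(M, V)) :
    (preApp f L M V).hom ((show (((incl Y).obj L).obj (op V) : Type u) from l) ⊗ₜ[Γ(Y, V)]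
      (show (((incl Y).obj M).obj (op V) : Type u) from m)) = preFun f L M V l m := rfl

/-- the morphism of presheaves of modules `L ⊗ M ⟶ f_*(f^*L ⊗ f^*M)` -/
noncomputable def preHom : preTensor L M ⟶ tgtPre f L M where
  app V := preApp f L M V.unop
  naturality := by
    intro V W i
    refine ModuleCat.MonoidalCategory.tensor_ext (fun l m => ?_)
    exact (preFun_res f L M i.unop.le l m).symm


/-- the adjoint `L ⊗ M ⟶ f_*(f^*L ⊗ f^*M)` -/
noncomputable def adjHom : tensorMod L M ⟶ (pushforward f).obj (tgt f L M) :=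
  show (shf Y).obj (preTensor L M) ⟶ (pushforward f).obj (tgt f L M) from
  ((shfAdj Y).homEquiv (preTensor L M) ((pushforward f).obj (tgt f L M))).symm (preHom f L M)

/-- **the comparison map** `f^*(L ⊗ M) ⟶ f^*L ⊗ f^*M` -/
noncomputable def comparison :
    (Scheme.Modules.pullback f).obj (tensorMod L M) ⟶ tgt f L M :=
  ((pullbackPushforwardAdjunction f).homEquiv _ _).symm (adjHom f L M)

lemma unit_comp_comparison :
    (pullbackPushforwardAdjunction f).unit.app (tensorMod L M) ≫
      (pushforward f).map (comparison f L M) = adjHom f L M := by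
  have h := (pullbackPushforwardAdjunction f).homEquiv_unit (f := comparison f L M)
  rw [← h]
  exact Equiv.apply_symm_apply _ _

lemma tensorUnit_comp_adjHom :
    tensorUnit L M ≫ (incl Y).map (adjHom f L M) = preHom f L M := by
  have e : (shfAdj Y).homEquiv (preTensor L M) ((pushforward f).obj (tgt f L M))
      (((shfAdj Y).homEquiv (preTensor L M) ((pushforward f).obj (tgt f L M))).symm
        (preHom f L M)) = preHom f L M := Equiv.apply_symm_apply _ _
  rw [Adjunction.homEquiv_unit] at e
  exact e

lemma adjHom_tmulSect (V : Y.Opens) (l : Γ(L, V)) (m : Γ(M, V)) :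
    ((adjHom f L M).app V).hom (tmulSect L M l m) = preFun f L M V l m := by
  have h := tensorUnit_comp_adjHom f L M
  have h2 := congrArg (fun k => k.app (op V)) h
  have h3 := congr($h2 ((show (((incl Y).obj L).obj (op V) : Type u) from l) ⊗ₜ[Γ(Y, V)]
      (show (((incl Y).obj M).obj (op V) : Type u) from m)))
  exact h3

/-- **key computation**: the comparison map sends `η(l ⊗ m)` to `η(l) ⊗ η(m)`. -/
theorem comparison_pullSecOn_tmulSect (V : Y.Opens) (l : Γ(L, V)) (m : Γ(M, V)) :
    ((comparison f L M).app (f ⁻¹ᵁ V)).hom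
      (pullSecOn f (tensorMod L M) V (tmulSect L M l m)) =
      tmulSect _ _ (pullSecOn f L V l) (pullSecOn f M V m) := by
  have h := unit_comp_comparison f L M
  have h2 := congrArg (fun k => (Hom.app k V).hom (tmulSect L M l m)) h
  exact h2.trans (adjHom_tmulSect f L M V l m)

end Groth.Agent.Lib.Helper56.PullTensor
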