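import Groth.Agent.Lib.Helper56.PullTensorB
import Groth.Agent.Lib.Ample.Basis

/-!
# Pullbacks of ample modules (helper56), part C: absolute statements

ns `Groth.Agent.Lib.Helper56.PullTensor`.
* `isAmple_pullback_of_isEmbedding` : `i : X' ⟶ X` a topological embedding, `X'` quasi-compact,
  `L` ample ⟹ `i^*L` ample (EGA II 4.5.13 / Stacks 0892).
* `isAmple_pullback_of_isAffineHom` : `f` affine, `L` ample ⟹ `f^*L` ample.
-/

universe u

open CategoryTheory AlgebraicGeometry TopologicalSpace

namespace Groth.Agent.Lib.Helper56.PullTensor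

open Groth.Agent.Lib.QCoh Groth.Agent.Lib.Ample CohB1 Scheme.Modules

variable {X X' : Scheme.{u}}

/-- pullback of an ample module along a topological embedding from a quasi-compact scheme -/
theorem isAmple_pullback_of_isEmbedding (i : X' ⟶ X) [CompactSpace X']
    (hi : Topology.IsEmbedding i.base) {L : X.Modules} (hL : CohB1.IsAmple L) :
    CohB1.IsAmple ((Scheme.Modules.pullback i).obj L) := by
  refine isAmple_of_isBasis_genLocus (isInvertible_pullback i hL.1) ?_
  rw [Opens.isBasis_iff_nbhd]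
  intro W' x' hx'
  obtain ⟨W, hWo, hW⟩ := hi.isInducing.isOpen_iff.mp W'.2
  have hxW : i.base x' ∈ (⟨W, hWo⟩ : X.Opens) := by
    have h1 : x' ∈ i.base ⁻¹' W := by rw [hW]; exact hx'
    exact h1
  obtain ⟨N, t, hx, hle, -⟩ := exists_genLocus_le_of_isAmple hL (i.base x') ⟨W, hWo⟩ hxW
  refine ⟨_, ⟨N, pullPowSec i hL.1 (N + 1) t, rfl⟩, ?_, ?_⟩
  · rw [genLocus_pullPowSec]; exact hx
  · rw [genLocus_pullPowSec]
    intro z hz
    have h1 : i.base z ∈ (⟨W, hWo⟩ : X.Opens) := hle hz
    have h2 : z ∈ i.base ⁻¹' W := h1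
    rw [hW] at h2
    exact h2

/-- pullback of an ample module along an affine morphism -/
theorem isAmple_pullback_of_isAffineHom (f : X' ⟶ X) [IsAffineHom f] {L : X.Modules}
    (hL : CohB1.IsAmple L) : CohB1.IsAmple ((Scheme.Modules.pullback f).obj L) := by
  have hc : CompactSpace X := hL.2.1
  have hc' : CompactSpace X' := QuasiCompact.compactSpace_of_compactSpace f
  refine ⟨isInvertible_pullback f hL.1, hc', fun x' => ?_⟩
  obtain ⟨n, s, hxs, haff⟩ := hL.2.2 (f.base x')
  refine ⟨n, pullPowSec f hL.1 (n + 1) s, ?_, ?_⟩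
  · rw [genLocus_pullPowSec]; exact hxs
  · rw [genLocus_pullPowSec]; exact haff.preimage f

end Groth.Agent.Lib.Helper56.PullTensor
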