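import Groth.Agent.Lib.Helper56.PullTensorC
import Groth.Agent.Lib.Helper56.RelAmpleB
import Groth.Prelude.Def_LCI2

/-!
# Pullbacks of relatively ample modules (helper56), part D

ns `Groth.Agent.Lib.Helper56.PullTensor`.
* `isAmple_restrict_pullback_of` : `(g^*L)|_{U'}` is ample if `(g|_{U'})^*(L|_U)` is.
* `isEmbedding_resLE` : restriction of a topological embedding.
* `isRelAmple_pullback_of_isEmbedding` (= S2359)
-/

universe u

open CategoryTheory AlgebraicGeometry TopologicalSpace

namespace Groth.Agent.Lib.Helper56.PullTensor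

open Groth.Agent.Lib.QCoh Groth.Agent.Lib.Ample CohB1 Scheme.Modules

variable {X X' Y : Scheme.{u}}

/-- `(g^*L)|_{U'}` is ample if the pullback of `L|_U` along the restricted morphism is -/
theorem isAmple_restrict_pullback_of (g : X' ⟶ X) (L : X.Modules) (U : X.Opens) (U' : X'.Opens)
    (e : U' ≤ g ⁻¹ᵁ U)
    (h : IsAmple ((Scheme.Modules.pullback (g.resLE U U' e)).obj (L.restrict U.ι))) :
    IsAmple (((Scheme.Modules.pullback g).obj L).restrict U'.ι) :=
  isAmple_of_iso (pullbackRestrictIso g L U U' e).symm h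

/-- the restriction of a topological embedding to opens is a topological embedding -/
theorem isEmbedding_resLE (g : X' ⟶ X) (hg : Topology.IsEmbedding g.base) (U : X.Opens)
    (U' : X'.Opens) (e : U' ≤ g ⁻¹ᵁ U) : Topology.IsEmbedding (g.resLE U U' e).base := by
  have h1 : Topology.IsEmbedding (U'.ι ≫ g).base := by
    have := hg.comp U'.ι.isOpenEmbedding.isEmbedding
    exact this
  rw [← Scheme.Hom.resLE_comp_ι g e] at h1
  have h2 : Topology.IsEmbedding (U.ι.base ∘ (g.resLE U U' e).base) := h1
  exact Topology.IsEmbedding.of_comp (g.resLE U U' e).base.hom.continuous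
    U.ι.base.hom.continuous h2

/-- **S2359**: pullback of a relatively ample module along a quasi-compact topological embedding -/
theorem isRelAmple_pullback_of_isEmbedding (f : X ⟶ Y) [QuasiCompact f] (j : X' ⟶ X)
    [QuasiCompact j] (hj : Topology.IsEmbedding j.base) (L : X.Modules)
    (hL : RelAmple.IsRelAmple f L) :
    RelAmple.IsRelAmple (j ≫ f) ((Scheme.Modules.pullback j).obj L) := by
  obtain ⟨_, h⟩ := hL
  refine ⟨inferInstance, fun V => ?_⟩
  have hU := h V
  have hc : CompactSpace ((j ⁻¹ᵁ (f ⁻¹ᵁ V.1) : X'.Opens) : Scheme.{u}) :=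
    isCompact_iff_compactSpace.mp (j.isCompact_preimage (f.isCompact_preimage V.2.isCompact))
  have hemb := isEmbedding_resLE j hj (f ⁻¹ᵁ V.1) (j ⁻¹ᵁ (f ⁻¹ᵁ V.1)) le_rfl
  exact isAmple_restrict_pullback_of j L _ _ le_rfl (isAmple_pullback_of_isEmbedding _ hemb hU)

end Groth.Agent.Lib.Helper56.PullTensor
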