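import Groth.Agent.Lib.Helper56.PullTensorD

/-!
# Base change of relatively ample modules (helper56), part E

ns `Groth.Agent.Lib.Helper56.PullTensor`.
* `isAffineOpen_fst_preimage_inf_snd_preimage_of_le` : in `X ×_S Y`, `p⁻¹U ⊓ q⁻¹V` is affine for affine
  `U`, `V` lying over a common affine open `W ⊆ S`.
* `isAffineHom_resLE_fst`, `isAmple_restrict_pullback_fst`
* `isRelAmple_pullback_fst` (= S2332): base change of a relatively ample module.
-/

universe u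

open CategoryTheory CategoryTheory.Limits AlgebraicGeometry TopologicalSpace

namespace Groth.Agent.Lib.Helper56.PullTensor

open Groth.Agent.Lib.QCoh Groth.Agent.Lib.Ample CohB1 Scheme.Modules
open Groth.Agent.Lib.Helper56.RelAmple

/-- in `X ×_S Y`, `p⁻¹U ⊓ q⁻¹V` is affine for affine `U`, `V` over a common affine open `W ⊆ S` -/
theorem isAffineOpen_fst_preimage_inf_snd_preimage_of_le {X Y S : Scheme.{u}} (f : X ⟶ S)
    (g : Y ⟶ S) {W : S.Opens} (hW : IsAffineOpen W) {U : X.Opens} {V : Y.Opens}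
    (hU : IsAffineOpen U) (hV : IsAffineOpen V) (hUW : U ≤ f ⁻¹ᵁ W) (hVW : V ≤ g ⁻¹ᵁ W) :
    IsAffineOpen (pullback.fst f g ⁻¹ᵁ U ⊓ pullback.snd f g ⁻¹ᵁ V) := by
  have : IsAffine (U : Scheme.{u}) := hU
  have : IsAffine (V : Scheme.{u}) := hV
  have : IsAffine (W : Scheme.{u}) := hW
  let p : pullback (U.ι ≫ f) (V.ι ≫ g) ⟶ pullback f g :=
    pullback.map _ _ _ _ U.ι V.ι (𝟙 S) (by simp) (by simp)
  have hp : p.opensRange = pullback.fst f g ⁻¹ᵁ U ⊓ pullback.snd f g ⁻¹ᵁ V := by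
    apply Opens.ext
    simp [p, Scheme.Pullback.range_map]
  rw [← hp]
  let a : (U : Scheme.{u}) ⟶ W := f.resLE W U hUW
  let b : (V : Scheme.{u}) ⟶ W := g.resLE W V hVW
  have ha : a ≫ W.ι = U.ι ≫ f := Scheme.Hom.resLE_comp_ι f hUW
  have hb : b ≫ W.ι = V.ι ≫ g := Scheme.Hom.resLE_comp_ι g hVW
  have hlim := PullbackCone.isLimitOfFactors (U.ι ≫ f) (V.ι ≫ g) W.ι a b ha hb _
    (limit.isLimit (cospan (U.ι ≫ f) (V.ι ≫ g)))
  let e : pullback (U.ι ≫ f) (V.ι ≫ g) ≅ pullback a b :=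
    hlim.conePointUniqueUpToIso (limit.isLimit (cospan a b))
  have h1 : IsAffine (pullback a b) := inferInstance
  have h2 : IsAffine (pullback (U.ι ≫ f) (V.ι ≫ g)) := IsAffine.of_isIso e.hom
  exact isAffineOpen_opensRange p

section BaseChange

variable {X Y Y' : Scheme.{u}} (f : X ⟶ Y) (g : Y' ⟶ Y)

lemma snd_preimage_le_fst_preimage {V : Y.Opens} {D : Y'.Opens} (hDV : D ≤ g ⁻¹ᵁ V) :
    pullback.snd f g ⁻¹ᵁ D ≤ pullback.fst f g ⁻¹ᵁ (f ⁻¹ᵁ V) := by
  intro z hz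
  have hz' : (pullback.snd f g).base z ∈ D := hz
  have h1 : g.base ((pullback.snd f g).base z) ∈ V := hDV hz'
  have h2 : f.base ((pullback.fst f g).base z) = g.base ((pullback.snd f g).base z) :=
    congrArg (fun k : pullback f g ⟶ Y => k.base z) pullback.condition
  show f.base ((pullback.fst f g).base z) ∈ V
  rw [h2]
  exact h1

/-- the restricted projection `q⁻¹D → f⁻¹V` is affine for affine `D ⊆ g⁻¹V`, `V` -/
theorem isAffineHom_resLE_fst {V : Y.Opens} (hV : IsAffineOpen V) {D : Y'.Opens}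
    (hD : IsAffineOpen D) (hDV : D ≤ g ⁻¹ᵁ V) :
    IsAffineHom ((pullback.fst f g).resLE (f ⁻¹ᵁ V) (pullback.snd f g ⁻¹ᵁ D)
      (snd_preimage_le_fst_preimage f g hDV)) := by
  refine ⟨fun A hA => ?_⟩
  have hA₀ : IsAffineOpen ((f ⁻¹ᵁ V).ι ''ᵁ A) := hA.image_of_isOpenImmersion _
  have hle : (f ⁻¹ᵁ V).ι ''ᵁ A ≤ f ⁻¹ᵁ V := by
    rintro _ ⟨a, -, rfl⟩
    exact a.2
  have h1 := isAffineOpen_fst_preimage_inf_snd_preimage_of_le f g hV hA₀ hD hle hDV
  rw [← Scheme.Hom.isAffineOpen_iff_of_isOpenImmersion (pullback.snd f g ⁻¹ᵁ D).ι]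
  have hcomp := Scheme.Hom.resLE_comp_ι (pullback.fst f g) (snd_preimage_le_fst_preimage f g hDV)
  have himg : (pullback.snd f g ⁻¹ᵁ D).ι ''ᵁ
      (((pullback.fst f g).resLE (f ⁻¹ᵁ V) (pullback.snd f g ⁻¹ᵁ D)
        (snd_preimage_le_fst_preimage f g hDV)) ⁻¹ᵁ A) =
      pullback.fst f g ⁻¹ᵁ ((f ⁻¹ᵁ V).ι ''ᵁ A) ⊓ pullback.snd f g ⁻¹ᵁ D := by
    ext z
    constructor
    · rintro ⟨z', hz', rfl⟩
      refine ⟨⟨_, hz', ?_⟩, z'.2⟩
      exact congrArg (fun k : ((pullback.snd f g ⁻¹ᵁ D : (pullback f g).Opens) : Scheme.{u}) ⟶ X =>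
        k.base z') hcomp
    · rintro ⟨⟨a, ha, haz⟩, hzD⟩
      refine ⟨⟨z, hzD⟩, ?_, rfl⟩
      have h3 : (f ⁻¹ᵁ V).ι.base (((pullback.fst f g).resLE (f ⁻¹ᵁ V) (pullback.snd f g ⁻¹ᵁ D)
          (snd_preimage_le_fst_preimage f g hDV)).base ⟨z, hzD⟩) = (pullback.fst f g).base z :=
        congrArg (fun k : ((pullback.snd f g ⁻¹ᵁ D : (pullback f g).Opens) : Scheme.{u}) ⟶ X =>
          k.base ⟨z, hzD⟩) hcomp
      have h4 : ((pullback.fst f g).resLE (f ⁻¹ᵁ V) (pullback.snd f g ⁻¹ᵁ D)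
          (snd_preimage_le_fst_preimage f g hDV)).base ⟨z, hzD⟩ = a :=
        (f ⁻¹ᵁ V).ι.isOpenEmbedding.injective (h3.trans haz.symm)
      show ((pullback.fst f g).resLE (f ⁻¹ᵁ V) (pullback.snd f g ⁻¹ᵁ D)
          (snd_preimage_le_fst_preimage f g hDV)).base ⟨z, hzD⟩ ∈ A
      rw [h4]
      exact ha
  rw [himg]
  exact h1

/-- base change of ampleness, local form -/
theorem isAmple_restrict_pullback_fst (L : X.Modules) {V : Y.Opens} (hV : IsAffineOpen V)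
    {D : Y'.Opens} (hD : IsAffineOpen D) (hDV : D ≤ g ⁻¹ᵁ V)
    (hL : IsAmple (L.restrict (f ⁻¹ᵁ V).ι)) :
    IsAmple (((Scheme.Modules.pullback (pullback.fst f g)).obj L).restrict
      (pullback.snd f g ⁻¹ᵁ D).ι) := by
  have := isAffineHom_resLE_fst f g hV hD hDV
  exact isAmple_restrict_pullback_of _ L _ _ (snd_preimage_le_fst_preimage f g hDV)
    (isAmple_pullback_of_isAffineHom _ hL)

/-- **S2332**: base change of a relatively ample module -/
theorem isRelAmple_pullback_fst [QuasiCompact f] (L : X.Modules)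
    (hL : RelAmple.IsRelAmple f L) :
    RelAmple.IsRelAmple (pullback.snd f g)
      ((Scheme.Modules.pullback (pullback.fst f g)).obj L) := by
  obtain ⟨_, h⟩ := hL
  refine ⟨inferInstance, fun V' => ?_⟩
  apply isAmple_restrict_of_forall_exists_basicOpen _
    ((pullback.snd f g).isCompact_preimage V'.2.isCompact)
  intro z hz
  obtain ⟨V, hV, hyV, -⟩ := Opens.isBasis_iff_nbhd.1 Y.isBasis_affineOpens (U := ⊤)
    (x := g.base ((pullback.snd f g).base z)) trivial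
  obtain ⟨h', hle, hzh⟩ := V'.2.exists_basicOpen_le (V := g ⁻¹ᵁ V)
    ⟨(pullback.snd f g).base z, hyV⟩ hz
  refine ⟨(pullback.snd f g).app V'.1 h', ?_, ?_⟩
  · rw [← Scheme.preimage_basicOpen]; exact hzh
  · rw [← Scheme.preimage_basicOpen]
    exact isAmple_restrict_pullback_fst f g L hV (V'.2.basicOpen h') hle (h ⟨V, hV⟩)

end BaseChange

end Groth.Agent.Lib.Helper56.PullTensor
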