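import Groth.Agent.Lib.Helper56.PullTensorE
import Groth.Agent.Lib.QCoh.TensorPow2

/-!
# Ampleness of external tensor products (helper56), part F

ns `Groth.Agent.Lib.Helper56.PullTensor`.
* `exists_pow_section` : raise a section of `L^(a+1)` to a section of `L^((a+1)(b+1))` with the same
  generating locus.
* `isAmple_tensorMod_pullback_fst_snd` (= S9816): `p^*L ⊗ q^*N` is ample on `X ×_S Y` (`S` quasi-separated).
-/

universe u

open CategoryTheory CategoryTheory.Limits AlgebraicGeometry TopologicalSpace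

namespace Groth.Agent.Lib.Helper56.PullTensor

open Groth.Agent.Lib.QCoh Groth.Agent.Lib.Ample CohB1 Scheme.Modules

theorem exists_pow_section {X : Scheme.{u}} {L : X.Modules} (hL : PicF.IsInvertible L) {a : ℕ}
    (s : Coh.structureModule X ⟶ tensorPow L (a + 1)) (b E : ℕ)
    (hE : (a + 1) * (b + 1) = E + 1) :
    ∃ s' : Coh.structureModule X ⟶ tensorPow L (E + 1),
      genLocus _ s' = genLocus _ s := by
  refine ⟨secPow s (b + 1) ≫
    (Groth.Agent.Lib.QCoh.tensorPowMulIso L (a + 1) (b + 1) ≪≫ tensorPowEqIso L hE).hom, ?_⟩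
  exact (genLocus_comp_iso (secPow s (b + 1)) _).trans
    (genLocus_secPow s (isInvertible_tensorPow hL (a + 1)) b)

/-- **S9816**: the external tensor product of ample modules is ample (quasi-separated base) -/
theorem isAmple_tensorMod_pullback_fst_snd {X Y S : Scheme.{u}} [QuasiSeparatedSpace S]
    (f : X ⟶ S) (g : Y ⟶ S) {L : X.Modules} {N : Y.Modules} (hL : IsAmple L) (hN : IsAmple N) :
    IsAmple (tensorMod ((Scheme.Modules.pullback (pullback.fst f g)).obj L)
      ((Scheme.Modules.pullback (pullback.snd f g)).obj N)) := by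
  have hcX : CompactSpace X := hL.2.1
  have hcY : CompactSpace Y := hN.2.1
  have hqc : QuasiCompact g := inferInstance
  have hcP : CompactSpace ↑(pullback f g) := inferInstance
  have hpL := isInvertible_pullback (pullback.fst f g) hL.1
  have hqN := isInvertible_pullback (pullback.snd f g) hN.1
  refine ⟨isInvertible_tensorMod hpL hqN, hcP, fun z => ?_⟩
  obtain ⟨S₀, hS₀, hzS₀, -⟩ := Opens.isBasis_iff_nbhd.1 S.isBasis_affineOpens (U := ⊤)
    (x := f.base ((pullback.fst f g).base z)) trivial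
  have hzS₀' : g.base ((pullback.snd f g).base z) ∈ S₀ := by
    have h2 : f.base ((pullback.fst f g).base z) = g.base ((pullback.snd f g).base z) :=
      congrArg (fun k : pullback f g ⟶ S => k.base z) pullback.condition
    rw [← h2]
    exact hzS₀
  obtain ⟨a, s, hxs, hsle, hsaff⟩ :=
    exists_genLocus_le_of_isAmple hL ((pullback.fst f g).base z) (f ⁻¹ᵁ S₀) hzS₀
  obtain ⟨b, t, hyt, htle, htaff⟩ :=
    exists_genLocus_le_of_isAmple hN ((pullback.snd f g).base z) (g ⁻¹ᵁ S₀) hzS₀'
  obtain ⟨E, hE⟩ : ∃ E, (a + 1) * (b + 1) = E + 1 :=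
    ⟨(a + 1) * (b + 1) - 1, by
      have : 0 < (a + 1) * (b + 1) := Nat.mul_pos (Nat.succ_pos a) (Nat.succ_pos b)
      omega⟩
  have hE' : (b + 1) * (a + 1) = E + 1 := by rw [mul_comm]; exact hE
  obtain ⟨s', hs'⟩ := exists_pow_section hL.1 s b E hE
  obtain ⟨t', ht'⟩ := exists_pow_section hN.1 t a E hE'
  obtain ⟨σ₁, hσ₁⟩ : ∃ σ₁ : Coh.structureModule (pullback f g) ⟶
      tensorPow ((Scheme.Modules.pullback (pullback.fst f g)).obj L) (E + 1),
      genLocus _ σ₁ = pullback.fst f g ⁻¹ᵁ genLocus _ s :=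
    ⟨pullPowSec (pullback.fst f g) hL.1 (E + 1) s',
      (genLocus_pullPowSec (pullback.fst f g) hL.1 (E + 1) s').trans
        (congrArg (fun T => pullback.fst f g ⁻¹ᵁ T) hs')⟩
  obtain ⟨σ₂, hσ₂⟩ : ∃ σ₂ : Coh.structureModule (pullback f g) ⟶
      tensorPow ((Scheme.Modules.pullback (pullback.snd f g)).obj N) (E + 1),
      genLocus _ σ₂ = pullback.snd f g ⁻¹ᵁ genLocus _ t :=
    ⟨pullPowSec (pullback.snd f g) hN.1 (E + 1) t',
      (genLocus_pullPowSec (pullback.snd f g) hN.1 (E + 1) t').trans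
        (congrArg (fun T => pullback.snd f g ⁻¹ᵁ T) ht')⟩
  obtain ⟨σ, hσ⟩ : ∃ σ : Coh.structureModule (pullback f g) ⟶
      tensorPow (tensorMod ((Scheme.Modules.pullback (pullback.fst f g)).obj L)
        ((Scheme.Modules.pullback (pullback.snd f g)).obj N)) (E + 1), genLocus _ σ =
      pullback.fst f g ⁻¹ᵁ genLocus _ s ⊓ pullback.snd f g ⁻¹ᵁ genLocus _ t := by
    refine ⟨mulSec σ₁ σ₂ ≫ (tensorPowTensorIso
      ((Scheme.Modules.pullback (pullback.fst f g)).obj L)
      ((Scheme.Modules.pullback (pullback.snd f g)).obj N) (E + 1)).symm.hom, ?_⟩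
    have h1 := genLocus_comp_iso (mulSec σ₁ σ₂) (tensorPowTensorIso
      ((Scheme.Modules.pullback (pullback.fst f g)).obj L)
      ((Scheme.Modules.pullback (pullback.snd f g)).obj N) (E + 1)).symm
    have h2 := genLocus_mulSec σ₁ σ₂ (isInvertible_tensorPow hpL (E + 1))
      (isInvertible_tensorPow hqN (E + 1))
    rw [hσ₁, hσ₂] at h2
    exact h1.trans h2
  refine ⟨E, σ, ?_, ?_⟩
  · rw [hσ]; exact ⟨hxs, hyt⟩
  · rw [hσ]
    exact isAffineOpen_fst_preimage_inf_snd_preimage_of_le f g hS₀ hsaff htaff hsle htle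

end Groth.Agent.Lib.Helper56.PullTensor
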