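import Groth.Agent.Lib.Helper56.PullTensorF
import Groth.Prelude.Def_Mor2
import Mathlib.AlgebraicGeometry.QuasiAffine

/-!
# Pullback of ample modules along quasi-affine morphisms (helper56), part G

ns `Groth.Agent.Lib.Helper56.PullTensor`.
* `exists_affine_genLocus_of_isQuasiAffine_genLocus` : if `X_s` is a quasi-affine scheme then every point of
  `X_s` lies in an affine `X_u` (`u` a section of a power of `M`).
* `isAmple_pullback_of_isQuasiAffine`, `isRelAmple_pullback_of_isQuasiAffine` (= S2355).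
-/

universe u

open CategoryTheory CategoryTheory.Limits AlgebraicGeometry TopologicalSpace

namespace Groth.Agent.Lib.Helper56.PullTensor

open Groth.Agent.Lib.QCoh Groth.Agent.Lib.Ample CohB1 Scheme.Modules

theorem exists_affine_genLocus_of_isQuasiAffine_genLocus {X : Scheme.{u}} [CompactSpace X]
    [QuasiSeparatedSpace X] {M : X.Modules} (hM : PicF.IsInvertible M) {n : ℕ}
    (s : Coh.structureModule X ⟶ tensorPow M (n + 1))
    (hqa : Scheme.IsQuasiAffine ((genLocus _ s : X.Opens) : Scheme.{u})) (x : X)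
    (hx : x ∈ genLocus _ s) :
    ∃ (N : ℕ) (u : Coh.structureModule X ⟶ tensorPow M (N + 1)),
      x ∈ genLocus _ u ∧ IsAffineOpen (genLocus _ u) := by
  obtain ⟨G, hG⟩ : ∃ G : X.Opens, G = genLocus (tensorPow M (n + 1)) s := ⟨_, rfl⟩
  rw [← hG] at hqa hx
  obtain ⟨_, ⟨r, hr, rfl⟩, hxr, -⟩ := Opens.isBasis_iff_nbhd.1
    (Scheme.IsQuasiAffine.isBasis_basicOpen (G : Scheme.{u})) (U := ⊤)
    (x := (⟨x, hx⟩ : (G : Scheme.{u}))) trivial
  obtain ⟨g, rfl⟩ : ∃ g : Γ(X, G), G.topIso.inv g = r :=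
    ⟨G.topIso.hom r, by
      have := G.topIso.hom_inv_id
      exact congr($this r)⟩
  have himg := Scheme.Opens.ι_image_basicOpen_topIso_inv G g
  subst hG
  obtain ⟨k, u, hu⟩ := exists_genLocus_eq_basicOpen_of_genLocus
    (isInvertible_tensorPow hM (n + 1)) s g
  have hN : (n + 1) * (k + 1) = ((n + 1) * (k + 1) - 1) + 1 := by
    have : 0 < (n + 1) * (k + 1) := Nat.mul_pos (Nat.succ_pos n) (Nat.succ_pos k)
    omega
  let γ := twistIterUnitIso (CohB1.tensorPow M (n + 1)) (k + 1) ≪≫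
    Groth.Agent.Lib.QCoh.tensorPowMulIso M (n + 1) (k + 1) ≪≫
    Groth.Agent.Lib.QCoh.tensorPowEqIso M hN
  have hg : CohB1.genLocus _ (u ≫ γ.hom) = X.basicOpen g := (genLocus_comp_iso u γ).trans hu
  refine ⟨(n + 1) * (k + 1) - 1, u ≫ γ.hom, ?_, ?_⟩
  · rw [hg, ← himg]
    exact ⟨⟨x, hx⟩, hxr, rfl⟩
  · rw [hg, ← himg]
    exact hr.image_of_isOpenImmersion _

variable {X X' Y : Scheme.{u}}

/-- pullback of an ample module along a quasi-affine morphism -/
theorem isAmple_pullback_of_isQuasiAffine (g : X' ⟶ X) (hg : Mor2.IsQuasiAffine g)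
    {L : X.Modules} (hL : IsAmple L) : IsAmple ((Scheme.Modules.pullback g).obj L) := by
  have hc : CompactSpace X := hL.2.1
  have hqc : QuasiCompact g := hg.1
  have hc' : CompactSpace X' := QuasiCompact.compactSpace_of_compactSpace g
  have hinv' := isInvertible_pullback g hL.1
  -- data at each point
  have key : ∀ x' : X', ∃ (n : ℕ)
      (s' : Coh.structureModule X' ⟶ tensorPow ((Scheme.Modules.pullback g).obj L) (n + 1)),
      x' ∈ genLocus _ s' ∧ Scheme.IsQuasiAffine ((genLocus _ s' : X'.Opens) : Scheme.{u}) := by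
    intro x'
    obtain ⟨n, s, hxs, haff⟩ := hL.2.2 (g.base x')
    have hqa := hg.2 _ haff
    have hgl := genLocus_pullPowSec g hL.1 (n + 1) s
    rw [← hgl] at hqa
    exact ⟨n, pullPowSec g hL.1 (n + 1) s, by rw [hgl]; exact hxs, hqa⟩
  choose n s' hx' hqa' using key
  have hqs' : QuasiSeparatedSpace X' := by
    refine QuasiSeparatedSpace.of_isOpenCover (U := fun x' => genLocus _ (s' x'))
      (eq_top_iff.mpr fun x' _ => Opens.mem_iSup.mpr ⟨x', hx' x'⟩) (fun x' => ?_) (fun x' => ?_)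
    · have := isAffineHom_genLocus_ι (isInvertible_tensorPow hinv' (n x' + 1)) (s' x')
      exact IsRetrocompact_iff_isSpectralMap_subtypeVal.mpr
        (genLocus _ (s' x')).ι.isSpectralMap
    · have h1 := hqa' x'
      have h2 : QuasiSeparatedSpace ((genLocus _ (s' x') : X'.Opens) : Scheme.{u}) :=
        (quasiSeparatedSpace_iff_quasiSeparated _).2 inferInstance
      exact (isQuasiSeparated_iff_quasiSeparatedSpace _ (genLocus _ (s' x')).isOpen).2 h2
  refine ⟨hinv', hc', fun x' => ?_⟩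
  exact exists_affine_genLocus_of_isQuasiAffine_genLocus hinv' (s' x') (hqa' x') x' (hx' x')

/-- the restriction of a quasi-affine morphism over an open is quasi-affine -/
theorem isQuasiAffine_resLE (g : X' ⟶ X) (hg : Mor2.IsQuasiAffine g) (U : X.Opens) :
    Mor2.IsQuasiAffine (g.resLE U (g ⁻¹ᵁ U) le_rfl) := by
  rw [Scheme.Hom.resLE_eq_morphismRestrict]
  have hqc : QuasiCompact g := hg.1
  refine ⟨inferInstance, fun A hA => ?_⟩
  have hA₀ : IsAffineOpen (U.ι ''ᵁ A) := hA.image_of_isOpenImmersion _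
  have h1 : Scheme.IsQuasiAffine ((g ⁻¹ᵁ (U.ι ''ᵁ A) : X'.Opens) : Scheme.{u}) := hg.2 _ hA₀
  rw [← image_morphismRestrict_preimage g U A] at h1
  have hc : CompactSpace (((g ∣_ U) ⁻¹ᵁ A : (g ⁻¹ᵁ U : Scheme.{u}).Opens) : Scheme.{u}) :=
    isCompact_iff_compactSpace.mp ((g ∣_ U).isCompact_preimage hA.isCompact)
  exact Scheme.IsQuasiAffine.of_isImmersion ((g ⁻¹ᵁ U).ι.isoImage ((g ∣_ U) ⁻¹ᵁ A)).hom

/-- **S2355**: pullback of a relatively ample module along a quasi-affine morphism -/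
theorem isRelAmple_pullback_of_isQuasiAffine (f : X ⟶ Y) [QuasiCompact f] (g : X' ⟶ X)
    (hg : Mor2.IsQuasiAffine g) (L : X.Modules) (hL : RelAmple.IsRelAmple f L) :
    RelAmple.IsRelAmple (g ≫ f) ((Scheme.Modules.pullback g).obj L) := by
  obtain ⟨_, h⟩ := hL
  have hqc : QuasiCompact g := hg.1
  refine ⟨inferInstance, fun V => ?_⟩
  exact isAmple_restrict_pullback_of g L _ _ le_rfl
    (isAmple_pullback_of_isQuasiAffine _ (isQuasiAffine_resLE g hg (f ⁻¹ᵁ V.1)) (h V))

end Groth.Agent.Lib.Helper56.PullTensor
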