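import Groth.Agent.Lib.Helper56.PullTensorG
import Groth.Agent.Lib.QCoh.TensorRestrict

/-!
# Relative ampleness of external tensor products (helper56), part H

ns `Groth.Agent.Lib.Helper56.PullTensor`.
* `isAmple_tensorMod_pullback_of_affine_inf` : `T` quasi-compact with `q_i : T ⟶ U_i`, `N_i` ample on `U_i`,
  `q₁⁻¹A₁ ⊓ q₂⁻¹A₂` affine for all affine `A_i` ⟹ `q₁^*N₁ ⊗ q₂^*N₂` ample.
* `isRelAmple_externalTensor` (= S4428).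
-/

universe u

open CategoryTheory CategoryTheory.Limits AlgebraicGeometry TopologicalSpace

namespace Groth.Agent.Lib.Helper56.PullTensor

open Groth.Agent.Lib.QCoh Groth.Agent.Lib.Ample CohB1 Scheme.Modules
open Groth.Agent.Lib.Helper56.RelAmple

theorem isAmple_tensorMod_pullback_of_affine_inf {T U₁ U₂ : Scheme.{u}} [CompactSpace T]
    (q₁ : T ⟶ U₁) (q₂ : T ⟶ U₂) {N₁ : U₁.Modules} {N₂ : U₂.Modules}
    (h₁ : IsAmple N₁) (h₂ : IsAmple N₂)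
    (haff : ∀ (A₁ : U₁.Opens) (A₂ : U₂.Opens), IsAffineOpen A₁ → IsAffineOpen A₂ →
      IsAffineOpen (q₁ ⁻¹ᵁ A₁ ⊓ q₂ ⁻¹ᵁ A₂)) :
    IsAmple (tensorMod ((Scheme.Modules.pullback q₁).obj N₁)
      ((Scheme.Modules.pullback q₂).obj N₂)) := by
  have hpL := isInvertible_pullback q₁ h₁.1
  have hqN := isInvertible_pullback q₂ h₂.1
  refine ⟨isInvertible_tensorMod hpL hqN, inferInstance, fun z => ?_⟩
  obtain ⟨a, s, hxs, hsaff⟩ := h₁.2.2 (q₁.base z)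
  obtain ⟨b, t, hyt, htaff⟩ := h₂.2.2 (q₂.base z)
  obtain ⟨E, hE⟩ : ∃ E, (a + 1) * (b + 1) = E + 1 :=
    ⟨(a + 1) * (b + 1) - 1, by
      have : 0 < (a + 1) * (b + 1) := Nat.mul_pos (Nat.succ_pos a) (Nat.succ_pos b)
      omega⟩
  have hE' : (b + 1) * (a + 1) = E + 1 := by rw [mul_comm]; exact hE
  obtain ⟨s', hs'⟩ := exists_pow_section h₁.1 s b E hE
  obtain ⟨t', ht'⟩ := exists_pow_section h₂.1 t a E hE'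
  obtain ⟨σ₁, hσ₁⟩ : ∃ σ₁ : Coh.structureModule T ⟶
      tensorPow ((Scheme.Modules.pullback q₁).obj N₁) (E + 1),
      genLocus _ σ₁ = q₁ ⁻¹ᵁ genLocus _ s :=
    ⟨pullPowSec q₁ h₁.1 (E + 1) s',
      (genLocus_pullPowSec q₁ h₁.1 (E + 1) s').trans (congrArg (fun A => q₁ ⁻¹ᵁ A) hs')⟩
  obtain ⟨σ₂, hσ₂⟩ : ∃ σ₂ : Coh.structureModule T ⟶
      tensorPow ((Scheme.Modules.pullback q₂).obj N₂) (E + 1),
      genLocus _ σ₂ = q₂ ⁻¹ᵁ genLocus _ t :=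
    ⟨pullPowSec q₂ h₂.1 (E + 1) t',
      (genLocus_pullPowSec q₂ h₂.1 (E + 1) t').trans (congrArg (fun A => q₂ ⁻¹ᵁ A) ht')⟩
  obtain ⟨σ, hσ⟩ : ∃ σ : Coh.structureModule T ⟶
      tensorPow (tensorMod ((Scheme.Modules.pullback q₁).obj N₁)
        ((Scheme.Modules.pullback q₂).obj N₂)) (E + 1), genLocus _ σ =
      q₁ ⁻¹ᵁ genLocus _ s ⊓ q₂ ⁻¹ᵁ genLocus _ t := by
    refine ⟨mulSec σ₁ σ₂ ≫ (tensorPowTensorIso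
      ((Scheme.Modules.pullback q₁).obj N₁)
      ((Scheme.Modules.pullback q₂).obj N₂) (E + 1)).symm.hom, ?_⟩
    have e1 := genLocus_comp_iso (mulSec σ₁ σ₂) (tensorPowTensorIso
      ((Scheme.Modules.pullback q₁).obj N₁)
      ((Scheme.Modules.pullback q₂).obj N₂) (E + 1)).symm
    have e2 := genLocus_mulSec σ₁ σ₂ (isInvertible_tensorPow hpL (E + 1))
      (isInvertible_tensorPow hqN (E + 1))
    rw [hσ₁, hσ₂] at e2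
    exact e1.trans e2
  refine ⟨E, σ, ?_, ?_⟩
  · rw [hσ]; exact ⟨hxs, hyt⟩
  · rw [hσ]; exact haff _ _ hsaff htaff

section External

variable {X₁ X₂ S : Scheme.{u}} (b₁ : X₁ ⟶ S) (b₂ : X₂ ⟶ S)

/-- the external tensor product restricted to `p₁⁻¹U₁ ⊓ p₂⁻¹U₂` is ample if `L_i|_{U_i}` are ample and
`U_i` lie over a common affine open of `S` -/
theorem isAmple_restrict_externalTensor (L₁ : X₁.Modules) (L₂ : X₂.Modules) {S₀ : S.Opens}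
    (hS₀ : IsAffineOpen S₀) (U₁ : X₁.Opens) (U₂ : X₂.Opens) (hU₁ : U₁ ≤ b₁ ⁻¹ᵁ S₀)
    (hU₂ : U₂ ≤ b₂ ⁻¹ᵁ S₀) (h₁ : IsAmple (L₁.restrict U₁.ι)) (h₂ : IsAmple (L₂.restrict U₂.ι))
    (hc : IsCompact (pullback.fst b₁ b₂ ⁻¹ᵁ U₁ ⊓ pullback.snd b₁ b₂ ⁻¹ᵁ U₂ :
      (pullback b₁ b₂).Opens).1) :
    IsAmple ((tensorMod ((Scheme.Modules.pullback (pullback.fst b₁ b₂)).obj L₁)
      ((Scheme.Modules.pullback (pullback.snd b₁ b₂)).obj L₂)).restrict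
        (pullback.fst b₁ b₂ ⁻¹ᵁ U₁ ⊓ pullback.snd b₁ b₂ ⁻¹ᵁ U₂).ι) := by
  obtain ⟨T, hT⟩ : ∃ T : (pullback b₁ b₂).Opens,
      T = pullback.fst b₁ b₂ ⁻¹ᵁ U₁ ⊓ pullback.snd b₁ b₂ ⁻¹ᵁ U₂ := ⟨_, rfl⟩
  rw [← hT] at hc ⊢
  have e₁ : T ≤ pullback.fst b₁ b₂ ⁻¹ᵁ U₁ := hT ▸ inf_le_left
  have e₂ : T ≤ pullback.snd b₁ b₂ ⁻¹ᵁ U₂ := hT ▸ inf_le_right
  have hcT : CompactSpace (T : Scheme.{u}) := isCompact_iff_compactSpace.mp hc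
  let q₁ := (pullback.fst b₁ b₂).resLE U₁ T e₁
  let q₂ := (pullback.snd b₁ b₂).resLE U₂ T e₂
  have hq₁ : q₁ ≫ U₁.ι = T.ι ≫ pullback.fst b₁ b₂ := Scheme.Hom.resLE_comp_ι _ e₁
  have hq₂ : q₂ ≫ U₂.ι = T.ι ≫ pullback.snd b₁ b₂ := Scheme.Hom.resLE_comp_ι _ e₂
  have haff : ∀ (A₁ : (U₁ : Scheme.{u}).Opens) (A₂ : (U₂ : Scheme.{u}).Opens),
      IsAffineOpen A₁ → IsAffineOpen A₂ → IsAffineOpen (q₁ ⁻¹ᵁ A₁ ⊓ q₂ ⁻¹ᵁ A₂) := by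
    intro A₁ A₂ hA₁ hA₂
    have hA₁' : IsAffineOpen (U₁.ι ''ᵁ A₁) := hA₁.image_of_isOpenImmersion _
    have hA₂' : IsAffineOpen (U₂.ι ''ᵁ A₂) := hA₂.image_of_isOpenImmersion _
    have hle₁ : U₁.ι ''ᵁ A₁ ≤ b₁ ⁻¹ᵁ S₀ := by
      rintro _ ⟨a, -, rfl⟩
      exact hU₁ a.2
    have hle₂ : U₂.ι ''ᵁ A₂ ≤ b₂ ⁻¹ᵁ S₀ := by
      rintro _ ⟨a, -, rfl⟩
      exact hU₂ a.2
    have h0 := isAffineOpen_fst_preimage_inf_snd_preimage_of_le b₁ b₂ hS₀ hA₁' hA₂' hle₁ hle₂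
    rw [← Scheme.Hom.isAffineOpen_iff_of_isOpenImmersion T.ι]
    have himg : T.ι ''ᵁ (q₁ ⁻¹ᵁ A₁ ⊓ q₂ ⁻¹ᵁ A₂) =
        pullback.fst b₁ b₂ ⁻¹ᵁ (U₁.ι ''ᵁ A₁) ⊓ pullback.snd b₁ b₂ ⁻¹ᵁ (U₂.ι ''ᵁ A₂) := by
      ext z
      constructor
      · rintro ⟨z', ⟨hz₁, hz₂⟩, rfl⟩
        refine ⟨⟨_, hz₁, ?_⟩, ⟨_, hz₂, ?_⟩⟩
        · exact congrArg (fun k : (T : Scheme.{u}) ⟶ X₁ => k.base z') hq₁
        · exact congrArg (fun k : (T : Scheme.{u}) ⟶ X₂ => k.base z') hq₂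
      · rintro ⟨⟨a₁, ha₁, haz₁⟩, ⟨a₂, ha₂, haz₂⟩⟩
        have hzT : z ∈ T := by
          rw [hT]
          refine ⟨?_, ?_⟩
          · show (pullback.fst b₁ b₂).base z ∈ U₁
            rw [← haz₁]; exact a₁.2
          · show (pullback.snd b₁ b₂).base z ∈ U₂
            rw [← haz₂]; exact a₂.2
        refine ⟨⟨z, hzT⟩, ⟨?_, ?_⟩, rfl⟩
        · have h3 : U₁.ι.base (q₁.base ⟨z, hzT⟩) = (pullback.fst b₁ b₂).base z :=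
            congrArg (fun k : (T : Scheme.{u}) ⟶ X₁ => k.base ⟨z, hzT⟩) hq₁
          have h4 : q₁.base ⟨z, hzT⟩ = a₁ :=
            U₁.ι.isOpenEmbedding.injective (h3.trans haz₁.symm)
          show q₁.base ⟨z, hzT⟩ ∈ A₁
          rw [h4]; exact ha₁
        · have h3 : U₂.ι.base (q₂.base ⟨z, hzT⟩) = (pullback.snd b₁ b₂).base z :=
            congrArg (fun k : (T : Scheme.{u}) ⟶ X₂ => k.base ⟨z, hzT⟩) hq₂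
          have h4 : q₂.base ⟨z, hzT⟩ = a₂ :=
            U₂.ι.isOpenEmbedding.injective (h3.trans haz₂.symm)
          show q₂.base ⟨z, hzT⟩ ∈ A₂
          rw [h4]; exact ha₂
    rw [himg]
    exact h0
  have key := isAmple_tensorMod_pullback_of_affine_inf q₁ q₂ h₁ h₂ haff
  refine isAmple_of_iso ?_ key
  exact (tensorModCongr (pullbackRestrictIso (pullback.fst b₁ b₂) L₁ U₁ T e₁)
    (pullbackRestrictIso (pullback.snd b₁ b₂) L₂ U₂ T e₂)).symm ≪≫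
    (restrictTensorModIso T.ι _ _).symm

end External

section Rel

variable {X₁ X₂ Y₁ Y₂ S : Scheme.{u}} (a₁ : Y₁ ⟶ S) (a₂ : Y₂ ⟶ S) (f₁ : X₁ ⟶ Y₁) (f₂ : X₂ ⟶ Y₂)

set_option maxHeartbeats 400000 in
/-- **S4428**: relative ampleness of the external tensor product -/
theorem isRelAmple_externalTensor [QuasiCompact f₁] [QuasiCompact f₂] (L₁ : X₁.Modules)
    (L₂ : X₂.Modules) (hL₁ : RelAmple.IsRelAmple f₁ L₁) (hL₂ : RelAmple.IsRelAmple f₂ L₂) :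
    RelAmple.IsRelAmple
      (pullback.map (f₁ ≫ a₁) (f₂ ≫ a₂) a₁ a₂ f₁ f₂ (𝟙 S) (Category.comp_id (f₁ ≫ a₁))
        (Category.comp_id (f₂ ≫ a₂)))
      (CohB1.tensorMod ((Scheme.Modules.pullback (pullback.fst (f₁ ≫ a₁) (f₂ ≫ a₂))).obj L₁)
        ((Scheme.Modules.pullback (pullback.snd (f₁ ≫ a₁) (f₂ ≫ a₂))).obj L₂)) := by
  obtain ⟨_, h₁⟩ := hL₁
  obtain ⟨_, h₂⟩ := hL₂
  obtain ⟨F, hF⟩ : ∃ F : pullback (f₁ ≫ a₁) (f₂ ≫ a₂) ⟶ pullback a₁ a₂,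
      F = pullback.map (f₁ ≫ a₁) (f₂ ≫ a₂) a₁ a₂ f₁ f₂ (𝟙 S) (Category.comp_id (f₁ ≫ a₁))
        (Category.comp_id (f₂ ≫ a₂)) := ⟨_, rfl⟩
  rw [← hF]
  have hFqc : QuasiCompact F := by
    rw [hF]
    exact MorphismProperty.pullbackMap (P := @QuasiCompact) ‹QuasiCompact f₁› ‹QuasiCompact f₂›
      rfl rfl
  have hF₁ : F ≫ pullback.fst a₁ a₂ = pullback.fst (f₁ ≫ a₁) (f₂ ≫ a₂) ≫ f₁ := by
    rw [hF]; exact pullback.lift_fst _ _ _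
  have hF₂ : F ≫ pullback.snd a₁ a₂ = pullback.snd (f₁ ≫ a₁) (f₂ ≫ a₂) ≫ f₂ := by
    rw [hF]; exact pullback.lift_snd _ _ _
  refine ⟨hFqc, fun W => ?_⟩
  apply isAmple_restrict_of_forall_exists_basicOpen _ (F.isCompact_preimage W.2.isCompact)
  intro z hz
  obtain ⟨w, hw⟩ : ∃ w, w = F.base z := ⟨_, rfl⟩
  have hzw : w ∈ W.1 := hw ▸ hz
  obtain ⟨S₀, hS₀, hwS₀, -⟩ := Opens.isBasis_iff_nbhd.1 S.isBasis_affineOpens (U := ⊤)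
    (x := a₁.base ((pullback.fst a₁ a₂).base w)) trivial
  have hwS₀' : a₂.base ((pullback.snd a₁ a₂).base w) ∈ S₀ := by
    have h2 : a₁.base ((pullback.fst a₁ a₂).base w) = a₂.base ((pullback.snd a₁ a₂).base w) :=
      congrArg (fun k : pullback a₁ a₂ ⟶ S => k.base w) pullback.condition
    rw [← h2]
    exact hwS₀
  obtain ⟨V₁, hV₁, hwV₁, hV₁le⟩ := Opens.isBasis_iff_nbhd.1 Y₁.isBasis_affineOpens
    (U := a₁ ⁻¹ᵁ S₀) (x := (pullback.fst a₁ a₂).base w) hwS₀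
  obtain ⟨V₂, hV₂, hwV₂, hV₂le⟩ := Opens.isBasis_iff_nbhd.1 Y₂.isBasis_affineOpens
    (U := a₂ ⁻¹ᵁ S₀) (x := (pullback.snd a₁ a₂).base w) hwS₀'
  have hW₀aff := isAffineOpen_fst_preimage_inf_snd_preimage_of_le a₁ a₂ hS₀ hV₁ hV₂ hV₁le hV₂le
  obtain ⟨h', hle, hwh⟩ := W.2.exists_basicOpen_le
    (V := pullback.fst a₁ a₂ ⁻¹ᵁ V₁ ⊓ pullback.snd a₁ a₂ ⁻¹ᵁ V₂) ⟨w, ⟨hwV₁, hwV₂⟩⟩ hzw
  refine ⟨F.app W.1 h', ?_, ?_⟩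
  · rw [← Scheme.preimage_basicOpen]
    show F.base z ∈ (pullback a₁ a₂).basicOpen h'
    rw [← hw]
    exact hwh
  · rw [← Scheme.preimage_basicOpen]
    have hTeq : F ⁻¹ᵁ (pullback.fst a₁ a₂ ⁻¹ᵁ V₁ ⊓ pullback.snd a₁ a₂ ⁻¹ᵁ V₂) =
        pullback.fst (f₁ ≫ a₁) (f₂ ≫ a₂) ⁻¹ᵁ (f₁ ⁻¹ᵁ V₁) ⊓
          pullback.snd (f₁ ≫ a₁) (f₂ ≫ a₂) ⁻¹ᵁ (f₂ ⁻¹ᵁ V₂) := by
      ext z'
      have e1 : (pullback.fst a₁ a₂).base (F.base z') =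
          f₁.base ((pullback.fst (f₁ ≫ a₁) (f₂ ≫ a₂)).base z') :=
        congrArg (fun k : pullback (f₁ ≫ a₁) (f₂ ≫ a₂) ⟶ Y₁ => k.base z') hF₁
      have e2 : (pullback.snd a₁ a₂).base (F.base z') =
          f₂.base ((pullback.snd (f₁ ≫ a₁) (f₂ ≫ a₂)).base z') :=
        congrArg (fun k : pullback (f₁ ≫ a₁) (f₂ ≫ a₂) ⟶ Y₂ => k.base z') hF₂
      constructor
      · rintro ⟨k1, k2⟩
        refine ⟨?_, ?_⟩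
        · show f₁.base ((pullback.fst (f₁ ≫ a₁) (f₂ ≫ a₂)).base z') ∈ V₁
          rw [← e1]; exact k1
        · show f₂.base ((pullback.snd (f₁ ≫ a₁) (f₂ ≫ a₂)).base z') ∈ V₂
          rw [← e2]; exact k2
      · rintro ⟨k1, k2⟩
        refine ⟨?_, ?_⟩
        · show (pullback.fst a₁ a₂).base (F.base z') ∈ V₁
          rw [e1]; exact k1
        · show (pullback.snd a₁ a₂).base (F.base z') ∈ V₂
          rw [e2]; exact k2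
    have hTc : IsCompact (pullback.fst (f₁ ≫ a₁) (f₂ ≫ a₂) ⁻¹ᵁ (f₁ ⁻¹ᵁ V₁) ⊓
        pullback.snd (f₁ ≫ a₁) (f₂ ≫ a₂) ⁻¹ᵁ (f₂ ⁻¹ᵁ V₂) :
          (pullback (f₁ ≫ a₁) (f₂ ≫ a₂)).Opens).1 := by
      rw [← hTeq]
      exact F.isCompact_preimage hW₀aff.isCompact
    have hU₁ : f₁ ⁻¹ᵁ V₁ ≤ (f₁ ≫ a₁) ⁻¹ᵁ S₀ := fun x hx => hV₁le hx
    have hU₂ : f₂ ⁻¹ᵁ V₂ ≤ (f₂ ≫ a₂) ⁻¹ᵁ S₀ := fun x hx => hV₂le hx
    have hT := isAmple_restrict_externalTensor (f₁ ≫ a₁) (f₂ ≫ a₂) L₁ L₂ hS₀ (f₁ ⁻¹ᵁ V₁)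
      (f₂ ⁻¹ᵁ V₂) hU₁ hU₂ (h₁ ⟨V₁, hV₁⟩) (h₂ ⟨V₂, hV₂⟩) hTc
    refine isAmple_restrict_of_le ?_ (F.isCompact_preimage (W.2.basicOpen h').isCompact) hT
    rw [← hTeq]
    intro z' hz'
    exact hle hz'

end Rel

end Groth.Agent.Lib.Helper56.PullTensor
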