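import Mathlib

/-!
# Quasi-affine + locally of finite type ⇒ immersion into affine space (helper56)

* `surjective_of_adjoin_eq_top` : pure algebra criterion for surjectivity.
* `isClosedImmersion_of_affine_cover`, `isImmersion_of_affine_family` : local criteria.
* `exists_immersion_affineSpace` : the main theorem.
-/

set_option autoImplicit false

namespace Groth.Agent.Lib.Helper56.QAffImm

open AlgebraicGeometry CategoryTheory Limits TopologicalSpace Opposite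

universe u

/-- pure algebra: `ψ` hits the structure map, an inverse of `g`, and `g^n * b` for generators `b`. -/
theorem surjective_of_adjoin_eq_top {R A B : Type*} [CommRing R] [CommRing A] [CommRing B]
    (φ : R →+* A) (s : Set A) (hs : @Algebra.adjoin R A _ _ φ.toAlgebra s = ⊤)
    (ψ : B →+* A) (g : A) (h1 : ∀ r, ∃ w, ψ w = φ r) (h2 : ∃ u, ψ u * g = 1)
    (h3 : ∀ b ∈ s, ∃ (n : ℕ) (w : B), ψ w = g ^ n * b) : Function.Surjective ψ := by
  obtain ⟨u, hu⟩ := h2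
  intro z
  have hz : z ∈ @Algebra.adjoin R A _ _ φ.toAlgebra s := by
    rw [hs]; exact @Algebra.mem_top R A _ _ φ.toAlgebra z
  induction hz using Algebra.adjoin_induction with
  | mem x hx =>
    obtain ⟨n, w, hw⟩ := h3 x hx
    refine ⟨u ^ n * w, ?_⟩
    rw [map_mul, map_pow, hw, ← mul_assoc, ← mul_pow, hu, one_pow, one_mul]
  | algebraMap r => exact h1 r
  | add x y _ _ hx hy =>
    obtain ⟨a, rfl⟩ := hx
    obtain ⟨b, rfl⟩ := hy
    exact ⟨a + b, map_add _ _ _⟩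
  | mul x y _ _ hx hy =>
    obtain ⟨a, rfl⟩ := hx
    obtain ⟨b, rfl⟩ := hy
    exact ⟨a * b, map_mul _ _ _⟩

theorem surjective_app_of_eq {X Y : Scheme.{u}} (f : X ⟶ Y) {U U' : Y.Opens} (h : U = U')
    (hs : Function.Surjective (f.app U)) : Function.Surjective (f.app U') := by
  subst h; exact hs

set_option backward.isDefEq.respectTransparency.types false in
theorem isClosedImmersion_of_affine_cover {X Y : Scheme.{u}} (f : X ⟶ Y) {J : Type*}
    (U : J → Y.Opens) (hU : ∀ j, IsAffineOpen (U j)) (hsup : ⨆ j, U j = ⊤)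
    (hX : ∀ j, IsAffineOpen (f ⁻¹ᵁ U j))
    (hsurj : ∀ j, Function.Surjective (f.app (U j))) : IsClosedImmersion f := by
  refine HasAffineProperty.of_iSup_eq_top (P := @IsClosedImmersion)
    (fun j => (⟨U j, hU j⟩ : Y.affineOpens)) hsup (fun j => ⟨hX j, ?_⟩)
  rw [morphismRestrict_appTop]
  have h1 : Function.Surjective (f.app ((U j).ι ''ᵁ ⊤)) :=
    surjective_app_of_eq f (U j).ι_image_top.symm (hsurj j)
  have h2 : Function.Bijective
      (X.presheaf.map (eqToHom (image_morphismRestrict_preimage f (U j) ⊤)).op) :=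
    ConcreteCategory.bijective_of_isIso _
  intro z
  obtain ⟨z', rfl⟩ := h2.2 z
  obtain ⟨w, rfl⟩ := h1 z'
  exact ⟨w, rfl⟩

theorem isImmersion_of_affine_family {X Y : Scheme.{u}} (f : X ⟶ Y) {J : Type*}
    (U : J → Y.Opens) (D : J → X.Opens) (hU : ∀ j, IsAffineOpen (U j))
    (hD : ∀ j, IsAffineOpen (D j)) (hDU : ∀ j, D j = f ⁻¹ᵁ U j)
    (hcov : ∀ x : X, ∃ j, x ∈ D j)
    (hsurj : ∀ j, Function.Surjective (f.appLE (U j) (D j) (hDU j).le)) : IsImmersion f := by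
  obtain rfl : D = fun j => f ⁻¹ᵁ U j := funext hDU
  have hsurj' : ∀ j, Function.Surjective (f.app (U j)) := fun j => by
    have := hsurj j
    rwa [Scheme.Hom.appLE_eq_app] at this
  clear hsurj
  have hrange : Set.range f ⊆ ((⨆ j, U j : Y.Opens) : Set Y) := by
    rintro _ ⟨x, rfl⟩
    obtain ⟨j, hj⟩ := hcov x
    exact Opens.mem_iSup.mpr ⟨j, hj⟩
  obtain ⟨f', rfl⟩ : ∃ f' : X ⟶ (⨆ j, U j : Y.Opens), f' ≫ (⨆ j, U j : Y.Opens).ι = f :=
    ⟨IsOpenImmersion.lift (⨆ j, U j : Y.Opens).ι f (by rw [Scheme.Opens.range_ι]; exact hrange),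
      IsOpenImmersion.lift_fac _ _ _⟩
  have : IsClosedImmersion f' := by
    refine isClosedImmersion_of_affine_cover f' (fun j => (⨆ j, U j : Y.Opens).ι ⁻¹ᵁ U j)
      ?_ ?_ hD ?_
    · intro j
      exact (hU j).preimage_of_isOpenImmersion _
        (by rw [Scheme.Opens.opensRange_ι]; exact le_iSup U j)
    · refine eq_top_iff.mpr fun x _ => ?_
      obtain ⟨j, hj⟩ := Opens.mem_iSup.mp x.2
      exact Opens.mem_iSup.mpr ⟨j, hj⟩
    · intro j z
      obtain ⟨w, hw⟩ := hsurj' j z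
      exact ⟨(⨆ j, U j : Y.Opens).ι.app (U j) w, hw⟩
  infer_instance

theorem isUnit_res_of_le_basicOpen {Y : Scheme.{u}} (c : Γ(Y, ⊤)) (W : Y.Opens)
    (h : W ≤ Y.basicOpen c) : IsUnit (Y.presheaf.map (homOfLE (le_top : W ≤ ⊤)).op c) := by
  have h0 := RingedSpace.isUnit_res_basicOpen Y.toRingedSpace c
  have h1 := h0.map (Y.presheaf.map (homOfLE h).op).hom
  have h2 : (Y.presheaf.map (homOfLE h).op).hom
      (Y.presheaf.map (homOfLE (Y.basicOpen_le c)).op c) =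
      Y.presheaf.map (homOfLE (le_top : W ≤ ⊤)).op c := by
    rw [← CommRingCat.comp_apply, ← Functor.map_comp]; rfl
  rw [← h2]; exact h1

section chart

variable {X S : Scheme.{u}} (π : X ⟶ S) {ι : Type u} (v : ι → Γ(X, ⊤)) (V : S.Opens) (m : ι)

set_option quotPrecheck false

local notation "PP" => 𝔸(ι; S)
local notation "pp" => (𝔸(ι; S) ↘ S)
local notation "ii" => AffineSpace.homOfVector π v
local notation "cc" => AffineSpace.coord S m
local notation "WW" =>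
  ((𝔸(ι; S) ↘ S) ⁻¹ᵁ V ⊓ (𝔸(ι; S)).basicOpen (AffineSpace.coord S m))

theorem isAffineOpen_chart (hV : IsAffineOpen V) : IsAffineOpen WW := by
  have h := (hV.preimage pp).basicOpen
    ((PP).presheaf.map (homOfLE (le_top : pp ⁻¹ᵁ V ≤ ⊤)).op cc)
  rwa [Scheme.basicOpen_res] at h

theorem preimage_chart (hle : X.basicOpen (v m) ≤ π ⁻¹ᵁ V) :
    X.basicOpen (v m) = ii ⁻¹ᵁ WW := by
  rw [Scheme.Hom.preimage_inf, ← Scheme.Hom.comp_preimage, AffineSpace.homOfVector_over,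
    Scheme.preimage_basicOpen_top, AffineSpace.homOfVector_appTop_coord]
  exact (inf_eq_right.mpr hle).symm

theorem appLE_coord (W : (PP).Opens) (D : X.Opens) (e : D ≤ ii ⁻¹ᵁ W) (k : ι) :
    (ii).appLE W D e ((PP).presheaf.map (homOfLE (le_top : W ≤ ⊤)).op (AffineSpace.coord S k)) =
      X.presheaf.map (homOfLE (le_top : D ≤ ⊤)).op (v k) := by
  calc (ii).appLE W D e ((PP).presheaf.map (homOfLE (le_top : W ≤ ⊤)).op (AffineSpace.coord S k))
      = ((PP).presheaf.map (homOfLE (le_top : W ≤ ⊤)).op ≫ (ii).appLE W D e)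
          (AffineSpace.coord S k) := rfl
    _ = (ii).appLE ⊤ D (e.trans (Scheme.Hom.preimage_mono _ le_top)) (AffineSpace.coord S k) := by
        rw [Scheme.Hom.map_appLE]
    _ = X.presheaf.map (homOfLE (le_top : D ≤ ⊤)).op ((ii).appTop (AffineSpace.coord S k)) := rfl
    _ = _ := by rw [AffineSpace.homOfVector_appTop_coord]

theorem chart (_hV : IsAffineOpen V) (g : Γ(X, ⊤)) (hm : v m = g) (hle : X.basicOpen g ≤ π ⁻¹ᵁ V)
    (s : Set Γ(X, X.basicOpen g))
    (hs : @Algebra.adjoin _ _ _ _ (π.appLE V (X.basicOpen g) hle).hom.toAlgebra s = ⊤)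
    (h3 : ∀ b ∈ s, ∃ (n : ℕ) (m' : ι),
      X.presheaf.map (homOfLE (le_top : X.basicOpen g ≤ ⊤)).op (v m') =
        (X.presheaf.map (homOfLE (le_top : X.basicOpen g ≤ ⊤)).op g) ^ n * b) :
    ∃ e : X.basicOpen g = ii ⁻¹ᵁ WW,
      Function.Surjective ((ii).appLE WW (X.basicOpen g) e.le) := by
  subst hm
  have e := preimage_chart π v V m hle
  refine ⟨e, ?_⟩
  refine surjective_of_adjoin_eq_top (π.appLE V (X.basicOpen (v m)) hle).hom s hs _
    (X.presheaf.map (homOfLE (le_top : X.basicOpen (v m) ≤ ⊤)).op (v m)) ?_ ?_ ?_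
  · intro r
    refine ⟨(pp).appLE V WW inf_le_left r, ?_⟩
    have := Scheme.Hom.appLE_comp_appLE ii pp V WW (X.basicOpen (v m)) inf_le_left e.le
    simp only [AffineSpace.homOfVector_over] at this
    exact congr($this r)
  · obtain ⟨u, hu⟩ := (isUnit_res_of_le_basicOpen cc WW inf_le_right).exists_left_inv
    refine ⟨u, ?_⟩
    rw [← appLE_coord π v WW (X.basicOpen (v m)) e.le m, ← map_mul, hu, map_one]
  · intro b hb
    obtain ⟨n, m', h⟩ := h3 b hb
    exact ⟨n, _, (appLE_coord π v WW (X.basicOpen (v m)) e.le m').trans h⟩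

end chart

/-- **Main theorem**: `π : X ⟶ S` locally of finite type with `X` quasi-affine factors as an
immersion into some `𝔸ⁿ_S` followed by the projection. -/
theorem exists_immersion_affineSpace {X S : Scheme.{u}} (π : X ⟶ S)
    [LocallyOfFiniteType π] [X.IsQuasiAffine] :
    ∃ (n : ℕ) (i : X ⟶ 𝔸(ULift.{u} (Fin n); S)),
      IsImmersion i ∧ i ≫ (𝔸(ULift.{u} (Fin n); S) ↘ S) = π := by
  classical
  have h1 : ∀ x : X, ∃ (V : S.Opens) (g : Γ(X, ⊤)), IsAffineOpen V ∧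
      IsAffineOpen (X.basicOpen g) ∧ x ∈ X.basicOpen g ∧ X.basicOpen g ≤ π ⁻¹ᵁ V := by
    intro x
    obtain ⟨V, hV, hxV, -⟩ := Opens.isBasis_iff_nbhd.mp S.isBasis_affineOpens
      (show π x ∈ (⊤ : S.Opens) from trivial)
    obtain ⟨_, ⟨g, hg, rfl⟩, hxg, hgV⟩ := Opens.isBasis_iff_nbhd.mp
      (Scheme.IsQuasiAffine.isBasis_basicOpen X) (show x ∈ π ⁻¹ᵁ V from hxV)
    exact ⟨V, g, hV, hg, hxg, hgV⟩
  choose V g hV hg hxg hgV using h1
  obtain ⟨T, hT⟩ := isCompact_univ.elim_finite_subcover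
    (fun x : X => (X.basicOpen (g x) : Set X))
    (fun x => (X.basicOpen (g x)).isOpen) (fun x _ => Set.mem_iUnion.mpr ⟨x, hxg x⟩)
  have hcovT : ∀ z : X, ∃ x ∈ T, z ∈ X.basicOpen (g x) := fun z => by
    have := hT (Set.mem_univ z)
    simp only [Set.mem_iUnion, SetLike.mem_coe, exists_prop] at this
    exact this
  have h3 : ∀ x : X, ∃ s : Finset Γ(X, X.basicOpen (g x)),
      @Algebra.adjoin _ _ _ _ (π.appLE (V x) (X.basicOpen (g x)) (hgV x)).hom.toAlgebra
        (s : Set Γ(X, X.basicOpen (g x))) = ⊤ :=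
    fun x => (Scheme.Hom.finiteType_appLE π (hV x) (hg x) (hgV x)).out
  choose s hs using h3
  have h4 : ∀ (x : X) (b : Γ(X, X.basicOpen (g x))), ∃ (n : ℕ) (y : Γ(X, ⊤)),
      X.presheaf.map (homOfLE (le_top : X.basicOpen (g x) ≤ ⊤)).op y =
        (X.presheaf.map (homOfLE (le_top : X.basicOpen (g x) ≤ ⊤)).op (g x)) ^ n * b := by
    intro x b
    have := exists_eq_pow_mul_of_isCompact_of_isQuasiSeparated X ⊤ isCompact_univ
      isQuasiSeparated_univ (g x) b
    dsimp only [TopCat.Presheaf.restrictOpenCommRingCat_apply] at this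
    exact this
  choose N y hy using h4
  obtain ⟨n, v, hvA, hvB⟩ : ∃ (n : ℕ) (v : ULift.{u} (Fin n) → Γ(X, ⊤)),
      (∀ x ∈ T, ∃ m, v m = g x) ∧ (∀ x ∈ T, ∀ b ∈ s x, ∃ m, v m = y x b) := by
    obtain ⟨w, hw1, hw2⟩ : ∃ w : (Σ x : ↥T, Option ↥(s x.1)) → Γ(X, ⊤),
        (∀ x hx, w ⟨⟨x, hx⟩, none⟩ = g x) ∧
        (∀ x hx b hb, w ⟨⟨x, hx⟩, some ⟨b, hb⟩⟩ = y x b) :=
      ⟨fun q => q.2.elim (g q.1.1) (fun b => y q.1.1 b.1), fun _ _ => rfl, fun _ _ _ _ => rfl⟩
    refine ⟨Fintype.card (Σ x : ↥T, Option ↥(s x.1)),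
      fun k => w ((Fintype.equivFin (Σ x : ↥T, Option ↥(s x.1))).symm k.down), ?_, ?_⟩
    · intro x hx
      exact ⟨⟨Fintype.equivFin _ ⟨⟨x, hx⟩, none⟩⟩, by simp [hw1]⟩
    · intro x hx b hb
      exact ⟨⟨Fintype.equivFin _ ⟨⟨x, hx⟩, some ⟨b, hb⟩⟩⟩, by simp [hw2]⟩
  refine ⟨n, AffineSpace.homOfVector π v, ?_, AffineSpace.homOfVector_over π v⟩
  choose m hm using hvA
  have hchart : ∀ j : ↥T, ∃ e : X.basicOpen (g j.1) = (AffineSpace.homOfVector π v) ⁻¹ᵁ
      ((𝔸(ULift.{u} (Fin n); S) ↘ S) ⁻¹ᵁ V j.1 ⊓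
        (𝔸(ULift.{u} (Fin n); S)).basicOpen (AffineSpace.coord S (m j.1 j.2))),
      Function.Surjective ((AffineSpace.homOfVector π v).appLE _ _ e.le) := by
    intro j
    have hcx := chart π v (V j.1) (m j.1 j.2) (hV j.1) (g j.1) (hm j.1 j.2) (hgV j.1)
      (s j.1 : Set _)
    have hsx := hs j.1
    refine hcx hsx ?_
    intro b hb
    obtain ⟨m', hm'⟩ := hvB j.1 j.2 b (Finset.mem_coe.mp hb)
    exact ⟨N j.1 b, m', by rw [hm']; exact hy j.1 b⟩
  choose e he using hchart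
  exact isImmersion_of_affine_family (AffineSpace.homOfVector π v) (fun j : ↥T => _)
    (fun j => X.basicOpen (g j.1))
    (fun j => isAffineOpen_chart (V j.1) (m j.1 j.2) (hV j.1)) (fun j => hg j.1) e
    (fun x => by obtain ⟨t, ht, hx⟩ := hcovT x; exact ⟨⟨t, ht⟩, hx⟩) he

end Groth.Agent.Lib.Helper56.QAffImm
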