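import Groth.Agent.Lib.Ample.Basis
import Groth.Agent.Lib.Ample.Restrict

/-!
# Restriction of ample modules along open immersions and isomorphisms

ns `Groth.Agent.Lib.Helper56.RelAmple`.

* `restrictSecHom j s`, `genLocus_restrictSecHom` : `genLocus (s|_{X'}) = j⁻¹ genLocus s` for any open immersion `j`.
* `isAmple_restrict_of_isOpenImmersion j hL` : `L` ample, `j : X' ⟶ X` open immersion, `X'` quasi-compact ⇒
  `L.restrict j` ample.
* `isAmple_of_isAmple_restrict_of_isIso φ h` : ampleness descends along isomorphisms of schemes.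
* `isAmple_restrict_restrict_iff W W'` : `(L|_W)|_{W'}` ample ↔ `L|_{W.ι ''ᵁ W'}` ample.
* `isAmple_restrict_of_le` : `L|_A` ample, `B ≤ A` quasi-compact ⇒ `L|_B` ample.
* `isAmple_restrict_congr` : transport along equality of opens.
-/

set_option maxHeartbeats 400000

universe u

open CategoryTheory CategoryTheory.Limits AlgebraicGeometry TopologicalSpace Opposite

namespace Groth.Agent.Lib.Helper56.RelAmple

open Groth.Agent.Lib.Ample Groth.Agent.Lib.QCoh CohB1 Scheme.Modules

/-- restriction of a section along an arbitrary open immersion -/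
noncomputable def restrictSecHom {X' X : Scheme.{u}} (j : X' ⟶ X) [IsOpenImmersion j]
    {L : X.Modules} (s : Coh.structureModule X ⟶ L) : Coh.structureModule X' ⟶ L.restrict j :=
  (restrictUnitIso j).inv ≫ (restrictFunctor j).map s

theorem genLocus_restrictSecHom {X' X : Scheme.{u}} (j : X' ⟶ X) [IsOpenImmersion j]
    {L : X.Modules} (s : Coh.structureModule X ⟶ L) :
    genLocus (L.restrict j) (restrictSecHom j s) = j ⁻¹ᵁ genLocus L s := by
  have key : ∀ V : X'.Opens,
      Function.Bijective ((restrictSecHom j s).app V) ↔ Function.Bijective (s.app (j ''ᵁ V)) := by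
    intro V
    have h0 : IsIso (restrictUnitIso j).inv := Iso.isIso_inv _
    have h1 : IsIso ((restrictUnitIso j).inv.app V) :=
      (Scheme.Modules.toPresheaf _ ⋙ (evaluation _ _).obj (op V)).map_isIso (restrictUnitIso j).inv
    have h2 : Function.Bijective ((restrictUnitIso j).inv.app V) :=
      (ConcreteCategory.isIso_iff_bijective _).1 h1
    change Function.Bijective ((s.app (j ''ᵁ V)).hom ∘ ((restrictUnitIso j).inv.app V).hom) ↔ _
    exact Function.Bijective.of_comp_iff _ h2
  apply le_antisymm
  · intro x hx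
    change j x ∈ genLocus L s
    have hle : j ''ᵁ (genLocus (L.restrict j) (restrictSecHom j s)) ≤ genLocus L s := by
      rw [le_genLocus_iff']
      intro V hV
      have hV' : j ''ᵁ (j ⁻¹ᵁ V) = V := by
        rw [Scheme.Hom.image_preimage_eq_opensRange_inf]
        exact inf_eq_right.mpr (hV.trans (by rintro _ ⟨y, -, rfl⟩; exact ⟨y, rfl⟩))
      rw [← hV']
      refine (key _).1 ((le_genLocus_iff' _ (restrictSecHom j s) _).1 le_rfl _ ?_)
      intro y hy
      obtain ⟨z, hz, hzy⟩ := hV hy
      have : z = y := j.isOpenEmbedding.injective hzy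
      exact this ▸ hz
    exact hle ⟨x, hx, rfl⟩
  · rw [le_genLocus_iff']
    intro V hV
    rw [key]
    refine (le_genLocus_iff' L s _).1 le_rfl _ ?_
    rintro _ ⟨y, hy, rfl⟩
    exact hV hy

/-- an ample module restricts to an ample module on any quasi-compact scheme openly immersed -/
theorem isAmple_restrict_of_isOpenImmersion {X' X : Scheme.{u}} (j : X' ⟶ X) [IsOpenImmersion j]
    [CompactSpace X'] {L : X.Modules} (hL : IsAmple L) : IsAmple (L.restrict j) := by
  refine ⟨isInvertible_restrict j hL.1, inferInstance, fun x => ?_⟩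
  obtain ⟨N, t, hx, hle, haff⟩ := exists_genLocus_le_of_isAmple hL (j x) j.opensRange ⟨x, rfl⟩
  have hg := (genLocus_comp_iso (restrictSecHom j t) (restrictTensorPowIso j L (N + 1))).trans
    (genLocus_restrictSecHom j t)
  refine ⟨N, restrictSecHom j t ≫ (restrictTensorPowIso j L (N + 1)).hom, ?_, ?_⟩
  · rw [hg]; exact hx
  · rw [hg, ← Scheme.Hom.isAffineOpen_iff_of_isOpenImmersion j,
      Scheme.Hom.image_preimage_eq_opensRange_inf, inf_eq_right.mpr hle]
    exact haff

/-- ampleness descends along an isomorphism of schemes -/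
theorem isAmple_of_isAmple_restrict_of_isIso {X' X : Scheme.{u}} (φ : X' ⟶ X) [IsIso φ]
    {M : X.Modules} (h : IsAmple (M.restrict φ)) : IsAmple M := by
  have hc' : CompactSpace X' := h.2.1
  have hc : CompactSpace X := φ.homeomorph.compactSpace
  have h1 := isAmple_restrict_of_isOpenImmersion (inv φ) h
  have e : (M.restrict φ).restrict (inv φ) ≅ M :=
    ((restrictFunctorComp (inv φ) φ).app M).symm ≪≫
      (restrictFunctorCongr (IsIso.inv_hom_id φ)).app M ≪≫ restrictFunctorId.app M
  exact isAmple_of_iso e h1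

variable {X : Scheme.{u}}

theorem isAmple_restrict_congr {L : X.Modules} {A B : X.Opens} (h : A = B)
    (hA : IsAmple (L.restrict A.ι)) : IsAmple (L.restrict B.ι) := by
  subst h; exact hA

/-- `(L|_W)|_{W'}` is ample iff `L|_{W.ι ''ᵁ W'}` is. -/
theorem isAmple_restrict_restrict_iff {L : X.Modules} (W : X.Opens)
    (W' : (W : Scheme.{u}).Opens) :
    IsAmple ((L.restrict W.ι).restrict W'.ι) ↔ IsAmple (L.restrict (W.ι ''ᵁ W').ι) := by
  have e : L.restrict (W.ι ''ᵁ W').ι ≅
      ((L.restrict W.ι).restrict W'.ι).restrict (W.ι.isoImage W').inv :=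
    (restrictFunctorCongr (W.ι.isoImage_inv_ι W').symm).app L ≪≫
      (restrictFunctorComp (W.ι.isoImage W').inv (W'.ι ≫ W.ι)).app L ≪≫
      (restrictFunctor (W.ι.isoImage W').inv).mapIso ((restrictFunctorComp W'.ι W.ι).app L)
  constructor
  · intro h
    have hc' : CompactSpace (↑W' : Scheme.{u}) := h.2.1
    have hc : CompactSpace (↑(W.ι ''ᵁ W') : Scheme.{u}) :=
      (W.ι.isoImage W').hom.homeomorph.compactSpace
    exact isAmple_of_iso e.symm (isAmple_restrict_of_isOpenImmersion (W.ι.isoImage W').inv h)
  · intro h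
    exact isAmple_of_isAmple_restrict_of_isIso (W.ι.isoImage W').inv (isAmple_of_iso e h)

/-- restriction of an ample module to a smaller quasi-compact open -/
theorem isAmple_restrict_of_le {L : X.Modules} {A B : X.Opens} (hBA : B ≤ A)
    (hB : IsCompact (B : Set X)) (h : IsAmple (L.restrict A.ι)) : IsAmple (L.restrict B.ι) := by
  have : CompactSpace (↑B : Scheme.{u}) := isCompact_iff_compactSpace.mp hB
  have h1 := isAmple_restrict_of_isOpenImmersion (X.homOfLE hBA) h
  have e : L.restrict B.ι ≅ (L.restrict A.ι).restrict (X.homOfLE hBA) :=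
    (restrictFunctorCongr (X.homOfLE_ι hBA).symm).app L ≪≫
      (restrictFunctorComp (X.homOfLE hBA) A.ι).app L
  exact isAmple_of_iso e.symm h1

end Groth.Agent.Lib.Helper56.RelAmple
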