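import Groth.Agent.Lib.Helper56.TwistExt
import Groth.Agent.Lib.Helper56.PullTensorF
import Groth.Agent.Lib.Helper56.RelAmpleC
import Groth.Agent.Lib.Ample.Pullback
import Groth.Agent.S9691

/-!
# Relative ampleness and composition (EGA II 4.6.13 (ii)) (helper56)

ns `Groth.Agent.Lib.Helper56.RelAmpleComp`.

* `isInvertible_of_isRelAmple`
* `isRelAmple_resLE` : restriction of a relatively ample module over an open of the base
* `isRelAmple_of_forall_isAmple_restrict` : relative ampleness from ampleness over an affine open cover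
* `exists_isAmple_tensorMod_pullback_tensorPow` : `L` `f`-ample, `K` ample on `Y` ⇒ `L ⊗ f^*K^n` ample, `n ≫ 0`
* `exists_isRelAmple_comp` (= S2331)
-/

set_option maxHeartbeats 400000

universe u

open CategoryTheory CategoryTheory.Limits AlgebraicGeometry TopologicalSpace Opposite

namespace Groth.Agent.Lib.Helper56.RelAmpleComp

open Groth.Agent.Lib.Ample Groth.Agent.Lib.QCoh CohB1 Scheme.Modules
open Groth.Agent.Lib.Helper56.RelAmple Groth.Agent.Lib.Helper56.TwistExt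
open Groth.Agent.Lib.Helper56.PullTensor

theorem isInvertible_of_isRelAmple {X Y : Scheme.{u}} (f : X ⟶ Y) {L : X.Modules}
    (hL : RelAmple.IsRelAmple f L) : PicF.IsInvertible L := fun x' => by
  obtain ⟨V, hV, hxV, -⟩ := Opens.isBasis_iff_nbhd.1 Y.isBasis_affineOpens (U := ⊤)
    (x := f.base x') trivial
  exact exists_iso_unit_of_isInvertible_restrict (f ⁻¹ᵁ V) (hL.2 ⟨V, hV⟩).1 x' hxV

theorem isRelAmple_resLE {X Y : Scheme.{u}} (f : X ⟶ Y) {L : X.Modules}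
    (hL : RelAmple.IsRelAmple f L) (U : Y.Opens) :
    RelAmple.IsRelAmple (f.resLE U (f ⁻¹ᵁ U) le_rfl) (L.restrict (f ⁻¹ᵁ U).ι) := by
  rw [Scheme.Hom.resLE_eq_morphismRestrict]
  obtain ⟨_, h⟩ := hL
  refine ⟨inferInstance, fun V' => ?_⟩
  have hV : IsAffineOpen (U.ι ''ᵁ V'.1) := V'.2.image_of_isOpenImmersion U.ι
  rw [isAmple_restrict_restrict_iff]
  exact isAmple_restrict_congr (image_morphismRestrict_preimage f U V'.1).symm (h ⟨_, hV⟩)

theorem isRelAmple_of_forall_isAmple_restrict {X S : Scheme.{u}} (h : X ⟶ S) [QuasiCompact h]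
    (P : X.Modules) {ι : Type u} (U : ι → S.Opens) (hU : ⨆ i, U i = ⊤)
    (hUaff : ∀ i, IsAffineOpen (U i)) (hamp : ∀ i, IsAmple (P.restrict (h ⁻¹ᵁ U i).ι)) :
    RelAmple.IsRelAmple h P := by
  refine ⟨inferInstance, fun V => ?_⟩
  apply isAmple_restrict_of_forall_exists_basicOpen _ (h.isCompact_preimage V.2.isCompact)
  intro x hx
  have hy : h x ∈ (⊤ : S.Opens) := trivial
  rw [← hU] at hy
  obtain ⟨i, hyi⟩ := TopologicalSpace.Opens.mem_iSup.mp hy
  obtain ⟨h', hle, hyh⟩ := V.2.exists_basicOpen_le (V := U i) ⟨h x, hyi⟩ hx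
  refine ⟨h.app V.1 h', ?_, ?_⟩
  · rw [← Scheme.preimage_basicOpen]; exact hyh
  · rw [← Scheme.preimage_basicOpen]
    have hmono : h ⁻¹ᵁ S.basicOpen h' ≤ h ⁻¹ᵁ U i := fun z hz => hle hz
    exact isAmple_restrict_of_le hmono (h.isCompact_preimage (V.2.basicOpen h').isCompact) (hamp i)

/-- **core (absolute form)**: `L` ample relative to `f : X ⟶ Y`, `K` ample on `Y`: `L ⊗ f^*K^n` is
ample on `X` for all `n ≫ 0`. -/
theorem exists_isAmple_tensorMod_pullback_tensorPow {X Y : Scheme.{u}} (f : X ⟶ Y)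
    {L : X.Modules} {K : Y.Modules} (hL : RelAmple.IsRelAmple f L) (hK : IsAmple K) :
    ∃ n₀ : ℕ, ∀ n, n₀ ≤ n →
      IsAmple (tensorMod L ((Scheme.Modules.pullback f).obj (tensorPow K n))) := by
  have hqc : QuasiCompact f := hL.1
  have hsep : IsSeparated f := Groth.Agent.S9691.result f L hL
  have hcY : CompactSpace Y := hK.2.1
  have hcX : CompactSpace X := QuasiCompact.compactSpace_of_compactSpace f
  have hqsY : QuasiSeparatedSpace Y := Basis.quasiSeparatedSpace_of_isAmple hK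
  have hqsX : QuasiSeparatedSpace X := quasiSeparatedSpace_of_quasiSeparated f
  have hLinv : PicF.IsInvertible L := isInvertible_of_isRelAmple f hL
  have hKinv := hK.1
  obtain ⟨M, hMdef⟩ : ∃ M : X.Modules, M = (Scheme.Modules.pullback f).obj K := ⟨_, rfl⟩
  have hM : PicF.IsInvertible M := hMdef ▸ isInvertible_pullback f hKinv
  have key : ∀ x : X, ∃ (A : X.Opens) (e j₀ : ℕ), x ∈ A ∧ IsAffineOpen A ∧ ∀ n, j₀ ≤ n →
      ∃ s : Coh.structureModule X ⟶ tensorPow (tensorMod L (tensorPow M n)) (e + 1),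
        genLocus _ s = A := by
    intro x
    obtain ⟨m, t, hy, haff⟩ := hK.2.2 (f.base x)
    obtain ⟨W, hWdef⟩ : ∃ W : X.Opens, W = f ⁻¹ᵁ genLocus _ t := ⟨_, rfl⟩
    obtain ⟨τ, hτ⟩ : ∃ τ : Coh.structureModule X ⟶ tensorPow M (m + 1), genLocus _ τ = W := by
      subst hMdef
      exact ⟨pullPowSec f hKinv (m + 1) t,
        (genLocus_pullPowSec f hKinv (m + 1) t).trans hWdef.symm⟩
    have hamp : IsAmple (L.restrict W.ι) := by
      rw [hWdef]; exact hL.2 ⟨_, haff⟩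
    have hxW : x ∈ W := by rw [hWdef]; exact hy
    obtain ⟨k, σ, hxσ, hσaff⟩ := hamp.2.2 ⟨x, hxW⟩
    obtain ⟨E, hE⟩ : ∃ E, (k + 1) * (m + 1) = E + 1 :=
      ⟨(k + 1) * (m + 1) - 1, by
        have : 0 < (k + 1) * (m + 1) := Nat.mul_pos (Nat.succ_pos k) (Nat.succ_pos m)
        omega⟩
    obtain ⟨σ₁, hσ₁⟩ := exists_pow_section hamp.1 σ m E hE
    have hLE := isInvertible_tensorPow hLinv (E + 1)
    have hMm := isInvertible_tensorPow hM (m + 1)
    obtain ⟨τ', hτ'⟩ : ∃ τ' : Coh.structureModule (↑W : Scheme.{u}) ⟶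
        (tensorPow L (E + 1)).restrict W.ι, genLocus _ τ' = genLocus _ σ :=
      ⟨σ₁ ≫ (restrictTensorPowIso W.ι L (E + 1)).inv,
        (genLocus_comp_iso σ₁ (restrictTensorPowIso W.ι L (E + 1)).symm).trans hσ₁⟩
    obtain ⟨j₀, hj₀⟩ := exists_genLocus_eq_image_twist hLE hMm τ W hτ τ'
    refine ⟨W.ι ''ᵁ genLocus _ σ, E, j₀ + 1, ⟨⟨x, hxW⟩, hxσ, rfl⟩,
      hσaff.image_of_isOpenImmersion W.ι, fun n hn => ?_⟩
    obtain ⟨j, hj⟩ : ∃ j, n * (k + 1) = j + 1 :=
      ⟨n * (k + 1) - 1, by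
        have : 0 < n * (k + 1) := Nat.mul_pos (by omega) (Nat.succ_pos k)
        omega⟩
    have hjj : j₀ ≤ j := by
      have : n ≤ n * (k + 1) := Nat.le_mul_of_pos_right n (Nat.succ_pos k)
      omega
    obtain ⟨s, hs⟩ := hj₀ j hjj
    have hnum : (m + 1) * (j + 1) = n * (E + 1) := by
      rw [← hj, ← hE]; ring
    obtain ⟨γ⟩ : Nonempty (twistIter (tensorPow L (E + 1)) (tensorPow M (m + 1)) (j + 1) ≅
        tensorPow (tensorMod L (tensorPow M n)) (E + 1)) :=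
      ⟨twistIterIso _ _ (j + 1) ≪≫
        tensorModCongr (Iso.refl _)
          (Groth.Agent.Lib.QCoh.tensorPowMulIso M (m + 1) (j + 1) ≪≫ tensorPowEqIso M hnum ≪≫
            (Groth.Agent.Lib.QCoh.tensorPowMulIso M n (E + 1)).symm) ≪≫
        (tensorPowTensorIso L (tensorPow M n) (E + 1)).symm⟩
    exact ⟨s ≫ γ.hom, (genLocus_comp_iso s γ).trans
      (hs.trans (congrArg (fun T => W.ι ''ᵁ T) hτ'))⟩
  choose A e j₀ hxA hAaff hsec using key
  obtain ⟨T, hT⟩ := isCompact_univ.elim_finite_subcover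
    (fun x : X => ((A x : X.Opens) : Set X)) (fun x => (A x).isOpen)
    (fun y _ => Set.mem_iUnion.2 ⟨y, hxA y⟩)
  refine ⟨T.sup j₀, fun n hn => ?_⟩
  have hamp : IsAmple (tensorMod L (tensorPow M n)) := by
    refine ⟨isInvertible_tensorMod hLinv (isInvertible_tensorPow hM n), hcX, fun z => ?_⟩
    obtain ⟨x, hx'⟩ := Set.mem_iUnion.1 (hT (Set.mem_univ z))
    obtain ⟨hxT, hz⟩ := Set.mem_iUnion.1 hx'
    obtain ⟨s, hs⟩ := hsec x n ((Finset.le_sup hxT).trans hn)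
    exact ⟨e x, s, by rw [hs]; exact hz, by rw [hs]; exact hAaff x⟩
  subst hMdef
  exact isAmple_of_iso (tensorModCongr (Iso.refl L) (pullbackTensorPowIso f hKinv n).symm) hamp

/-- **S2331** (EGA II 4.6.13 (ii)) -/
theorem exists_isRelAmple_comp {X Y Z : Scheme.{u}} [CompactSpace Z] (f : X ⟶ Y) (g : Y ⟶ Z)
    [QuasiCompact f] [QuasiCompact g] (L : X.Modules) (K : Y.Modules)
    (hL : RelAmple.IsRelAmple f L) (hK : RelAmple.IsRelAmple g K) :
    ∃ n₀ : ℕ, 0 < n₀ ∧ ∀ n, n₀ ≤ n →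
      RelAmple.IsRelAmple (f ≫ g)
        (tensorMod L ((Scheme.Modules.pullback f).obj (tensorPow K n))) := by
  have key : ∀ V : Z.affineOpens, ∃ nV : ℕ, ∀ n, nV ≤ n →
      IsAmple ((tensorMod L ((Scheme.Modules.pullback f).obj (tensorPow K n))).restrict
        ((f ≫ g) ⁻¹ᵁ V.1).ι) := by
    intro V
    obtain ⟨YV, hYV⟩ : ∃ YV : Y.Opens, YV = g ⁻¹ᵁ V.1 := ⟨_, rfl⟩
    obtain ⟨XV, hXV⟩ : ∃ XV : X.Opens, XV = f ⁻¹ᵁ YV := ⟨_, rfl⟩
    have hKV : IsAmple (K.restrict YV.ι) := by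
      rw [hYV]; exact hK.2 V
    have hLV : RelAmple.IsRelAmple (f.resLE YV XV (le_of_eq hXV)) (L.restrict XV.ι) := by
      subst hXV; exact isRelAmple_resLE f hL YV
    obtain ⟨nV, hnV⟩ := exists_isAmple_tensorMod_pullback_tensorPow
      (f.resLE YV XV (le_of_eq hXV)) hLV hKV
    refine ⟨nV, fun n hn => ?_⟩
    have h1 := hnV n hn
    obtain ⟨e⟩ : Nonempty ((tensorMod L
        ((Scheme.Modules.pullback f).obj (tensorPow K n))).restrict XV.ι ≅
        tensorMod (L.restrict XV.ι) ((Scheme.Modules.pullback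
          (f.resLE YV XV (le_of_eq hXV))).obj (tensorPow (K.restrict YV.ι) n))) :=
      ⟨restrictTensorModIso XV.ι L _ ≪≫ tensorModCongr (Iso.refl _)
        (pullbackRestrictIso f (tensorPow K n) YV XV (le_of_eq hXV) ≪≫
          (Scheme.Modules.pullback (f.resLE YV XV (le_of_eq hXV))).mapIso
            (restrictTensorPowIso YV.ι K n))⟩
    have h2 := isAmple_of_iso e.symm h1
    refine isAmple_restrict_congr ?_ h2
    rw [hXV, hYV]; rfl
  choose nV hnV using key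
  obtain ⟨T, hT⟩ := isCompact_univ.elim_finite_subcover
    (fun V : Z.affineOpens => ((V.1 : Z.Opens) : Set Z)) (fun V => V.1.isOpen)
    (fun z _ => by
      obtain ⟨V, hV, hzV, -⟩ := Opens.isBasis_iff_nbhd.1 Z.isBasis_affineOpens (U := ⊤)
        (x := z) trivial
      exact Set.mem_iUnion.2 ⟨⟨V, hV⟩, hzV⟩)
  refine ⟨T.sup nV + 1, Nat.succ_pos _, fun n hn => ?_⟩
  refine isRelAmple_of_forall_isAmple_restrict (f ≫ g) _
    (fun i : {V : Z.affineOpens // V ∈ T} => i.1.1) ?_ (fun i => i.1.2)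
    (fun i => hnV i.1 n ?_)
  · rw [eq_top_iff]
    intro z _
    obtain ⟨V, hV'⟩ := Set.mem_iUnion.1 (hT (Set.mem_univ z))
    obtain ⟨hVT, hz⟩ := Set.mem_iUnion.1 hV'
    exact Opens.mem_iSup.2 ⟨⟨V, hVT⟩, hz⟩
  · exact ((Finset.le_sup i.2).trans (Nat.le_succ _)).trans hn

end Groth.Agent.Lib.Helper56.RelAmpleComp
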