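import Groth.Agent.Lib.Ample.Helper50_IdealTwist
import Groth.Agent.Lib.Ample.Helper50_CounitGG
import Groth.Agent.Lib.Ample.Helper50_Counit
import Groth.Agent.Lib.QCoh.Helper50_FTIdeal
import Groth.Agent.Lib.QCoh.TensorQCoh
import Groth.Agent.Lib.QCoh.TensorPic

/-!
# Relative ampleness and the counit `f^* f_* (F ⊗ L^n) ⟶ F ⊗ L^n` (helper56)

EGA II 4.6.8: for `f : X ⟶ Y` quasi-compact separated with `X` quasi-compact separated and `L`
invertible, `L` is `f`-ample iff for all `F` quasi-coherent of finite type the counit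
`f^* f_* (F ⊗ L^n) ⟶ F ⊗ L^n` is an epimorphism for `n ≫ 0`, iff for every quasi-coherent ideal of
finite type `J` some `J ⊗ L^n` (`n > 0`) has epimorphic counit.

* `isAmple_restrict_of_counit_epi`, `isRelAmple_of_counit_epi`, `exists_epi_counit_of_isRelAmple`.
-/

set_option autoImplicit false
set_option maxHeartbeats 400000

universe u

open CategoryTheory CategoryTheory.Limits AlgebraicGeometry Opposite TopologicalSpace

namespace Groth.Agent.Lib.Helper56.RelAmpleCounit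

open Groth.Agent.Lib.QCoh CohB1 Scheme.Modules Groth.Agent.Lib.Ample
open Groth.Agent.Lib.QCoh.FTIdeal Groth.Agent.Lib.QCoh.SubExt Groth.Agent.Lib.QCoh.QAffIdeal
open Groth.Agent.Lib.Ample.IdealTwist Groth.Agent.Lib.Ample.Counit

variable {X Y : Scheme.{u}}

/-- over an affine open `V` of the base, `L` is ample on `f⁻¹ V` as soon as every quasi-coherent
ideal of finite type of `O_X` has a positive twist with epimorphic counit -/
theorem isAmple_restrict_of_counit_epi [CompactSpace X] [QuasiSeparatedSpace X] (f : X ⟶ Y)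
    [QuasiCompact f] [QuasiSeparated f] (L : X.Modules) (hL : PicF.IsInvertible L)
    (h : ∀ (J : X.Modules) (i : J ⟶ Coh.structureModule X), Mono i → J.IsQuasicoherent →
      J.IsFiniteType → ∃ n : ℕ, 0 < n ∧
        Epi ((pullbackPushforwardAdjunction f).counit.app (tensorMod J (tensorPow L n))))
    (V : Y.Opens) (hV : IsAffineOpen V) : IsAmple (L.restrict (f ⁻¹ᵁ V).ι) := by
  have hUc : IsCompact ((f ⁻¹ᵁ V : X.Opens) : Set X) :=
    QuasiCompact.isCompact_preimage (f := f) _ V.2 hV.isCompact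
  have hc : CompactSpace ((f ⁻¹ᵁ V : X.Opens) : Scheme.{u}) := isCompact_iff_compactSpace.mp hUc
  have hqs : QuasiSeparatedSpace ((f ⁻¹ᵁ V : X.Opens) : Scheme.{u}) :=
    quasiSeparatedSpace_of_quasiSeparated (f ⁻¹ᵁ V).ι
  have hLU : PicF.IsInvertible (L.restrict (f ⁻¹ᵁ V).ι) := isInvertible_restrict _ hL
  refine ⟨hLU, hc, fun x => ?_⟩
  obtain ⟨V', hV', hxV', -⟩ := exists_isAffineOpen_mem_and_subset (x := x) (U := ⊤) trivial
  obtain ⟨I, hfg, hsupp, htop⟩ := exists_fg_ideal_support_eq_compl V' hV'.isCompact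
  have hIft : (ClSub.idealMod I).IsFiniteType := isFiniteType_idealMod I hfg
  have hm : Mono (ClSub.idealModι I) := by
    unfold ClSub.idealModι; exact equalizer.ι_mono
  have hm' : Mono (ClSub.idealModι I ≫ (restrictUnitIso (f ⁻¹ᵁ V).ι).inv) := mono_comp _ _
  obtain ⟨J, i', e, hmono, hq, hft, -⟩ := master_qcqs (f ⁻¹ᵁ V) hUc (Coh.structureModule X)
    (ClSub.idealMod I) (ClSub.idealModι I ≫ (restrictUnitIso (f ⁻¹ᵁ V).ι).inv)
  obtain ⟨n, hn, hε⟩ := h J i' hmono hq hft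
  obtain ⟨n', rfl⟩ : ∃ n', n = n' + 1 := ⟨n - 1, by omega⟩
  have hLq : (tensorPow L (n' + 1)).IsQuasicoherent :=
    isQuasicoherent_of_isInvertible (isInvertible_tensorPow hL (n' + 1))
  have hJq : (tensorMod J (tensorPow L (n' + 1))).IsQuasicoherent := isQuasicoherent_tensorMod _ _
  obtain ⟨ι, p, hp⟩ := isGloballyGenerated_restrict_of_epi_counit f
    (tensorMod J (tensorPow L (n' + 1))) hε V hV
  obtain ⟨γ⟩ : Nonempty ((tensorMod J (tensorPow L (n' + 1))).restrict (f ⁻¹ᵁ V).ι ≅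
      tensorMod (ClSub.idealMod I) (tensorPow (L.restrict (f ⁻¹ᵁ V).ι) (n' + 1))) :=
    ⟨restrictTensorModIso (f ⁻¹ᵁ V).ι J (tensorPow L (n' + 1)) ≪≫
      tensorModCongr e (restrictTensorPowIso (f ⁻¹ᵁ V).ι L (n' + 1))⟩
  have hγi : IsIso γ.hom := ⟨γ.inv, γ.hom_inv_id, γ.inv_hom_id⟩
  have hγ : Epi γ.hom := IsIso.epi_of_iso γ.hom
  obtain ⟨q, hq⟩ : ∃ q : freeModule ((f ⁻¹ᵁ V : X.Opens) : Scheme.{u}) ι ⟶
      tensorMod (ClSub.idealMod I) (tensorPow (L.restrict (f ⁻¹ᵁ V).ι) (n' + 1)), Epi q :=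
    ⟨p ≫ γ.hom, epi_comp' hp hγ⟩
  obtain ⟨s, hxs, haff⟩ := exists_affine_genLocus (isInvertible_tensorPow hLU (n' + 1))
    q hV' hsupp htop x hxV'
  exact ⟨n', s, hxs, haff⟩

/-- **EGA II 4.6.8 (c') ⟹ (a)** -/
theorem isRelAmple_of_counit_epi [CompactSpace X] [QuasiSeparatedSpace X] (f : X ⟶ Y)
    [QuasiCompact f] [QuasiSeparated f] (L : X.Modules) (hL : PicF.IsInvertible L)
    (h : ∀ (J : X.Modules) (i : J ⟶ Coh.structureModule X), Mono i → J.IsQuasicoherent →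
      J.IsFiniteType → ∃ n : ℕ, 0 < n ∧
        Epi ((pullbackPushforwardAdjunction f).counit.app (tensorMod J (tensorPow L n)))) :
    RelAmple.IsRelAmple f L :=
  ⟨inferInstance, fun V => isAmple_restrict_of_counit_epi f L hL h V.1 V.2⟩

/-- **EGA II 4.6.8 (a) ⟹ (c)** -/
theorem exists_epi_counit_of_isRelAmple [CompactSpace X] (f : X ⟶ Y) (L : X.Modules)
    (hL : RelAmple.IsRelAmple f L) (F : X.Modules) [F.IsQuasicoherent] [F.IsFiniteType] :
    ∃ n₀ : ℕ, 0 < n₀ ∧ ∀ n : ℕ, n₀ ≤ n →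
      Epi ((pullbackPushforwardAdjunction f).counit.app (tensorMod F (tensorPow L n))) := by
  classical
  have h1 : ∀ x : X, ∃ V : Y.Opens, IsAffineOpen V ∧ f.base x ∈ V := fun x => by
    obtain ⟨V, hV, hxV, -⟩ := exists_isAffineOpen_mem_and_subset (x := f.base x) (U := ⊤) trivial
    exact ⟨V, hV, hxV⟩
  choose V hV hxV using h1
  obtain ⟨T, hT⟩ := isCompact_univ.elim_finite_subcover
    (fun x : X => ((f ⁻¹ᵁ V x : X.Opens) : Set X)) (fun x => (f ⁻¹ᵁ V x).isOpen)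
    (fun x _ => Set.mem_iUnion.mpr ⟨x, hxV x⟩)
  have hcov : ∀ z : X, ∃ i : ↥T, f.base z ∈ V i.1 := fun z => by
    have := hT (Set.mem_univ z)
    simp only [Set.mem_iUnion, exists_prop] at this
    obtain ⟨x, hx, hz⟩ := this
    exact ⟨⟨x, hx⟩, hz⟩
  obtain ⟨N, hN⟩ := epi_counit_tensorPow_of_cover f F (fun i : ↥T => V i.1) hcov
    (fun i => hL.2 ⟨V i.1, hV i.1⟩)
  exact ⟨max N 1, by omega, fun n hn => hN n (le_trans (le_max_left _ _) hn)⟩

end Groth.Agent.Lib.Helper56.RelAmpleCounit
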