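import Groth.Agent.Lib.Helper56.AdmExtend
import Groth.Agent.Lib.BlowUp.Exists
import Groth.Agent.Lib.Helper58.Constructible

/-!
# Separating disjoint closed constructible subsets by an admissible blow-up (helper56)

* `exists_fg_comap_eq` : on a qcqs scheme every finite type ideal sheaf on a quasi-compact open
  `V` is the restriction of a finite type ideal sheaf on `X`.
* `isCompact_compl_of_isConstructible`
* `exists_blowUp_separating` : Stacks 080P/0ESL-type statement (S1279).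
-/

set_option autoImplicit false
set_option linter.style.haveILetI false
universe u
open CategoryTheory CategoryTheory.Limits AlgebraicGeometry TopologicalSpace Topology

namespace Groth.Agent.Lib.Helper56.SepBlowUp

open Groth.Agent.Lib.QCoh Groth.Agent.Lib.QCoh.FTIdeal Groth.Agent.Lib.Helper56.AdmExtend

variable {X : Scheme.{u}}

theorem exists_fg_comap_eq [CompactSpace X] [QuasiSeparatedSpace X] (V : X.Opens)
    (hV : IsCompact (V : Set X)) (𝓘 : (V : Scheme.{u}).IdealSheafData)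
    (hft : BlowUp.IsFiniteTypeIdeal 𝓘) :
    ∃ 𝓙 : X.IdealSheafData, BlowUp.IsFiniteTypeIdeal 𝓙 ∧ 𝓙.comap V.ι = 𝓘 := by
  haveI := quasiCompact_ι V hV
  have hcm := comap_map_ι V 𝓘
  have hfg : ∀ (W : X.Opens) (hW : IsAffineOpen W), W ≤ V →
      ((𝓘.map V.ι).ideal ⟨W, hW⟩).FG := by
    intro W hW hWV
    have hWr : W ≤ V.ι.opensRange := by rw [Scheme.Opens.opensRange_ι]; exact hWV
    have H : IsAffineOpen (V.ι ⁻¹ᵁ W) := hW.preimage_of_isOpenImmersion V.ι hWr
    rw [Scheme.IdealSheafData.ideal_map 𝓘 V.ι ⟨W, hW⟩ H]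
    haveI : IsIso (V.ι.app W) := V.ι.isIso_app W hWr
    have h1 : (𝓘.ideal ⟨_, H⟩).comap (V.ι.app W).hom =
        (𝓘.ideal ⟨_, H⟩).map
          ((asIso (V.ι.app W)).commRingCatIsoToRingEquiv.symm : _ →+* _) :=
      (Ideal.map_symm (asIso (V.ι.app W)).commRingCatIsoToRingEquiv).symm
    rw [h1]
    exact (hft ⟨_, H⟩).map _
  generalize 𝓘.map V.ι = I₁ at hcm hfg
  obtain ⟨J₀, hJ₀fg, -, hJ₀eq⟩ := exists_fg_extension V hV I₁ hfg
  refine ⟨J₀, hJ₀fg, ?_⟩
  rw [← hcm]
  ext O : 2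
  rw [Scheme.IdealSheafData.ideal_comap_of_isOpenImmersion,
    Scheme.IdealSheafData.ideal_comap_of_isOpenImmersion]
  congr 1
  apply hJ₀eq
  intro x hx
  obtain ⟨y, -, rfl⟩ := hx
  exact y.2

theorem isCompact_compl_of_isConstructible {Y : Type*} [TopologicalSpace Y] [CompactSpace Y]
    {T : Set Y} (hT : IsConstructible T) : IsCompact Tᶜ := by
  have h := Groth.Agent.Lib.Helper58.isRetrocompact_of_isConstructible hT.compl
  have := h isCompact_univ isOpen_univ
  rwa [Set.inter_univ] at this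

/-- a closed constructible subset of a qcqs scheme is the support of a finite type ideal -/
theorem exists_fg_ideal_support_eq [CompactSpace X] [QuasiSeparatedSpace X] (T : Set X)
    (hT : IsClosed T) (cT : IsConstructible T) :
    ∃ I : X.IdealSheafData, BlowUp.IsFiniteTypeIdeal I ∧ (I.support : Set X) = T := by
  obtain ⟨I, h1, h2, -⟩ := exists_fg_ideal_support_eq_compl (X := X) ⟨Tᶜ, hT.isOpen_compl⟩
    (isCompact_compl_of_isConstructible cT)
  refine ⟨I, h1, ?_⟩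
  rw [h2]
  exact compl_compl T

theorem exists_blowUp_separating [CompactSpace X] [QuasiSeparatedSpace X]
    (U : X.Opens) (hU : IsCompact (U : Set X)) (T₁ T₂ : Set U)
    (h₁ : IsClosed T₁) (h₂ : IsClosed T₂) (c₁ : IsConstructible T₁) (c₂ : IsConstructible T₂)
    (hd : Disjoint T₁ T₂) :
    ∃ (𝓘 : X.IdealSheafData) (X' : Scheme.{u}) (b : X' ⟶ X), BlowUp.IsBlowUp b 𝓘 ∧
      BlowUp.IsAdmissibleFor U 𝓘 ∧
      Disjoint (closure (b.base ⁻¹' (Subtype.val '' T₁)))
        (closure (b.base ⁻¹' (Subtype.val '' T₂))) := by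
  haveI : CompactSpace (U : Scheme.{u}) := isCompact_iff_compactSpace.mp hU
  haveI : QuasiSeparatedSpace (U : Scheme.{u}) :=
    QuasiSeparatedSpace.of_isOpenEmbedding U.ι.isOpenEmbedding
  obtain ⟨I₁, hI₁fg, hI₁s⟩ := exists_fg_ideal_support_eq (X := (U : Scheme.{u})) T₁ h₁ c₁
  obtain ⟨I₂, hI₂fg, hI₂s⟩ := exists_fg_ideal_support_eq (X := (U : Scheme.{u})) T₂ h₂ c₂
  obtain ⟨J₁, hJ₁fg, hJ₁c⟩ := exists_fg_comap_eq U hU I₁ hI₁fg
  obtain ⟨J₂, hJ₂fg, hJ₂c⟩ := exists_fg_comap_eq U hU I₂ hI₂fg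
  -- points of `U` in the support of `J_i` lie in `T_i`
  have hs₁ : ∀ (x : X) (hx : x ∈ U), x ∈ J₁.support ↔ (⟨x, hx⟩ : U) ∈ T₁ := by
    intro x hx
    rw [← hI₁s, ← hJ₁c]
    show _ ↔ (⟨x, hx⟩ : U) ∈ (J₁.comap U.ι).support
    rw [Scheme.IdealSheafData.support_comap]
    rfl
  have hs₂ : ∀ (x : X) (hx : x ∈ U), x ∈ J₂.support ↔ (⟨x, hx⟩ : U) ∈ T₂ := by
    intro x hx
    rw [← hI₂s, ← hJ₂c]
    show _ ↔ (⟨x, hx⟩ : U) ∈ (J₂.comap U.ι).support
    rw [Scheme.IdealSheafData.support_comap]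
    rfl
  have hadm : BlowUp.IsAdmissibleFor U (J₁ ⊔ J₂) := by
    refine ⟨fun W => ?_, ?_⟩
    · rw [Scheme.IdealSheafData.ideal_sup]
      exact Submodule.FG.sup (hJ₁fg W) (hJ₂fg W)
    · rw [Set.disjoint_left]
      intro x hxs hxU
      have h1 : x ∈ J₁.support :=
        Scheme.IdealSheafData.support_antitone (le_sup_left : J₁ ≤ J₁ ⊔ J₂) hxs
      have h2 : x ∈ J₂.support :=
        Scheme.IdealSheafData.support_antitone (le_sup_right : J₂ ≤ J₁ ⊔ J₂) hxs
      exact (Set.disjoint_left.mp hd) ((hs₁ x hxU).mp h1) ((hs₂ x hxU).mp h2)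
  obtain ⟨X', b, hb⟩ := Groth.Agent.Lib.BlowUp.Exists.exists_isBlowUp X (J₁ ⊔ J₂)
  refine ⟨J₁ ⊔ J₂, X', b, hb, hadm, ?_⟩
  -- the key local statement
  have key : ∀ x' : X', (∃ O : Set X', IsOpen O ∧ x' ∈ O ∧
        Disjoint O (b.base ⁻¹' (Subtype.val '' T₁))) ∨
      (∃ O : Set X', IsOpen O ∧ x' ∈ O ∧ Disjoint O (b.base ⁻¹' (Subtype.val '' T₂))) := by
    intro x'
    obtain ⟨V, hxV, f, hf, hEV⟩ := hb.1 x'
    have hsup : ((J₁ ⊔ J₂).comap b) = J₁.comap b ⊔ J₂.comap b :=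
      (Scheme.IdealSheafData.map_gc b).l_sup
    have hfmem : f ∈ (J₁.comap b).ideal V ⊔ (J₂.comap b).ideal V := by
      have : f ∈ ((J₁ ⊔ J₂).comap b).ideal V := by
        rw [hEV]; exact Ideal.mem_span_singleton_self f
      rw [hsup, Scheme.IdealSheafData.ideal_sup] at this
      exact this
    obtain ⟨g₁, hg₁, g₂, hg₂, hgf⟩ := Submodule.mem_sup.mp hfmem
    have hle₁ : (J₁.comap b).ideal V ≤ Ideal.span {f} := by
      rw [← hEV, hsup, Scheme.IdealSheafData.ideal_sup]; exact le_sup_left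
    have hle₂ : (J₂.comap b).ideal V ≤ Ideal.span {f} := by
      rw [← hEV, hsup, Scheme.IdealSheafData.ideal_sup]; exact le_sup_right
    obtain ⟨k₁, hk₁⟩ := Ideal.mem_span_singleton'.mp (hle₁ hg₁)
    obtain ⟨k₂, hk₂⟩ := Ideal.mem_span_singleton'.mp (hle₂ hg₂)
    have hone : k₁ + k₂ = 1 := by
      have h3 : (k₁ + k₂) * f = 1 * f := by rw [add_mul, hk₁, hk₂, hgf, one_mul]
      exact (mul_cancel_right_mem_nonZeroDivisors hf).mp h3
    -- generic claim
    have claim : ∀ (J : X.IdealSheafData) (T : Set U)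
        (hs : ∀ (x : X) (hx : x ∈ U), x ∈ J.support ↔ (⟨x, hx⟩ : U) ∈ T)
        (hJle : J ≤ J₁ ⊔ J₂) (g k : Γ(X', V.1)) (hg : g ∈ (J.comap b).ideal V) (hk : k * f = g)
        (hx'k : x' ∈ X'.basicOpen k),
        ∃ O : Set X', IsOpen O ∧ x' ∈ O ∧ Disjoint O (b.base ⁻¹' (Subtype.val '' T)) := by
      intro J T hs hJle g k hg hk hx'k
      refine ⟨X'.basicOpen k, (X'.basicOpen k).2, hx'k, ?_⟩
      rw [Set.disjoint_left]
      rintro y hyk ⟨t, htT, hty⟩
      have hyV : y ∈ V.1 := X'.basicOpen_le k hyk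
      have hbyU : b.base y ∈ U := by rw [← hty]; exact t.2
      have hbyJ : b.base y ∈ J.support := by
        rw [hs _ hbyU]
        have heq : (⟨b.base y, hbyU⟩ : U) = t := Subtype.ext hty.symm
        rw [heq]
        exact htT
      have hyJ : y ∈ (J.comap b).support := by
        rw [Scheme.IdealSheafData.support_comap]
        exact hbyJ
      rw [Scheme.IdealSheafData.mem_support_iff_of_mem hyV, Scheme.mem_zeroLocus_iff] at hyJ
      have hyg : y ∉ X'.basicOpen g := hyJ g hg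
      have hyf : y ∉ X'.basicOpen f := by
        intro hyf
        apply hyg
        rw [← hk, Scheme.basicOpen_mul]
        exact ⟨hyk, hyf⟩
      have hyE : y ∈ ((J₁ ⊔ J₂).comap b).support := by
        rw [Scheme.IdealSheafData.mem_support_iff_of_mem hyV, Scheme.mem_zeroLocus_iff, hEV]
        intro a ha
        obtain ⟨c, rfl⟩ := Ideal.mem_span_singleton'.mp ha
        intro hya
        rw [Scheme.basicOpen_mul] at hya
        exact hyf hya.2
      rw [Scheme.IdealSheafData.support_comap] at hyE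
      exact (Set.disjoint_left.mp hadm.2) hyE hbyU
    have hx'V : x' ∈ V.1 := hxV
    have hor : x' ∈ X'.basicOpen k₁ ∨ x' ∈ X'.basicOpen k₂ := by
      by_contra hcon
      push Not at hcon
      have h1 : x' ∈ X'.basicOpen (k₁ + k₂) := by
        rw [hone, Scheme.basicOpen_of_isUnit _ isUnit_one]; exact hx'V
      rw [Scheme.mem_basicOpen _ _ x' hx'V, map_add] at h1
      have n1 := hcon.1
      have n2 := hcon.2
      rw [Scheme.mem_basicOpen _ _ x' hx'V] at n1 n2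
      exact (IsLocalRing.nonunits_add n1 n2) h1
    rcases hor with h | h
    · exact Or.inl (claim J₁ T₁ hs₁ le_sup_left g₁ k₁ hg₁ hk₁ h)
    · exact Or.inr (claim J₂ T₂ hs₂ le_sup_right g₂ k₂ hg₂ hk₂ h)
  rw [Set.disjoint_left]
  intro x' hx1 hx2
  rcases key x' with ⟨O, hO, hxO, hdis⟩ | ⟨O, hO, hxO, hdis⟩
  · obtain ⟨y, hy1, hy2⟩ := mem_closure_iff.mp hx1 O hO hxO
    exact (Set.disjoint_left.mp hdis) hy1 hy2
  · obtain ⟨y, hy1, hy2⟩ := mem_closure_iff.mp hx2 O hO hxO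
    exact (Set.disjoint_left.mp hdis) hy1 hy2

end Groth.Agent.Lib.Helper56.SepBlowUp
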