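import Groth.Agent.Lib.Helper56.StrictTransFlat
import Groth.Agent.Lib.QCoh.Helper50_AffineDict
import Groth.Agent.Lib.QCoh.Helper74_LocFreeStalk
import Groth.Agent.Lib.Helper56.ParaFFree

/-!
# Strict transforms of modules whose pullback is flat along the exceptional divisor (helper56)

* `isIso_of_isStrictTransform_of_flat` : if `𝓘.comap b` is effective Cartier and `b^*F` is flat at
  the points of the exceptional divisor, any strict transform map `π : b^*F ⟶ G` is an iso.
* `isIso_of_isStrictTransform_of_isFinLocFree`.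
-/

set_option autoImplicit false
set_option linter.style.haveILetI false
universe u
open CategoryTheory CategoryTheory.Limits AlgebraicGeometry TopologicalSpace

namespace Groth.Agent.Lib.Helper56.StrictTransIso

open Groth.Agent.Lib.QCoh Groth.Agent.Lib.Helper56.StrictTransFlat

theorem isIso_of_isStrictTransform_of_flat {X X' : Scheme.{u}} (𝓘 : X.IdealSheafData) (b : X' ⟶ X)
    (hE : BlowUp.IsEffCartierIdeal (𝓘.comap b)) (F : X.Modules) (G : X'.Modules)
    (π : (Scheme.Modules.pullback b).obj F ⟶ G) (hG : BlowUp.IsStrictTransform b 𝓘 F G π)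
    (hflat : ∀ x : X', x ∈ (𝓘.comap b).support →
      Module.Flat (X'.presheaf.stalk x) (((Scheme.Modules.pullback b).obj F).presheaf.stalk x)) :
    IsIso π := by
  obtain ⟨hepi, hker⟩ := hG
  have hmono : Mono π := by
    rw [mono_iff_forall_affine_injective]
    intro V
    rw [injective_iff_map_eq_zero]
    intro m hm
    obtain ⟨n, hn⟩ := (hker V m).1 hm
    apply section_eq_zero_of_germ_eq_zero
    intro x hx
    exact germ_eq_zero_of_killed (𝓘.comap b) hE _ V m n hn x hx (hflat x)
  exact isIso_of_mono_of_epi π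

theorem isIso_of_isStrictTransform_of_isFinLocFree {X X' : Scheme.{u}} (𝓘 : X.IdealSheafData)
    (b : X' ⟶ X) (hE : BlowUp.IsEffCartierIdeal (𝓘.comap b)) (F : X.Modules)
    (hF : FlatMod.IsFinLocFree F) (G : X'.Modules)
    (π : (Scheme.Modules.pullback b).obj F ⟶ G) (hG : BlowUp.IsStrictTransform b 𝓘 F G π) :
    IsIso π ∧ FlatMod.IsFinLocFree G := by
  have hF' : FlatMod.IsFinLocFree ((Scheme.Modules.pullback b).obj F) :=
    isFinLocFree_pullback b hF
  have hiso : IsIso π := isIso_of_isStrictTransform_of_flat 𝓘 b hE F G π hG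
    (fun x _ => isFlat_of_isFinLocFree hF' x)
  exact ⟨hiso, Groth.Agent.Lib.Helper56.ParaF.isFinLocFree_of_iso (asIso π) hF'⟩

end Groth.Agent.Lib.Helper56.StrictTransIso
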