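import Groth.Agent.Lib.Helper56.AdjQuot
import Groth.Agent.Lib.QCoh.Helper50_AffineDict
import Mathlib.AlgebraicGeometry.Modules.Tilde
import Mathlib.Algebra.Module.Torsion.Basic

/-!
# Quotients of quasi-coherent modules on `Spec R` by power torsion (helper56)
-/

set_option autoImplicit false
set_option linter.style.haveILetI false
universe u
open CategoryTheory CategoryTheory.Limits AlgebraicGeometry TopologicalSpace Opposite

namespace Groth.Agent.Lib.Helper56.TildeQuot

open Scheme.Modules Groth.Agent.Lib.QCoh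

section Alg

variable {A : Type*} [CommRing A]

lemma torsionFree_of_isLocalizedModule (S : Submonoid A) {Q T : Type*} [AddCommGroup Q]
    [Module A Q] [AddCommGroup T] [Module A T] (φ : Q →ₗ[A] T) [IsLocalizedModule S φ] (f : A)
    (hQ : ∀ q : Q, f • q = 0 → q = 0) (w : T) (hw : f • w = 0) : w = 0 := by
  obtain ⟨⟨v, s⟩, hvs⟩ := IsLocalizedModule.surj S φ w
  have hvs' : s • w = φ v := hvs
  have h1 : φ (f • v) = 0 := by
    rw [_root_.map_smul, ← hvs', smul_comm, hw, smul_zero]
  obtain ⟨c, hc⟩ := (IsLocalizedModule.eq_zero_iff S φ).1 h1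
  have h2 : (c : A) • v = 0 := by
    apply hQ
    rw [smul_comm]
    exact hc
  have hvs'' : (s : A) • w = φ v := hvs
  have h3 : ((c : A) * (s : A)) • w = 0 := by
    rw [mul_smul, hvs'', ← _root_.map_smul, h2, map_zero]
  have hunit := IsLocalizedModule.map_units φ (c * s)
  rw [Module.End.isUnit_iff] at hunit
  apply hunit.injective
  rw [map_zero]
  exact h3

end Alg

variable {R : CommRingCat.{u}}

/-- Basic opens of `Spec R` as opens of the scheme. -/
abbrev D (g : R) : (Spec R).Opens := PrimeSpectrum.basicOpen g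

/-- The `f`-power torsion submodule. -/
abbrev powTorsion (f : R) (M : ModuleCat.{u} R) : Submodule R M :=
  Submodule.torsion' R M (Submonoid.powers f)

lemma mem_powTorsion {f : R} {M : ModuleCat.{u} R} {m : M} :
    m ∈ powTorsion f M ↔ ∃ a : ℕ, f ^ a • m = 0 := by
  rw [Submodule.mem_torsion'_iff]
  constructor
  · rintro ⟨⟨_, a, rfl⟩, ha⟩
    exact ⟨a, ha⟩
  · rintro ⟨a, ha⟩
    exact ⟨⟨f ^ a, a, rfl⟩, ha⟩

/-- The quotient by power torsion. -/
noncomputable abbrev quotObj (f : R) (M : ModuleCat.{u} R) : ModuleCat.{u} R :=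
  ModuleCat.of R (M ⧸ powTorsion f M)

/-- The quotient map. -/
noncomputable def quotMap (f : R) (M : ModuleCat.{u} R) : M ⟶ quotObj f M :=
  ModuleCat.ofHom (powTorsion f M).mkQ

lemma quotMap_surjective (f : R) (M : ModuleCat.{u} R) : Function.Surjective (quotMap f M) :=
  Submodule.mkQ_surjective _

instance (f : R) (M : ModuleCat.{u} R) : Epi (quotMap f M) :=
  (ModuleCat.epi_iff_surjective _).2 (quotMap_surjective f M)

lemma quotMap_eq_zero_iff (f : R) (M : ModuleCat.{u} R) (m : M) :
    quotMap f M m = 0 ↔ ∃ a : ℕ, f ^ a • m = 0 := by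
  rw [← mem_powTorsion]
  exact Submodule.Quotient.mk_eq_zero _

lemma quot_torsionFree (f : R) (M : ModuleCat.{u} R) (a : ℕ) (q : quotObj f M)
    (hq : f ^ a • q = 0) : q = 0 := by
  obtain ⟨m, rfl⟩ := quotMap_surjective f M q
  rw [← _root_.map_smul, quotMap_eq_zero_iff] at hq
  obtain ⟨b, hb⟩ := hq
  rw [quotMap_eq_zero_iff]
  exact ⟨b + a, by rw [pow_add, mul_smul]; exact hb⟩

/-- Sections of `Q^~` over basic opens have no `f`-torsion if `Q` has none. -/
lemma tilde_torsionFree (Q : ModuleCat.{u} R) (f : R) (hQ : ∀ q : Q, f • q = 0 → q = 0) (g : R)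
    (w : Γ(tilde Q, D g)) (hw : f • w = 0) : w = 0 :=
  torsionFree_of_isLocalizedModule (Submonoid.powers g) (tilde.toOpen Q (D g)).hom f hQ w hw

/-- **Theorem Z.** -/
theorem nonempty_iso_tilde_quot (L G' : (Spec R).Modules) [L.IsQuasicoherent] (πL : L ⟶ G')
    [Epi πL] (f : R)
    (hK : ∀ (g : R) (m : Γ(L, D g)), πL.app (D g) m = 0 → ∃ a : ℕ, f ^ a • m = 0)
    (hK' : ∀ m : Γ(L, ⊤), (∃ a : ℕ, f ^ a • m = 0) → πL.app ⊤ m = 0) :
    Nonempty (G' ≅ tilde (quotObj f ((moduleSpecΓFunctor (R := R)).obj L))) := by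
  have hiso : IsIso ((tilde.adjunction (R := R)).counit.app L) :=
    Scheme.Modules.isIso_fromTildeΓ_of_isQuasicoherent L
  refine Groth.Agent.Lib.Helper56.AdjQuot.nonempty_iso (tilde.adjunction (R := R)) πL
    (quotMap f ((moduleSpecΓFunctor (R := R)).obj L)) ?_ ?_
  · -- the kernel of `πL` dies in the tilde of the quotient
    refine hom_ext_of_isBasis (fun g : R => D g)
      (PrimeSpectrum.isBasis_basic_opens (R := R)) _ _ (fun g => ?_)
    ext n
    have h0 : πL.app (D g) ((kernel.ι πL).app (D g) n) = 0 := by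
      have := congr(($(kernel.condition πL)).app (D g) n)
      exact this
    obtain ⟨a, ha⟩ := hK g _ h0
    apply tilde_torsionFree _ (f ^ a) (quot_torsionFree f _ a) g
    change f ^ a • (((tilde.functor R).map (quotMap f ((moduleSpecΓFunctor (R := R)).obj L))).app
      (D g) ((inv ((tilde.adjunction (R := R)).counit.app L)).app (D g)
        ((kernel.ι πL).app (D g) n))) = 0
    rw [smul_Spec_def, ← Hom.app_smul, ← Hom.app_smul, ← smul_Spec_def, ha, map_zero, map_zero]
  · ext k
    have h0 : quotMap f ((moduleSpecΓFunctor (R := R)).obj L)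
        ((kernel.ι (quotMap f ((moduleSpecΓFunctor (R := R)).obj L))) k) = 0 := by
      have := congr($(kernel.condition (quotMap f ((moduleSpecΓFunctor (R := R)).obj L))) k)
      exact this
    exact hK' _ ((quotMap_eq_zero_iff f _ _).1 h0)

end Groth.Agent.Lib.Helper56.TildeQuot
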