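import Groth.Agent.Lib.Helper56.RelAmpleB
import Groth.Agent.Lib.Ample.Helper50_SigmaIso
import Groth.Agent.Lib.Ample.Helper50_TwistIso
import Groth.Agent.Lib.Ample.Helper50_MulSec
import Groth.Agent.Lib.Ample.Basis

/-!
# Extending a section over `X_τ` after twisting (helper56)

ns `Groth.Agent.Lib.Helper56.TwistExt`.

* `isInvertible_twistIter`
* `exists_genLocus_eq_image_twist` : `X` qcqs, `N`, `M` invertible, `τ : O ⟶ M`, `W = X_τ`,
  `τ'` a section of `N|_W`: for all `k ≫ 0` some global section `s` of `N ⊗ M^{k+1}`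
  (`twistIter N M (k+1)`) has `X_s = W_{τ'}` (as opens of `X`).
-/

set_option maxHeartbeats 400000

universe u

open CategoryTheory CategoryTheory.Limits AlgebraicGeometry TopologicalSpace Opposite

namespace Groth.Agent.Lib.Helper56.TwistExt

open Groth.Agent.Lib.Ample Groth.Agent.Lib.QCoh CohB1 Scheme.Modules
open Groth.Agent.Lib.Helper56.RelAmple

variable {X : Scheme.{u}}

theorem isInvertible_twistIter {N M : X.Modules} (hN : PicF.IsInvertible N)
    (hM : PicF.IsInvertible M) (k : ℕ) : PicF.IsInvertible (twistIter N M k) :=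
  isInvertible_of_iso (twistIterIso N M k).symm
    (isInvertible_tensorMod hN (isInvertible_tensorPow hM k))

theorem exists_genLocus_eq_image_twist [CompactSpace X] [QuasiSeparatedSpace X]
    {N M : X.Modules} (hN : PicF.IsInvertible N) (hM : PicF.IsInvertible M)
    (τ : Coh.structureModule X ⟶ M) (W : X.Opens) (hW : genLocus M τ = W)
    (τ' : Coh.structureModule (↑W : Scheme.{u}) ⟶ N.restrict W.ι) :
    ∃ k₀ : ℕ, ∀ k, k₀ ≤ k → ∃ s : Coh.structureModule X ⟶ twistIter N M (k + 1),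
      genLocus _ s = W.ι ''ᵁ genLocus (N.restrict W.ι) τ' := by
  subst hW
  have hNq : N.IsQuasicoherent := isQuasicoherent_of_isInvertible hN
  have hWtop : (genLocus M τ).ι ''ᵁ ⊤ = genLocus M τ := (genLocus M τ).ι_image_top
  have hle1 : genLocus M τ ≤ (genLocus M τ).ι ''ᵁ ⊤ := le_of_eq hWtop.symm
  have hle2 : (genLocus M τ).ι ''ᵁ ⊤ ≤ genLocus M τ := le_of_eq hWtop
  obtain ⟨t₀, ht₀⟩ : ∃ t₀ : Γ(N, (genLocus M τ).ι ''ᵁ ⊤), t₀ = secOf τ' := ⟨_, rfl⟩
  obtain ⟨t, ht⟩ : ∃ t : Γ(N, genLocus M τ), t = resSec N hle1 t₀ := ⟨_, rfl⟩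
  obtain ⟨k₀, hk₀⟩ := exists_extension_sigmaHom_top N hM τ t
  refine ⟨k₀, fun k hk => ?_⟩
  obtain ⟨t'', ht''⟩ := hk₀ k hk
  have hTw : PicF.IsInvertible (twistIter N M k) := isInvertible_twistIter hN hM k
  refine ⟨mulSec (homOfSec _ t'') τ, ?_⟩
  have h1 := genLocus_mulSec (homOfSec _ t'') τ hTw hM
  refine h1.trans ?_
  have heq : restrictSec (homOfSec (twistIter N M k) t'') (genLocus M τ) =
      τ' ≫ (restrictFunctor (genLocus M τ).ι).map (sigmaHom N τ k) := by
    apply QCoh.Lift74.unitHom_ext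
    have e1 : (restrictSec (homOfSec (twistIter N M k) t'') (genLocus M τ)).app ⊤
        (1 : Γ((↑(genLocus M τ) : Scheme.{u}), ⊤)) =
        ((homOfSec (twistIter N M k) t'').app ((genLocus M τ).ι ''ᵁ ⊤)).hom
          (oneSec ((genLocus M τ).ι ''ᵁ ⊤)) := by
      change (((restrictFunctor (genLocus M τ).ι).map (homOfSec (twistIter N M k) t'')).app ⊤).hom
        (((restrictUnitIso (genLocus M τ).ι).inv.app ⊤).hom
          (1 : Γ((↑(genLocus M τ) : Scheme.{u}), ⊤))) = _
      have := QCoh.Lift74.restrictUnitIso_inv_app_one (genLocus M τ).ι ⊤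
      erw [this]
      rfl
    have e2 : (τ' ≫ (restrictFunctor (genLocus M τ).ι).map (sigmaHom N τ k)).app ⊤
        (1 : Γ((↑(genLocus M τ) : Scheme.{u}), ⊤)) =
        ((sigmaHom N τ k).app ((genLocus M τ).ι ''ᵁ ⊤)).hom t₀ := by
      rw [ht₀]
      rfl
    refine e1.trans (Eq.trans ?_ e2.symm)
    rw [app_oneSec, secOf_homOfSec]
    change resSec (twistIter N M k) (le_top : (genLocus M τ).ι ''ᵁ ⊤ ≤ ⊤) t'' = _
    have e3 : resSec (twistIter N M k) hle2
        (resSec (twistIter N M k) (le_top : genLocus M τ ≤ ⊤) t'') =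
        resSec (twistIter N M k) (le_top : (genLocus M τ).ι ''ᵁ ⊤ ≤ ⊤) t'' :=
      resSec_resSec _ _ _ _
    rw [← e3]
    have e4 : resSec (twistIter N M k) (le_top : genLocus M τ ≤ ⊤) t'' =
        (sigmaHom N τ k).app (genLocus M τ) t := ht''
    rw [e4]
    have e5 := app_naturality_apply (sigmaHom N τ k) (homOfLE hle2) t
    refine e5.symm.trans ?_
    have e6 : resSec N hle2 t = t₀ := by
      rw [ht, resSec_resSec]
      exact resSec_self N _ t₀
    exact congrArg (fun z => ((sigmaHom N τ k).app ((genLocus M τ).ι ''ᵁ ⊤)).hom z) e6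
  have h2 := genLocus_restrictSec (homOfSec (twistIter N M k) t'') (genLocus M τ)
  rw [heq] at h2
  have h3 := genLocus_comp_iso τ'
    (asIso ((restrictFunctor (genLocus M τ).ι).map (sigmaHom N τ k)))
  rw [asIso_hom] at h3
  rw [h3] at h2
  rw [h2, Scheme.Hom.image_preimage_eq_opensRange_inf, Scheme.Opens.opensRange_ι, inf_comm]

end Groth.Agent.Lib.Helper56.TwistExt
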