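import Groth.Agent.Lib.Helper56.FerrandScheme
import Mathlib.AlgebraicGeometry.IdealSheaf.Subscheme

/-!
# The scheme-theoretic union is the pushout along the scheme-theoretic intersection (helper56)

For ideal sheaves `I`, `J` on a scheme `S`, `V(I ⊓ J)` is the pushout in the category of schemes
of `V(I)` and `V(J)` along `V(I ⊔ J)` (S9383). Affine-locally this is the Ferrand pushout
`A/(I ∩ J) = A/I ×_{A/(I+J)} A/J` (`FSq.isPushout`); we glue with helper42's `LocalGlue`.
-/

set_option autoImplicit false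
set_option linter.style.haveILetI false
set_option maxHeartbeats 400000
set_option backward.isDefEq.respectTransparency false
universe u
open CategoryTheory CategoryTheory.Limits AlgebraicGeometry TopologicalSpace

namespace Groth.Agent.Lib.Helper56.UnionPushout

open Scheme.IdealSheafData Groth.Agent.Lib.Helper56.Ferrand

variable {S : Scheme.{u}} (I J : S.IdealSheafData)

theorem fsq (U : S.affineOpens) :
    FSq (Ideal.Quotient.factor ((inf_le_left : I ⊓ J ≤ I) U))
        (Ideal.Quotient.factor ((inf_le_right : I ⊓ J ≤ J) U))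
        (Ideal.Quotient.factor ((le_sup_left : I ≤ I ⊔ J) U))
        (Ideal.Quotient.factor ((le_sup_right : J ≤ I ⊔ J) U)) where
  comm x := by
    obtain ⟨x, rfl⟩ := Ideal.Quotient.mk_surjective x
    simp only [Ideal.Quotient.factor_mk]
  surj := Ideal.Quotient.factor_surjective _
  ex b a' h := by
    obtain ⟨b, rfl⟩ := Ideal.Quotient.mk_surjective b
    obtain ⟨a', rfl⟩ := Ideal.Quotient.mk_surjective a'
    rw [Ideal.Quotient.factor_mk, Ideal.Quotient.factor_mk, Ideal.Quotient.eq] at h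
    have h' : b - a' ∈ I.ideal U ⊔ J.ideal U := h
    obtain ⟨i, hi, j, hj, hij⟩ := Submodule.mem_sup.mp h'
    refine ⟨Ideal.Quotient.mk _ (b - i), ?_, ?_⟩
    · rw [Ideal.Quotient.factor_mk, Ideal.Quotient.eq]
      have : b - i - b = -i := by ring
      rw [this]
      exact (I.ideal U).neg_mem hi
    · rw [Ideal.Quotient.factor_mk, Ideal.Quotient.eq]
      have : b - i - a' = j := by linear_combination -hij
      rw [this]
      exact hj
  inj x h1 h2 := by
    obtain ⟨x, rfl⟩ := Ideal.Quotient.mk_surjective x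
    rw [Ideal.Quotient.factor_mk, Ideal.Quotient.eq_zero_iff_mem] at h1 h2
    rw [Ideal.Quotient.eq_zero_iff_mem]
    exact ⟨h1, h2⟩

/-- membership in the range of a chart of the subscheme cover -/
theorem mem_range_f (K : S.IdealSheafData) (U : S.affineOpens) (t : K.subscheme) :
    t ∈ Set.range (K.subschemeCover.f U).base ↔ K.subschemeι t ∈ U.1 := by
  have h := K.opensRange_subschemeCover_map U
  have : t ∈ (K.subschemeCover.f U).opensRange ↔ t ∈ K.subschemeι ⁻¹ᵁ U.1 := by rw [h]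
  exact this

theorem range_f_subset (K : S.IdealSheafData) {U₃ U₁ : S.affineOpens} (h : U₃.1 ≤ U₁.1) :
    Set.range (K.subschemeCover.f U₃).base ⊆ Set.range (K.subschemeCover.f U₁).base := by
  intro t ht
  rw [mem_range_f] at ht ⊢
  exact h ht

/-- transition maps between charts -/
noncomputable def tr (K : S.IdealSheafData) {U₃ U₁ : S.affineOpens} (h : U₃.1 ≤ U₁.1) :
    K.glueDataObj U₃ ⟶ K.glueDataObj U₁ :=
  IsOpenImmersion.lift (K.subschemeCover.f U₁) (K.subschemeCover.f U₃) (range_f_subset K h)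

theorem tr_f (K : S.IdealSheafData) {U₃ U₁ : S.affineOpens} (h : U₃.1 ≤ U₁.1) :
    tr K h ≫ K.subschemeCover.f U₁ = K.subschemeCover.f U₃ :=
  IsOpenImmersion.lift_fac _ _ _

theorem hom_tr {K L : S.IdealSheafData} (hKL : K ≤ L) {U₃ U₁ : S.affineOpens}
    (h : U₃.1 ≤ U₁.1) :
    glueDataObjHom hKL U₃ ≫ tr K h = tr L h ≫ glueDataObjHom hKL U₁ := by
  rw [← cancel_mono (K.subschemeCover.f U₁), Category.assoc, Category.assoc, tr_f,
    ← subSchemeCover_map_inclusion, ← subSchemeCover_map_inclusion, ← Category.assoc, tr_f]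

variable {I J}

theorem existsUnique_desc {T : Scheme.{u}} (a : I.subscheme ⟶ T) (b : J.subscheme ⟶ T)
    (hab : inclusion (le_sup_left : I ≤ I ⊔ J) ≫ a = inclusion (le_sup_right : J ≤ I ⊔ J) ≫ b) :
    ∃! c : (I ⊓ J).subscheme ⟶ T, inclusion (inf_le_left : I ⊓ J ≤ I) ≫ c = a ∧
      inclusion (inf_le_right : I ⊓ J ≤ J) ≫ c = b := by
  have hloc : ∀ U : S.affineOpens, ∃ φ : (I ⊓ J).glueDataObj U ⟶ T,
      glueDataObjHom (inf_le_left : I ⊓ J ≤ I) U ≫ φ = I.subschemeCover.f U ≫ a ∧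
      glueDataObjHom (inf_le_right : I ⊓ J ≤ J) U ≫ φ = J.subschemeCover.f U ≫ b := by
    intro U
    have hP := (fsq I J U).isPushout
    have hcond : sp (Ideal.Quotient.factor ((le_sup_right : J ≤ I ⊔ J) U)) ≫
          (J.subschemeCover.f U ≫ b) =
        sp (Ideal.Quotient.factor ((le_sup_left : I ≤ I ⊔ J) U)) ≫
          (I.subschemeCover.f U ≫ a) := by
      have e1 := subSchemeCover_map_inclusion (le_sup_right : J ≤ I ⊔ J) U
      have e2 := subSchemeCover_map_inclusion (le_sup_left : I ≤ I ⊔ J) U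
      change glueDataObjHom (le_sup_right : J ≤ I ⊔ J) U ≫ _ =
        glueDataObjHom (le_sup_left : I ≤ I ⊔ J) U ≫ _
      rw [← Category.assoc, ← e1, ← Category.assoc, ← e2, Category.assoc, Category.assoc, hab]
    refine ⟨hP.desc (J.subschemeCover.f U ≫ b) (I.subschemeCover.f U ≫ a) hcond, ?_, ?_⟩
    · exact hP.inr_desc _ _ _
    · exact hP.inl_desc _ _ _
  choose φ hφI hφJ using hloc
  -- uniqueness on a chart
  have huniq : ∀ (U : S.affineOpens) (ψ : (I ⊓ J).glueDataObj U ⟶ T),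
      glueDataObjHom (inf_le_left : I ⊓ J ≤ I) U ≫ ψ = I.subschemeCover.f U ≫ a →
      glueDataObjHom (inf_le_right : I ⊓ J ≤ J) U ≫ ψ = J.subschemeCover.f U ≫ b → ψ = φ U := by
    intro U ψ h1 h2
    refine (fsq I J U).hom_ext_sp ψ (φ U) ?_ ?_
    · exact h1.trans (hφI U).symm
    · exact h2.trans (hφJ U).symm
  have htrans : ∀ {U₃ U₁ : S.affineOpens} (h : U₃.1 ≤ U₁.1), tr (I ⊓ J) h ≫ φ U₁ = φ U₃ := by
    intro U₃ U₁ h
    apply huniq
    · rw [← Category.assoc, hom_tr, Category.assoc, hφI, ← Category.assoc, tr_f]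
    · rw [← Category.assoc, hom_tr, Category.assoc, hφJ, ← Category.assoc, tr_f]
  have hcov : ∀ t : (I ⊓ J).subscheme, ∃ U : S.affineOpens,
      t ∈ Set.range ((I ⊓ J).subschemeCover.f U).base := by
    intro t
    obtain ⟨U, hU, htU, -⟩ := Opens.isBasis_iff_nbhd.1 S.isBasis_affineOpens
      (show (I ⊓ J).subschemeι t ∈ (⊤ : S.Opens) from trivial)
    exact ⟨⟨U, hU⟩, (mem_range_f _ _ _).mpr htU⟩
  obtain ⟨c, hc, hcuniq⟩ := Groth.Agent.Lib.Helper42.LocalGlue.existsUnique_glue
    (fun U : S.affineOpens => (I ⊓ J).glueDataObj U) (fun U => (I ⊓ J).subschemeCover.f U) hcov φ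
    (by
      intro U₁ U₂ t h1' h2'
      have h1 := (mem_range_f (I ⊓ J) U₁ t).mp h1'
      have h2 := (mem_range_f (I ⊓ J) U₂ t).mp h2'
      obtain ⟨U₃, hU₃, htU₃, hle⟩ := Opens.isBasis_iff_nbhd.1 S.isBasis_affineOpens
        (show (I ⊓ J).subschemeι t ∈ U₁.1 ⊓ U₂.1 from ⟨h1, h2⟩)
      have hle1 : (⟨U₃, hU₃⟩ : S.affineOpens).1 ≤ U₁.1 := hle.trans inf_le_left
      have hle2 : (⟨U₃, hU₃⟩ : S.affineOpens).1 ≤ U₂.1 := hle.trans inf_le_right
      refine ⟨⟨U₃, hU₃⟩, tr _ hle1, tr _ hle2, (mem_range_f _ _ _).mpr htU₃, tr_f _ hle1,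
        tr_f _ hle2, ?_⟩
      rw [htrans hle1, htrans hle2])
  have hc' : ∀ U, (I ⊓ J).subschemeCover.f U ≫ c = φ U := hc
  refine ⟨c, ⟨?_, ?_⟩, ?_⟩
  · refine I.subschemeCover.openCover.hom_ext _ _ fun U => ?_
    change I.subschemeCover.f U ≫ inclusion _ ≫ c = I.subschemeCover.f U ≫ a
    rw [← Category.assoc, subSchemeCover_map_inclusion, Category.assoc, hc', hφI]
  · refine J.subschemeCover.openCover.hom_ext _ _ fun U => ?_
    change J.subschemeCover.f U ≫ inclusion _ ≫ c = J.subschemeCover.f U ≫ b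
    rw [← Category.assoc, subSchemeCover_map_inclusion, Category.assoc, hc', hφJ]
  · rintro c' ⟨h1, h2⟩
    apply hcuniq
    intro U
    apply huniq
    · rw [← Category.assoc, ← subSchemeCover_map_inclusion, Category.assoc, h1]
    · rw [← Category.assoc, ← subSchemeCover_map_inclusion, Category.assoc, h2]

variable (I J)

theorem isPushout_union :
    IsPushout (inclusion (le_sup_left : I ≤ I ⊔ J)) (inclusion (le_sup_right : J ≤ I ⊔ J))
      (inclusion (inf_le_left : I ⊓ J ≤ I)) (inclusion (inf_le_right : I ⊓ J ≤ J)) := by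
  have w : inclusion (le_sup_left : I ≤ I ⊔ J) ≫ inclusion (inf_le_left : I ⊓ J ≤ I) =
      inclusion (le_sup_right : J ≤ I ⊔ J) ≫ inclusion (inf_le_right : I ⊓ J ≤ J) := by
    rw [inclusion_comp, inclusion_comp]
  refine ⟨⟨w⟩, ⟨PushoutCocone.IsColimit.mk w
    (fun s => (existsUnique_desc s.inl s.inr s.condition).choose) ?_ ?_ ?_⟩⟩
  · intro s
    exact (existsUnique_desc s.inl s.inr s.condition).choose_spec.1.1
  · intro s
    exact (existsUnique_desc s.inl s.inr s.condition).choose_spec.1.2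
  · intro s m h1 h2
    exact (existsUnique_desc s.inl s.inr s.condition).choose_spec.2 m ⟨h1, h2⟩

end Groth.Agent.Lib.Helper56.UnionPushout
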